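import Mathlib.GroupTheory.SpecificGroups.Alternating
import Mathlib.GroupTheory.Subgroup.Centralizer
import Mathlib.GroupTheory.Index
import Mathlib.GroupTheory.OrderOfElement
import Mathlib.GroupTheory.PGroup

/-!
# S1778, type `U₅(2)`: the environment of the growth

`X` is (the centralizer of the core part `K`, modulo its centre, in) the group of S1778; `A ≅ SU₅(2)`, `t` an
involution commuting with `A`, `C_X(t)` "known".  The structure `Env` lists all facts on `A` and on `C_X(t)` used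
in the growth.  Geometry: `r i` (`i : Fin 5`) are the transvections belonging to the five points of a totally
isotropic line `L`; `V = ⟨r i⟩` of order 16; `U = O₂(N_A(V))` (order `2⁸`, `V = Z(U)`), `h` = the element of order 3
centralizing `V`, `l` : `Alt(5) → A` the Levi factor `SL₂(4)`, `Q = O₂(C_A(r 0)) = 2^{1+6}_-`, `D = C_A(r 0)`,
`h0` = scalar of order 3 on `Q/⟨r 0⟩ = F₄³`.
-/

set_option autoImplicit false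

namespace Cfsg.Agent.UFiveTwo

open Subgroup

universe u

/-- The permutations of the Klein four-group on `{1,2,3,4}`. -/
def IsKlein (σ : alternatingGroup (Fin 5)) : Prop :=
  (σ : Equiv.Perm (Fin 5)) 0 = 0 ∧ (σ : Equiv.Perm (Fin 5)) * (σ : Equiv.Perm (Fin 5)) = 1

/-- Data and facts on `A ≅ U₅(2)` (facts about `A` only). -/
structure Flag {X : Type u} [Group X] (A : Subgroup X) where
  r : Fin 5 → X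
  l : alternatingGroup (Fin 5) →* X
  h : X
  h0 : X
  /-- a three-cycle on `{2,3,4}`; `h * l k1` centralizes `(U ⊓ Q) / (V ⊓ Q)` -/
  k1 : alternatingGroup (Fin 5)
  /-- the Weyl element of `SU₃(2) ≤ C_A(r 0)` (permutation matrix `(2 4)`) -/
  n2 : X
  U : Subgroup X
  Q : Subgroup X
  r_mem : ∀ i, r i ∈ A
  l_mem : ∀ σ, l σ ∈ A
  h_mem : h ∈ A
  h0_mem : h0 ∈ A
  U_le : U ≤ A
  Q_le : Q ≤ A
  -- the four-dimensional module `V`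
  r_sq : ∀ i, r i * r i = 1
  r_comm : ∀ i j, r i * r j = r j * r i
  r_prod : r 0 * r 1 * r 2 * r 3 * r 4 = 1
  r_ne : r 0 ≠ 1
  l_r : ∀ σ i, l σ * r i * (l σ)⁻¹ = r ((σ : Equiv.Perm (Fin 5)) i)
  -- `h`
  h_pow : h ^ 3 = 1
  h_ne : h ≠ 1
  h_r : ∀ i, h * r i = r i * h
  h_l : ∀ σ, h * l σ = l σ * h
  -- `U`
  card_U : Nat.card U = 2 ^ 8
  r_U : ∀ i, r i ∈ U
  U_r : ∀ u ∈ U, ∀ i, u * r i = r i * u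
  U_h : ∀ u ∈ U, h * u * h⁻¹ ∈ U
  U_l : ∀ u ∈ U, ∀ σ, l σ * u * (l σ)⁻¹ ∈ U
  U_sq : ∀ u ∈ U, u * u = 1 ∨ ∃ i, u * u = r i
  U_one : ∀ u ∈ U, u * u = 1 → u ∈ closure (Set.range r)
  U_exists : ∀ i, ∃ u ∈ U, u * u = r i
  U_line : ∀ u ∈ U, ∀ u' ∈ U, u * u = u' * u' → u * u ≠ 1 →
    ∃ k : ℕ, ∃ v ∈ closure (Set.range r), u' = h ^ k * u * (h ^ k)⁻¹ * v
  U_fix : ∀ u ∈ U, h * u = u * h → u ∈ closure (Set.range r)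
  U_comm : ∀ u ∈ U, ∃ u' ∈ U, ∃ v ∈ closure (Set.range r), u = u'⁻¹ * (h * u' * h⁻¹) * v
  -- `Q`
  card_Q : Nat.card Q = 2 ^ 7
  card_UQ : Nat.card ↥(U ⊓ Q) = 2 ^ 5
  r_Q : r 0 ∈ Q
  Q_sq : ∀ q ∈ Q, q * q = 1 ∨ q * q = r 0
  Q_r : ∀ q ∈ Q, q * r 0 = r 0 * q
  Q_comm : ∀ q ∈ Q, ∀ q' ∈ Q, q * q' * q⁻¹ * q'⁻¹ = 1 ∨ q * q' * q⁻¹ * q'⁻¹ = r 0
  Q_nd : ∀ q ∈ Q, (∀ q' ∈ Q, q * q' = q' * q) → q = 1 ∨ q = r 0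
  Q_conj : ∀ a ∈ A, a * r 0 = r 0 * a → ∀ q ∈ Q, a * q * a⁻¹ ∈ Q
  l_Q : ∀ σ, IsKlein σ → l σ ∈ Q
  Q_gen : ∀ q ∈ Q, ∃ u ∈ U ⊓ Q, ∃ σ, IsKlein σ ∧ q = u * l σ
  rr_Q : ∀ i j, i ≠ 0 → j ≠ 0 → r i * r j ∈ Q
  r_nQ : ∀ i, i ≠ 0 → r i ∉ Q
  -- `D = C_A(r 0)`
  Q_inv : ∀ x ∈ Q, x * x = 1 → x ≠ 1 → x ≠ r 0 → ∃ a ∈ A, a * r 0 = r 0 * a ∧ ∃ i j : Fin 5, i ≠ 0 ∧ j ≠ 0 ∧ i ≠ j ∧
    x = a * (r i * r j) * a⁻¹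
  Q_irr : ∀ N : Subgroup X, N ≤ Q → (∀ a ∈ A, a * r 0 = r 0 * a → ∀ x ∈ N, a * x * a⁻¹ ∈ N) →
    (∃ x ∈ N, x ≠ 1 ∧ x ≠ r 0) → N = Q
  Q_pair : ∃ a ∈ A, a * r 0 = r 0 * a ∧
    (r 1 * r 2) * (a * (r 1 * r 2) * a⁻¹) * (r 1 * r 2)⁻¹ * (a * (r 1 * r 2) * a⁻¹)⁻¹ = r 0
  Q_trans : ∀ x ∈ Q, ∀ y ∈ Q, ∀ x' ∈ Q, ∀ y' ∈ Q, x * x = 1 → y * y = 1 → x' * x' = 1 → y' * y' = 1 →
    x * y * x⁻¹ * y⁻¹ = r 0 → x' * y' * x'⁻¹ * y'⁻¹ = r 0 → ∃ a ∈ A, a * r 0 = r 0 * a ∧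
      (((a * x * a⁻¹ = x' ∨ a * x * a⁻¹ = x' * r 0) ∧ (a * y * a⁻¹ = y' ∨ a * y * a⁻¹ = y' * r 0)) ∨
       ((a * x * a⁻¹ = y' ∨ a * x * a⁻¹ = y' * r 0) ∧ (a * y * a⁻¹ = x' ∨ a * y * a⁻¹ = x' * r 0)))
  D_index : Odd ((U ⊔ Q).relIndex (A ⊓ centralizer {r 0}))
  D_gen : A ⊓ centralizer {r 0} ≤ closure {x : X | x ∈ A ⊓ centralizer {r 0} ∧ Odd (orderOf x)}
  h0_r : h0 * r 0 = r 0 * h0
  h0_pow : h0 ^ 3 = 1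
  h0_fix : ∀ q ∈ Q, (h0 * q * h0⁻¹ = q ∨ h0 * q * h0⁻¹ = q * r 0) → q = 1 ∨ q = r 0
  h0_comm : ∀ a ∈ A, a * r 0 = r 0 * a → a * h0 * a⁻¹ * h0⁻¹ ∈ Q
  h0_cent : ∀ a ∈ A, a * r 0 = r 0 * a → (∀ b ∈ A, b * r 0 = r 0 * b → a * b * a⁻¹ * b⁻¹ ∈ Q) →
    ∃ q ∈ Q, ∃ j : ℕ, a = q * h0 ^ j
  -- the torus element `h * l k1` and the Weyl element `n2`
  k1_zero : (k1 : Equiv.Perm (Fin 5)) 0 = 0
  k1_one : (k1 : Equiv.Perm (Fin 5)) 1 = 1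
  k1_ne : k1 ≠ 1
  h1_UQ : ∀ u ∈ U ⊓ Q, ∃ v ∈ closure (Set.range r), (h * l k1) * u * (h * l k1)⁻¹ = u * v
  h1_U : ∀ u ∈ U, (∃ y ∈ U ⊓ Q, ∃ v ∈ closure (Set.range r), (h * l k1) * u * (h * l k1)⁻¹ = u * (y * v)) →
    ∃ y ∈ U ⊓ Q, ∃ v ∈ closure (Set.range r), u = y * v
  n2_mem : n2 ∈ A
  n2_r : n2 * r 0 = r 0 * n2
  n2_sq : n2 * n2 = 1
  n2_h : n2 * h = h * n2
  n2_k1 : n2 * l k1 = l k1 * n2
  n2_l : ∀ σ, IsKlein σ → n2 * l σ * n2⁻¹ ∈ closure (Set.range r)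
  n2_UQ : ∀ u ∈ U ⊓ Q, (h * l k1) * u = u * (h * l k1) → n2 * u = u * n2

/-- The environment: `C_X(t)` for the involution `t` commuting with `A`. -/
structure Env {X : Type u} [Group X] (A : Subgroup X) (t : X) extends Flag A where
  t_sq : t * t = 1
  t_ne : t ≠ 1
  t_A : ∀ a ∈ A, t * a = a * t
  t_nA : t ∉ A
  odd_mem : ∀ g : X, g * t = t * g → Odd (orderOf g) → g ∈ A
  cV : ∀ g : X, g * t = t * g → (∀ i, g * r i = r i * g) → ∃ e, (e = 1 ∨ e = t) ∧ ∃ u ∈ U, ∃ j : ℕ, g = e * u * h ^ j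
  cU : ∀ g : X, g * t = t * g → (∀ u ∈ U, g * u = u * g) → ∃ e, (e = 1 ∨ e = t) ∧ ∃ v ∈ closure (Set.range r), g = e * v
  cQ : ∀ g : X, g * t = t * g → (∀ q ∈ Q, g * q = q * g) → ∃ e, (e = 1 ∨ e = t) ∧ (g = e ∨ g = e * r 0)
  cUV : ∀ g : X, g * t = t * g → (∀ u ∈ U, ∃ v ∈ closure (Set.range r), g * u * g⁻¹ = u * v) →
    ∃ e, (e = 1 ∨ e = t) ∧ ∃ u ∈ U, g = e * u
  cUQ : ∀ g : X, g * t = t * g → (∀ u ∈ U ⊓ Q, ∃ v ∈ closure (Set.range r), g * u * g⁻¹ = u * v) →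
    ∃ e, (e = 1 ∨ e = t) ∧ ∃ a ∈ A, g = e * a
  /-- `t` is fused to `t * v` by an element commuting with `h` and `V` -/
  mover : ∃ g : X, g * h = h * g ∧ (∀ i, g * r i = r i * g) ∧ ∃ v ∈ closure (Set.range r), v ≠ 1 ∧ g * t * g⁻¹ = t * v

end Cfsg.Agent.UFiveTwo
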