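import Cfsg.Prelude.Def_Classical
import Cfsg.Agent.UFiveTwo.Env
import Cfsg.Agent.StdEven.Syl

/-!
# S1778, type `U₅(2)`: the facts on `A ≅ PSU₅(2)` and on its normaliser (output of P1)

`FlagAut A F`: facts on the elements of a group `X` normalising `A`; `P1` is what has to be proved.
-/

set_option autoImplicit false

namespace Cfsg.Agent.UFiveTwo

open Subgroup Cfsg.Agent.StdEven.Syl

universe u

/-- `g` induces an inner automorphism of `A`. -/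
def Inner {X : Type u} [Group X] (A : Subgroup X) (g : X) : Prop := ∃ a ∈ A, a⁻¹ * g ∈ centralizer (A : Set X)

/-- Facts on `N_X(A)` for a subgroup `A ≅ PSU₅(2)` with the flag data `F`. -/
structure FlagAut {X : Type u} [Group X] (A : Subgroup X) (F : Flag A) : Prop where
  -- facts on `A` not in `Flag`
  syl : IsSyl (F.U ⊔ F.Q) A
  elem : ∀ E ≤ F.U ⊔ F.Q, (∀ x ∈ E, x * x = 1) → 16 ≤ Nat.card E → E ≤ closure (Set.range F.r)
  into : ∀ x ∈ A, x * x = 1 → ∃ a ∈ A, a * x * a⁻¹ ∈ closure (Set.range F.r)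
  cent : ∀ z ∈ A, z ∈ centralizer (A : Set X) → z = 1
  -- facts on `N(A)`
  cV : ∀ g ∈ normalizer (A : Set X), (∀ i, g * F.r i = F.r i * g) →
    ∃ c ∈ centralizer (A : Set X), ∃ u ∈ F.U, ∃ j : ℕ, g = c * u * F.h ^ j
  cU : ∀ g ∈ normalizer (A : Set X), (∀ u ∈ F.U, g * u = u * g) →
    ∃ c ∈ centralizer (A : Set X), ∃ v ∈ closure (Set.range F.r), g = c * v
  cQ : ∀ g ∈ normalizer (A : Set X), (∀ q ∈ F.Q, g * q = q * g) →
    ∃ c ∈ centralizer (A : Set X), g = c ∨ g = c * F.r 0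
  cUV : ∀ g ∈ normalizer (A : Set X), (∀ u ∈ F.U, ∃ v ∈ closure (Set.range F.r), g * u * g⁻¹ = u * v) →
    ∃ c ∈ centralizer (A : Set X), ∃ u ∈ F.U, g = c * u
  cUQ : ∀ g ∈ normalizer (A : Set X), (∀ u ∈ F.U ⊓ F.Q, ∃ v ∈ closure (Set.range F.r), g * u * g⁻¹ = u * v) →
    Inner A g
  ind : ∀ g ∈ normalizer (A : Set X), ∀ g' ∈ normalizer (A : Set X), ¬ Inner A g → ¬ Inner A g' → Inner A (g * g')
  /-- an outer involution `f` centralises `B ≅ A₆` and is conjugate to `f * w`, `w` an involution of `B` -/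
  outB : ∀ f ∈ normalizer (A : Set X), f * f = 1 → ¬ Inner A f → ∃ B ≤ A, ⁅B, B⁆ = B ∧ (∀ x ∈ B, x * f = f * x) ∧
    B ≤ closure {x | x ∈ B ∧ ∃ k : ℕ, x ^ 2 ^ k = 1} ∧ ∃ w ∈ B, w * w = 1 ∧ w ≠ 1 ∧ ∃ c ∈ A, c * f * c⁻¹ = f * w
  /-- 2-subgroups centralising an outer involution are small -/
  outC : ∀ f ∈ normalizer (A : Set X), f * f = 1 → ¬ Inner A f → ∀ Y : Subgroup X, IsPGroup 2 Y →
    Y ≤ normalizer (A : Set X) → (∀ x ∈ Y, x * f = f * x) → Nat.card Y ≤ 32 * Nat.card ↥(Y ⊓ centralizer (A : Set X))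

/-- What has to be proved about `PSU₅(2)`. -/
def P1 : Prop :=
  ∀ (X : Type u) [Group X] [Finite X] (A : Subgroup X) (F : Type) [Field F] [Fintype F], Fintype.card F = 4 →
    Nonempty (↥A ≃* Cfsg.PSU 5 F 2) → ∃ Fl : Flag A, FlagAut A Fl

end Cfsg.Agent.UFiveTwo
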