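import Cfsg.Agent.UFiveTwo.ModelFlag

/-!
# Transport of the flag data
-/

set_option autoImplicit false

namespace Cfsg.Agent.UFiveTwo

open Subgroup

universe u v

section

variable {M : Type v} [Group M] {X : Type u} [Group X] (F : Flag (⊤ : Subgroup M)) {f : M →* X}
  (hf : Function.Injective f) {A : Subgroup X} (hA : f.range = A)

theorem clos_map (r : Fin 5 → M) (f : M →* X) : closure (Set.range fun i => f (r i)) = (closure (Set.range r)).map f := by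
  rw [MonoidHom.map_closure]
  congr 1
  ext x
  constructor
  · rintro ⟨i, rfl⟩; exact ⟨_, ⟨i, rfl⟩, rfl⟩
  · rintro ⟨_, ⟨i, rfl⟩, rfl⟩; exact ⟨i, rfl⟩

include hf in
theorem card_map (K : Subgroup M) : Nat.card (K.map f) = Nat.card K :=
  (Nat.card_congr (K.equivMapOfInjective f hf).toEquiv).symm

include hf in
theorem comm_iff {x y : M} : f x * f y = f y * f x ↔ x * y = y * x := by
  rw [← map_mul, ← map_mul]
  exact hf.eq_iff

include hf in
theorem f_one_iff {x : M} : f x = 1 ↔ x = 1 := by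
  rw [← map_one f]
  exact hf.eq_iff

include hf in
theorem relIndex_map (H K : Subgroup M) : (H.map f).relIndex (K.map f) = H.relIndex K := by
  rw [Subgroup.relIndex_map_map]
  have h1 : f.ker = ⊥ := (MonoidHom.ker_eq_bot_iff f).2 hf
  rw [h1, sup_bot_eq, sup_bot_eq]

include hf hA in
theorem cent_map (x : M) : A ⊓ centralizer {f x} = ((⊤ : Subgroup M) ⊓ centralizer {x}).map f := by
  rw [← hA]
  ext y
  constructor
  · rintro ⟨⟨m, rfl⟩, h2⟩
    refine ⟨m, ⟨mem_top _, ?_⟩, rfl⟩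
    exact mem_centralizer_singleton_iff.2 ((comm_iff hf).1 (mem_centralizer_singleton_iff.1 h2))
  · rintro ⟨m, ⟨-, h2⟩, rfl⟩
    exact ⟨⟨m, rfl⟩, mem_centralizer_singleton_iff.2 ((comm_iff hf).2 (mem_centralizer_singleton_iff.1 h2))⟩

/-- Transport of the flag data along an injective homomorphism with range `A`. -/
def Flag.map : Flag A where
  r i := f (F.r i)
  l := f.comp F.l
  h := f F.h
  h0 := f F.h0
  k1 := F.k1
  n2 := f F.n2
  U := F.U.map f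
  Q := F.Q.map f
  r_mem i := by rw [← hA]; exact ⟨_, rfl⟩
  l_mem σ := by rw [← hA]; exact ⟨_, rfl⟩
  h_mem := by rw [← hA]; exact ⟨_, rfl⟩
  h0_mem := by rw [← hA]; exact ⟨_, rfl⟩
  U_le := by rw [← hA]; exact map_le_range f _
  Q_le := by rw [← hA]; exact map_le_range f _
  r_sq i := by rw [← map_mul, F.r_sq, map_one]
  r_comm i j := (comm_iff hf).2 (F.r_comm i j)
  r_prod := by rw [← map_mul, ← map_mul, ← map_mul, ← map_mul, F.r_prod, map_one]
  r_ne h := F.r_ne ((f_one_iff hf).1 h)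
  l_r σ i := by
    rw [← F.l_r σ i]
    simp
  h_pow := by rw [← map_pow, F.h_pow, map_one]
  h_ne h := F.h_ne ((f_one_iff hf).1 h)
  h_r i := (comm_iff hf).2 (F.h_r i)
  h_l σ := (comm_iff hf).2 (F.h_l σ)
  card_U := by rw [card_map hf, F.card_U]
  r_U i := mem_map_of_mem f (F.r_U i)
  U_r := by
    rintro _ ⟨u, hu, rfl⟩ i
    exact (comm_iff hf).2 (F.U_r u hu i)
  U_h := by
    rintro _ ⟨u, hu, rfl⟩
    exact ⟨_, F.U_h u hu, by simp⟩
  U_l := by
    rintro _ ⟨u, hu, rfl⟩ σ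
    exact ⟨_, F.U_l u hu σ, by simp⟩
  U_sq := by
    rintro _ ⟨u, hu, rfl⟩
    rw [← map_mul]
    rcases F.U_sq u hu with h | ⟨i, h⟩
    · left; rw [h, map_one]
    · right; exact ⟨i, by rw [h]⟩
  U_one := by
    rintro _ ⟨u, hu, rfl⟩ h
    rw [clos_map]
    rw [← map_mul] at h
    exact mem_map_of_mem f (F.U_one u hu ((f_one_iff hf).1 h))
  U_exists i := by
    obtain ⟨u, hu, h⟩ := F.U_exists i
    exact ⟨f u, mem_map_of_mem f hu, by rw [← map_mul, h]⟩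
  U_line := by
    rintro _ ⟨u, hu, rfl⟩ _ ⟨u', hu', rfl⟩ h1 h2
    rw [← map_mul, ← map_mul] at h1
    rw [← map_mul] at h2
    obtain ⟨k, v, hv, h⟩ := F.U_line u hu u' hu' (hf h1) (fun h3 => h2 (by rw [h3, map_one]))
    refine ⟨k, f v, by rw [clos_map]; exact mem_map_of_mem f hv, ?_⟩
    rw [h]; simp
  U_fix := by
    rintro _ ⟨u, hu, rfl⟩ h
    rw [clos_map]
    exact mem_map_of_mem f (F.U_fix u hu ((comm_iff hf).1 h))
  U_comm := by
    rintro _ ⟨u, hu, rfl⟩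
    obtain ⟨u', hu', v, hv, h⟩ := F.U_comm u hu
    refine ⟨f u', mem_map_of_mem f hu', f v, by rw [clos_map]; exact mem_map_of_mem f hv, ?_⟩
    conv_lhs => rw [h]
    simp
  card_Q := by rw [card_map hf, F.card_Q]
  card_UQ := by rw [← Subgroup.map_inf _ _ f hf, card_map hf, F.card_UQ]
  r_Q := mem_map_of_mem f F.r_Q
  Q_sq := by
    rintro _ ⟨u, hu, rfl⟩
    rw [← map_mul]
    rcases F.Q_sq u hu with h | h
    · left; rw [h, map_one]
    · right; rw [h]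
  Q_r := by
    rintro _ ⟨u, hu, rfl⟩
    exact (comm_iff hf).2 (F.Q_r u hu)
  Q_comm := by
    rintro _ ⟨u, hu, rfl⟩ _ ⟨u', hu', rfl⟩
    rw [← map_inv, ← map_inv, ← map_mul, ← map_mul, ← map_mul]
    rcases F.Q_comm u hu u' hu' with h | h
    · left; rw [h, map_one]
    · right; rw [h]
  Q_nd := by
    rintro _ ⟨u, hu, rfl⟩ h
    rcases F.Q_nd u hu (fun q' hq' => (comm_iff hf).1 (h _ (mem_map_of_mem f hq'))) with h | h
    · left; rw [h, map_one]
    · right; rw [h]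
  Q_conj := by
    intro a ha
    rw [← hA] at ha
    obtain ⟨a, rfl⟩ := ha
    rintro h _ ⟨q, hq, rfl⟩
    exact ⟨_, F.Q_conj a (mem_top _) ((comm_iff hf).1 h) q hq, by simp⟩
  l_Q σ hσ := mem_map_of_mem f (F.l_Q σ hσ)
  Q_gen := by
    rintro _ ⟨q, hq, rfl⟩
    obtain ⟨u, hu, σ, hσ, h⟩ := F.Q_gen q hq
    refine ⟨f u, ?_, σ, hσ, ?_⟩
    · rw [← Subgroup.map_inf _ _ f hf]
      exact mem_map_of_mem f hu
    · rw [h]; simp
  rr_Q i j hi hj := ⟨_, F.rr_Q i j hi hj, by simp⟩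
  r_nQ i hi h := F.r_nQ i hi (by
    obtain ⟨q, hq, h1⟩ := h
    rw [← hf h1]; exact hq)
  Q_inv := by
    rintro _ ⟨x, hx, rfl⟩ h1 h2 h3
    rw [← map_mul] at h1
    obtain ⟨a, -, ha, i, j, hi, hj, hij, h⟩ := F.Q_inv x hx ((f_one_iff hf).1 h1)
      (fun h => h2 (by rw [h, map_one])) (fun h => h3 (by rw [h]))
    refine ⟨f a, by rw [← hA]; exact ⟨a, rfl⟩, (comm_iff hf).2 ha, i, j, hi, hj, hij, ?_⟩
    rw [h]; simp
  Q_irr := by
    intro N hN hD hx
    -- pull back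
    have h1 : (N.comap f).map f = N := by
      apply map_comap_eq_self
      exact hN.trans (map_le_range f _)
    have h2 : N.comap f = F.Q := by
      apply F.Q_irr
      · intro x hx
        obtain ⟨q, hq, h⟩ := hN hx
        rw [← hf h]; exact hq
      · intro a _ ha x hx
        change f (a * x * a⁻¹) ∈ N
        rw [map_mul, map_mul, map_inv]
        exact hD (f a) (by rw [← hA]; exact ⟨a, rfl⟩) ((comm_iff hf).2 ha) _ hx
      · obtain ⟨x, hx, hx1, hx0⟩ := hx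
        obtain ⟨q, hq, rfl⟩ := hN hx
        exact ⟨q, hx, fun h => hx1 (by rw [h, map_one]), fun h => hx0 (by rw [h])⟩
    rw [← h1, h2]
  Q_pair := by
    obtain ⟨a, -, ha, h⟩ := F.Q_pair
    refine ⟨f a, by rw [← hA]; exact ⟨a, rfl⟩, (comm_iff hf).2 ha, ?_⟩
    rw [← h]; simp
  Q_trans := by
    rintro _ ⟨x, hx, rfl⟩ _ ⟨y, hy, rfl⟩ _ ⟨x', hx', rfl⟩ _ ⟨y', hy', rfl⟩ h1 h2 h3 h4 h5 h6
    rw [← map_mul] at h1 h2 h3 h4
    rw [← map_inv, ← map_inv, ← map_mul, ← map_mul, ← map_mul] at h5 h6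
    obtain ⟨a, -, ha, h⟩ := F.Q_trans x hx y hy x' hx' y' hy' ((f_one_iff hf).1 h1) ((f_one_iff hf).1 h2)
      ((f_one_iff hf).1 h3) ((f_one_iff hf).1 h4) (hf h5) (hf h6)
    refine ⟨f a, by rw [← hA]; exact ⟨a, rfl⟩, (comm_iff hf).2 ha, ?_⟩
    have h7 : ∀ x x' : M, a * x * a⁻¹ = x' → f a * f x * (f a)⁻¹ = f x' := by
      intro x x' h; rw [← h]; simp
    have h8 : ∀ x x' : M, a * x * a⁻¹ = x' * F.r 0 → f a * f x * (f a)⁻¹ = f x' * f (F.r 0) := by
      intro x x' h; rw [← map_mul f x' (F.r 0), ← h]; simp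
    rcases h with ⟨h9 | h9, h10 | h10⟩ | ⟨h9 | h9, h10 | h10⟩
    · exact Or.inl ⟨Or.inl (h7 _ _ h9), Or.inl (h7 _ _ h10)⟩
    · exact Or.inl ⟨Or.inl (h7 _ _ h9), Or.inr (h8 _ _ h10)⟩
    · exact Or.inl ⟨Or.inr (h8 _ _ h9), Or.inl (h7 _ _ h10)⟩
    · exact Or.inl ⟨Or.inr (h8 _ _ h9), Or.inr (h8 _ _ h10)⟩
    · exact Or.inr ⟨Or.inl (h7 _ _ h9), Or.inl (h7 _ _ h10)⟩
    · exact Or.inr ⟨Or.inl (h7 _ _ h9), Or.inr (h8 _ _ h10)⟩
    · exact Or.inr ⟨Or.inr (h8 _ _ h9), Or.inl (h7 _ _ h10)⟩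
    · exact Or.inr ⟨Or.inr (h8 _ _ h9), Or.inr (h8 _ _ h10)⟩
  D_index := by
    rw [← Subgroup.map_sup, cent_map hf hA, relIndex_map hf]
    exact F.D_index
  D_gen := by
    rw [cent_map hf hA]
    refine (Subgroup.map_mono F.D_gen).trans ?_
    rw [MonoidHom.map_closure]
    apply Subgroup.closure_mono
    rintro _ ⟨x, ⟨hx, hxo⟩, rfl⟩
    refine ⟨mem_map_of_mem f hx, ?_⟩
    rw [orderOf_injective f hf]
    exact hxo
  h0_r := (comm_iff hf).2 F.h0_r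
  h0_pow := by rw [← map_pow, F.h0_pow, map_one]
  h0_fix := by
    rintro _ ⟨q, hq, rfl⟩ h
    rw [← map_mul, ← map_inv, ← map_mul, ← map_mul] at h
    rcases F.h0_fix q hq (h.imp (fun h => hf h) (fun h => hf h)) with h | h
    · left; rw [h, map_one]
    · right; rw [h]
  h0_comm := by
    intro a ha h
    rw [← hA] at ha
    obtain ⟨a, rfl⟩ := ha
    exact ⟨_, F.h0_comm a (mem_top _) ((comm_iff hf).1 h), by simp⟩
  h0_cent := by
    intro a ha h1 h2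
    rw [← hA] at ha
    obtain ⟨a, rfl⟩ := ha
    obtain ⟨q, hq, j, h⟩ := F.h0_cent a (mem_top _) ((comm_iff hf).1 h1) (fun b _ hb => by
      obtain ⟨q, hq, h3⟩ := h2 (f b) (by rw [← hA]; exact ⟨b, rfl⟩) ((comm_iff hf).2 hb)
      rw [← map_inv, ← map_inv, ← map_mul, ← map_mul, ← map_mul] at h3
      rw [← hf h3]; exact hq)
    exact ⟨f q, mem_map_of_mem f hq, j, by rw [h]; simp⟩
  k1_zero := F.k1_zero
  k1_one := F.k1_one
  k1_ne := F.k1_ne
  h1_UQ := by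
    intro u hu
    rw [← Subgroup.map_inf _ _ f hf] at hu
    obtain ⟨u, hu, rfl⟩ := hu
    obtain ⟨v, hv, h⟩ := F.h1_UQ u hu
    refine ⟨f v, by rw [clos_map]; exact mem_map_of_mem f hv, ?_⟩
    rw [← map_mul f u v, ← h]; simp
  h1_U := by
    rintro _ ⟨u, hu, rfl⟩ ⟨y, hy, v, hv, h⟩
    rw [← Subgroup.map_inf _ _ f hf] at hy
    rw [clos_map] at hv
    obtain ⟨y, hy, rfl⟩ := hy
    obtain ⟨v, hv, rfl⟩ := hv
    obtain ⟨y', hy', v', hv', h'⟩ := F.h1_U u hu ⟨y, hy, v, hv, hf (by simpa using h)⟩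
    refine ⟨f y', ?_, f v', ?_, by rw [h', map_mul]⟩
    · rw [← Subgroup.map_inf _ _ f hf]; exact mem_map_of_mem f hy'
    · rw [clos_map]; exact mem_map_of_mem f hv'
  n2_mem := by rw [← hA]; exact ⟨_, rfl⟩
  n2_r := (comm_iff hf).2 F.n2_r
  n2_sq := by rw [← map_mul, F.n2_sq, map_one]
  n2_h := (comm_iff hf).2 F.n2_h
  n2_k1 := (comm_iff hf).2 F.n2_k1
  n2_l σ hσ := by
    rw [clos_map]
    exact ⟨_, F.n2_l σ hσ, by simp⟩
  n2_UQ := by
    intro u hu h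
    rw [← Subgroup.map_inf _ _ f hf] at hu
    obtain ⟨u, hu, rfl⟩ := hu
    apply (comm_iff hf).2
    apply F.n2_UQ u hu
    apply hf
    simpa using h

end

end Cfsg.Agent.UFiveTwo
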