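import Cfsg.Agent.UFiveTwo.ModelOut3
import Cfsg.Agent.UFiveTwo.FlagMap
import Cfsg.Agent.UFiveTwo.AutF

/-!
# S1778, type `U₅(2)`: P1, the facts on `A ≅ PSU₅(2)` and on its normalizer
-/

set_option autoImplicit false
set_option maxRecDepth 10000
set_option linter.unusedSectionVars false
set_option linter.deprecated false

namespace Cfsg.Agent.UFiveTwo

open Subgroup Cfsg.Agent.StdEven.Syl
open Model (MU Inn)

universe u

/-- The even involution `(0 1)(2 3)`. -/
def sg0 : alternatingGroup (Fin 5) := ⟨Equiv.swap 0 1 * Equiv.swap 2 3, by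
  rw [Equiv.Perm.mem_alternatingGroup]; decide⟩

theorem sg0_sq : sg0 * sg0 = 1 := by decide
theorem sg0_ne : sg0 ≠ 1 := by decide

/-- `Alt(5)` is generated by involutions. -/
theorem alt_closure : closure {x : alternatingGroup (Fin 5) | x * x = 1} = ⊤ := by
  have hN : (closure {x : alternatingGroup (Fin 5) | x * x = 1}).Normal := by
    constructor
    intro n hn g
    have h1 : closure {x : alternatingGroup (Fin 5) | x * x = 1} ≤
        (closure {x : alternatingGroup (Fin 5) | x * x = 1}).comap (MulAut.conj g).toMonoidHom := by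
      rw [closure_le]
      intro x hx
      apply Subgroup.subset_closure
      change (g * x * g⁻¹) * (g * x * g⁻¹) = 1
      calc _ = g * (x * x) * g⁻¹ := by group
        _ = 1 := by rw [show x * x = 1 from hx]; group
    exact h1 hn
  have := alternatingGroup.isSimpleGroup_five
  rcases hN.eq_bot_or_eq_top with h | h
  · exfalso
    have h1 : sg0 ∈ closure {x : alternatingGroup (Fin 5) | x * x = 1} := Subgroup.subset_closure sg0_sq
    rw [h, mem_bot] at h1
    exact sg0_ne h1
  · exact h

section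

variable {X : Type u} [Group X] {A : Subgroup X} (e : A ≃* MU)

/-- The embedding. -/
def io : MU →* X := A.subtype.comp e.symm.toMonoidHom

theorem io_inj : Function.Injective (io e) := fun _ _ h => e.symm.injective (Subtype.ext h)

theorem io_range : (io e).range = A := by
  ext x
  constructor
  · rintro ⟨m, rfl⟩; exact (e.symm m).2
  · intro hx
    exact ⟨e ⟨x, hx⟩, by change ((e.symm (e ⟨x, hx⟩) : A) : X) = x; rw [e.symm_apply_apply]⟩

theorem io_mem (m : MU) : io e m ∈ A := (e.symm m).2

theorem exists_io {x : X} (hx : x ∈ A) : ∃ m, io e m = x := by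
  rw [← io_range e] at hx
  exact hx

/-- The action of the normalizer. -/
def psi : normalizer (A : Set X) →* MulAut MU := (MulAut.congr e).toMonoidHom.comp A.normalizerMonoidHom

theorem psi_spec (g : normalizer (A : Set X)) (m : MU) : io e (psi e g m) = g * io e m * (g : X)⁻¹ := by
  change ((e.symm (e (A.normalizerMonoidHom g (e.symm m))) : A) : X) = _
  rw [e.symm_apply_apply]
  rfl

theorem mem_cent {c : X} : c ∈ centralizer (A : Set X) ↔ ∀ m, c * io e m = io e m * c := by
  rw [mem_centralizer_iff]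
  constructor
  · intro h m; exact (h _ (io_mem e m)).symm
  · intro h x hx
    obtain ⟨m, rfl⟩ := exists_io e hx
    exact (h m).symm

theorem cent_of {g : X} (hg : g ∈ normalizer (A : Set X)) {b : MU} (h : ∀ m, psi e ⟨g, hg⟩ m = b * m * b⁻¹) :
    g * (io e b)⁻¹ ∈ centralizer (A : Set X) := by
  rw [mem_cent e]
  intro m
  have h1 := psi_spec e ⟨g, hg⟩ (b⁻¹ * m * b)
  rw [h] at h1
  have h2 : b * (b⁻¹ * m * b) * b⁻¹ = m := by group
  rw [h2, map_mul, map_mul, map_inv] at h1
  change io e m = g * ((io e b)⁻¹ * io e m * io e b) * g⁻¹ at h1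
  calc g * (io e b)⁻¹ * io e m = (g * ((io e b)⁻¹ * io e m * io e b) * g⁻¹) * (g * (io e b)⁻¹) := by group
    _ = _ := by rw [← h1]

theorem cent_iff_psi {g : X} (hg : g ∈ normalizer (A : Set X)) :
    g ∈ centralizer (A : Set X) ↔ psi e ⟨g, hg⟩ = 1 := by
  rw [mem_cent e]
  constructor
  · intro h
    ext1 m
    apply io_inj e
    rw [psi_spec]
    change g * io e m * g⁻¹ = io e m
    rw [h m, mul_inv_cancel_right]
  · intro h m
    have h1 := psi_spec e ⟨g, hg⟩ m
    rw [h] at h1
    change io e m = g * io e m * g⁻¹ at h1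
    exact (eq_mul_inv_iff_mul_eq.1 h1).symm

theorem inner_iff {g : X} (hg : g ∈ normalizer (A : Set X)) : Inner A g ↔ Inn (psi e ⟨g, hg⟩) := by
  constructor
  · rintro ⟨a, ha, h⟩
    obtain ⟨b, rfl⟩ := exists_io e ha
    refine ⟨b, fun m => ?_⟩
    apply io_inj e
    rw [psi_spec]
    have h1 := (mem_cent e).1 h m
    change g * io e m * g⁻¹ = _
    rw [map_mul, map_mul, map_inv]
    calc g * io e m * g⁻¹ = io e b * ((io e b)⁻¹ * g * io e m) * g⁻¹ := by group
      _ = _ := by rw [h1]; group
  · rintro ⟨b, hb⟩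
    refine ⟨io e b, io_mem e b, ?_⟩
    have h1 := cent_of e hg hb
    have h2 : (io e b)⁻¹ * g = (io e b)⁻¹ * (g * (io e b)⁻¹) * io e b := by group
    rw [h2, mem_centralizer_iff] at *
    intro x hx
    obtain ⟨m, rfl⟩ := exists_io e hx
    have h3 := h1 (io e (b * m * b⁻¹)) (io_mem e _)
    rw [map_mul, map_mul, map_inv] at h3
    calc io e m * ((io e b)⁻¹ * (g * (io e b)⁻¹) * io e b)
        = (io e b)⁻¹ * ((io e b * io e m * (io e b)⁻¹) * (g * (io e b)⁻¹)) * io e b := by group
      _ = _ := by rw [h3]; group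

variable [Finite X]

theorem isSyl_map {S : Subgroup MU} (h : IsSyl S ⊤) : IsSyl (S.map (io e)) A := by
  refine ⟨?_, h.two.map _, fun Y hY hYA hle => ?_⟩
  · rintro _ ⟨m, -, rfl⟩; exact io_mem e m
  · have h1 : IsPGroup 2 (Y.comap (io e)) := hY.comap_of_injective _ (io_inj e)
    have h2 := h.max _ h1 le_top (fun m hm => hle ⟨m, hm, rfl⟩)
    rw [← h2]
    apply le_antisymm
    · intro y hy
      obtain ⟨m, rfl⟩ := exists_io e (hYA hy)
      exact ⟨m, hy, rfl⟩
    · rintro _ ⟨m, hm, rfl⟩; exact hm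

theorem UQ_map : (Model.U.map (io e) ⊔ Model.Q.map (io e) : Subgroup X) = Model.T.map (io e) := by
  rw [← Subgroup.map_sup, Model.UQ_eq_T]

/-- the data -/
noncomputable def flA : Flag A := Model.flag.map (io_inj e) (io_range e)

theorem flagAut : FlagAut A (flA e) where
  syl := by
    change IsSyl (Model.U.map (io e) ⊔ Model.Q.map (io e)) A
    rw [UQ_map]
    exact isSyl_map e Model.isSyl_T
  elem := by
    change ∀ E ≤ Model.U.map (io e) ⊔ Model.Q.map (io e), (∀ x ∈ E, x * x = 1) → 16 ≤ Nat.card E →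
      E ≤ closure (Set.range fun i => io e (Model.r i))
    rw [UQ_map]
    intro E hE h2 h16
    have h1 : E = (E.comap (io e)).map (io e) := by
      apply le_antisymm
      · intro x hx
        obtain ⟨m, -, rfl⟩ := hE hx
        exact ⟨m, hx, rfl⟩
      · rintro _ ⟨m, hm, rfl⟩; exact hm
    have h3 := Model.elem_model (E := E.comap (io e)) (fun m hm => by
        obtain ⟨m', hm', h4⟩ := hE (show io e m ∈ E from hm)
        rwa [← io_inj e h4])
      (fun m hm => io_inj e (by rw [map_mul, h2 _ hm, map_one])) (by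
        rw [← card_map (io_inj e), ← h1]; exact h16)
    rw [h1, clos_map]
    exact Subgroup.map_mono h3
  into x hx h2 := by
    obtain ⟨m, rfl⟩ := exists_io e hx
    rw [← map_mul] at h2
    obtain ⟨a, ha⟩ := Model.into_model (x := m) (io_inj e (h2.trans (map_one _).symm))
    refine ⟨io e a, io_mem e a, ?_⟩
    change _ ∈ closure (Set.range fun i => io e (Model.r i))
    rw [clos_map]
    exact ⟨_, ha, by simp⟩
  cent z hz hc := by
    obtain ⟨m, rfl⟩ := exists_io e hz
    rw [Model.center_MU (z := m) fun x => io_inj e (by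
      rw [map_mul, map_mul]; exact (mem_cent e).1 hc x), map_one]
  cV g hg h := by
    obtain ⟨u, hu, j, -, hx⟩ := Model.mcV (φ := psi e ⟨g, hg⟩) fun i => io_inj e (by
      rw [psi_spec]
      have h1 : g * io e (Model.r i) = io e (Model.r i) * g := h i
      change g * io e (Model.r i) * g⁻¹ = _
      rw [h1, mul_inv_cancel_right])
    refine ⟨_, cent_of e hg hx, io e u, ⟨u, hu, rfl⟩, j, ?_⟩
    change g = g * (io e (u * Model.h ^ j))⁻¹ * io e u * (io e Model.h) ^ j
    rw [map_mul, map_pow]
    group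
  cU g hg h := by
    obtain ⟨v, hv, hx⟩ := Model.mcU (φ := psi e ⟨g, hg⟩) fun u hu => io_inj e (by
      rw [psi_spec]
      have h1 : g * io e u = io e u * g := h _ ⟨u, hu, rfl⟩
      change g * io e u * g⁻¹ = _
      rw [h1, mul_inv_cancel_right])
    refine ⟨_, cent_of e hg hx, io e v, ?_, ?_⟩
    · change _ ∈ closure (Set.range fun i => io e (Model.r i))
      rw [clos_map]
      exact ⟨v, hv, rfl⟩
    · group
  cQ g hg h := by
    have h1 := Model.mcQ (φ := psi e ⟨g, hg⟩) fun u hu => io_inj e (by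
      rw [psi_spec]
      have h1 : g * io e u = io e u * g := h _ ⟨u, hu, rfl⟩
      change g * io e u * g⁻¹ = _
      rw [h1, mul_inv_cancel_right])
    rcases h1 with h1 | h1
    · refine ⟨g, ?_, Or.inl rfl⟩
      rw [cent_iff_psi e hg]
      ext1 x
      exact h1 x
    · refine ⟨_, cent_of e hg h1, Or.inr ?_⟩
      change g = g * (io e (Model.r 0))⁻¹ * io e (Model.r 0)
      group
  cUV g hg h := by
    obtain ⟨u, hu, hx⟩ := Model.mcUV (φ := psi e ⟨g, hg⟩) fun u hu => by
      obtain ⟨v, hv, h1⟩ := h _ ⟨u, hu, rfl⟩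
      change v ∈ closure (Set.range fun i => io e (Model.r i)) at hv
      rw [clos_map] at hv
      obtain ⟨v, hv, rfl⟩ := hv
      refine ⟨v, hv, io_inj e ?_⟩
      rw [psi_spec, map_mul]
      exact h1
    refine ⟨_, cent_of e hg hx, io e u, ⟨u, hu, rfl⟩, ?_⟩
    group
  cUQ g hg h := by
    rw [inner_iff e hg]
    refine Model.mcUQ (φ := psi e ⟨g, hg⟩) fun u hu => ?_
    obtain ⟨v, hv, h1⟩ := h (io e u) ⟨⟨u, hu.1, rfl⟩, ⟨u, hu.2, rfl⟩⟩
    change v ∈ closure (Set.range fun i => io e (Model.r i)) at hv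
    rw [clos_map] at hv
    obtain ⟨v, hv, rfl⟩ := hv
    refine ⟨v, hv, io_inj e ?_⟩
    rw [psi_spec, map_mul]
    exact h1
  ind g hg g' hg' h h' := by
    rw [inner_iff e hg] at h
    rw [inner_iff e hg'] at h'
    rw [inner_iff e (mul_mem hg hg')]
    obtain ⟨b, hb⟩ := Model.mInd h h'
    refine ⟨b, fun x => ?_⟩
    rw [← hb]
    have h1 : (⟨g * g', mul_mem hg hg'⟩ : normalizer (A : Set X)) = ⟨g, hg⟩ * ⟨g', hg'⟩ := rfl
    rw [h1, map_mul]
    rfl
  outB f hf h2 hout := by
    rw [inner_iff e hf] at hout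
    have hφ2 : psi e ⟨f, hf⟩ * psi e ⟨f, hf⟩ = 1 := by
      rw [← map_mul, ← map_one (psi e)]
      congr 1
      exact Subtype.ext h2
    obtain ⟨l', hinj, hfix, hw⟩ := Model.outB_model hφ2 hout
    set L : alternatingGroup (Fin 5) →* X := (io e).comp l' with hL
    have hLf : ∀ σ, f * L σ * f⁻¹ = L σ := by
      intro σ
      change f * io e (l' σ) * f⁻¹ = io e (l' σ)
      have h3 := psi_spec e ⟨f, hf⟩ (l' σ)
      rw [hfix] at h3
      exact h3.symm
    refine ⟨L.range, ?_, ?_, ?_, ?_, L sg0, ⟨sg0, rfl⟩, ?_, ?_, ?_⟩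
    · rintro _ ⟨σ, rfl⟩; exact io_mem e _
    · rw [MonoidHom.range_eq_map, ← Subgroup.map_commutator]
      congr 1
      exact commutator_alternatingGroup_eq_top (by simp)
    · rintro _ ⟨σ, rfl⟩
      have := hLf σ
      rw [mul_inv_eq_iff_eq_mul] at this
      exact this.symm
    · calc L.range = (⊤ : Subgroup (alternatingGroup (Fin 5))).map L := MonoidHom.range_eq_map L
        _ = (closure {x : alternatingGroup (Fin 5) | x * x = 1}).map L := by rw [alt_closure]
        _ = closure (L '' {x : alternatingGroup (Fin 5) | x * x = 1}) := MonoidHom.map_closure _ _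
        _ ≤ _ := by
            apply Subgroup.closure_mono
            rintro _ ⟨σ, hσ, rfl⟩
            exact ⟨⟨σ, rfl⟩, 1, by rw [pow_one, pow_two, ← map_mul, show σ * σ = 1 from hσ, map_one]⟩
    · rw [← map_mul, sg0_sq, map_one]
    · intro h
      have h3 : l' sg0 = 1 := io_inj e (by rw [map_one]; exact h)
      exact sg0_ne (hinj (h3.trans (map_one _).symm))
    · obtain ⟨c, hc⟩ := hw (l' sg0) (by rw [← map_mul, sg0_sq, map_one]) (hfix _)
      refine ⟨io e c, io_mem e c, ?_⟩
      -- both elements are in `f A` and act in the same way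
      have h3 : f⁻¹ * (io e c * f * (io e c)⁻¹) ∈ A := by
        have h4 : f⁻¹ * (io e c * f * (io e c)⁻¹) = (f⁻¹ * io e c * f) * (io e c)⁻¹ := by group
        rw [h4]
        exact mul_mem (conj_inv_mem_of_mem_normalizer hf (io_mem e c)) (inv_mem (io_mem e c))
      obtain ⟨k, hk⟩ := exists_io e h3
      have h4 : io e c * f * (io e c)⁻¹ = f * io e k := by rw [hk]; group
      rw [h4]
      congr 1
      change io e k = io e (l' sg0)
      congr 1
      have h5 : (l' sg0)⁻¹ * k = 1 := by
        apply Model.center_MU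
        intro x
        have h6 : psi e ⟨f, hf⟩ (k * x * k⁻¹) = psi e ⟨f, hf⟩ (l' sg0 * x * (l' sg0)⁻¹) := by
          rw [← hc]
          apply io_inj e
          rw [psi_spec, map_mul (io e), map_mul (io e), map_inv (io e), map_mul (io e), map_mul (io e),
            map_inv (io e), psi_spec]
          change f * (io e k * io e x * (io e k)⁻¹) * f⁻¹ = io e c * (f * io e (c⁻¹ * x * c) * f⁻¹) * (io e c)⁻¹
          calc f * (io e k * io e x * (io e k)⁻¹) * f⁻¹ = (f * io e k) * io e x * (f * io e k)⁻¹ := by group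
            _ = _ := by rw [← h4, map_mul, map_mul, map_inv]; group
        have h7 := (psi e ⟨f, hf⟩).injective h6
        calc (l' sg0)⁻¹ * k * x = (l' sg0)⁻¹ * (k * x * k⁻¹) * k := by group
          _ = _ := by rw [h7]; group
      exact (inv_mul_eq_one.1 h5).symm
  outC f hf h2 hout Y hY hYN hYf := by
    rw [inner_iff e hf] at hout
    have hφ2 : psi e ⟨f, hf⟩ * psi e ⟨f, hf⟩ = 1 := by
      rw [← map_mul, ← map_one (psi e)]
      congr 1
      exact Subtype.ext h2
    set Φ : Y →* MulAut MU := (psi e).comp (Subgroup.inclusion hYN) with hΦ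
    have h3 : Nat.card Φ.range ≤ 32 := by
      apply Model.outC_model hφ2 hout
      · have : IsPGroup 2 (⊤ : Subgroup Y) := hY.to_subgroup ⊤
        rw [MonoidHom.range_eq_map]
        exact this.map _
      · rintro _ ⟨y, rfl⟩
        change psi e _ * psi e _ = psi e _ * psi e _
        rw [← map_mul, ← map_mul]
        congr 1
        exact Subtype.ext (hYf y.1 y.2)
    have h4 : Nat.card Φ.ker = Nat.card ↥(Y ⊓ centralizer (A : Set X)) := by
      refine Nat.card_congr (Equiv.ofBijective (fun y => ⟨y.1.1, y.1.2, ?_⟩) ⟨?_, ?_⟩)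
      · exact (cent_iff_psi e (hYN y.1.2)).2 y.2
      · intro y y' h
        have := congrArg Subtype.val h
        exact Subtype.ext (Subtype.ext this)
      · rintro ⟨y, hy, hc⟩
        exact ⟨⟨⟨y, hy⟩, (cent_iff_psi e (hYN hy)).1 hc⟩, rfl⟩
    have h5 : Nat.card Y = Nat.card Φ.range * Nat.card Φ.ker := by
      rw [Subgroup.card_eq_card_quotient_mul_card_subgroup Φ.ker]
      congr 1
      exact Nat.card_congr (QuotientGroup.quotientKerEquivRange Φ).toEquiv
    rw [h5, h4]
    exact Nat.mul_le_mul_right _ h3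

end

/-- **P1.** -/
theorem p1 : P1.{u} := by
  intro X _ _ A F _ _ hF hA
  obtain ⟨e0⟩ := hA
  obtain ⟨e⟩ := Model.exists_equiv hF e0
  exact ⟨flA e, flagAut e⟩

end Cfsg.Agent.UFiveTwo
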