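import Cfsg.Agent.UFiveTwo.VMod
import Mathlib.GroupTheory.Perm.Sign

/-!
# Facts on `V`: kernel of `v`, irreducibility, fixed points.
-/

set_option autoImplicit false

namespace Cfsg.Agent.UFiveTwo

open Subgroup Equiv

universe u

/-- The product of two transpositions as an element of the alternating group. -/
def tw (a b c d : Fin 5) (h : a ≠ b ∧ c ≠ d) : alternatingGroup (Fin 5) :=
  ⟨swap a b * swap c d, by
    rw [Equiv.Perm.mem_alternatingGroup, map_mul, Equiv.Perm.sign_swap h.1, Equiv.Perm.sign_swap h.2]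
    rfl⟩

theorem tw_coe (a b c d : Fin 5) (h : a ≠ b ∧ c ≠ d) : ((tw a b c d h : alternatingGroup (Fin 5)) : Perm (Fin 5)) =
    swap a b * swap c d := rfl

set_option maxRecDepth 100000 in
theorem dec_diff : ∀ s : Fin 5 → ZMod 2, s ≠ 0 → s ≠ 1 → ∃ i j k l : Fin 5, (i ≠ j ∧ k ≠ l) ∧
    s + (fun x => s ((swap i j * swap k l).symm x)) = Pi.single i 1 + Pi.single j 1 := by decide +kernel

set_option maxRecDepth 100000 in
theorem dec_trans : ∀ i j k l : Fin 5, i ≠ j → k ≠ l → ∃ a b c d : Fin 5, (a ≠ b ∧ c ≠ d) ∧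
    (swap a b * swap c d) i = k ∧ (swap a b * swap c d) j = l := by decide +kernel

theorem exists_trans {i j k l : Fin 5} (h : i ≠ j) (h' : k ≠ l) : ∃ σ : alternatingGroup (Fin 5),
    (σ : Perm (Fin 5)) i = k ∧ (σ : Perm (Fin 5)) j = l := by
  obtain ⟨a, b, c, d, hne, h1, h2⟩ := dec_trans i j k l h h'
  exact ⟨tw a b c d hne, h1, h2⟩

theorem exists_trans_one (i k : Fin 5) : ∃ σ : alternatingGroup (Fin 5), (σ : Perm (Fin 5)) i = k := by
  have h1 : ∀ i : Fin 5, ∃ j, i ≠ j := by decide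
  obtain ⟨j, hj⟩ := h1 i
  obtain ⟨l, hl⟩ := h1 k
  obtain ⟨σ, h, -⟩ := exists_trans hj hl
  exact ⟨σ, h⟩

variable {X : Type u} [Group X] {A : Subgroup X}

namespace Flag

variable (F : Flag A)

theorem r_ne' (i : Fin 5) : F.r i ≠ 1 := by
  intro h
  obtain ⟨σ, hσ⟩ := exists_trans_one i 0
  apply F.r_ne
  rw [← hσ, ← F.l_r σ i, h, mul_one, mul_inv_cancel]

/-- Difference vectors: from `s` non-constant we get `r i * r j` in the span of the orbit of `v s`. -/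
theorem exists_rr {s : Fin 5 → ZMod 2} (h0 : s ≠ 0) (h1 : s ≠ 1) : ∃ i j : Fin 5, i ≠ j ∧
    ∃ σ : alternatingGroup (Fin 5), F.v s * (F.l σ * F.v s * (F.l σ)⁻¹) = F.r i * F.r j := by
  obtain ⟨i, j, k, l, hne, h⟩ := dec_diff s h0 h1
  refine ⟨i, j, hne.1, tw i j k l hne, ?_⟩
  rw [F.l_v, ← F.v_add, tw_coe, h, F.v_add, F.v_single, F.v_single]

theorem V_le_of {N : Subgroup X} (hN : ∀ σ, ∀ x ∈ N, F.l σ * x * (F.l σ)⁻¹ ∈ N) {i j : Fin 5} (hij : i ≠ j)
    (h : F.r i * F.r j ∈ N) : F.V ≤ N := by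
  have h2 : ∀ k l : Fin 5, k ≠ l → F.r k * F.r l ∈ N := by
    intro k l hkl
    obtain ⟨σ, h3, h4⟩ := exists_trans hij hkl
    have h5 := hN σ _ h
    have e : F.l σ * (F.r i * F.r j) * (F.l σ)⁻¹ = F.r k * F.r l := by
      rw [← h3, ← h4, ← F.l_r σ i, ← F.l_r σ j]
      group
    rwa [e] at h5
  have h0 : F.r 0 ∈ N := by
    have h6 := mul_mem (h2 1 2 (by decide)) (h2 3 4 (by decide))
    have e : F.r 0 = F.r 1 * F.r 2 * (F.r 3 * F.r 4) := by
      have h7 := F.r_prod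
      have h8 := F.r_sq 0
      calc F.r 0 = F.r 0 * (F.r 0 * F.r 1 * F.r 2 * F.r 3 * F.r 4) := by rw [h7, mul_one]
        _ = (F.r 0 * F.r 0) * F.r 1 * F.r 2 * F.r 3 * F.r 4 := by group
        _ = F.r 1 * F.r 2 * (F.r 3 * F.r 4) := by rw [h8]; group
    rwa [← e] at h6
  rw [V_def, closure_le]
  rintro _ ⟨i, rfl⟩
  by_cases hi : i = 0
  · rw [hi]
    exact h0
  · have h9 := mul_mem (h2 i 0 hi) (inv_mem h0)
    rwa [mul_inv_cancel_right] at h9

theorem v_eq_one {s : Fin 5 → ZMod 2} (h : F.v s = 1) : s = 0 ∨ s = 1 := by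
  by_contra hs
  rw [not_or] at hs
  obtain ⟨i, j, hij, σ, h1⟩ := F.exists_rr hs.1 hs.2
  rw [h, mul_one, mul_inv_cancel, mul_one] at h1
  have h2 : F.V ≤ ⊥ := F.V_le_of (N := ⊥) (fun σ x hx => by
    rw [mem_bot] at hx ⊢
    rw [hx, mul_one, mul_inv_cancel]) hij (by rw [mem_bot]; exact h1.symm)
  exact F.r_ne (mem_bot.mp (h2 (F.r_V 0)))

theorem v_eq_iff {s s' : Fin 5 → ZMod 2} : F.v s = F.v s' ↔ s + s' = 0 ∨ s + s' = 1 := by
  constructor
  · intro h
    apply F.v_eq_one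
    rw [F.v_add, h]
    exact F.V_sq (F.v_mem s')
  · intro h
    have h1 : F.v (s + s') = 1 := by
      rcases h with h | h
      · rw [h, F.v_zero]
      · rw [h, F.v_one]
    rw [F.v_add] at h1
    rw [eq_inv_of_mul_eq_one_left h1, F.V_inv (F.v_mem s')]

/-- Every nontrivial element of `V` is moved by the Levi factor. -/
theorem exists_moved {x : X} (hx : x ∈ F.V) (h1 : x ≠ 1) : ∃ σ : alternatingGroup (Fin 5),
    F.l σ * x * (F.l σ)⁻¹ ≠ x := by
  obtain ⟨s, rfl⟩ := F.exists_v hx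
  have h2 : s ≠ 0 := by
    rintro rfl
    exact h1 F.v_zero
  have h3 : s ≠ 1 := by
    rintro rfl
    exact h1 F.v_one
  obtain ⟨i, j, hij, σ, h4⟩ := F.exists_rr h2 h3
  refine ⟨σ, fun h5 => ?_⟩
  rw [h5, F.V_sq (F.v_mem s), ← F.v_single, ← F.v_single, ← F.v_add] at h4
  rcases F.v_eq_one h4.symm with h6 | h6
  · have h7 := congrFun h6 i
    rw [Pi.add_apply, Pi.single_eq_same, Pi.single_eq_of_ne hij, add_zero] at h7
    exact (by decide : ¬ ((1 : ZMod 2) = 0)) h7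
  · have h8 : ∀ i j : Fin 5, ∃ k, k ≠ i ∧ k ≠ j := by decide
    obtain ⟨k, hk, hk'⟩ := h8 i j
    have h7 := congrFun h6 k
    rw [Pi.add_apply, Pi.single_eq_of_ne hk, Pi.single_eq_of_ne hk'] at h7
    exact (by decide : ¬ ((0 : ZMod 2) + 0 = 1)) h7

/-- Irreducibility of `V` under the Levi factor. -/
theorem V_le_of_ne {N : Subgroup X} (hN : ∀ σ, ∀ x ∈ N, F.l σ * x * (F.l σ)⁻¹ ∈ N) {x : X} (hx : x ∈ N)
    (hxV : x ∈ F.V) (h1 : x ≠ 1) : F.V ≤ N := by
  obtain ⟨s, rfl⟩ := F.exists_v hxV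
  have h2 : s ≠ 0 := by
    rintro rfl
    exact h1 F.v_zero
  have h3 : s ≠ 1 := by
    rintro rfl
    exact h1 F.v_one
  obtain ⟨i, j, hij, σ, h4⟩ := F.exists_rr h2 h3
  exact F.V_le_of hN hij (by rw [← h4]; exact mul_mem hx (hN σ _ hx))

theorem r_inj {i j : Fin 5} (h : F.r i = F.r j) : i = j := by
  by_contra hij
  rw [← F.v_single, ← F.v_single, F.v_eq_iff] at h
  revert h
  revert i j
  set_option maxRecDepth 10000 in decide

theorem rr_ne_one {i j : Fin 5} (hij : i ≠ j) : F.r i * F.r j ≠ 1 := by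
  intro h
  exact hij (F.r_inj (by rw [eq_inv_of_mul_eq_one_left h, F.V_inv (F.r_V j)]))

end Flag

end Cfsg.Agent.UFiveTwo
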