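import Cfsg.Agent.UFiveTwo.FieldEnd

/-!
# S1778, type `U₅(2)`, the end of the field case (IX): `S₀ ≤ L`
-/

set_option autoImplicit false
set_option linter.unusedSectionVars false

namespace Cfsg.Agent.UFiveTwo.Field

open Subgroup Cfsg.Agent.StdEven.Syl Cfsg.Agent.StdEven.CoreQuot Cfsg.Agent.StdEven.EndLift
open Cfsg.Agent.StdL2.Setup Cfsg.Agent.StdEven.Loc
open Cfsg.Agent.UFiveTwo.Line Cfsg.Agent.UFiveTwo.Big

universe u

section

variable {X : Type u} [Group X] {A : Subgroup X} {t : X}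
variable {E : Env A t} {w : X → X} {Qh Γ A1 : Subgroup X}

theorem WW_mem (H : C0 E w) {M : Subgroup X} [hM : M.Normal] (hA : A ≤ M) (i j : Fin 5) :
    w (E.r i) * w (E.r j) ∈ M := by
  have h0 : ∀ i, w (E.r 0) * w (E.r i) ∈ M := by
    intro i
    obtain ⟨σ, -, hσ⟩ := H.form i
    have h1 : w (E.r i) = E.l σ * w (E.r 0) * (E.l σ)⁻¹ := by
      rw [H.W_conj 0 (E.l_mem σ), hσ]
    have h2 : w (E.r 0) * w (E.r i) = (w (E.r 0) * E.l σ * (w (E.r 0))⁻¹) * (E.l σ)⁻¹ := by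
      rw [H.W_inv 0, h1]; group
    rw [h2]
    exact mul_mem (hM.conj_mem _ (hA (E.l_mem σ)) _) (inv_mem (hA (E.l_mem σ)))
  have h1 : w (E.r i) * w (E.r j) = (w (E.r 0) * w (E.r i))⁻¹ * (w (E.r 0) * w (E.r j)) := by
    rw [mul_inv_rev, H.W_inv 0, H.W_inv i]
    calc w (E.r i) * w (E.r j) = w (E.r i) * 1 * w (E.r j) := by group
      _ = _ := by rw [← H.W_sq 0]; group
  rw [h1]
  exact mul_mem (inv_mem (h0 i)) (h0 j)

theorem W_mem (H : C0 E w) {M : Subgroup X} [hM : M.Normal] (hA : A ≤ M) (i : Fin 5) : w (E.r i) ∈ M := by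
  have h0 : w (E.r 0) ∈ M := by
    have h1 := H.zero.prod
    have h2 : w (E.r 0) = ((w (E.r 1) * w (E.r 2)) * (w (E.r 3) * w (E.r 4)))⁻¹ := by
      rw [eq_inv_iff_mul_eq_one, ← h1]; group
    rw [h2]
    exact inv_mem (mul_mem (WW_mem H hA 1 2) (WW_mem H hA 3 4))
  have h1 := mul_mem (inv_mem h0) (WW_mem H hA 0 i)
  rwa [inv_mul_cancel_left] at h1

/-- `S₀` lies in every normal subgroup containing `A` -/
theorem S0_le (H : One E w Qh Γ A1) {M : Subgroup X} [hM : M.Normal] (hA : A ≤ M) : H.S0 ≤ M := by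
  have ti : t⁻¹ = t := inv_eq_of_mul_eq_one_left E.t_sq
  have hVs : Big.Vs E w ≤ M := by
    refine (closure_le _).mpr ?_
    rintro _ (⟨i, rfl⟩ | ⟨i, rfl⟩)
    · exact hA (E.r_mem i)
    · exact W_mem H.toC0 hA i
  have hΓ : Γ ≤ M := by
    rw [← Γ_closure H.toCtx, closure_le]
    rintro x (⟨a, ha, -, i, j, -, -, rfl⟩ | hx)
    · exact hM.conj_mem _ (WW_mem H.toC0 hA i j) a
    · exact hVs (Zh_le_Vs hx)
  have hQh : Qh ≤ M := by
    intro g hg
    obtain ⟨q, hq, c, hc, rfl⟩ := H.q.gen g hg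
    exact mul_mem (hA (E.Q_le hq)) (hΓ hc)
  have hB : B1 H ≤ M := by
    rintro n ⟨σ, a, ha, -, s, hs, rfl⟩
    exact mul_mem (hM.conj_mem _ (hQh (H.A1_le ha)) _) (hVs hs)
  rintro x ⟨n, hn, g, hg, rfl⟩
  refine mul_mem ?_ (hQh hg)
  obtain ⟨b, hb, b', hb', rfl⟩ := H.Us_form hn
  refine mul_mem (hB hb) ?_
  have := hM.conj_mem _ (hB hb') t
  rwa [ti] at this

end

variable {G : Type u} [Group G] [Finite G] {L A T : Subgroup G} {t : G}

/-- **The end of the field case in `G`.** -/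
theorem end_G' (C : Conf L A t) (h : Hyp A t T) {E : Env (im A t A) h.tX} (FA : FlagAut (im A t A) E.toFlag)
    (FO : FlagOut (im A t A) E.toFlag) (hsyl : im A t (T ⊓ A) = E.U ⊔ E.Q)
    {w : XQ A t → XQ A t} {Qh Γ A1 : Subgroup (XQ A t)} (H : One E w Qh Γ A1) :
    ∃ S : Subgroup G, IsSyl S L ∧ t ∉ L ∧ S ≤ NO A t ∧ im A t S = H.S0 ∧ Nonempty (S ≃* H.S0) := by
  have hn : (im A t L).Normal := by
    have hLn := C.normal
    refine ⟨fun x hx g => ?_⟩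
    obtain ⟨n, hn, rfl⟩ := mem_im.mp hx
    obtain ⟨g, rfl⟩ := pr_surjective A t g
    rw [← map_inv, ← map_mul, ← map_mul]
    exact pr_mem_im (hLn.conj_mem _ hn g)
  exact end_G C h FA FO hsyl H (S0_le H (im_mono C.le))

end Cfsg.Agent.UFiveTwo.Field
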