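import Cfsg.Agent.UFiveTwo.BigCard

/-!
# S1778, type `U₅(2)`, section 7 (IX): `|S₀| = 2²⁰`, `C_{S₀}(V*) = U*`
-/

set_option autoImplicit false

namespace Cfsg.Agent.UFiveTwo.Big

open Subgroup Cfsg.Agent.UFiveTwo.Line

universe u

variable {X : Type u} [Group X] {A : Subgroup X} {t : X} {E : Env A t} {w : X → X} {Qh Γ : Subgroup X}

namespace Ctx

/-- The group `U* Q`. -/
def UQ (H : Ctx E w Qh Γ) : Subgroup X where
  carrier := {x | ∃ n ∈ Us H.toC0, ∃ q ∈ E.Q, x = n * q}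
  one_mem' := ⟨1, one_mem _, 1, one_mem _, (mul_one 1).symm⟩
  mul_mem' := by
    rintro _ _ ⟨n, hn, g, hg, rfl⟩ ⟨n', hn', g', hg', rfl⟩
    refine ⟨n * (g * n' * g⁻¹), mul_mem hn (H.Q_Us hg hn'), g * g', mul_mem hg hg', by group⟩
  inv_mem' := by
    rintro _ ⟨n, hn, g, hg, rfl⟩
    refine ⟨g⁻¹ * n⁻¹ * g, ?_, g⁻¹, inv_mem hg, by group⟩
    have := H.Q_Us (inv_mem hg) (inv_mem hn)
    rwa [inv_inv] at this

variable (H : Ctx E w Qh Γ)

include H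

theorem mem_UQ {x : X} : x ∈ H.UQ ↔ ∃ n ∈ Us H.toC0, ∃ q ∈ E.Q, x = n * q := Iff.rfl

theorem Us_le_UQ : Us H.toC0 ≤ H.UQ := fun n hn => ⟨n, hn, 1, one_mem _, (mul_one n).symm⟩

theorem UQ_le_S0 : H.UQ ≤ H.S0 := by
  rintro _ ⟨n, hn, q, hq, rfl⟩
  exact mul_mem (H.Us_le_S0 hn) (H.Q_le_S0 hq)

/-- `|U* Q| = 2¹⁸` -/
theorem card_UQ : Nat.card H.UQ = 2 ^ 18 := by
  have h := card_rel (L := H.UQ) (K := Us H.toC0) (M := E.Q) (N := E.U ⊓ E.Q) H.Us_le_UQ inf_le_right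
    (fun m hm n hn => mem_inf.mpr ⟨Q_U E hm hn.1, mul_mem (mul_mem hm hn.2) (inv_mem hm)⟩)
    (fun x q => ∃ n ∈ Us H.toC0, x = n * q)
    (by rintro _ ⟨n, hn, q, hq, rfl⟩; exact ⟨q, hq, n, hn, rfl⟩)
    (fun q hq => ⟨q, ⟨1, one_mem _, q, hq, (one_mul q).symm⟩, 1, one_mem _, (one_mul q).symm⟩)
    (by
      rintro _ - _ - u hu u' hu' ⟨s, hs, rfl⟩ ⟨s', hs', rfl⟩
      refine ⟨s * (u * s' * u⁻¹), mul_mem hs (H.Q_Us hu hs'), ?_⟩
      group)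
    (by
      rintro _ - u hu u' hu' ⟨s, hs, rfl⟩ ⟨s', hs', h'⟩
      have h1 : u⁻¹ * u' ∈ E.Q := mul_mem (inv_mem hu) hu'
      refine ⟨H.Q_Us_U h1 ?_, h1⟩
      have : u⁻¹ * u' = u⁻¹ * (s⁻¹ * s')⁻¹ * u := by
        have e : u' = s'⁻¹ * (s * u) := by rw [h']; group
        rw [e]; group
      rw [this]; exact H.q_Us hu (inv_mem (mul_mem (inv_mem hs) hs')))
    (by
      rintro _ - u hu ⟨s, hs, rfl⟩
      constructor
      · intro h1
        refine ⟨H.Q_Us_U hu ?_, hu⟩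
        have := mul_mem (inv_mem hs) h1
        rwa [inv_mul_cancel_left] at this
      · intro h1
        exact mul_mem hs (H.U_le_Us h1.1))
  rw [E.card_UQ, H.card_Us, E.card_Q] at h
  omega

/-- `[S₀, Q] ≤ U*` -/
theorem comm_S0_Q {x m : X} (hx : x ∈ H.S0) (hm : m ∈ E.Q) : m⁻¹ * (x * m * x⁻¹) ∈ Us H.toC0 := by
  obtain ⟨n, hn, q, hq, c, hc, m', hm', hov, rfl⟩ := H.S0_form hx
  obtain ⟨ζ, hζ, h1⟩ := H.Γ_Q hc hm
  have hζU := H.Zh_le_Us hζ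
  have h2 : q * m * q⁻¹ * m⁻¹ ∈ Us H.toC0 := by
    rcases E.Q_comm q hq m hm with h | h
    · rw [h]; exact one_mem _
    · rw [h]; exact H.Zh_le_Us r_Zh
  have e : m⁻¹ * (n * q * c * m * (n * q * c)⁻¹) =
      (m⁻¹ * (n * (q * m * q⁻¹ * m⁻¹)) * m) * (q * ζ * q⁻¹) * n⁻¹ := by
    calc m⁻¹ * (n * q * c * m * (n * q * c)⁻¹) = m⁻¹ * (n * q * (c * m * c⁻¹) * q⁻¹ * n⁻¹) := by group
      _ = _ := by rw [h1]; group
  rw [e]
  exact mul_mem (mul_mem (H.q_Us hm (mul_mem hn h2)) (H.Q_Us hq hζU)) (inv_mem hn)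

theorem tot_S0 {n q c m : X} (hn : n ∈ Us H.toC0) (hq : q ∈ E.Q) (hm : m ∈ E.Q) (hov : Ov E w c m) :
    m⁻¹ * (t * (n * q * c) * t * (n * q * c)⁻¹) ∈ Us H.toC0 := by
  obtain ⟨ζ, hζ, hct⟩ := H.t_c_t hov
  have hqt : t * q = q * t := E.t_A q (E.Q_le hq)
  have hn1 := H.t_Us hn
  have h2 : q * m * q⁻¹ * m⁻¹ ∈ Us H.toC0 := by
    rcases E.Q_comm q hq m hm with h | h
    · rw [h]; exact one_mem _
    · rw [h]; exact H.Zh_le_Us r_Zh
  have e1 : t * (n * q * c) * t = (t * n * t) * (q * (m * ζ * c)) := by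
    calc t * (n * q * c) * t = t * n * (1 * q) * c * t := by group
      _ = t * n * ((t * t) * q) * c * t := by rw [E.t_sq]
      _ = (t * n * t) * (t * q) * c * t := by group
      _ = (t * n * t) * q * (t * c * t) := by rw [hqt]; group
      _ = _ := by rw [hct]; group
  have e : m⁻¹ * (t * (n * q * c) * t * (n * q * c)⁻¹) =
      (m⁻¹ * ((t * n * t) * (q * m * q⁻¹ * m⁻¹)) * m) * (q * ζ * q⁻¹) * n⁻¹ := by
    rw [e1]; group
  rw [e]
  exact mul_mem (mul_mem (H.q_Us hm (mul_mem hn1 h2)) (H.Q_Us hq (H.Zh_le_Us hζ))) (inv_mem hn)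

/-- `|S₀| = 2²⁰` -/
theorem card_S0 : Nat.card H.S0 = 2 ^ 20 := by
  have h := card_rel (L := H.S0) (K := H.UQ) (M := E.Q) (N := E.U ⊓ E.Q) H.UQ_le_S0 inf_le_right
    (fun m hm n hn => mem_inf.mpr ⟨Q_U E hm hn.1, mul_mem (mul_mem hm hn.2) (inv_mem hm)⟩)
    (fun x m => m⁻¹ * (t * x * t * x⁻¹) ∈ Us H.toC0)
    (by
      intro x hx
      obtain ⟨n, hn, q, hq, c, hc, m, hm, hov, rfl⟩ := H.S0_form hx
      exact ⟨m, hm, H.tot_S0 hn hq hm hov⟩)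
    (by
      intro m hm
      obtain ⟨c, hc, hov⟩ := H.exists_ov' hm
      refine ⟨c, H.Γ_le_S0 hc, ?_⟩
      have := H.tot_S0 (one_mem _) (one_mem _) hm hov
      rwa [one_mul, one_mul] at this)
    (by
      intro x hx y hy m hm m' hm' h h'
      have h1 := H.comm_S0_Q hx hm'
      -- `t x y t (x y)⁻¹ = (t x t x⁻¹) (x (t y t y⁻¹) x⁻¹)`
      have e : (m * m')⁻¹ * (t * (x * y) * t * (x * y)⁻¹) =
          (m'⁻¹ * (m⁻¹ * (t * x * t * x⁻¹)) * m') * (m'⁻¹ * (x * m' * x⁻¹)) *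
          (x * (m'⁻¹ * (t * y * t * y⁻¹)) * x⁻¹) := by
        calc (m * m')⁻¹ * (t * (x * y) * t * (x * y)⁻¹) = (m * m')⁻¹ * (t * x * 1 * y * t * (x * y)⁻¹) := by group
          _ = (m * m')⁻¹ * (t * x * (t * t) * y * t * (x * y)⁻¹) := by rw [E.t_sq]
          _ = _ := by group
      change (m * m')⁻¹ * (t * (x * y) * t * (x * y)⁻¹) ∈ Us H.toC0
      rw [e]
      exact mul_mem (mul_mem (H.q_Us hm' h) h1) (H.S0_Us hx h'))
    (by
      intro x _ m hm m' hm' h h'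
      have h1 : m⁻¹ * m' ∈ E.Q := mul_mem (inv_mem hm) hm'
      refine ⟨H.Q_Us_U h1 ?_, h1⟩
      have := mul_mem h (inv_mem h')
      have e : m⁻¹ * (t * x * t * x⁻¹) * (m'⁻¹ * (t * x * t * x⁻¹))⁻¹ = m⁻¹ * m' := by group
      rwa [e] at this)
    (by
      intro x hx m hm h
      constructor
      · rintro ⟨n, hn, q, hq, rfl⟩
        refine ⟨H.Q_Us_U hm ?_, hm⟩
        have h1 := H.tot_S0 (c := 1) (m := 1) hn hq (one_mem _) ⟨1, one_mem _, by group⟩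
        rw [inv_one, one_mul, mul_one] at h1
        have := mul_mem h1 (inv_mem h)
        have e : t * (n * q) * t * (n * q)⁻¹ * (m⁻¹ * (t * (n * q) * t * (n * q)⁻¹))⁻¹ = m := by group
        rwa [e] at this
      · intro hmU
        obtain ⟨n, hn, q, hq, c, hc, m', hm', hov, rfl⟩ := H.S0_form hx
        have h1 := H.tot_S0 hn hq hm' hov
        have h2 := mul_mem h (inv_mem h1)
        have e : m⁻¹ * (t * (n * q * c) * t * (n * q * c)⁻¹) * (m'⁻¹ * (t * (n * q * c) * t * (n * q * c)⁻¹))⁻¹ =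
          m⁻¹ * m' := by group
        rw [e] at h2
        have h3 := mul_mem (H.U_le_Us hmU.1) h2
        rw [mul_inv_cancel_left] at h3
        have hcU := H.Y_Us hc hm' (H.Q_Us_U hm' h3) hov
        exact ⟨n * (q * c * q⁻¹), mul_mem hn (H.Q_Us hq hcU), q, hq, by group⟩)
  rw [E.card_UQ, H.card_UQ, E.card_Q] at h
  omega

theorem finite_S0 : Finite H.S0 := Nat.finite_of_card_ne_zero (by rw [H.card_S0]; norm_num)

end Ctx

end Cfsg.Agent.UFiveTwo.Big
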