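import Cfsg.Agent.UFiveTwo.OneR
import Cfsg.Agent.UFiveTwo.BigCardS
import Cfsg.Agent.UTRec.Main

/-!
# S1778, type `U₅(2)`, section 9 (`eps = 1`), (IX): `S₀` is the unitriangular group `UT₅(4)`
-/

set_option autoImplicit false

open scoped commutatorElement

namespace Cfsg.Agent.UFiveTwo.Big

open Subgroup Cfsg.Agent.UFiveTwo.Line Cfsg.Agent.UTRec

universe u

variable {X : Type u} [Group X] {A : Subgroup X} {t : X} {E : Env A t} {w : X → X} {Qh Γ A1 : Subgroup X}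

/-- the ten root groups -/
def XX (H : One E w Qh Γ A1) : ℕ → ℕ → Subgroup X
  | 0, 1 => H.X12
  | 0, 2 => H.X13
  | 0, 3 => H.X14
  | 0, 4 => Zh E w
  | 1, 2 => H.X23
  | 1, 3 => H.X24
  | 1, 4 => H.X25
  | 2, 3 => H.X34
  | 2, 4 => H.X35
  | 3, 4 => H.X45
  | _, _ => ⊥

namespace One

variable (H : One E w Qh Γ A1)

include H

theorem tcomm {x y : X} (h : (t * x * t) * (t * y * t) = (t * y * t) * (t * x * t)) : x * y = y * x := by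
  have h1 : ∀ a b : X, t * ((t * a * t) * (t * b * t)) * t = a * b := by
    intro a b
    calc t * ((t * a * t) * (t * b * t)) * t = (t * t) * a * (t * t) * b * (t * t) := by group
      _ = a * b := by rw [E.t_sq]; group
  rw [← h1 x y, h, h1]

theorem tmem {M : Subgroup X} {x y : X} (h : ⁅t * y * t, t * x * t⁆ ∈ M) : ⁅x, y⁆ ∈ cj t M := by
  rw [mem_cjt E]
  rw [cm_t E, cm_inv x y] at h
  have := inv_mem h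
  have e : (t * ⁅x, y⁆⁻¹ * t)⁻¹ = t⁻¹ * ⁅x, y⁆ * t⁻¹ := by
    rw [mul_inv_rev, mul_inv_rev, inv_inv, mul_assoc]
  rwa [e, t_inv E] at this

theorem tnd {x y : X} (h : ⁅x, y⁆ = 1) : ⁅t * y * t, t * x * t⁆ = 1 := by
  rw [cm_t E, cm_inv x y, h, inv_one, mul_one, E.t_sq]

theorem t_one {x : X} (h : t * x * t = 1) : x = 1 := by
  rw [← H.tt_conj x, h, mul_one, E.t_sq]

theorem tX12 {x : X} (hx : x ∈ H.X12) : t * x * t ∈ H.X45 := by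
  refine (mem_cjt E).mpr ?_
  rw [H.tt_conj]; exact hx

theorem tX13 {x : X} (hx : x ∈ H.X13) : t * x * t ∈ H.X35 := by
  refine (mem_cjt E).mpr ?_
  rw [H.tt_conj]; exact hx

theorem tX14 {x : X} (hx : x ∈ H.X14) : t * x * t ∈ H.X25 := by
  refine (mem_cjt E).mpr ?_
  rw [H.tt_conj]; exact hx

theorem tX23 {x : X} (hx : x ∈ H.X23) : t * x * t ∈ H.X34 := by
  refine (mem_cjt E).mpr ?_
  rw [H.tt_conj]; exact hx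

theorem tX24 {x : X} (hx : x ∈ H.X24) : t * x * t ∈ H.X24 := by
  obtain ⟨ζ, hζ, rfl⟩ := mem_cj.mp hx
  refine mem_cj.mpr ⟨t * ζ * t, H.t_Zh hζ, ?_⟩
  have c : t * E.l rh = E.l rh * t := E.t_A _ (E.l_mem _)
  have c' : t * (E.l rh)⁻¹ = (E.l rh)⁻¹ * t := E.t_A _ (inv_mem (E.l_mem _))
  calc t * (E.l rh * ζ * (E.l rh)⁻¹) * t = (t * E.l rh) * ζ * ((E.l rh)⁻¹ * t) := by group
    _ = _ := by rw [c, ← c']; group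

theorem m12 {x : X} (hx : x ∈ H.X12) : x ∈ A1 := (H.X12_facts hx).1
theorem m13 {x : X} (hx : x ∈ H.X13) : x ∈ A1 := hx.1.1
theorem m14 {x : X} (hx : x ∈ H.X14) : x ∈ A1 := hx.1.1
theorem m15 {x : X} (hx : x ∈ Zh E w) : x ∈ A1 := H.Zh_A1 hx
theorem m45 {x : X} (hx : x ∈ H.X45) : t * x * t ∈ A1 := H.m12 ((mem_cjt E).mp hx)
theorem m35 {x : X} (hx : x ∈ H.X35) : t * x * t ∈ A1 := H.m13 ((mem_cjt E).mp hx)
theorem m25 {x : X} (hx : x ∈ H.X25) : t * x * t ∈ A1 := H.m14 ((mem_cjt E).mp hx)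
theorem m15' {x : X} (hx : x ∈ Zh E w) : t * x * t ∈ A1 := H.m15 (H.t_Zh hx)

theorem v14 {x : X} (hx : x ∈ H.X14) : x ∈ Vs E w := hx.1.2
theorem v15 {x : X} (hx : x ∈ Zh E w) : x ∈ Vs E w := Zh_le_Vs hx
theorem v24 {x : X} (hx : x ∈ H.X24) : x ∈ Vs E w := (H.X24_facts hx).1
theorem v25 {x : X} (hx : x ∈ H.X25) : x ∈ Vs E w := by
  obtain ⟨v, hv, h, -⟩ := H.toC0.t_Vs (H.v14 ((mem_cjt E).mp hx))
  rw [H.tt_conj] at h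
  rw [h]
  exact mul_mem (H.v14 ((mem_cjt E).mp hx)) (V_le_Vs hv)

theorem u13 {x : X} (hx : x ∈ H.X13) : x ∈ Us H.toC0 := hx.1.2
theorem u14 {x : X} (hx : x ∈ H.X14) : x ∈ Us H.toC0 := H.Vs_le_Us (H.v14 hx)
theorem u15 {x : X} (hx : x ∈ Zh E w) : x ∈ Us H.toC0 := H.Vs_le_Us (H.v15 hx)
theorem u24 {x : X} (hx : x ∈ H.X24) : x ∈ Us H.toC0 := H.Vs_le_Us (H.v24 hx)
theorem u25 {x : X} (hx : x ∈ H.X25) : x ∈ Us H.toC0 := H.Vs_le_Us (H.v25 hx)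
theorem b23 {x : X} (hx : x ∈ H.X23) : x ∈ B1 H := (H.X23_facts hx).1
theorem b13 {x : X} (hx : x ∈ H.X13) : x ∈ B1 H := H.X13_B1 hx
theorem u23 {x : X} (hx : x ∈ H.X23) : x ∈ Us H.toC0 := H.B1_le_Us (H.b23 hx)
theorem tU {x : X} (hx : t * x * t ∈ Us H.toC0) : x ∈ Us H.toC0 := by
  have := H.t_Us hx
  rwa [H.tt_conj] at this
theorem u34 {x : X} (hx : x ∈ H.X34) : x ∈ Us H.toC0 := H.tU (H.u23 ((mem_cjt E).mp hx))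
theorem u35 {x : X} (hx : x ∈ H.X35) : x ∈ Us H.toC0 := H.tU (H.u13 ((mem_cjt E).mp hx))

/-- commutation inside `A₁` -/
theorem cA {x y : X} (hx : x ∈ A1) (hy : y ∈ A1) : x * y = y * x := H.comm x hx y hy
/-- commutation inside `A₁ᵗ` -/
theorem cT {x y : X} (hx : t * x * t ∈ A1) (hy : t * y * t ∈ A1) : x * y = y * x := H.tcomm (H.cA hx hy)
/-- `V*` is central in `U*` -/
theorem cV {x y : X} (hx : x ∈ Vs E w) (hy : y ∈ Us H.toC0) : x * y = y * x := (hy.1.cent x hx).symm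
theorem cV' {x y : X} (hx : x ∈ Us H.toC0) (hy : y ∈ Vs E w) : x * y = y * x := hx.1.cent y hy

theorem q12 {x : X} (hx : x ∈ H.X12) : x ∈ Qh := H.A1_le (H.m12 hx)
theorem tQ {x : X} (hx : t * x * t ∈ Qh) : x ∈ Qh := by
  have := H.t_Qh hx
  rwa [H.tt_conj] at this
theorem q45 {x : X} (hx : x ∈ H.X45) : x ∈ Qh := H.tQ (H.A1_le (H.m45 hx))
theorem q35 {x : X} (hx : x ∈ H.X35) : x ∈ Qh := H.X35_Qh hx
theorem q25 {x : X} (hx : x ∈ H.X25) : x ∈ Qh := H.tQ (H.A1_le (H.m25 hx))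

theorem d12_12 {x y : X} (hx : x ∈ H.X12) (hy : y ∈ H.X12) : x * y = y * x :=
  H.cA (H.m12 hx) (H.m12 hy)

theorem d12_13 {x y : X} (hx : x ∈ H.X12) (hy : y ∈ H.X13) : x * y = y * x :=
  H.cA (H.m12 hx) (H.m13 hy)

theorem d12_14 {x y : X} (hx : x ∈ H.X12) (hy : y ∈ H.X14) : x * y = y * x :=
  H.cA (H.m12 hx) (H.m14 hy)

theorem d12_15 {x y : X} (hx : x ∈ H.X12) (hy : y ∈ Zh E w) : x * y = y * x :=
  H.cA (H.m12 hx) (H.m15 hy)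

theorem d12_34 {x y : X} (hx : x ∈ H.X12) (hy : y ∈ H.X34) : x * y = y * x :=
  H.C1 hx hy

theorem d12_35 {x y : X} (hx : x ∈ H.X12) (hy : y ∈ H.X35) : x * y = y * x :=
  H.C2 hx hy

theorem d12_45 {x y : X} (hx : x ∈ H.X12) (hy : y ∈ H.X45) : x * y = y * x :=
  H.C3 hx hy

theorem d13_12 {x y : X} (hx : x ∈ H.X13) (hy : y ∈ H.X12) : x * y = y * x :=
  H.cA (H.m13 hx) (H.m12 hy)

theorem d13_13 {x y : X} (hx : x ∈ H.X13) (hy : y ∈ H.X13) : x * y = y * x :=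
  H.cA (H.m13 hx) (H.m13 hy)

theorem d13_14 {x y : X} (hx : x ∈ H.X13) (hy : y ∈ H.X14) : x * y = y * x :=
  H.cA (H.m13 hx) (H.m14 hy)

theorem d13_15 {x y : X} (hx : x ∈ H.X13) (hy : y ∈ Zh E w) : x * y = y * x :=
  H.cA (H.m13 hx) (H.m15 hy)

theorem d13_23 {x y : X} (hx : x ∈ H.X13) (hy : y ∈ H.X23) : x * y = y * x :=
  H.B1_comm (H.b13 hx) (H.b23 hy)

theorem d13_24 {x y : X} (hx : x ∈ H.X13) (hy : y ∈ H.X24) : x * y = y * x :=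
  H.cV' (H.u13 hx) (H.v24 hy)

theorem d13_25 {x y : X} (hx : x ∈ H.X13) (hy : y ∈ H.X25) : x * y = y * x :=
  H.cV' (H.u13 hx) (H.v25 hy)

theorem d13_45 {x y : X} (hx : x ∈ H.X13) (hy : y ∈ H.X45) : x * y = y * x :=
  H.tcomm (H.C2 ((mem_cjt E).mp hy) (H.tX13 hx)).symm

theorem d14_12 {x y : X} (hx : x ∈ H.X14) (hy : y ∈ H.X12) : x * y = y * x :=
  H.cA (H.m14 hx) (H.m12 hy)

theorem d14_13 {x y : X} (hx : x ∈ H.X14) (hy : y ∈ H.X13) : x * y = y * x :=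
  H.cA (H.m14 hx) (H.m13 hy)

theorem d14_14 {x y : X} (hx : x ∈ H.X14) (hy : y ∈ H.X14) : x * y = y * x :=
  H.cA (H.m14 hx) (H.m14 hy)

theorem d14_15 {x y : X} (hx : x ∈ H.X14) (hy : y ∈ Zh E w) : x * y = y * x :=
  H.cA (H.m14 hx) (H.m15 hy)

theorem d14_23 {x y : X} (hx : x ∈ H.X14) (hy : y ∈ H.X23) : x * y = y * x :=
  H.cV (H.v14 hx) (H.u23 hy)

theorem d14_24 {x y : X} (hx : x ∈ H.X14) (hy : y ∈ H.X24) : x * y = y * x :=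
  H.cV (H.v14 hx) (H.u24 hy)

theorem d14_25 {x y : X} (hx : x ∈ H.X14) (hy : y ∈ H.X25) : x * y = y * x :=
  H.cV (H.v14 hx) (H.u25 hy)

theorem d14_34 {x y : X} (hx : x ∈ H.X14) (hy : y ∈ H.X34) : x * y = y * x :=
  H.cV (H.v14 hx) (H.u34 hy)

theorem d14_35 {x y : X} (hx : x ∈ H.X14) (hy : y ∈ H.X35) : x * y = y * x :=
  H.cV (H.v14 hx) (H.u35 hy)

theorem d15_12 {x y : X} (hx : x ∈ Zh E w) (hy : y ∈ H.X12) : x * y = y * x :=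
  H.cA (H.m15 hx) (H.m12 hy)

theorem d15_13 {x y : X} (hx : x ∈ Zh E w) (hy : y ∈ H.X13) : x * y = y * x :=
  H.cA (H.m15 hx) (H.m13 hy)

theorem d15_14 {x y : X} (hx : x ∈ Zh E w) (hy : y ∈ H.X14) : x * y = y * x :=
  H.cA (H.m15 hx) (H.m14 hy)

theorem d15_15 {x y : X} (hx : x ∈ Zh E w) (hy : y ∈ Zh E w) : x * y = y * x :=
  H.cA (H.m15 hx) (H.m15 hy)

theorem d15_23 {x y : X} (hx : x ∈ Zh E w) (hy : y ∈ H.X23) : x * y = y * x :=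
  H.cV (H.v15 hx) (H.u23 hy)

theorem d15_24 {x y : X} (hx : x ∈ Zh E w) (hy : y ∈ H.X24) : x * y = y * x :=
  H.cV (H.v15 hx) (H.u24 hy)

theorem d15_25 {x y : X} (hx : x ∈ Zh E w) (hy : y ∈ H.X25) : x * y = y * x :=
  H.cT (H.m15' hx) (H.m25 hy)

theorem d15_34 {x y : X} (hx : x ∈ Zh E w) (hy : y ∈ H.X34) : x * y = y * x :=
  H.cV (H.v15 hx) (H.u34 hy)

theorem d15_35 {x y : X} (hx : x ∈ Zh E w) (hy : y ∈ H.X35) : x * y = y * x :=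
  H.cT (H.m15' hx) (H.m35 hy)

theorem d15_45 {x y : X} (hx : x ∈ Zh E w) (hy : y ∈ H.X45) : x * y = y * x :=
  H.cT (H.m15' hx) (H.m45 hy)

theorem d23_13 {x y : X} (hx : x ∈ H.X23) (hy : y ∈ H.X13) : x * y = y * x :=
  H.B1_comm (H.b23 hx) (H.b13 hy)

theorem d23_14 {x y : X} (hx : x ∈ H.X23) (hy : y ∈ H.X14) : x * y = y * x :=
  H.cV' (H.u23 hx) (H.v14 hy)

theorem d23_15 {x y : X} (hx : x ∈ H.X23) (hy : y ∈ Zh E w) : x * y = y * x :=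
  H.cV' (H.u23 hx) (H.v15 hy)

theorem d23_23 {x y : X} (hx : x ∈ H.X23) (hy : y ∈ H.X23) : x * y = y * x :=
  H.B1_comm (H.b23 hx) (H.b23 hy)

theorem d23_24 {x y : X} (hx : x ∈ H.X23) (hy : y ∈ H.X24) : x * y = y * x :=
  H.cV' (H.u23 hx) (H.v24 hy)

theorem d23_25 {x y : X} (hx : x ∈ H.X23) (hy : y ∈ H.X25) : x * y = y * x :=
  H.cV' (H.u23 hx) (H.v25 hy)

theorem d23_45 {x y : X} (hx : x ∈ H.X23) (hy : y ∈ H.X45) : x * y = y * x :=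
  H.tcomm (H.C1 ((mem_cjt E).mp hy) (H.tX23 hx)).symm

theorem d24_13 {x y : X} (hx : x ∈ H.X24) (hy : y ∈ H.X13) : x * y = y * x :=
  H.cV (H.v24 hx) (H.u13 hy)

theorem d24_14 {x y : X} (hx : x ∈ H.X24) (hy : y ∈ H.X14) : x * y = y * x :=
  H.cV (H.v24 hx) (H.u14 hy)

theorem d24_15 {x y : X} (hx : x ∈ H.X24) (hy : y ∈ Zh E w) : x * y = y * x :=
  H.cV (H.v24 hx) (H.u15 hy)

theorem d24_23 {x y : X} (hx : x ∈ H.X24) (hy : y ∈ H.X23) : x * y = y * x :=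
  H.cV (H.v24 hx) (H.u23 hy)

theorem d24_24 {x y : X} (hx : x ∈ H.X24) (hy : y ∈ H.X24) : x * y = y * x :=
  H.cV (H.v24 hx) (H.u24 hy)

theorem d24_25 {x y : X} (hx : x ∈ H.X24) (hy : y ∈ H.X25) : x * y = y * x :=
  H.cV (H.v24 hx) (H.u25 hy)

theorem d24_34 {x y : X} (hx : x ∈ H.X24) (hy : y ∈ H.X34) : x * y = y * x :=
  H.cV (H.v24 hx) (H.u34 hy)

theorem d24_35 {x y : X} (hx : x ∈ H.X24) (hy : y ∈ H.X35) : x * y = y * x :=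
  H.cV (H.v24 hx) (H.u35 hy)

theorem d25_13 {x y : X} (hx : x ∈ H.X25) (hy : y ∈ H.X13) : x * y = y * x :=
  H.cV (H.v25 hx) (H.u13 hy)

theorem d25_14 {x y : X} (hx : x ∈ H.X25) (hy : y ∈ H.X14) : x * y = y * x :=
  H.cV (H.v25 hx) (H.u14 hy)

theorem d25_15 {x y : X} (hx : x ∈ H.X25) (hy : y ∈ Zh E w) : x * y = y * x :=
  H.cT (H.m25 hx) (H.m15' hy)

theorem d25_23 {x y : X} (hx : x ∈ H.X25) (hy : y ∈ H.X23) : x * y = y * x :=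
  H.cV (H.v25 hx) (H.u23 hy)

theorem d25_24 {x y : X} (hx : x ∈ H.X25) (hy : y ∈ H.X24) : x * y = y * x :=
  H.cV (H.v25 hx) (H.u24 hy)

theorem d25_25 {x y : X} (hx : x ∈ H.X25) (hy : y ∈ H.X25) : x * y = y * x :=
  H.cT (H.m25 hx) (H.m25 hy)

theorem d25_34 {x y : X} (hx : x ∈ H.X25) (hy : y ∈ H.X34) : x * y = y * x :=
  H.cV (H.v25 hx) (H.u34 hy)

theorem d25_35 {x y : X} (hx : x ∈ H.X25) (hy : y ∈ H.X35) : x * y = y * x :=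
  H.cT (H.m25 hx) (H.m35 hy)

theorem d25_45 {x y : X} (hx : x ∈ H.X25) (hy : y ∈ H.X45) : x * y = y * x :=
  H.cT (H.m25 hx) (H.m45 hy)

theorem d34_14 {x y : X} (hx : x ∈ H.X34) (hy : y ∈ H.X14) : x * y = y * x :=
  H.cV' (H.u34 hx) (H.v14 hy)

theorem d34_15 {x y : X} (hx : x ∈ H.X34) (hy : y ∈ Zh E w) : x * y = y * x :=
  H.cV' (H.u34 hx) (H.v15 hy)

theorem d34_24 {x y : X} (hx : x ∈ H.X34) (hy : y ∈ H.X24) : x * y = y * x :=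
  H.cV' (H.u34 hx) (H.v24 hy)

theorem d34_25 {x y : X} (hx : x ∈ H.X34) (hy : y ∈ H.X25) : x * y = y * x :=
  H.cV' (H.u34 hx) (H.v25 hy)

theorem d34_34 {x y : X} (hx : x ∈ H.X34) (hy : y ∈ H.X34) : x * y = y * x :=
  H.tcomm (H.B1_comm (H.b23 ((mem_cjt E).mp hx)) (H.b23 ((mem_cjt E).mp hy)))

theorem d34_35 {x y : X} (hx : x ∈ H.X34) (hy : y ∈ H.X35) : x * y = y * x :=
  H.tcomm (H.B1_comm (H.b23 ((mem_cjt E).mp hx)) (H.b13 ((mem_cjt E).mp hy)))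

theorem d35_14 {x y : X} (hx : x ∈ H.X35) (hy : y ∈ H.X14) : x * y = y * x :=
  H.cV' (H.u35 hx) (H.v14 hy)

theorem d35_15 {x y : X} (hx : x ∈ H.X35) (hy : y ∈ Zh E w) : x * y = y * x :=
  H.cT (H.m35 hx) (H.m15' hy)

theorem d35_24 {x y : X} (hx : x ∈ H.X35) (hy : y ∈ H.X24) : x * y = y * x :=
  H.cV' (H.u35 hx) (H.v24 hy)

theorem d35_25 {x y : X} (hx : x ∈ H.X35) (hy : y ∈ H.X25) : x * y = y * x :=
  H.cT (H.m35 hx) (H.m25 hy)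

theorem d35_34 {x y : X} (hx : x ∈ H.X35) (hy : y ∈ H.X34) : x * y = y * x :=
  H.tcomm (H.B1_comm (H.b13 ((mem_cjt E).mp hx)) (H.b23 ((mem_cjt E).mp hy)))

theorem d35_35 {x y : X} (hx : x ∈ H.X35) (hy : y ∈ H.X35) : x * y = y * x :=
  H.cT (H.m35 hx) (H.m35 hy)

theorem d35_45 {x y : X} (hx : x ∈ H.X35) (hy : y ∈ H.X45) : x * y = y * x :=
  H.cT (H.m35 hx) (H.m45 hy)

theorem d45_15 {x y : X} (hx : x ∈ H.X45) (hy : y ∈ Zh E w) : x * y = y * x :=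
  H.cT (H.m45 hx) (H.m15' hy)

theorem d45_25 {x y : X} (hx : x ∈ H.X45) (hy : y ∈ H.X25) : x * y = y * x :=
  H.cT (H.m45 hx) (H.m25 hy)

theorem d45_35 {x y : X} (hx : x ∈ H.X45) (hy : y ∈ H.X35) : x * y = y * x :=
  H.cT (H.m45 hx) (H.m35 hy)

theorem d45_45 {x y : X} (hx : x ∈ H.X45) (hy : y ∈ H.X45) : x * y = y * x :=
  H.cT (H.m45 hx) (H.m45 hy)

/-! non-degenerate commutators -/

theorem k123 {x y : X} (hx : x ∈ H.X12) (hy : y ∈ H.X23) : ⁅x, y⁆ ∈ H.X13 ∧ (⁅x, y⁆ = 1 → x = 1 ∨ y = 1) :=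
  H.F1 hx hy

theorem k124 {x y : X} (hx : x ∈ H.X12) (hy : y ∈ H.X24) : ⁅x, y⁆ ∈ H.X14 ∧ (⁅x, y⁆ = 1 → x = 1 ∨ y = 1) :=
  ⟨H.F2 hx hy, H.N2 hx hy⟩

theorem k125 {x y : X} (hx : x ∈ H.X12) (hy : y ∈ H.X25) : ⁅x, y⁆ ∈ Zh E w ∧ (⁅x, y⁆ = 1 → x = 1 ∨ y = 1) :=
  ⟨H.F3 (H.m12 hx) (H.q25 hy), H.N3 hx hy⟩

theorem k134 {x y : X} (hx : x ∈ H.X13) (hy : y ∈ H.X34) : ⁅x, y⁆ ∈ H.X14 ∧ (⁅x, y⁆ = 1 → x = 1 ∨ y = 1) :=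
  H.F4 hx hy

theorem k135 {x y : X} (hx : x ∈ H.X13) (hy : y ∈ H.X35) : ⁅x, y⁆ ∈ Zh E w ∧ (⁅x, y⁆ = 1 → x = 1 ∨ y = 1) :=
  ⟨H.F3 (H.m13 hx) (H.q35 hy), H.N5 hx hy⟩

theorem k145 {x y : X} (hx : x ∈ H.X14) (hy : y ∈ H.X45) : ⁅x, y⁆ ∈ Zh E w ∧ (⁅x, y⁆ = 1 → x = 1 ∨ y = 1) := by
  refine ⟨H.F3 (H.m14 hx) (H.q45 hy), fun h => ?_⟩
  rcases H.N3 ((mem_cjt E).mp hy) (H.tX14 hx) (H.tnd h) with h1 | h1
  · exact Or.inr (H.t_one h1)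
  · exact Or.inl (H.t_one h1)

theorem k234 {x y : X} (hx : x ∈ H.X23) (hy : y ∈ H.X34) : ⁅x, y⁆ ∈ H.X24 ∧ (⁅x, y⁆ = 1 → x = 1 ∨ y = 1) :=
  ⟨H.F6 hx hy, H.N6 hx hy⟩

theorem k235 {x y : X} (hx : x ∈ H.X23) (hy : y ∈ H.X35) : ⁅x, y⁆ ∈ H.X25 ∧ (⁅x, y⁆ = 1 → x = 1 ∨ y = 1) := by
  have hF := H.F4 ((mem_cjt E).mp hy) (H.tX23 hx)
  refine ⟨H.tmem hF.1, fun h => ?_⟩
  rcases hF.2 (H.tnd h) with h1 | h1
  · exact Or.inr (H.t_one h1)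
  · exact Or.inl (H.t_one h1)

theorem k245 {x y : X} (hx : x ∈ H.X24) (hy : y ∈ H.X45) : ⁅x, y⁆ ∈ H.X25 ∧ (⁅x, y⁆ = 1 → x = 1 ∨ y = 1) := by
  have hF := H.k124 ((mem_cjt E).mp hy) (H.tX24 hx)
  refine ⟨H.tmem hF.1, fun h => ?_⟩
  rcases hF.2 (H.tnd h) with h1 | h1
  · exact Or.inr (H.t_one h1)
  · exact Or.inl (H.t_one h1)

theorem k345 {x y : X} (hx : x ∈ H.X34) (hy : y ∈ H.X45) : ⁅x, y⁆ ∈ H.X35 ∧ (⁅x, y⁆ = 1 → x = 1 ∨ y = 1) := by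
  have hF := H.F1 ((mem_cjt E).mp hy) ((mem_cjt E).mp hx)
  refine ⟨H.tmem hF.1, fun h => ?_⟩
  rcases hF.2 (H.tnd h) with h1 | h1
  · exact Or.inr (H.t_one h1)
  · exact Or.inl (H.t_one h1)

/-! cards -/

theorem card_X12 : Nat.card H.X12 = 4 := by
  show Nat.card (cj E.n2 H.X14) = 4
  rw [card_cj, H.card_X14]
theorem card_X23 : Nat.card H.X23 = 4 := by
  show Nat.card (cj (E.l rh) H.X13) = 4
  rw [card_cj, H.card_X13]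
theorem card_X24 : Nat.card H.X24 = 4 := by
  show Nat.card (cj (E.l rh) (Zh E w)) = 4
  rw [card_cj, card_Zh H.toCtx]
theorem card_X25 : Nat.card H.X25 = 4 := by
  show Nat.card (cj t H.X14) = 4
  rw [card_cj, H.card_X14]
theorem card_X35 : Nat.card H.X35 = 4 := by
  show Nat.card (cj t H.X13) = 4
  rw [card_cj, H.card_X13]
theorem card_X45 : Nat.card H.X45 = 4 := by
  show Nat.card (cj t H.X12) = 4
  rw [card_cj, H.card_X12]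
theorem card_X34 : Nat.card H.X34 = 4 := by
  show Nat.card (cj t H.X23) = 4
  rw [card_cj, H.card_X23]

omit H in
theorem pairs5 {i j : ℕ} (h : i < j) (hj : j < 5) : (i = 0 ∧ j = 1) ∨ (i = 0 ∧ j = 2) ∨ (i = 0 ∧ j = 3) ∨
    (i = 0 ∧ j = 4) ∨ (i = 1 ∧ j = 2) ∨ (i = 1 ∧ j = 3) ∨ (i = 1 ∧ j = 4) ∨ (i = 2 ∧ j = 3) ∨ (i = 2 ∧ j = 4) ∨
    (i = 3 ∧ j = 4) := by omega

omit H in
theorem triples5 {i j k : ℕ} (h : i < j) (hj : j < k) (hk : k < 5) : (i = 0 ∧ j = 1 ∧ k = 2) ∨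
    (i = 0 ∧ j = 1 ∧ k = 3) ∨ (i = 0 ∧ j = 1 ∧ k = 4) ∨ (i = 0 ∧ j = 2 ∧ k = 3) ∨ (i = 0 ∧ j = 2 ∧ k = 4) ∨
    (i = 0 ∧ j = 3 ∧ k = 4) ∨ (i = 1 ∧ j = 2 ∧ k = 3) ∨ (i = 1 ∧ j = 2 ∧ k = 4) ∨ (i = 1 ∧ j = 3 ∧ k = 4) ∨
    (i = 2 ∧ j = 3 ∧ k = 4) := by omega

theorem XX_comm {i j k l : ℕ} (hij : i < j) (hj : j < 5) (hkl : k < l) (hl : l < 5) (h1 : j ≠ k) (h2 : i ≠ l)
    {a b : X} (ha : a ∈ XX H i j) (hb : b ∈ XX H k l) : a * b = b * a := by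
  have p1 := pairs5 hij hj
  have p2 := pairs5 hkl hl
  clear hij hj hkl hl
  rcases p1 with ⟨rfl, rfl⟩ | ⟨rfl, rfl⟩ | ⟨rfl, rfl⟩ | ⟨rfl, rfl⟩ | ⟨rfl, rfl⟩ | ⟨rfl, rfl⟩ | ⟨rfl, rfl⟩ | ⟨rfl, rfl⟩ | ⟨rfl, rfl⟩ | ⟨rfl, rfl⟩
  · rcases p2 with ⟨rfl, rfl⟩ | ⟨rfl, rfl⟩ | ⟨rfl, rfl⟩ | ⟨rfl, rfl⟩ | ⟨rfl, rfl⟩ | ⟨rfl, rfl⟩ | ⟨rfl, rfl⟩ | ⟨rfl, rfl⟩ | ⟨rfl, rfl⟩ | ⟨rfl, rfl⟩
    · exact H.d12_12 ha hb
    · exact H.d12_13 ha hb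
    · exact H.d12_14 ha hb
    · exact H.d12_15 ha hb
    · exact absurd rfl h1
    · exact absurd rfl h1
    · exact absurd rfl h1
    · exact H.d12_34 ha hb
    · exact H.d12_35 ha hb
    · exact H.d12_45 ha hb
  · rcases p2 with ⟨rfl, rfl⟩ | ⟨rfl, rfl⟩ | ⟨rfl, rfl⟩ | ⟨rfl, rfl⟩ | ⟨rfl, rfl⟩ | ⟨rfl, rfl⟩ | ⟨rfl, rfl⟩ | ⟨rfl, rfl⟩ | ⟨rfl, rfl⟩ | ⟨rfl, rfl⟩
    · exact H.d13_12 ha hb
    · exact H.d13_13 ha hb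
    · exact H.d13_14 ha hb
    · exact H.d13_15 ha hb
    · exact H.d13_23 ha hb
    · exact H.d13_24 ha hb
    · exact H.d13_25 ha hb
    · exact absurd rfl h1
    · exact absurd rfl h1
    · exact H.d13_45 ha hb
  · rcases p2 with ⟨rfl, rfl⟩ | ⟨rfl, rfl⟩ | ⟨rfl, rfl⟩ | ⟨rfl, rfl⟩ | ⟨rfl, rfl⟩ | ⟨rfl, rfl⟩ | ⟨rfl, rfl⟩ | ⟨rfl, rfl⟩ | ⟨rfl, rfl⟩ | ⟨rfl, rfl⟩
    · exact H.d14_12 ha hb
    · exact H.d14_13 ha hb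
    · exact H.d14_14 ha hb
    · exact H.d14_15 ha hb
    · exact H.d14_23 ha hb
    · exact H.d14_24 ha hb
    · exact H.d14_25 ha hb
    · exact H.d14_34 ha hb
    · exact H.d14_35 ha hb
    · exact absurd rfl h1
  · rcases p2 with ⟨rfl, rfl⟩ | ⟨rfl, rfl⟩ | ⟨rfl, rfl⟩ | ⟨rfl, rfl⟩ | ⟨rfl, rfl⟩ | ⟨rfl, rfl⟩ | ⟨rfl, rfl⟩ | ⟨rfl, rfl⟩ | ⟨rfl, rfl⟩ | ⟨rfl, rfl⟩
    · exact H.d15_12 ha hb
    · exact H.d15_13 ha hb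
    · exact H.d15_14 ha hb
    · exact H.d15_15 ha hb
    · exact H.d15_23 ha hb
    · exact H.d15_24 ha hb
    · exact H.d15_25 ha hb
    · exact H.d15_34 ha hb
    · exact H.d15_35 ha hb
    · exact H.d15_45 ha hb
  · rcases p2 with ⟨rfl, rfl⟩ | ⟨rfl, rfl⟩ | ⟨rfl, rfl⟩ | ⟨rfl, rfl⟩ | ⟨rfl, rfl⟩ | ⟨rfl, rfl⟩ | ⟨rfl, rfl⟩ | ⟨rfl, rfl⟩ | ⟨rfl, rfl⟩ | ⟨rfl, rfl⟩
    · exact absurd rfl h2
    · exact H.d23_13 ha hb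
    · exact H.d23_14 ha hb
    · exact H.d23_15 ha hb
    · exact H.d23_23 ha hb
    · exact H.d23_24 ha hb
    · exact H.d23_25 ha hb
    · exact absurd rfl h1
    · exact absurd rfl h1
    · exact H.d23_45 ha hb
  · rcases p2 with ⟨rfl, rfl⟩ | ⟨rfl, rfl⟩ | ⟨rfl, rfl⟩ | ⟨rfl, rfl⟩ | ⟨rfl, rfl⟩ | ⟨rfl, rfl⟩ | ⟨rfl, rfl⟩ | ⟨rfl, rfl⟩ | ⟨rfl, rfl⟩ | ⟨rfl, rfl⟩
    · exact absurd rfl h2
    · exact H.d24_13 ha hb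
    · exact H.d24_14 ha hb
    · exact H.d24_15 ha hb
    · exact H.d24_23 ha hb
    · exact H.d24_24 ha hb
    · exact H.d24_25 ha hb
    · exact H.d24_34 ha hb
    · exact H.d24_35 ha hb
    · exact absurd rfl h1
  · rcases p2 with ⟨rfl, rfl⟩ | ⟨rfl, rfl⟩ | ⟨rfl, rfl⟩ | ⟨rfl, rfl⟩ | ⟨rfl, rfl⟩ | ⟨rfl, rfl⟩ | ⟨rfl, rfl⟩ | ⟨rfl, rfl⟩ | ⟨rfl, rfl⟩ | ⟨rfl, rfl⟩
    · exact absurd rfl h2
    · exact H.d25_13 ha hb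
    · exact H.d25_14 ha hb
    · exact H.d25_15 ha hb
    · exact H.d25_23 ha hb
    · exact H.d25_24 ha hb
    · exact H.d25_25 ha hb
    · exact H.d25_34 ha hb
    · exact H.d25_35 ha hb
    · exact H.d25_45 ha hb
  · rcases p2 with ⟨rfl, rfl⟩ | ⟨rfl, rfl⟩ | ⟨rfl, rfl⟩ | ⟨rfl, rfl⟩ | ⟨rfl, rfl⟩ | ⟨rfl, rfl⟩ | ⟨rfl, rfl⟩ | ⟨rfl, rfl⟩ | ⟨rfl, rfl⟩ | ⟨rfl, rfl⟩
    · exact (H.d12_34 hb ha).symm
    · exact absurd rfl h2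
    · exact H.d34_14 ha hb
    · exact H.d34_15 ha hb
    · exact absurd rfl h2
    · exact H.d34_24 ha hb
    · exact H.d34_25 ha hb
    · exact H.d34_34 ha hb
    · exact H.d34_35 ha hb
    · exact absurd rfl h1
  · rcases p2 with ⟨rfl, rfl⟩ | ⟨rfl, rfl⟩ | ⟨rfl, rfl⟩ | ⟨rfl, rfl⟩ | ⟨rfl, rfl⟩ | ⟨rfl, rfl⟩ | ⟨rfl, rfl⟩ | ⟨rfl, rfl⟩ | ⟨rfl, rfl⟩ | ⟨rfl, rfl⟩
    · exact (H.d12_35 hb ha).symm
    · exact absurd rfl h2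
    · exact H.d35_14 ha hb
    · exact H.d35_15 ha hb
    · exact absurd rfl h2
    · exact H.d35_24 ha hb
    · exact H.d35_25 ha hb
    · exact H.d35_34 ha hb
    · exact H.d35_35 ha hb
    · exact H.d35_45 ha hb
  · rcases p2 with ⟨rfl, rfl⟩ | ⟨rfl, rfl⟩ | ⟨rfl, rfl⟩ | ⟨rfl, rfl⟩ | ⟨rfl, rfl⟩ | ⟨rfl, rfl⟩ | ⟨rfl, rfl⟩ | ⟨rfl, rfl⟩ | ⟨rfl, rfl⟩ | ⟨rfl, rfl⟩
    · exact (H.d12_45 hb ha).symm
    · exact (H.d13_45 hb ha).symm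
    · exact absurd rfl h2
    · exact H.d45_15 ha hb
    · exact (H.d23_45 hb ha).symm
    · exact absurd rfl h2
    · exact H.d45_25 ha hb
    · exact absurd rfl h2
    · exact H.d45_35 ha hb
    · exact H.d45_45 ha hb

theorem XX_cm {i j k : ℕ} (hij : i < j) (hjk : j < k) (hk : k < 5) {a b : X} (ha : a ∈ XX H i j)
    (hb : b ∈ XX H j k) : ⁅a, b⁆ ∈ XX H i k ∧ (⁅a, b⁆ = 1 → a = 1 ∨ b = 1) := by
  have p := triples5 hij hjk hk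
  clear hij hjk hk
  rcases p with ⟨rfl, rfl, rfl⟩ | ⟨rfl, rfl, rfl⟩ | ⟨rfl, rfl, rfl⟩ | ⟨rfl, rfl, rfl⟩ | ⟨rfl, rfl, rfl⟩ | ⟨rfl, rfl, rfl⟩ | ⟨rfl, rfl, rfl⟩ | ⟨rfl, rfl, rfl⟩ | ⟨rfl, rfl, rfl⟩ | ⟨rfl, rfl, rfl⟩
  · exact H.k123 ha hb
  · exact H.k124 ha hb
  · exact H.k125 ha hb
  · exact H.k134 ha hb
  · exact H.k135 ha hb
  · exact H.k145 ha hb
  · exact H.k234 ha hb
  · exact H.k235 ha hb
  · exact H.k245 ha hb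
  · exact H.k345 ha hb

theorem card_XX {i j : ℕ} (hij : i < j) (hj : j < 5) : Nat.card (XX H i j) = 4 := by
  have p := pairs5 hij hj
  clear hij hj
  rcases p with ⟨rfl, rfl⟩ | ⟨rfl, rfl⟩ | ⟨rfl, rfl⟩ | ⟨rfl, rfl⟩ | ⟨rfl, rfl⟩ | ⟨rfl, rfl⟩ | ⟨rfl, rfl⟩ | ⟨rfl, rfl⟩ | ⟨rfl, rfl⟩ | ⟨rfl, rfl⟩
  · exact H.card_X12
  · exact H.card_X13
  · exact H.card_X14
  · exact card_Zh H.toCtx
  · exact H.card_X23
  · exact H.card_X24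
  · exact H.card_X25
  · exact H.card_X34
  · exact H.card_X35
  · exact H.card_X45

theorem XX_le {i j : ℕ} (hij : i < j) (hj : j < 5) : XX H i j ≤ H.S0 := by
  have p := pairs5 hij hj
  clear hij hj
  intro x hx
  rcases p with ⟨rfl, rfl⟩ | ⟨rfl, rfl⟩ | ⟨rfl, rfl⟩ | ⟨rfl, rfl⟩ | ⟨rfl, rfl⟩ | ⟨rfl, rfl⟩ | ⟨rfl, rfl⟩ | ⟨rfl, rfl⟩ | ⟨rfl, rfl⟩ | ⟨rfl, rfl⟩
  · exact H.Qh_le_S0 (H.q12 hx)
  · exact H.Us_le_S0 (H.u13 hx)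
  · exact H.Us_le_S0 (H.u14 hx)
  · exact H.Us_le_S0 (H.u15 hx)
  · exact H.Us_le_S0 (H.u23 hx)
  · exact H.Us_le_S0 (H.u24 hx)
  · exact H.Us_le_S0 (H.u25 hx)
  · exact H.Us_le_S0 (H.u34 hx)
  · exact H.Us_le_S0 (H.u35 hx)
  · exact H.Qh_le_S0 (H.q45 hx)

/-- the ten root groups of `S₀` -/
theorem roots : Roots 5 4 (XX H) where
  disj := fun _ _ _ _ hij hj hkl hl h1 h2 _ ha _ hb => H.XX_comm hij hj hkl hl h1 h2 ha hb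
  mem := fun _ _ _ hij hjk hk _ ha _ hb => (H.XX_cm hij hjk hk ha hb).1
  nondeg := fun _ _ _ hij hjk hk _ ha _ hb => (H.XX_cm hij hjk hk ha hb).2
  card := fun _ _ hij hj => H.card_XX hij hj
  one_lt := by norm_num

/-- **P8, `eps = 1`**: `S₀` is isomorphic to the Sylow 2-subgroups of `PSL(5, 4)` -/
theorem exists_sylow : ∃ (F : Type) (_ : Field F) (_ : Fintype F), Fintype.card F = 4 ∧ CharP F 2 ∧
    ∀ P : Sylow 2 (Matrix.ProjectiveSpecialLinearGroup (Fin 5) F), Nonempty (H.S0 ≃* P) :=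
  H.roots.exists_sylow (by norm_num) 2 2 (by norm_num) H.S0 (fun _ _ hij hj => H.XX_le hij hj)
    (by rw [H.card_S0]; norm_num)

end One

end Cfsg.Agent.UFiveTwo.Big
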