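import Cfsg.Agent.UFiveTwo.Assembly
import Cfsg.Agent.UFiveTwo.FieldGen
import Cfsg.Agent.UFiveTwo.OneRoots
import Cfsg.Agent.StdRank2.UFiveEnd.Concl

/-!
# S1778, type `U₅(2)`: the end of the field case (up to S1769)
-/

set_option autoImplicit false

namespace Cfsg.Agent.UFiveTwo.Assembly

open Cfsg Subgroup Cfsg.Agent.StdEven Cfsg.Agent.StdEven.CoreQuot Cfsg.Agent.StdEven.Red
open Cfsg.Agent.StdSpFour.CaseBSplit (LinSylow)

universe u

/-- **`FieldStmt`**, from S1769. -/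
theorem fieldStmt (h1769 : ∀ (L : Type u) [Group L] [Finite L] [IsSimpleGroup L], LinSylow.{u, 0} L) :
    FieldStmt.{u} := by
  intro G _ _ L A T t h E S w P C H
  obtain ⟨S2, hS2, ht, -, -, ⟨e⟩⟩ := Field.end_G' S.conf h S.aut S.out S.syl H
  obtain ⟨F, i1, i2, hF, hch, hiso⟩ := H.exists_sylow
  have Q : Sylow 2 (Matrix.ProjectiveSpecialLinearGroup (Fin 5) F) := default
  obtain ⟨e3⟩ := hiso Q
  obtain ⟨e4⟩ := SylowL.SylowPSL.sylow_equiv 2 Q
  have := S.conf.simple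
  exact StdRank2.UFiveEnd.concl_of_isSyl hS2 ht (R := F) (r := 2) le_rfl
    (by rw [Nat.card_eq_fintype_card, hF]; norm_num) (h1769 ↥L) (e.trans (e3.trans e4))

end Cfsg.Agent.UFiveTwo.Assembly
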