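import Mathlib

/-!
# S1778, type `U₅(2)`: five commuting involutions with product 1, permuted by `Alt(5)`
-/

set_option autoImplicit false
set_option linter.unusedSectionVars false

namespace Cfsg.Agent.UFiveTwo.Line

open Subgroup

variable {G : Type*} [Group G]

/-- Five commuting involutions with product 1 on which `N` induces `Alt(5)`. -/
structure R5 (r : Fin 5 → G) : Prop where
  sq : ∀ i, r i * r i = 1
  comm : ∀ i j, r i * r j = r j * r i
  prod : r 0 * r 1 * r 2 * r 3 * r 4 = 1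
  ne : r 0 ≠ 1
  alt : ∀ σ : Equiv.Perm (Fin 5), Equiv.Perm.sign σ = 1 → ∃ a : G, ∀ i, a * r i * a⁻¹ = r (σ i)

theorem other2 : ∀ i j : Fin 5, i ≠ j → ∃ k l : Fin 5, k ≠ l ∧ k ≠ i ∧ k ≠ j ∧ l ≠ i ∧ l ≠ j := by decide

theorem nodup1 : ∀ i : Fin 5, ∃ j k l m : Fin 5, [i, j, k, l, m].Nodup := by decide

theorem nodup2 : ∀ i j : Fin 5, i ≠ j → ∃ k l m : Fin 5, [i, j, k, l, m].Nodup := by decide

theorem nodup3 : ∀ i j k : Fin 5, i ≠ j → k ≠ i → k ≠ j → ∃ l m : Fin 5, [i, j, k, l, m].Nodup := by decide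

theorem nodup4 : ∀ i j k l : Fin 5, i ≠ j → k ≠ l → i ≠ k → i ≠ l → j ≠ k → j ≠ l →
    ∃ m : Fin 5, [i, j, k, l, m].Nodup := by decide

/-- 3-transitivity of `Alt(5)` on pairs. -/
theorem exists_even {i j i' j' : Fin 5} (h : i ≠ j) (h' : i' ≠ j') :
    ∃ σ : Equiv.Perm (Fin 5), Equiv.Perm.sign σ = 1 ∧ σ i = i' ∧ σ j = j' := by
  obtain ⟨τ, h1, h2⟩ : ∃ τ : Equiv.Perm (Fin 5), τ i = i' ∧ τ j = j' := by
    refine ⟨Equiv.swap (Equiv.swap i i' j) j' * Equiv.swap i i', ?_, ?_⟩
    · rw [Equiv.Perm.mul_apply, Equiv.swap_apply_left]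
      apply Equiv.swap_apply_of_ne_of_ne _ h'
      intro h3
      apply h
      have h4 : Equiv.swap i i' i = Equiv.swap i i' j := by rw [Equiv.swap_apply_left]; exact h3
      exact (Equiv.swap i i').injective h4
    · rw [Equiv.Perm.mul_apply, Equiv.swap_apply_left]
  rcases Int.units_eq_one_or (Equiv.Perm.sign τ) with h3 | h3
  · exact ⟨τ, h3, h1, h2⟩
  · obtain ⟨k, l, hkl, hk1, hk2, hl1, hl2⟩ := other2 i' j' h'
    refine ⟨Equiv.swap k l * τ, ?_, ?_, ?_⟩
    · rw [map_mul, Equiv.Perm.sign_swap hkl, h3]; rfl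
    · rw [Equiv.Perm.mul_apply, h1]; exact Equiv.swap_apply_of_ne_of_ne hk1.symm hl1.symm
    · rw [Equiv.Perm.mul_apply, h2]; exact Equiv.swap_apply_of_ne_of_ne hk2.symm hl2.symm

theorem exists_even_one (i i' : Fin 5) : ∃ σ : Equiv.Perm (Fin 5), Equiv.Perm.sign σ = 1 ∧ σ i = i' := by
  obtain ⟨j, hj⟩ : ∃ j : Fin 5, i ≠ j := by revert i; decide
  obtain ⟨j', hj'⟩ : ∃ j : Fin 5, i' ≠ j := by revert i'; decide
  obtain ⟨σ, h1, h2, -⟩ := exists_even hj hj'
  exact ⟨σ, h1, h2⟩

/-- a double transposition -/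
theorem sign_swap_swap {i j k l : Fin 5} (h : i ≠ j) (h' : k ≠ l) :
    Equiv.Perm.sign (Equiv.swap i j * Equiv.swap k l) = 1 := by
  rw [map_mul, Equiv.Perm.sign_swap h, Equiv.Perm.sign_swap h']; rfl

namespace R5

variable {r : Fin 5 → G} (h : R5 r)
include h

theorem commute (i j : Fin 5) : Commute (r i) (r j) := h.comm i j

theorem inv_eq (i : Fin 5) : (r i)⁻¹ = r i := inv_eq_of_mul_eq_one_left (h.sq i)

/-- the product of all five in any order -/
theorem five {i j k l m : Fin 5} (hn : [i, j, k, l, m].Nodup) : r i * r j * r k * r l * r m = 1 := by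
  have hp : [i, j, k, l, m].Perm (List.finRange 5) := by
    rw [List.perm_ext_iff_of_nodup hn (List.nodup_finRange 5)]
    intro a
    refine ⟨fun _ => List.mem_finRange a, fun _ => ?_⟩
    have h1 : [i, j, k, l, m].toFinset = Finset.univ := by
      apply Finset.eq_univ_of_card
      rw [List.toFinset_card_of_nodup hn]; rfl
    rw [← List.mem_toFinset, h1]; exact Finset.mem_univ a
  have h2 := (hp.map r).prod_eq' (by
    rw [List.pairwise_map]
    exact List.pairwise_of_forall fun x y => h.commute x y)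
  have h3 : ((List.finRange 5).map r).prod = r 0 * r 1 * r 2 * r 3 * r 4 := by
    simp [List.finRange_succ, mul_assoc]
  rw [h3, h.prod] at h2
  simpa [mul_assoc] using h2

theorem ne_one (i : Fin 5) : r i ≠ 1 := by
  obtain ⟨σ, hσ, h1⟩ := exists_even_one 0 i
  obtain ⟨a, ha⟩ := h.alt σ hσ
  intro h2
  apply h.ne
  have h3 := ha 0
  rw [h1, h2, mul_inv_eq_one, mul_eq_left] at h3
  exact h3

theorem injective : Function.Injective r := by
  intro i j hij
  by_contra hne
  -- all are equal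
  have h1 : ∀ i' j' : Fin 5, r i' = r j' := by
    intro i' j'
    by_cases h' : i' = j'
    · rw [h']
    obtain ⟨σ, hσ, hi, hj⟩ := exists_even hne h'
    obtain ⟨a, ha⟩ := h.alt σ hσ
    rw [← hi, ← hj, ← ha, ← ha, hij]
  apply h.ne
  have h2 := h.prod
  rw [h1 1 0, h1 2 0, h1 3 0, h1 4 0, h.sq, one_mul, h.sq, one_mul] at h2
  exact h2

/-- conjugation by the element over `σ` -/
theorem mul_ne {i j k : Fin 5} (hij : i ≠ j) : r i * r j ≠ r k := by
  intro he
  have hki : k ≠ i := by
    rintro rfl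
    exact h.ne_one j (mul_eq_left.mp he)
  have hkj : k ≠ j := by
    rintro rfl
    exact h.ne_one i (mul_eq_right.mp he)
  obtain ⟨l, m, hn⟩ := nodup3 i j k hij hki hkj
  have h1 := h.five hn
  rw [he, h.sq, one_mul] at h1
  have h2 : r l = r m := by rw [← h.inv_eq m]; exact eq_inv_of_mul_eq_one_left h1
  have h3 := h.injective h2
  subst h3
  simp at hn

theorem mul_ne_mul {i j k l : Fin 5} (hij : i ≠ j) (hkl : k ≠ l) (he : r i * r j = r k * r l) :
    (i = k ∧ j = l) ∨ (i = l ∧ j = k) := by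
  by_cases h1 : i = k
  · subst h1
    exact Or.inl ⟨rfl, h.injective (mul_left_cancel he)⟩
  by_cases h2 : i = l
  · subst h2
    rw [h.comm k i] at he
    exact Or.inr ⟨rfl, h.injective (mul_left_cancel he)⟩
  exfalso
  by_cases h3 : j = k
  · subst h3
    rw [h.comm i j] at he
    exact h2 (h.injective (mul_left_cancel he))
  by_cases h4 : j = l
  · subst h4
    exact h1 (h.injective (mul_right_cancel he))
  obtain ⟨m, hn⟩ := nodup4 i j k l hij hkl h1 h2 h3 h4
  have h5 := h.five hn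
  rw [he] at h5
  have h6 : r k * r l * r k * r l * r m = r m := by
    calc r k * r l * r k * r l * r m = r k * (r l * r k) * r l * r m := by group
      _ = (r k * r k) * (r l * r l) * r m := by rw [h.comm l k]; group
      _ = r m := by rw [h.sq, h.sq, one_mul, one_mul]
  rw [h6] at h5
  exact h.ne_one m h5

/-- the elements of `V` -/
theorem mem_closure {x : G} : x ∈ closure (Set.range r) ↔ x = 1 ∨ (∃ i, x = r i) ∨ ∃ i j, i ≠ j ∧ x = r i * r j := by
  constructor
  · intro hx
    induction hx using Subgroup.closure_induction with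
    | mem x hx =>
      obtain ⟨i, rfl⟩ := hx
      exact Or.inr (Or.inl ⟨i, rfl⟩)
    | one => exact Or.inl rfl
    | mul x y _ _ hx hy =>
      -- it suffices to multiply by one generator
      have key : ∀ x : G, (x = 1 ∨ (∃ i, x = r i) ∨ ∃ i j, i ≠ j ∧ x = r i * r j) → ∀ k,
          (x * r k = 1 ∨ (∃ i, x * r k = r i) ∨ ∃ i j, i ≠ j ∧ x * r k = r i * r j) := by
        rintro x (rfl | ⟨i, rfl⟩ | ⟨i, j, hij, rfl⟩) k
        · exact Or.inr (Or.inl ⟨k, by rw [one_mul]⟩)
        · by_cases hik : i = k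
          · subst hik; exact Or.inl (h.sq i)
          · exact Or.inr (Or.inr ⟨i, k, hik, rfl⟩)
        · by_cases hjk : j = k
          · subst hjk
            exact Or.inr (Or.inl ⟨i, by rw [mul_assoc, h.sq, mul_one]⟩)
          by_cases hik : i = k
          · subst hik
            exact Or.inr (Or.inl ⟨j, by rw [h.comm i j, mul_assoc, h.sq, mul_one]⟩)
          obtain ⟨l, m, hn⟩ := nodup3 i j k hij (Ne.symm hik) (Ne.symm hjk)
          have hlm : l ≠ m := by
            rintro rfl; simp at hn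
          refine Or.inr (Or.inr ⟨m, l, hlm.symm, ?_⟩)
          have h1 := h.five hn
          rw [mul_assoc (r i * r j * r k)] at h1
          rw [eq_inv_of_mul_eq_one_left h1, mul_inv_rev, h.inv_eq, h.inv_eq]
      rcases hy with rfl | ⟨i, rfl⟩ | ⟨i, j, -, rfl⟩
      · rw [mul_one]; exact hx
      · exact key x hx i
      · rw [← mul_assoc]; exact key _ (key x hx i) j
    | inv x _ hx =>
      rcases hx with rfl | ⟨i, rfl⟩ | ⟨i, j, hij, rfl⟩
      · exact Or.inl inv_one
      · exact Or.inr (Or.inl ⟨i, h.inv_eq i⟩)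
      · refine Or.inr (Or.inr ⟨i, j, hij, ?_⟩)
        rw [mul_inv_rev, h.inv_eq, h.inv_eq, h.comm]
  · rintro (rfl | ⟨i, rfl⟩ | ⟨i, j, -, rfl⟩)
    · exact one_mem _
    · exact Subgroup.subset_closure ⟨i, rfl⟩
    · exact mul_mem (Subgroup.subset_closure ⟨i, rfl⟩) (Subgroup.subset_closure ⟨j, rfl⟩)

theorem r_mem (i : Fin 5) : r i ∈ closure (Set.range r) := Subgroup.subset_closure ⟨i, rfl⟩

theorem sq_mem {x : G} (hx : x ∈ closure (Set.range r)) : x * x = 1 := by
  rcases h.mem_closure.mp hx with rfl | ⟨i, rfl⟩ | ⟨i, j, -, rfl⟩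
  · exact one_mul 1
  · exact h.sq i
  · calc r i * r j * (r i * r j) = r i * (r j * r i) * r j := by group
      _ = (r i * r i) * (r j * r j) := by rw [h.comm j i]; group
      _ = 1 := by rw [h.sq, h.sq, one_mul]

omit h in
/-- elements commuting with the five commute with `V` -/
theorem comm_of_forall {x : G} (hx : ∀ i, x * r i = r i * x) {v : G} (hv : v ∈ closure (Set.range r)) :
    x * v = v * x := by
  have h1 : closure (Set.range r) ≤ centralizer {x} := by
    rw [closure_le]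
    rintro _ ⟨i, rfl⟩
    rw [SetLike.mem_coe, mem_centralizer_singleton_iff]
    exact (hx i).symm
  have h2 := h1 hv
  rw [mem_centralizer_singleton_iff] at h2
  exact h2.symm

theorem comm_mem {x y : G} (hx : x ∈ closure (Set.range r)) (hy : y ∈ closure (Set.range r)) : x * y = y * x :=
  comm_of_forall (fun i => (comm_of_forall (fun j => h.comm i j) hx).symm) hy

/-- `|V| = 16`. -/
theorem card_closure : Nat.card ↥(closure (Set.range r)) = 16 := by
  classical
  let F : Option (Fin 5 ⊕ {p : Fin 5 × Fin 5 // p.1 < p.2}) → ↥(closure (Set.range r)) := fun o =>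
    match o with
    | none => 1
    | some (Sum.inl i) => ⟨r i, h.r_mem i⟩
    | some (Sum.inr p) => ⟨r p.1.1 * r p.1.2, mul_mem (h.r_mem _) (h.r_mem _)⟩
  have hF : Function.Bijective F := by
    constructor
    · intro a b hab
      have hab : (F a : G) = F b := congrArg Subtype.val hab
      match a, b, hab with
      | none, none, _ => rfl
      | none, some (Sum.inl i), hab => exact absurd hab.symm (h.ne_one i)
      | none, some (Sum.inr ⟨(i, j), hij⟩), hab =>
        exfalso
        have hab : (1 : G) = r i * r j := hab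
        have h1 : r i = r j := by rw [← h.inv_eq j]; exact eq_inv_of_mul_eq_one_left hab.symm
        exact (ne_of_lt hij) (h.injective h1)
      | some (Sum.inl i), none, hab => exact absurd hab (h.ne_one i)
      | some (Sum.inl i), some (Sum.inl j), hab => exact congrArg _ (congrArg _ (h.injective hab))
      | some (Sum.inl k), some (Sum.inr ⟨(i, j), hij⟩), hab =>
        exact absurd (show r i * r j = r k from hab.symm) (h.mul_ne (ne_of_lt hij))
      | some (Sum.inr ⟨(i, j), hij⟩), none, hab =>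
        exfalso
        have hab : r i * r j = 1 := hab
        have h1 : r i = r j := by rw [← h.inv_eq j]; exact eq_inv_of_mul_eq_one_left hab
        exact (ne_of_lt hij) (h.injective h1)
      | some (Sum.inr ⟨(i, j), hij⟩), some (Sum.inl k), hab =>
        exact absurd (show r i * r j = r k from hab) (h.mul_ne (ne_of_lt hij))
      | some (Sum.inr ⟨(i, j), hij⟩), some (Sum.inr ⟨(k, l), hkl⟩), hab =>
        have hij' : i < j := hij
        have hkl' : k < l := hkl
        rcases h.mul_ne_mul (ne_of_lt hij) (ne_of_lt hkl) hab with ⟨h1, h2⟩ | ⟨h1, h2⟩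
        · subst h1 h2; rfl
        · subst h1 h2; exact absurd hkl' (not_lt.mpr hij'.le)
    · rintro ⟨x, hx⟩
      rcases h.mem_closure.mp hx with h1 | ⟨i, h1⟩ | ⟨i, j, hij, h1⟩
      · exact ⟨none, Subtype.ext h1.symm⟩
      · exact ⟨some (Sum.inl i), Subtype.ext h1.symm⟩
      · rcases lt_or_gt_of_ne hij with h2 | h2
        · exact ⟨some (Sum.inr ⟨(i, j), h2⟩), Subtype.ext h1.symm⟩
        · refine ⟨some (Sum.inr ⟨(j, i), h2⟩), Subtype.ext ?_⟩
          show r j * r i = x
          rw [h1, h.comm]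
  rw [← Nat.card_eq_of_bijective F hF, Nat.card_eq_fintype_card]
  decide

/-- An `Alt(5)`-invariant, multiplicatively closed subset of `V` containing an element different from 1 is `V`. -/
theorem full {O : Set G} (hO : ∀ x ∈ O, x ∈ closure (Set.range r)) {x : G} (hx : x ∈ O) (hx1 : x ≠ 1)
    (inv : ∀ σ : Equiv.Perm (Fin 5), Equiv.Perm.sign σ = 1 → (∀ i, r i ∈ O → r (σ i) ∈ O) ∧
      ∀ i j, i ≠ j → r i * r j ∈ O → r (σ i) * r (σ j) ∈ O)
    (one : (1 : G) ∈ O)
    (mul1 : (∀ i, r i ∈ O) → ∀ i j, i ≠ j → r i * r j ∈ O)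
    (mul2 : (∀ i j, i ≠ j → r i * r j ∈ O) → ∃ i, r i ∈ O) :
    ∀ v ∈ closure (Set.range r), v ∈ O := by
  have h1 : (∃ i, r i ∈ O) → ∀ i, r i ∈ O := by
    rintro ⟨i, hi⟩ j
    obtain ⟨σ, hσ, hij⟩ := exists_even_one i j
    rw [← hij]; exact (inv σ hσ).1 i hi
  have h2 : (∃ i j, i ≠ j ∧ r i * r j ∈ O) → ∀ i j, i ≠ j → r i * r j ∈ O := by
    rintro ⟨i, j, hij, hO⟩ k l hkl
    obtain ⟨σ, hσ, hi, hj⟩ := exists_even hij hkl
    rw [← hi, ← hj]; exact (inv σ hσ).2 i j hij hO
  have h3 : ∃ i, r i ∈ O := by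
    rcases h.mem_closure.mp (hO x hx) with h4 | ⟨i, h4⟩ | ⟨i, j, hij, h4⟩
    · exact absurd h4 hx1
    · exact ⟨i, h4 ▸ hx⟩
    · exact mul2 (h2 ⟨i, j, hij, h4 ▸ hx⟩)
  have h4 := h1 h3
  have h5 := mul1 h4
  intro v hv
  rcases h.mem_closure.mp hv with rfl | ⟨i, rfl⟩ | ⟨i, j, hij, rfl⟩
  · exact one
  · exact h4 i
  · exact h5 i j hij

end R5

end Cfsg.Agent.UFiveTwo.Line
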