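import Cfsg.Agent.UFiveTwo.POne
import Cfsg.Agent.UFiveTwo.Line

/-!
# S1778, type `U₅(2)`: 2-subgroups of centralizers of involutions of `N(A)`
-/

set_option autoImplicit false
set_option maxRecDepth 10000
set_option linter.unusedSectionVars false

namespace Cfsg.Agent.UFiveTwo

open Subgroup Cfsg.Agent.StdEven.Syl
open Model (MU Inn fr)

universe u

/-- Facts on 2-subgroups of `A ≅ PSU₅(2)` commuting with an involution of `N(A)`. -/
structure FlagCen {X : Type u} [Group X] (A : Subgroup X) : Prop where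
  o1 : ∀ f ∈ normalizer (A : Set X), f * f = 1 → (¬ ∃ a ∈ A, ∀ x ∈ A, a⁻¹ * f * x = x * (a⁻¹ * f)) →
    ∀ R ≤ A, IsPGroup 2 R → (∀ r ∈ R, r * f = f * r) → Nat.card R ≤ 16
  o2 : ∀ f ∈ normalizer (A : Set X), f * f = 1 → ∃ E ≤ A, IsPGroup 2 E ∧ (∀ x ∈ E, x * f = f * x) ∧
    8 ≤ Nat.card E
  o3 : ∀ f ∈ A, f * f = 1 → ∃ U ≤ A, IsPGroup 2 U ∧ (∀ x ∈ U, x * f = f * x) ∧ 256 ≤ Nat.card U
  o2e : ∀ f ∈ normalizer (A : Set X), f * f = 1 → ∃ E ≤ A, (∀ x ∈ E, x * x = 1) ∧ (∀ x ∈ E, x * f = f * x) ∧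
    8 ≤ Nat.card E

namespace Model

theorem r5_model : Line.R5 r :=
  ⟨r_sq, r_comm, r_prod, r_ne 0, fun σ hσ => ⟨l ⟨σ, Equiv.Perm.mem_alternatingGroup.mpr hσ⟩, fun i => l_r _ i⟩⟩

theorem fr_r1 : fr (r 1) = r 1 := by
  apply mt_inj
  rw [mt_fr_r, mt_r]
  congr 1
  ext i; fin_cases i <;> rfl

theorem fr_r2 : fr (r 2) = r 2 := by
  apply mt_inj
  rw [mt_fr_r, mt_r]
  congr 1
  ext i; fin_cases i <;> rfl

theorem fr_r3 : fr (r 3) = r 4 := by
  apply mt_inj
  rw [mt_fr_r, mt_r]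
  congr 1
  ext i; fin_cases i <;> rfl

theorem fr_r4 : fr (r 4) = r 3 := by rw [← fr_r3, fr_fr]

/-- The fixed points of the field automorphism in `V`. -/
def VF : Subgroup MU where
  carrier := {t | t ∈ Subgroup.closure (Set.range r) ∧ fr t = t}
  one_mem' := ⟨one_mem _, map_one _⟩
  mul_mem' {a b} ha hb := ⟨mul_mem ha.1 hb.1, by rw [map_mul, ha.2, hb.2]⟩
  inv_mem' {a} ha := ⟨inv_mem ha.1, by rw [map_inv, ha.2]⟩

theorem VF_or {v : MU} (hv : v ∈ Subgroup.closure (Set.range r)) : v ∈ VF ∨ v * r 3 ∈ VF := by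
  have key : ∀ {v : MU}, v ∈ Subgroup.closure (Set.range r) → fr v = v ∨ fr v = v * (r 3 * r 4) := by
    intro v hv
    have h34 : r 3 * r 4 * (r 3 * r 4) = 1 := r5_model.sq_mem (mul_mem (r5_model.r_mem 3) (r5_model.r_mem 4))
    induction hv using Subgroup.closure_induction with
    | mem x hx =>
      obtain ⟨i, rfl⟩ := hx
      fin_cases i
      · exact Or.inl fr_r0
      · exact Or.inl fr_r1
      · exact Or.inl fr_r2
      · right
        change fr (r 3) = r 3 * (r 3 * r 4)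
        rw [fr_r3, ← mul_assoc, r_sq, one_mul]
      · right
        change fr (r 4) = r 4 * (r 3 * r 4)
        rw [fr_r4, r_comm 3 4, ← mul_assoc, r_sq, one_mul]
    | one => exact Or.inl (map_one _)
    | mul x y hx hy hx' hy' =>
      have hc : r 3 * r 4 * y = y * (r 3 * r 4) :=
        r5_model.comm_mem (mul_mem (r5_model.r_mem 3) (r5_model.r_mem 4)) hy
      rcases hx' with h1 | h1 <;> rcases hy' with h2 | h2 <;> rw [map_mul, h1, h2]
      · exact Or.inl rfl
      · right; group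
      · right
        calc x * (r 3 * r 4) * y = x * ((r 3 * r 4) * y) := by group
          _ = _ := by rw [hc]; group
      · left
        calc x * (r 3 * r 4) * (y * (r 3 * r 4)) = x * ((r 3 * r 4) * y) * (r 3 * r 4) := by group
          _ = x * y * ((r 3 * r 4) * (r 3 * r 4)) := by rw [hc]; group
          _ = x * y := by rw [h34, mul_one]
    | inv x hx hx' =>
      rw [map_inv, inv_eq_of_mul_eq_one_right (r5_model.sq_mem hx)]
      have h1 : fr x * fr x = 1 := by rw [← map_mul, r5_model.sq_mem hx, map_one]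
      rw [inv_eq_of_mul_eq_one_right h1]
      exact hx'
  rcases key hv with h | h
  · exact Or.inl ⟨hv, h⟩
  · right
    refine ⟨mul_mem hv (r5_model.r_mem 3), ?_⟩
    rw [map_mul, h, fr_r3]
    calc v * (r 3 * r 4) * r 4 = v * r 3 * (r 4 * r 4) := by group
      _ = _ := by rw [r_sq, mul_one]

theorem card_VF : 8 ≤ Nat.card VF := by
  have h1 : Nat.card ↥(Subgroup.closure (Set.range r)) = 16 := r5_model.card_closure
  have h2 : Nat.card ↥(Subgroup.closure (Set.range r)) ≤ Nat.card (VF × Bool) := by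
    classical
    refine Nat.card_le_card_of_surjective
      (fun p : VF × Bool => if p.2 then ⟨p.1.1, p.1.2.1⟩ else ⟨p.1.1 * r 3, mul_mem p.1.2.1 (r5_model.r_mem 3)⟩) ?_
    rintro ⟨v, hv⟩
    rcases VF_or hv with h | h
    · exact ⟨(⟨v, h⟩, true), by simp⟩
    · refine ⟨(⟨v * r 3, h⟩, false), ?_⟩
      simp only [Bool.false_eq_true, ↓reduceIte]
      apply Subtype.ext
      change v * r 3 * r 3 = v
      rw [mul_assoc, r_sq, mul_one]
  rw [Nat.card_prod, h1] at h2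
  have h3 : Nat.card Bool = 2 := by simp
  rw [h3] at h2
  omega

/-- Outer involutions commute with an elementary abelian subgroup of order at least 8. -/
theorem outV_model {φ : MulAut MU} (h2 : φ * φ = 1) (hout : ¬ Inn φ) : ∃ R : Subgroup MU, (∀ u ∈ R, u * u = 1) ∧
    (∀ u ∈ R, φ u = u) ∧ 8 ≤ Nat.card R := by
  obtain ⟨y, hy⟩ := out_fr h2 hout
  refine ⟨VF.map (MulAut.conj y⁻¹).toMonoidHom, ?_, ?_, ?_⟩
  · rintro _ ⟨u, hu, rfl⟩
    rw [← map_mul, r5_model.sq_mem hu.1, map_one]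
  · rintro _ ⟨u, hu, rfl⟩
    change φ (y⁻¹ * u * y⁻¹⁻¹) = y⁻¹ * u * y⁻¹⁻¹
    have h3 := DFunLike.congr_fun hy u
    change y * φ (y⁻¹ * u * y) * y⁻¹ = fr u at h3
    rw [hu.2] at h3
    rw [inv_inv]
    calc φ (y⁻¹ * u * y) = y⁻¹ * (y * φ (y⁻¹ * u * y) * y⁻¹) * y := by group
      _ = _ := by rw [h3]
  · rw [← Nat.card_congr (VF.equivMapOfInjective (MulAut.conj y⁻¹).toMonoidHom
      (MulAut.conj y⁻¹).injective).toEquiv]
    exact card_VF

/-- Involutions commute with an elementary abelian subgroup of order 16. -/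
theorem invV_model {x : MU} (h2 : x * x = 1) : ∃ R : Subgroup MU, (∀ u ∈ R, u * u = 1) ∧
    (∀ u ∈ R, u * x = x * u) ∧ Nat.card R = 16 := by
  obtain ⟨a, ha⟩ := into_model h2
  refine ⟨(Subgroup.closure (Set.range r)).map (MulAut.conj a⁻¹).toMonoidHom, ?_, ?_, ?_⟩
  · rintro _ ⟨u, hu, rfl⟩
    rw [← map_mul, r5_model.sq_mem hu, map_one]
  · rintro _ ⟨u, hu, rfl⟩
    change a⁻¹ * u * a⁻¹⁻¹ * x = x * (a⁻¹ * u * a⁻¹⁻¹)
    have h3 := r5_model.comm_mem hu ha
    calc a⁻¹ * u * a⁻¹⁻¹ * x = a⁻¹ * (u * (a * x * a⁻¹)) * a := by group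
      _ = _ := by rw [h3]; group
  · rw [← Nat.card_congr ((Subgroup.closure (Set.range r)).equivMapOfInjective (MulAut.conj a⁻¹).toMonoidHom
      (MulAut.conj a⁻¹).injective).toEquiv]
    exact r5_model.card_closure

/-- The group of fixed points of the field automorphism in `T`. -/
def TF : Subgroup MU where
  carrier := {t | t ∈ T ∧ fr t = t}
  one_mem' := ⟨one_mem _, map_one _⟩
  mul_mem' {a b} ha hb := ⟨mul_mem ha.1 hb.1, by rw [map_mul, ha.2, hb.2]⟩
  inv_mem' {a} ha := ⟨inv_mem ha.1, by rw [map_inv, ha.2]⟩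

theorem card_TF : Nat.card TF = 16 := card_fix

theorem isPGroup_TF : IsPGroup 2 TF := isPGroup_T.to_le fun _ h => h.1

/-- A 2-subgroup fixed by an outer involution has order at most 16. -/
theorem outR_model {φ : MulAut MU} (h2 : φ * φ = 1) (hout : ¬ Inn φ) {R : Subgroup MU}
    (hR : IsPGroup 2 R) (hc : ∀ x ∈ R, φ x = x) : Nat.card R ≤ 16 := by
  have : Fact (Nat.Prime 2) := ⟨Nat.prime_two⟩
  set Y : Subgroup (MulAut MU) := R.map (MulAut.conj : MU →* MulAut MU) with hYdef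
  have hY : IsPGroup 2 Y := hR.map _
  have hYc : ∀ ψ ∈ Y, ψ * φ = φ * ψ := by
    rintro _ ⟨x, hx, rfl⟩
    ext1 m
    change x * φ m * x⁻¹ = φ (x * m * x⁻¹)
    rw [map_mul, map_mul, map_inv, hc x hx]
  have hφ : IsPGroup 2 (Subgroup.zpowers φ) := by
    rw [IsPGroup.iff_card]
    rw [Nat.card_zpowers]
    have h3 : orderOf φ ∣ 2 := orderOf_dvd_of_pow_eq_one (by rw [pow_two, h2])
    rcases (Nat.dvd_prime Nat.prime_two).1 h3 with h | h
    · exact ⟨0, h⟩
    · exact ⟨1, h⟩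
  have hP : IsPGroup 2 (Y ⊔ Subgroup.zpowers φ : Subgroup (MulAut MU)) := by
    refine hY.to_sup_of_normal_right' hφ fun ψ hψ => ?_
    apply Subgroup.centralizer_le_normalizer
    rw [Subgroup.mem_centralizer_iff]
    intro z hz
    obtain ⟨k, rfl⟩ := Subgroup.mem_zpowers_iff.1 hz
    have h3 : Commute ψ φ := hYc ψ hψ
    exact (h3.zpow_right k).eq.symm
  obtain ⟨y1, h3⟩ := exists_normT hP
  obtain ⟨y2, h4, h5⟩ := exists_out (φ := MulAut.conj y1 * φ * (MulAut.conj y1)⁻¹) (fun x => by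
    have h6 : (MulAut.conj y1 * φ * (MulAut.conj y1)⁻¹) * (MulAut.conj y1 * φ * (MulAut.conj y1)⁻¹) = 1 := by
      calc _ = MulAut.conj y1 * (φ * φ) * (MulAut.conj y1)⁻¹ := by group
        _ = 1 := by rw [h2]; group
    exact DFunLike.congr_fun h6 x) (fun h => hout ((inn_conj y1).1 h))
    (h3 φ (Subgroup.mem_sup_right (Subgroup.mem_zpowers φ)))
  have hy2 : y2 ∈ Subgroup.normalizer (T : Set MU) := mem_normalizer_of_conj_le h4
  -- `y R y⁻¹` lies in `TF`
  have h6 : ∀ x ∈ R, (y2 * y1) * x * (y2 * y1)⁻¹ ∈ TF := by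
    intro x hx
    refine ⟨?_, ?_⟩
    · -- normalizes `T`, 2-element
      have h7 : (y2 * y1) * x * (y2 * y1)⁻¹ ∈ Subgroup.normalizer (T : Set MU) := by
        apply mem_normalizer_of_conj_le
        intro t ht
        have h9 := h4 _ (h3 (MulAut.conj x) (Subgroup.mem_sup_left ⟨x, hx, rfl⟩) (y2⁻¹ * t * y2)
          (conj_inv_mem_of_mem_normalizer hy2 ht))
        change y2 * (y1 * (x * (y1⁻¹ * (y2⁻¹ * t * y2) * y1) * x⁻¹) * y1⁻¹) * y2⁻¹ ∈ T at h9
        have h10 : (y2 * y1) * x * (y2 * y1)⁻¹ * t * ((y2 * y1) * x * (y2 * y1)⁻¹)⁻¹ =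
          y2 * (y1 * (x * (y1⁻¹ * (y2⁻¹ * t * y2) * y1) * x⁻¹) * y1⁻¹) * y2⁻¹ := by group
        rw [h10]; exact h9
      have h8 : IsPGroup 2 (Subgroup.zpowers ((y2 * y1) * x * (y2 * y1)⁻¹)) := by
        obtain ⟨k, hk⟩ := hR ⟨x, hx⟩
        have h12 : x ^ 2 ^ k = 1 := congrArg Subtype.val hk
        rw [IsPGroup.iff_card, Nat.card_zpowers]
        have h14 : orderOf ((y2 * y1) * x * (y2 * y1)⁻¹) ∣ 2 ^ k := orderOf_dvd_of_pow_eq_one (by
          rw [conj_pow, h12]; group)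
        obtain ⟨j, -, hj⟩ := (Nat.dvd_prime_pow Nat.prime_two).1 h14
        exact ⟨j, hj⟩
      have h12 : IsPGroup 2 (Subgroup.zpowers ((y2 * y1) * x * (y2 * y1)⁻¹) ⊔ T : Subgroup MU) :=
        h8.to_sup_of_normal_right' isPGroup_T (by rw [Subgroup.zpowers_le]; exact h7)
      have h13 := isSyl_T.max _ h12 le_top le_sup_right
      rw [← h13]
      exact Subgroup.mem_sup_left (Subgroup.mem_zpowers _)
    · have h7 := h5 ((y2 * y1) * x * (y2 * y1)⁻¹)
      change y2 * (y1 * φ (y1⁻¹ * (y2⁻¹ * ((y2 * y1) * x * (y2 * y1)⁻¹) * y2) * y1) * y1⁻¹) * y2⁻¹ = _ at h7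
      have h8 : y1⁻¹ * (y2⁻¹ * ((y2 * y1) * x * (y2 * y1)⁻¹) * y2) * y1 = x := by group
      rw [h8, hc x hx] at h7
      rw [← h7]; group
  have h7 : R.map (MulAut.conj (y2 * y1)).toMonoidHom ≤ TF := by
    rintro _ ⟨x, hx, rfl⟩
    exact h6 x hx
  calc Nat.card R = Nat.card (R.map (MulAut.conj (y2 * y1)).toMonoidHom) :=
        Nat.card_congr (R.equivMapOfInjective (MulAut.conj (y2 * y1)).toMonoidHom
          (MulAut.conj (y2 * y1)).injective).toEquiv
    _ ≤ Nat.card TF := Subgroup.card_le_of_le h7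
    _ = 16 := card_TF

/-- Involutions commute with a subgroup of order `2⁸`. -/
theorem inv_model {x : MU} (h2 : x * x = 1) : ∃ R : Subgroup MU, IsPGroup 2 R ∧ (∀ u ∈ R, u * x = x * u) ∧
    Nat.card R = 256 := by
  obtain ⟨a, ha⟩ := into_model h2
  refine ⟨U.map (MulAut.conj a⁻¹).toMonoidHom, ?_, ?_, ?_⟩
  · have : IsPGroup 2 U := isPGroup_T.to_le U_le_T
    exact this.map _
  · rintro _ ⟨u, hu, rfl⟩
    change a⁻¹ * u * a⁻¹⁻¹ * x = x * (a⁻¹ * u * a⁻¹⁻¹)
    have h3 := U_clos hu ha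
    calc a⁻¹ * u * a⁻¹⁻¹ * x = a⁻¹ * (u * (a * x * a⁻¹)) * a := by group
      _ = _ := by rw [h3]; group
  · rw [← Nat.card_congr (U.equivMapOfInjective (MulAut.conj a⁻¹).toMonoidHom
      (MulAut.conj a⁻¹).injective).toEquiv]
    exact flag.card_U

/-- Outer involutions commute with a subgroup of order `2⁴`. -/
theorem outE_model {φ : MulAut MU} (h2 : φ * φ = 1) (hout : ¬ Inn φ) : ∃ R : Subgroup MU, IsPGroup 2 R ∧
    (∀ u ∈ R, φ u = u) ∧ Nat.card R = 16 := by
  obtain ⟨y, hy⟩ := out_fr h2 hout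
  refine ⟨TF.map (MulAut.conj y⁻¹).toMonoidHom, isPGroup_TF.map _, ?_, ?_⟩
  · rintro _ ⟨u, hu, rfl⟩
    change φ (y⁻¹ * u * y⁻¹⁻¹) = y⁻¹ * u * y⁻¹⁻¹
    have h3 := DFunLike.congr_fun hy u
    change y * φ (y⁻¹ * u * y) * y⁻¹ = fr u at h3
    rw [hu.2] at h3
    rw [inv_inv]
    calc φ (y⁻¹ * u * y) = y⁻¹ * (y * φ (y⁻¹ * u * y) * y⁻¹) * y := by group
      _ = _ := by rw [h3]
  · rw [← Nat.card_congr (TF.equivMapOfInjective (MulAut.conj y⁻¹).toMonoidHom
      (MulAut.conj y⁻¹).injective).toEquiv]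
    exact card_TF

end Model

section

variable {X : Type u} [Group X] {A : Subgroup X} (e : A ≃* MU)

theorem comap_map_io {R : Subgroup X} (hR : R ≤ A) : (R.comap (io e)).map (io e) = R := by
  apply le_antisymm
  · rintro _ ⟨m, hm, rfl⟩; exact hm
  · intro x hx
    obtain ⟨m, rfl⟩ := exists_io e (hR hx)
    exact ⟨m, hx, rfl⟩

include e in
theorem inner_sq {f : X} (h2 : f * f = 1) (hin : Inner A f) :
    ∃ b : MU, (io e b)⁻¹ * f ∈ centralizer (A : Set X) ∧ b * b = 1 := by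
  obtain ⟨a, ha, h3⟩ := hin
  obtain ⟨b, rfl⟩ := exists_io e ha
  refine ⟨b, h3, ?_⟩
  apply Model.center_MU
  intro x
  apply io_inj e
  rw [map_mul, map_mul, map_mul (io e) x, map_mul]
  have h5 := (mem_cent e).1 h3
  have key : ∀ y : MU, f * io e y * f⁻¹ = io e b * io e y * (io e b)⁻¹ := by
    intro y
    calc f * io e y * f⁻¹ = io e b * ((io e b)⁻¹ * f * io e y) * f⁻¹ := by group
      _ = _ := by rw [h5]; group
  have h6 := key (b * x * b⁻¹)
  rw [map_mul, map_mul, map_inv, ← key x] at h6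
  have h7 : f * (f * io e x * f⁻¹) * f⁻¹ = io e x := by
    calc f * (f * io e x * f⁻¹) * f⁻¹ = (f * f) * io e x * (f * f)⁻¹ := by group
      _ = _ := by rw [h2]; group
  rw [h7, key x] at h6
  calc io e b * io e b * io e x = (io e b * (io e b * io e x * (io e b)⁻¹) * (io e b)⁻¹) * (io e b * io e b) := by
        group
    _ = _ := by rw [← h6]

theorem comm_of_inner {f : X} {b m : MU} (h3 : (io e b)⁻¹ * f ∈ centralizer (A : Set X)) (hc : m * b = b * m) :
    io e m * f = f * io e m := by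
  have h5 := (mem_cent e).1 h3 m
  have h6 : io e m * io e b = io e b * io e m := by rw [← map_mul, hc, map_mul]
  calc io e m * f = io e m * io e b * ((io e b)⁻¹ * f) := by group
    _ = io e b * (io e m * ((io e b)⁻¹ * f)) := by rw [h6]; group
    _ = _ := by rw [← h5]; group

include e in
theorem flagCen_of : FlagCen A where
  o1 f hf h2 hout R hR hR2 hRf := by
    have hout' : ¬ Inn (psi e ⟨f, hf⟩) := by
      rw [← inner_iff e hf]
      rintro ⟨a, ha, h⟩
      apply hout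
      refine ⟨a, ha, fun x hx => ?_⟩
      exact ((mem_centralizer_iff.1 h) x hx).symm
    have hφ2 : psi e ⟨f, hf⟩ * psi e ⟨f, hf⟩ = 1 := by
      rw [← map_mul, ← map_one (psi e)]
      congr 1
      exact Subtype.ext h2
    have h3 := Model.outR_model hφ2 hout' (R := R.comap (io e)) (hR2.comap_of_injective _ (io_inj e))
      (fun x hx => io_inj e (by
        rw [psi_spec]
        have h4 := hRf _ (show io e x ∈ R from hx)
        change f * io e x * f⁻¹ = io e x
        rw [← h4, mul_inv_cancel_right]))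
    rw [← card_map (io_inj e), comap_map_io e hR] at h3
    exact h3
  o2 f hf h2 := by
    by_cases hout : Inner A f
    · obtain ⟨b, h3, h4⟩ := inner_sq e h2 hout
      obtain ⟨R, hR, hc, hcard⟩ := Model.inv_model h4
      refine ⟨R.map (io e), ?_, hR.map _, ?_, ?_⟩
      · rintro _ ⟨m, -, rfl⟩; exact io_mem e m
      · rintro _ ⟨m, hm, rfl⟩
        exact comm_of_inner e h3 (hc m hm)
      · rw [card_map (io_inj e), hcard]; norm_num
    · rw [inner_iff e hf] at hout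
      have hφ2 : psi e ⟨f, hf⟩ * psi e ⟨f, hf⟩ = 1 := by
        rw [← map_mul, ← map_one (psi e)]
        congr 1
        exact Subtype.ext h2
      obtain ⟨R, hR, hc, hcard⟩ := Model.outE_model hφ2 hout
      refine ⟨R.map (io e), ?_, hR.map _, ?_, ?_⟩
      · rintro _ ⟨m, -, rfl⟩; exact io_mem e m
      · rintro _ ⟨m, hm, rfl⟩
        have h3 := psi_spec e ⟨f, hf⟩ m
        rw [hc m hm] at h3
        change io e m = f * io e m * f⁻¹ at h3
        exact (eq_mul_inv_iff_mul_eq.1 h3)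
      · rw [card_map (io_inj e), hcard]; norm_num
  o2e f hf h2 := by
    by_cases hout : Inner A f
    · obtain ⟨b, h3, h4⟩ := inner_sq e h2 hout
      obtain ⟨R, hR, hc, hcard⟩ := Model.invV_model h4
      refine ⟨R.map (io e), ?_, ?_, ?_, ?_⟩
      · rintro _ ⟨m, -, rfl⟩; exact io_mem e m
      · rintro _ ⟨m, hm, rfl⟩
        rw [← map_mul, hR m hm, map_one]
      · rintro _ ⟨m, hm, rfl⟩
        exact comm_of_inner e h3 (hc m hm)
      · rw [card_map (io_inj e), hcard]; norm_num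
    · rw [inner_iff e hf] at hout
      have hφ2 : psi e ⟨f, hf⟩ * psi e ⟨f, hf⟩ = 1 := by
        rw [← map_mul, ← map_one (psi e)]
        congr 1
        exact Subtype.ext h2
      obtain ⟨R, hR, hc, hcard⟩ := Model.outV_model hφ2 hout
      refine ⟨R.map (io e), ?_, ?_, ?_, ?_⟩
      · rintro _ ⟨m, -, rfl⟩; exact io_mem e m
      · rintro _ ⟨m, hm, rfl⟩
        rw [← map_mul, hR m hm, map_one]
      · rintro _ ⟨m, hm, rfl⟩
        have h3 := psi_spec e ⟨f, hf⟩ m
        rw [hc m hm] at h3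
        change io e m = f * io e m * f⁻¹ at h3
        exact (eq_mul_inv_iff_mul_eq.1 h3)
      · rw [card_map (io_inj e)]; exact hcard
  o3 f hf h2 := by
    obtain ⟨b, rfl⟩ := exists_io e hf
    rw [← map_mul] at h2
    obtain ⟨R, hR, hc, hcard⟩ := Model.inv_model (io_inj e (h2.trans (map_one _).symm))
    refine ⟨R.map (io e), ?_, hR.map _, ?_, ?_⟩
    · rintro _ ⟨m, -, rfl⟩; exact io_mem e m
    · rintro _ ⟨m, hm, rfl⟩
      rw [← map_mul, hc m hm, map_mul]
    · rw [card_map (io_inj e), hcard]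

end

theorem flagCen (X : Type u) [Group X] [Finite X] (A : Subgroup X) (F : Type) [Field F] [Fintype F]
    (hF : Fintype.card F = 4) (hA : Nonempty (↥A ≃* Cfsg.PSU 5 F 2)) : FlagCen A := by
  obtain ⟨e0⟩ := hA
  obtain ⟨e⟩ := Model.exists_equiv hF e0
  exact flagCen_of e

end Cfsg.Agent.UFiveTwo
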