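import Cfsg.Agent.UFiveTwo.AutF

/-!
# S1778, type `U₅(2)`: two more facts on the outer elements of `N(A)` (part of P1, used at the end of the field case)
-/

set_option autoImplicit false

namespace Cfsg.Agent.UFiveTwo

open Subgroup

universe u

structure FlagOut {X : Type u} [Group X] (A : Subgroup X) (F : Flag A) : Prop where
  /-- every outer coset contains an element whose square centralises `A` -/
  split : ∀ g ∈ normalizer (A : Set X), ¬ Inner A g → ∃ a ∈ A, (g * a) * (g * a) ∈ centralizer (A : Set X)
  /-- outer elements fixing the point `r 0` are semilinear: they invert the scalar `h0` modulo `Q` -/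
  inv0 : ∀ g ∈ normalizer (A : Set X), g * F.r 0 = F.r 0 * g → ¬ Inner A g → g * F.h0 * g⁻¹ * F.h0 ∈ F.Q

end Cfsg.Agent.UFiveTwo
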