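import Cfsg.Agent.UFiveTwo.ModelD5
import Cfsg.Agent.StdEven.Syl

/-!
# `PSU₅(2)`: the flag data
-/

set_option autoImplicit false
set_option maxRecDepth 100000

open Cfsg

namespace Cfsg.Agent.UFiveTwo.Model

open Matrix Cfsg.Agent.Lib.FieldFour
open Cfsg.Agent.SylowU5.Model Cfsg.Agent.SylowU5.Basic Cfsg.Agent.SylowU5
open Cfsg.Agent.StdEven.Syl
open Subgroup

theorem UQ_eq_T : U ⊔ Q = T := by
  apply le_antisymm (sup_le U_le_T Q_le_T)
  intro g hg
  by_cases h : g ∈ U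
  · exact mem_sup_left h
  · obtain ⟨u, hu, -, h1⟩ := hT.exists_u g hg h
    have h2 : g = (u * g⁻¹)⁻¹ * u := by group
    rw [h2]
    exact mul_mem (mem_sup_left (inv_mem h1)) (mem_sup_right hu)

theorem card_T : Nat.card T = 1024 := hT.card_T

theorem isPGroup_T : IsPGroup 2 T := Elem.isPGroup_T hT

theorem index_T : T.index = 13365 := by
  have h := T.card_mul_index
  rw [card_T, card_MU] at h
  omega

theorem isSyl_T : IsSyl T ⊤ := by
  refine ⟨le_top, isPGroup_T, fun X hX _ hle => ?_⟩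
  have : Fact (Nat.Prime 2) := ⟨Nat.prime_two⟩
  obtain ⟨n, hn⟩ := (IsPGroup.iff_card.1 hX)
  have h1 : Nat.card X ∣ Nat.card MU := Subgroup.card_subgroup_dvd_card X
  rw [hn, card_MU] at h1
  have h2 : n ≤ 10 := by
    by_contra hcon
    have h3 : 2 ^ 11 ∣ 2 ^ n := pow_dvd_pow 2 (by omega)
    have h4 := h3.trans h1
    revert h4
    norm_num
  exact (Subgroup.eq_of_le_of_card_ge hle (by
    rw [card_T, hn]
    calc 2 ^ n ≤ 2 ^ 10 := Nat.pow_le_pow_right (by norm_num) h2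
      _ = 1024 := by norm_num)).symm

/-- The centralizer of the central transvection. -/
def D : Subgroup MU := ⊤ ⊓ centralizer {r 0}

theorem mem_D {a : MU} : a ∈ D ↔ a * r 0 = r 0 * a := by
  rw [D, top_inf_eq, mem_centralizer_singleton_iff]

theorem T_le_D : T ≤ D := fun g hg => mem_D.2 (hT.z_comm g hg)

theorem D_index : Odd ((U ⊔ Q).relIndex D) := by
  rw [UQ_eq_T]
  exact (isSyl_T.mono T_le_D le_top).odd_relIndex

theorem D_gen : D ≤ closure {x : MU | x ∈ D ∧ Odd (orderOf x)} := by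
  set C := closure {x : MU | x ∈ D ∧ Odd (orderOf x)} with hC
  have hCD : C ≤ D := (closure_le _).2 fun x hx => hx.1
  have ho : ∀ {x : MU}, x ^ 3 = 1 → Odd (orderOf x) := by
    intro x hx
    have h1 : orderOf x ∣ 3 := orderOf_dvd_of_pow_eq_one hx
    exact Odd.of_dvd_nat (by decide) h1
  -- normality
  have hconj : ∀ a ∈ D, ∀ x ∈ C, a * x * a⁻¹ ∈ C := by
    intro a ha x hx
    have h1 : C.map (MulAut.conj a).toMonoidHom ≤ C := by
      rw [hC, MonoidHom.map_closure, closure_le]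
      rintro _ ⟨y, ⟨hy, hyo⟩, rfl⟩
      apply Subgroup.subset_closure
      refine ⟨mul_mem (mul_mem ha hy) (inv_mem ha), ?_⟩
      have : orderOf ((MulAut.conj a) y) = orderOf y := by
        exact orderOf_injective (MulAut.conj a).toMonoidHom (MulAut.conj a).injective y
      change Odd (orderOf ((MulAut.conj a) y))
      rw [this]
      exact hyo
    exact h1 ⟨x, hx, rfl⟩
  have hh : h ∈ C := Subgroup.subset_closure ⟨mem_D.2 (h_r 0), ho h_pow⟩
  have hh0 : h0 ∈ C := Subgroup.subset_closure ⟨mem_D.2 h0_r, ho h0_pow⟩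
  have hUD : U ≤ D := U_le_T.trans T_le_D
  have hQD : Q ≤ D := Q_le_T.trans T_le_D
  -- `U ≤ C V`
  have hU1 : ∀ u ∈ U, ∃ c ∈ C, ∃ v ∈ closure (Set.range r), u = c * v := by
    intro u hu
    obtain ⟨u', hu', v, hv, h1⟩ := U_comm hu
    refine ⟨u'⁻¹ * (h * u' * h⁻¹), ?_, v, hv, h1⟩
    have h2 : u'⁻¹ * (h * u' * h⁻¹) = (u'⁻¹ * h * (u'⁻¹)⁻¹) * h⁻¹ := by group
    rw [h2]
    exact mul_mem (hconj _ (inv_mem (hUD hu')) _ hh) (inv_mem hh)
  have hr : ∀ i, r i ∈ C := by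
    intro i
    obtain ⟨u, hu, h1⟩ := U_exists i
    obtain ⟨c, hc, v, hv, h2⟩ := hU1 u hu
    have h3 : v * v = 1 := by
      have h4 : v ∈ hT.E := by rw [Elem.E_eq_closure hT]; exact hv
      exact hT.E_sq v h4
    have h4 : u * v = v * u := U_clos hu hv
    have h5 : c = u * v := by rw [h2, mul_assoc, h3, mul_one]
    have h6 : r i = c * c := by
      rw [h5, ← h1]
      calc u * u = u * u * (v * v) := by rw [h3, mul_one]
        _ = u * (u * v) * v := by group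
        _ = u * (v * u) * v := by rw [h4]
        _ = _ := by group
    rw [h6]
    exact mul_mem hc hc
  have hV : closure (Set.range r) ≤ C := (closure_le _).2 (by rintro _ ⟨i, rfl⟩; exact hr i)
  have hU : U ≤ C := by
    intro u hu
    obtain ⟨c, hc, v, hv, h2⟩ := hU1 u hu
    rw [h2]
    exact mul_mem hc (hV hv)
  have hQ : Q ≤ C := by
    intro q hq
    obtain ⟨m, α, hm⟩ := exists_QD hq
    obtain ⟨β, h1⟩ := conj_vec h0_e0 hm (h0_vec hm.m0 hm.m4) (by simp [hm.m0])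
    obtain ⟨γ, h2⟩ := conj_vec h0_e0 h1 (h0_vec h1.m0 h1.m4) (by simp [hm.m0])
    set q' := h0 * q * h0⁻¹ with hq'
    -- `q'⁻¹ = q'` up to `r 0`
    have h3 := h1.mul h2
    have h4 : F4.w • m + F4.w • F4.w • m = m := by
      ext i
      simp only [Pi.add_apply, Pi.smul_apply, smul_eq_mul]
      have : ∀ x : F4, F4.w * x + F4.w * (F4.w * x) = x := by decide
      exact this _
    rw [h4] at h3
    have h5 : q' * (h0 * q' * h0⁻¹) ∈ C := by
      have h6 : q' * (h0 * q' * h0⁻¹) = (q' * q') * ((q'⁻¹ * h0 * (q'⁻¹)⁻¹) * h0⁻¹) := by group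
      rw [h6]
      refine mul_mem ?_ (mul_mem (hconj _ (inv_mem (hQD h1.mem)) _ hh0) (inv_mem hh0))
      rcases Q_sq h1.mem with h7 | h7
      · rw [h7]; exact one_mem _
      · rw [h7]; exact hr 0
    rcases h3.eq_or hm with h8 | h8
    · rw [h8]; exact h5
    · rw [h8]; exact mul_mem h5 (hr 0)
  have hT' : T ≤ C := by rw [← UQ_eq_T]; exact sup_le hU hQ
  -- the general element
  intro a ha
  obtain ⟨s, m, hm, hsm⟩ := Nat.exists_eq_two_pow_mul_odd (orderOf_pos a).ne'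
  have hcop : Nat.Coprime (2 ^ s) m := Nat.Coprime.pow_left s (Nat.coprime_two_left.2 hm)
  have h1 : a ^ (2 ^ s) ∈ C := by
    apply Subgroup.subset_closure
    refine ⟨pow_mem ha _, ?_⟩
    rw [orderOf_pow_of_dvd (by positivity) (by rw [hsm]; exact dvd_mul_right _ _), hsm,
      Nat.mul_div_cancel_left _ (by positivity)]
    exact hm
  have h2 : a ^ m ∈ C := by
    have h3 : IsPGroup 2 (zpowers (a ^ m)) := by
      apply IsPGroup.of_card (n := s)
      rw [Nat.card_zpowers, orderOf_pow_of_dvd hm.pos.ne' (by rw [hsm]; exact dvd_mul_left _ _), hsm,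
        Nat.mul_div_cancel _ hm.pos]
    obtain ⟨k, hk, hc⟩ := (isSyl_T.mono T_le_D le_top).exists_conj h3
      ((zpowers_le).2 (pow_mem ha m))
    have h4 := hT' (hc _ (mem_zpowers _))
    have h5 := hconj k⁻¹ (inv_mem hk) _ h4
    have h6 : k⁻¹ * (k * a ^ m * k⁻¹) * (k⁻¹)⁻¹ = a ^ m := by group
    rwa [h6] at h5
  obtain ⟨x, y, hxy⟩ : ∃ x y : ℤ, (2 ^ s : ℤ) * x + m * y = 1 := by
    have := Nat.gcd_eq_gcd_ab (2 ^ s) m
    rw [hcop] at this
    exact ⟨_, _, by push_cast at this; exact this.symm⟩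
  have h3 : a = (a ^ (2 ^ s)) ^ x * (a ^ m) ^ y := by
    calc a = a ^ ((2 ^ s : ℤ) * x + m * y) := by rw [hxy, zpow_one]
      _ = _ := by
        rw [_root_.zpow_add, _root_.zpow_mul, _root_.zpow_mul]
        congr 2
        · rw [← zpow_natCast]; push_cast; rfl
        · rw [zpow_natCast]
  rw [h3]
  exact mul_mem (zpow_mem h1 _) (zpow_mem h2 _)

theorem card_UQ : Nat.card ↥(U ⊓ Q) = 2 ^ 5 := by
  have h1 : U ⊓ Q = (M0.V ⊓ M0.Q).map em := (Subgroup.map_inf _ _ em em_injective).symm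
  rw [h1, natCard_map_inj _ em em_injective]
  have h2 : Nat.card ↥(M0.V ⊓ M0.Q) = countB (fun n => fV n && fQ n) 1024 := by
    rw [← M0.natCard_codes]
    apply Nat.card_congr
    exact Equiv.subtypeEquivRight fun x => by
      rw [Bool.and_eq_true]
      exact Iff.rfl
  rw [h2]
  decide +kernel

/-- The flag data for `MU`. -/
noncomputable def flag : Flag (⊤ : Subgroup MU) where
  r := r
  l := l
  h := h
  h0 := h0
  k1 := k1
  n2 := n2
  U := U
  Q := Q
  r_mem _ := mem_top _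
  l_mem _ := mem_top _
  h_mem := mem_top _
  h0_mem := mem_top _
  U_le := le_top
  Q_le := le_top
  r_sq := r_sq
  r_comm := r_comm
  r_prod := r_prod
  r_ne := r_ne 0
  l_r := l_r
  h_pow := h_pow
  h_ne := h_ne
  h_r := h_r
  h_l := h_l
  card_U := hT.card_V
  r_U := r_U
  U_r _ hu i := U_r hu i
  U_h _ hu := U_conj LV_h hu
  U_l _ hu σ := U_conj (LV_lvS _) hu
  U_sq _ hu := U_sq hu
  U_one _ hu h1 := U_one hu h1
  U_exists := U_exists
  U_line _ hu _ hu' h1 h2 := U_line hu hu' h1 h2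
  U_fix _ hu h1 := U_fix hu h1
  U_comm _ hu := U_comm hu
  card_Q := hT.card_Q
  card_UQ := card_UQ
  r_Q := r_Q
  Q_sq _ hq := Q_sq hq
  Q_r _ hq := Q_r hq
  Q_comm _ hq _ hq' := Q_comm hq hq'
  Q_nd _ hq h := Q_nd hq h
  Q_conj _ _ ha _ hq := Q_conj ha hq
  l_Q _ hσ := l_Q hσ
  Q_gen _ hq := Q_gen hq
  rr_Q _ _ hi hj := rr_Q hi hj
  r_nQ _ hi := r_nQ hi
  Q_inv x hx h1 h2 h3 := by
    obtain ⟨a, ha, i, j, h4⟩ := Q_inv hx h1 h2 h3
    exact ⟨a, mem_top _, ha, i, j, h4⟩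
  Q_irr N hN hD hx := Q_irr hN (fun a ha => hD a (mem_top _) ha) hx
  Q_pair := by
    obtain ⟨a, ha, h⟩ := Q_pair
    exact ⟨a, mem_top _, ha, h⟩
  Q_trans x hx y hy x' hx' y' hy' h1 h2 h3 h4 h5 h6 := by
    obtain ⟨a, ha, h⟩ := Q_trans hx hy hx' hy' h1 h2 h3 h4 h5 h6
    exact ⟨a, mem_top _, ha, h⟩
  D_index := D_index
  D_gen := D_gen
  h0_r := h0_r
  h0_pow := h0_pow
  h0_fix _ hq h := h0_fix hq h
  h0_comm _ _ ha := h0_comm ha
  h0_cent _ _ ha h := h0_cent ha fun b hb => h b (mem_top _) hb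
  k1_zero := k1_zero
  k1_one := k1_one
  k1_ne := k1_ne
  h1_UQ _ hu := h1_UQ hu
  h1_U _ hu h := h1_U hu h
  n2_mem := mem_top _
  n2_r := n2_r
  n2_sq := n2_sq
  n2_h := n2_h
  n2_k1 := n2_k1
  n2_l _ hσ := n2_l hσ
  n2_UQ _ hu hc := n2_UQ hu hc

end Cfsg.Agent.UFiveTwo.Model
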