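import Cfsg.Agent.UFiveTwo.ZeroFar
import Cfsg.Agent.UFiveTwo.ModelFlag

/-!
# The facts `FlagGeo` for the model `MU ≅ PSU₅(2)`
-/

set_option autoImplicit false
set_option maxRecDepth 100000

namespace Cfsg.Agent.UFiveTwo.Model

open Matrix Cfsg.Agent.Lib.FieldFour
open Cfsg.Agent.SylowU5.Model Cfsg.Agent.SylowU5.Basic Cfsg.Agent.SylowU5

theorem mt_conj_r (a : MU) (i : Fin 5) : mt (a * r i * a⁻¹) = tv (mt a *ᵥ vv i) := by
  have h1 : mt (a * r i * a⁻¹) * mt a = tv (mt a *ᵥ vv i) * mt a := by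
    rw [← mt_mul, inv_mul_cancel_right, mt_mul, mt_r, tv_conj]
  have h2 : mt a * mt a⁻¹ = 1 := by rw [← mt_mul, mul_inv_cancel, mt_one]
  calc mt (a * r i * a⁻¹) = mt (a * r i * a⁻¹) * (mt a * mt a⁻¹) := by rw [h2, Matrix.mul_one]
    _ = tv (mt a *ᵥ vv i) * (mt a * mt a⁻¹) := by rw [← Matrix.mul_assoc, h1, Matrix.mul_assoc]
    _ = _ := by rw [h2, Matrix.mul_one]

theorem tv_comm {u v : Fin 5 → F4} (h : bf u v = 0) : tv u * tv v = tv v * tv u := by
  have h' : bf v u = 0 := by rw [← cj_bf, h, cj_zero]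
  have key : ∀ x, (tv u * tv v) *ᵥ x = (tv v * tv u) *ᵥ x := by
    intro x
    rw [← Matrix.mulVec_mulVec, ← Matrix.mulVec_mulVec, tv_mulVec, tv_mulVec, tv_mulVec, tv_mulVec,
      bf_add_left, bf_add_left, bf_smul_left, bf_smul_left, h, h', mul_zero, mul_zero, add_zero, add_zero]
    abel
  ext i j
  have := congrFun (key (e j)) i
  rwa [col, col] at this

theorem chk_perp : ∀ a b : F4, ∃ i : Fin 5, F4.add (F4.mul (v2 i).1 (cj b)) (F4.mul (v2 i).2 (cj a)) = F4.o := by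
  decide +kernel

theorem geo_perp (a : MU) : ∃ i, (a * r 0 * a⁻¹) * r i = r i * (a * r 0 * a⁻¹) := by
  set u := mt a *ᵥ vv 0 with hu
  obtain ⟨i, hi⟩ := chk_perp (u 3) (u 4)
  refine ⟨i, ?_⟩
  apply mt_inj
  rw [mt_mul (a * r 0 * a⁻¹), mt_mul (r i), mt_conj_r, mt_r]
  apply tv_comm
  have h1 : bf (vv i) u = 0 := by
    rw [vv_eq i, bf_add_left, bf_smul_left, bf_smul_left]
    have h0 : bf (e 0) u = cj (u 4) := by rw [← cj_bf, bf_e0]
    have h1 : bf (e 1) u = cj (u 3) := by rw [← cj_bf, bf_e1]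
    rw [h0, h1]
    exact hi
  rw [← cj_bf, h1, cj_zero]

theorem chk_coll : ∀ c : F4, ∃ i : Fin 5, ∃ μ : F4, μ ≠ F4.o ∧ c = F4.mul μ (v2 i).1 ∧ F4.i = F4.mul μ (v2 i).2 := by
  decide +kernel

theorem geo_coll (a : MU) (h : (a * r 0 * a⁻¹) * r 0 = r 0 * (a * r 0 * a⁻¹)) :
    ∃ d : MU, d * r 0 = r 0 * d ∧ ∃ i, a * r 0 * a⁻¹ = d * r i * d⁻¹ := by
  set u := mt a *ᵥ vv 0 with hu
  have hu0 : bf u u = 0 := by
    rw [hu, mt_bf, vv0, bf_e0]; simp
  have hune : u ≠ 0 := by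
    intro h0
    have h1 := mt_inv_mulVec a (vv 0)
    rw [← hu, h0, Matrix.mulVec_zero] at h1
    exact vv_ne 0 h1.symm
  have h4 : u 4 = 0 := by
    by_contra hne
    obtain ⟨c, hc, h1⟩ := (comm_r0_iff _).1 h
    rw [mt_conj_r, ← hu, tv_mulVec] at h1
    have h2 : bf (e 0) u = cj (u 4) := by rw [← cj_bf, bf_e0]
    rw [h2] at h1
    have h3 := congrFun h1 4
    simp at h3
    rcases h3 with h3 | h3
    · exact cj_ne hne h3
    · exact hne h3
  set m : Fin 5 → F4 := fun i => if i = 0 then 0 else u i with hm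
  have hum : u = u 0 • e 0 + m := by
    ext i
    by_cases hi : i = 0
    · subst hi; simp [hm]
    · simp [hm, hi]
  by_cases hm0 : m = 0
  · refine ⟨1, by rw [one_mul, mul_one], 0, ?_⟩
    have h5 : u 0 ≠ 0 := by
      intro h6
      apply hune
      rw [hum, h6, hm0, zero_smul, zero_add]
    apply mt_inj
    rw [mt_conj_r, mt_conj_r, ← hu, mt_one, Matrix.one_mulVec, hum, hm0, add_zero, vv0, tv_smul h5]
  · have hmm : bf m m = 0 := by
      have h5 := hu0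
      rw [bf_def] at h5 ⊢
      have e0 : m 0 = 0 := by simp [hm]
      have e1 : m 1 = u 1 := by simp [hm]
      have e2 : m 2 = u 2 := by simp [hm]
      have e3 : m 3 = u 3 := by simp [hm]
      have e4 : m 4 = 0 := by simp [hm, h4]
      rw [h4] at h5
      rw [e0, e1, e2, e3, e4]
      simp only [cj_zero, mul_zero, zero_mul, zero_add] at h5 ⊢
      exact h5
    obtain ⟨g, hg0, hg1⟩ := exists_one (by simp [hm]) (by simp [hm, h4]) hmm hm0
    obtain ⟨i, μ, hμ, h5, h6⟩ := chk_coll (u 0)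
    refine ⟨g, comm_of_fix hg0, i, ?_⟩
    apply mt_inj
    rw [mt_conj_r, mt_conj_r, ← hu]
    have h7 : u = μ • (mt g *ᵥ vv i) := by
      rw [vv_eq i, Matrix.mulVec_add, Matrix.mulVec_smul, Matrix.mulVec_smul, hg0, hg1, smul_add, smul_smul, smul_smul]
      have e1 : μ * (v2 i).1 = u 0 := h5.symm
      have e2 : μ * (v2 i).2 = 1 := h6.symm
      rw [e1, e2, one_smul]
      exact hum
    rw [h7, tv_smul hμ]

theorem flagGeo : FlagGeo (⊤ : Subgroup MU) flag where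
  perp a _ := geo_perp a
  coll a _ h := by
    obtain ⟨d, hd, i, h1⟩ := geo_coll a h
    exact ⟨d, Subgroup.mem_top _, hd, i, h1⟩

end Cfsg.Agent.UFiveTwo.Model
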