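import Cfsg.Agent.UFiveTwo.POne
import Cfsg.Agent.UFiveTwo.AutOut
import Cfsg.Agent.UFiveTwo.ZeroGeo

/-!
# S1778, type `U₅(2)`: P1, final form
-/

set_option autoImplicit false
set_option maxRecDepth 10000
set_option linter.unusedSectionVars false

namespace Cfsg.Agent.UFiveTwo

open Subgroup Cfsg.Agent.StdEven.Syl
open Model (MU Inn fr)

universe u

namespace Model

theorem Dg_h0 : Dg h0 ![1, Cfsg.Agent.Lib.FieldFour.F4.w, Cfsg.Agent.Lib.FieldFour.F4.w,
    Cfsg.Agent.Lib.FieldFour.F4.w, 1] := by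
  refine ⟨?_, mt_h0⟩
  intro i
  fin_cases i <;> decide

theorem fr_h0 : fr h0 = h0⁻¹ := Dg_h0.fr

theorem split_model {φ : MulAut MU} (hout : ¬ Inn φ) : ∃ a : MU, ∀ x, φ (a * φ (a * x * a⁻¹) * a⁻¹) = x := by
  obtain ⟨b, hb⟩ := (aut_MU φ).resolve_left hout
  refine ⟨fr b⁻¹, fun x => ?_⟩
  have h1 : ∀ x, φ (fr b⁻¹ * x * (fr b⁻¹)⁻¹) = fr x := by
    intro x
    rw [hb, map_mul, map_mul, map_inv fr (fr b⁻¹), fr_fr]
    group
  rw [h1, h1, fr_fr]

theorem inv0_model {φ : MulAut MU} (h0' : φ (r 0) = r 0) (hout : ¬ Inn φ) : φ h0 * h0 ∈ Q := by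
  obtain ⟨b, hb⟩ := (aut_MU φ).resolve_left hout
  have h1 : b * r 0 = r 0 * b := by
    rw [hb, fr_r0] at h0'
    exact mul_inv_eq_iff_eq_mul.1 h0'
  rw [hb, fr_h0]
  have h2 := h0_comm h1
  have h3 : b * h0⁻¹ * b⁻¹ * h0 = h0⁻¹ * (b * h0 * b⁻¹ * h0⁻¹)⁻¹ * h0 := by group
  rw [h3]
  have h4 := Q_conj (a := h0⁻¹) (by
    have := h0_r
    calc h0⁻¹ * r 0 = h0⁻¹ * (r 0 * h0) * h0⁻¹ := by group
      _ = h0⁻¹ * (h0 * r 0) * h0⁻¹ := by rw [← this]
      _ = _ := by group) (inv_mem h2)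
  rwa [inv_inv] at h4

end Model

section

variable {X : Type u} [Group X] {A : Subgroup X} (e : A ≃* MU)

theorem flagOut : FlagOut A (flA e) where
  split g hg hout := by
    rw [inner_iff e hg] at hout
    obtain ⟨a, ha⟩ := Model.split_model hout
    refine ⟨io e a, io_mem e a, ?_⟩
    rw [mem_cent e]
    intro m
    have h1 : io e m = (g * io e a * (g * io e a)) * io e m * (g * io e a * (g * io e a))⁻¹ := by
      conv_lhs => rw [← ha m]
      rw [psi_spec, map_mul, map_mul, map_inv, psi_spec, map_mul, map_mul, map_inv]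
      change g * (io e a * (g * (io e a * io e m * (io e a)⁻¹) * g⁻¹) * (io e a)⁻¹) * g⁻¹ = _
      group
    exact (eq_mul_inv_iff_mul_eq.1 h1).symm
  inv0 g hg h0 hout := by
    rw [inner_iff e hg] at hout
    have h1 : psi e ⟨g, hg⟩ (Model.r 0) = Model.r 0 := io_inj e (by
      rw [psi_spec]
      have h1 : g * io e (Model.r 0) = io e (Model.r 0) * g := h0
      change g * io e (Model.r 0) * g⁻¹ = _
      rw [h1, mul_inv_cancel_right])
    refine ⟨_, Model.inv0_model h1 hout, ?_⟩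
    rw [map_mul, psi_spec]
    rfl

theorem flagGeo_map : FlagGeo A (flA e) where
  perp a ha := by
    obtain ⟨m, rfl⟩ := exists_io e ha
    obtain ⟨i, hi⟩ := Model.flagGeo.perp m (mem_top _)
    refine ⟨i, ?_⟩
    have := congrArg (io e) hi
    rw [map_mul, map_mul, map_mul, map_mul, map_mul, map_mul, map_inv] at this
    exact this
  coll a ha h := by
    obtain ⟨m, rfl⟩ := exists_io e ha
    have h1 : (m * Model.r 0 * m⁻¹) * Model.r 0 = Model.r 0 * (m * Model.r 0 * m⁻¹) := io_inj e (by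
      have h' : io e m * io e (Model.r 0) * (io e m)⁻¹ * io e (Model.r 0) =
        io e (Model.r 0) * (io e m * io e (Model.r 0) * (io e m)⁻¹) := h
      simpa using h')
    obtain ⟨d, -, hd, i, hi⟩ := Model.flagGeo.coll m (mem_top _) h1
    refine ⟨io e d, io_mem e d, ?_, i, ?_⟩
    · have := congrArg (io e) hd
      rw [map_mul, map_mul] at this
      exact this
    · have := congrArg (io e) hi
      rw [map_mul, map_mul, map_mul, map_mul, map_inv, map_inv] at this
      exact this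

end

/-- **P1, final form.** -/
theorem p1_full (X : Type u) [Group X] [Finite X] (A : Subgroup X) (F : Type) [Field F] [Fintype F]
    (hF : Fintype.card F = 4) (hA : Nonempty (↥A ≃* Cfsg.PSU 5 F 2)) :
    ∃ Fl : Flag A, FlagAut A Fl ∧ FlagOut A Fl ∧ FlagGeo A Fl := by
  obtain ⟨e0⟩ := hA
  obtain ⟨e⟩ := Model.exists_equiv hF e0
  exact ⟨flA e, flagAut e, flagOut e, flagGeo_map e⟩

end Cfsg.Agent.UFiveTwo
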