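import Cfsg.Agent.SwapEnd.Swap
import Cfsg.Agent.UFiveTwo.CenFacts
import Cfsg.Agent.UFiveTwo.POneFull

/-!
# S1778, type `U₅(2)`, split case: the facts on `N_G(M)` for a perfect group `M` with `M / Z(M) ≅ U₅(2)`, `Z(M)` odd
-/

set_option autoImplicit false
set_option linter.unusedSectionVars false

namespace Cfsg.Agent.UFiveTwo.CenLift

open Subgroup Cfsg.Agent.SwapEnd Cfsg.Agent.StdEven.Syl
open scoped commutatorElement

universe u

/-- The fields `inv ind o1 o2 o3` of `SwapEnd.Hyp`. -/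
structure MFacts {G : Type u} [Group G] (M : Subgroup G) (c e u : ℕ) : Prop where
  inv : ∃ v ∈ M, v * v = 1 ∧ ∃ m ∈ M, v * m ≠ m * v
  ind : ∀ x ∈ normalizer (M : Set G), ∀ y ∈ normalizer (M : Set G), ¬ Inn M x → ¬ Inn M y → Inn M (x * y)
  o1 : ∀ f ∈ normalizer (M : Set G), f * f = 1 → ¬ Inn M f → ∀ R : Subgroup G, IsPGroup 2 R →
    (∀ r ∈ R, Inn M r ∧ r * f = f * r) → Nat.card R ≤ c * Nat.card (R ⊓ centralizer (M : Set G) : Subgroup G)
  o2 : ∀ f ∈ normalizer (M : Set G), f * f = 1 → ∃ E ≤ M, (∀ x ∈ E, x * x = 1) ∧ (∀ x ∈ E, x * f = f * x) ∧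
    e ≤ Nat.card E
  o3 : ∀ f ∈ normalizer (M : Set G), f * f = 1 → Inn M f →
    ∃ U ≤ M, IsPGroup 2 U ∧ (∀ x ∈ U, x * f = f * x) ∧ u ≤ Nat.card U

section Aut

variable {K : Type u} [Group K]

/-- `C_{Aut K}(Inn K) = 1` for `K` perfect -/
theorem aut_eq_one (hp : _root_.commutator K = ⊤) {α : MulAut K}
    (h : ∀ m : K, α * MulAut.conj m = MulAut.conj m * α) : α = 1 := by
  have h1 : ∀ m : K, m⁻¹ * α m ∈ center K := by
    intro m
    rw [mem_center_iff]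
    intro g
    obtain ⟨x, rfl⟩ := α.surjective g
    have h2 : α (m * x * m⁻¹) = m * α x * m⁻¹ := DFunLike.congr_fun (h m) x
    rw [map_mul, map_mul, map_inv] at h2
    have h3 : α x = (m⁻¹ * α m) * α x * (m⁻¹ * α m)⁻¹ := by
      calc α x = m⁻¹ * (m * α x * m⁻¹) * m := by group
        _ = m⁻¹ * (α m * α x * (α m)⁻¹) * m := by rw [h2]
        _ = _ := by group
    calc α x * (m⁻¹ * α m) = (m⁻¹ * α m) * α x * (m⁻¹ * α m)⁻¹ * (m⁻¹ * α m) := by rw [← h3]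
      _ = _ := by group
  let z : K →* center K :=
    { toFun := fun m => ⟨m⁻¹ * α m, h1 m⟩
      map_one' := Subtype.ext (by simp)
      map_mul' := fun m n => Subtype.ext (by
        show (m * n)⁻¹ * α (m * n) = m⁻¹ * α m * (n⁻¹ * α n)
        have h2 := mem_center_iff.1 (h1 m) n⁻¹
        calc (m * n)⁻¹ * α (m * n) = n⁻¹ * (m⁻¹ * α m) * α n := by rw [map_mul]; group
          _ = _ := by rw [h2]; group) }
  have h2 : ∀ m : K, z m = 1 := by
    intro m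
    have h3 : _root_.commutator K ≤ z.ker := by
      rw [commutator_def, commutator_le]
      intro a _ b _
      rw [MonoidHom.mem_ker, map_commutatorElement, commutatorElement_eq_one_iff_mul_comm]
      exact Subtype.ext (mem_center_iff.1 (z b).2 _)
    rw [hp] at h3
    exact h3 (mem_top m)
  ext m
  have h3 : m⁻¹ * α m = 1 := congrArg Subtype.val (h2 m)
  exact (inv_mul_eq_one.1 h3).symm

theorem conj_range_normal (g : MulAut K) {a : MulAut K} (ha : a ∈ (MulAut.conj : K →* MulAut K).range) :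
    g * a * g⁻¹ ∈ (MulAut.conj : K →* MulAut K).range := by
  obtain ⟨m, rfl⟩ := ha
  refine ⟨g m, ?_⟩
  ext x
  show g m * x * (g m)⁻¹ = g (m * g⁻¹ x * m⁻¹)
  rw [map_mul, map_mul, map_inv, MulAut.apply_inv_self]

theorem mem_norm [Finite K] (g : MulAut K) : g ∈ normalizer ((MulAut.conj : K →* MulAut K).range : Set (MulAut K)) :=
  mem_normalizer_of_conj_le fun _ ha => conj_range_normal g ha

theorem range_equiv : Nonempty ((K ⧸ center K) ≃* ↥((MulAut.conj : K →* MulAut K).range)) := by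
  have h1 : (MulAut.conj : K →* MulAut K).ker = center K := by
    ext x
    rw [MonoidHom.mem_ker, mem_center_iff]
    constructor
    · intro h g
      have h2 : x * g * x⁻¹ = g := DFunLike.congr_fun h g
      calc g * x = x * g * x⁻¹ * x := by rw [h2]
        _ = x * g := by group
    · intro h
      ext g
      show x * g * x⁻¹ = g
      rw [← h g, mul_inv_cancel_right]
  exact ⟨(QuotientGroup.quotientMulEquivOfEq h1.symm).trans (QuotientGroup.quotientKerEquivRange _)⟩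

end Aut

section

variable {G : Type u} [Group G] {M : Subgroup G}

/-- the action of `N(M)` on `M` -/
def psi (M : Subgroup G) : ↥(normalizer (M : Set G)) →* MulAut M := M.normalizerMonoidHom

theorem psi_apply (y : ↥(normalizer (M : Set G))) (m : M) : ((psi M y m : M) : G) = y * m * (y : G)⁻¹ := rfl

/-- `Inn(M)` in `Aut(M)` -/
def Ab (M : Subgroup G) : Subgroup (MulAut M) := (MulAut.conj : M →* MulAut M).range

theorem psi_M {m : G} (hm : m ∈ M) (hm' : m ∈ normalizer (M : Set G)) : psi M ⟨m, hm'⟩ = MulAut.conj ⟨m, hm⟩ := by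
  ext x
  rfl

theorem mem_ker {y : ↥(normalizer (M : Set G))} : psi M y = 1 ↔ ∀ m ∈ M, (y : G) * m = m * y := by
  constructor
  · intro h m hm
    have h1 := congrArg Subtype.val (DFunLike.congr_fun h ⟨m, hm⟩)
    change (y : G) * m * (y : G)⁻¹ = m at h1
    exact mul_inv_eq_iff_eq_mul.1 h1
  · intro h
    ext m
    show (y : G) * m * (y : G)⁻¹ = m
    rw [h m m.2, mul_inv_cancel_right]

theorem psi_eq_iff {y y' : ↥(normalizer (M : Set G))} : psi M y = psi M y' ↔ ∀ m ∈ M, ((y : G)⁻¹ * y') * m = m * ((y : G)⁻¹ * y') := by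
  rw [← inv_mul_eq_one, ← map_inv, ← map_mul, mem_ker]
  rfl

theorem inn_iff {y : ↥(normalizer (M : Set G))} : Inn M (y : G) ↔ psi M y ∈ Ab M := by
  constructor
  · rintro ⟨m, hm, h⟩
    refine ⟨⟨m, hm⟩, ?_⟩
    have hmN : m ∈ normalizer (M : Set G) := le_normalizer hm
    rw [← psi_M hm hmN, psi_eq_iff]
    exact h
  · rintro ⟨m, hm⟩
    refine ⟨m, m.2, ?_⟩
    have hmN : (m : G) ∈ normalizer (M : Set G) := le_normalizer m.2
    have h1 : psi M ⟨m, hmN⟩ = psi M y := by rw [psi_M m.2 hmN]; exact hm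
    rw [psi_eq_iff] at h1
    exact h1

theorem Inn.mem_normalizer [Finite G] {y : G} (h : Inn M y) : y ∈ normalizer (M : Set G) := by
  obtain ⟨m, hm, h1⟩ := h
  have h2 : y = m * (m⁻¹ * y) := by group
  rw [h2]
  refine mul_mem (le_normalizer hm) ?_
  refine mem_normalizer_of_conj_le fun a ha => ?_
  rw [h1 a ha, mul_inv_cancel_right]
  first | done | exact ha

/-! ### `M` perfect with odd center -/

variable [Finite G]

theorem perf_type (hp : ⁅M, M⁆ = M) : _root_.commutator ↥M = ⊤ := by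
  rw [commutator_def]
  apply Subgroup.map_injective M.subtype_injective
  rw [Subgroup.map_commutator, ← MonoidHom.range_eq_map, Subgroup.range_subtype, hp]

theorem cent_Ab (hp : ⁅M, M⁆ = M) {c : MulAut M} (hc : ∀ a ∈ Ab M, c * a = a * c) : c = 1 :=
  aut_eq_one (perf_type hp) fun m => hc _ ⟨m, rfl⟩

theorem odd_cent (hZ : Odd (Nat.card (center ↥M))) {z : G} (hz : z ∈ M) (hc : ∀ m ∈ M, z * m = m * z) {k : ℕ}
    (hk : z ^ 2 ^ k = 1) : z = 1 := by
  have h1 : (⟨z, hz⟩ : M) ∈ center ↥M := mem_center_iff.2 fun g => Subtype.ext (hc g g.2).symm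
  have h2 : (⟨z, hz⟩ : M) = 1 := SwapEnd.eq_one_of_two_odd hZ h1 (k := k) (Subtype.ext hk)
  exact congrArg Subtype.val h2

/-- 2-elements of `M` and elements of `N(M)`: commuting modulo the center is commuting -/
theorem comm_of_psi (hZ : Odd (Nat.card (center ↥M))) {f e : G} (hf : f ∈ normalizer (M : Set G)) (he : e ∈ M) {k : ℕ}
    (hk : e ^ 2 ^ k = 1) (h : psi M ⟨f, hf⟩ * MulAut.conj ⟨e, he⟩ = MulAut.conj ⟨e, he⟩ * psi M ⟨f, hf⟩) :
    e * f = f * e := by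
  have hfe : f * e * f⁻¹ ∈ M := (hf e).1 he
  have hw : e⁻¹ * (f * e * f⁻¹) ∈ M := mul_mem (inv_mem he) hfe
  have hc : ∀ m ∈ M, e⁻¹ * (f * e * f⁻¹) * m = m * (e⁻¹ * (f * e * f⁻¹)) := by
    intro m hm
    have hfi : f⁻¹ * m * f ∈ M := by
      have h1 := (inv_mem hf m).1 hm
      rwa [inv_inv] at h1
    have h1 := congrArg Subtype.val (DFunLike.congr_fun h ⟨f⁻¹ * m * f, hfi⟩)
    have h2 : f * (e * (f⁻¹ * m * f) * e⁻¹) * f⁻¹ = e * (f * (f⁻¹ * m * f) * f⁻¹) * e⁻¹ := h1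
    have h3 : (f * e * f⁻¹) * m * (f * e * f⁻¹)⁻¹ = e * m * e⁻¹ := by
      calc (f * e * f⁻¹) * m * (f * e * f⁻¹)⁻¹ = f * (e * (f⁻¹ * m * f) * e⁻¹) * f⁻¹ := by group
        _ = e * (f * (f⁻¹ * m * f) * f⁻¹) * e⁻¹ := h2
        _ = _ := by group
    calc e⁻¹ * (f * e * f⁻¹) * m = e⁻¹ * ((f * e * f⁻¹) * m * (f * e * f⁻¹)⁻¹) * (f * e * f⁻¹) := by group
      _ = e⁻¹ * (e * m * e⁻¹) * (f * e * f⁻¹) := by rw [h3]
      _ = _ := by group
  have h1 : (e⁻¹ * (f * e * f⁻¹)) ^ 2 ^ k = 1 := by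
    have hce : Commute e⁻¹ (f * e * f⁻¹) := by
      have h2 := hc e⁻¹ (inv_mem he)
      have h3 : e⁻¹ * (f * e * f⁻¹) * e⁻¹ = e⁻¹ * (e⁻¹ * (f * e * f⁻¹)) := h2
      have h4 : (f * e * f⁻¹) * e⁻¹ = e⁻¹ * (f * e * f⁻¹) := by
        rw [mul_assoc] at h3
        exact mul_left_cancel h3
      exact h4.symm
    rw [hce.mul_pow, inv_pow, hk, inv_one, one_mul, conj_pow, hk, mul_one, mul_inv_cancel]
  have h2 := odd_cent hZ hw hc h1
  have h3 : e = f * e * f⁻¹ := inv_mul_eq_one.1 h2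
  exact eq_mul_inv_iff_mul_eq.1 h3

/-- lifts of 2-subgroups of `Inn(M)` -/
theorem exists_E {F : Subgroup (MulAut M)} (hF : IsPGroup 2 F) (hFA : F ≤ Ab M) :
    ∃ E : Subgroup G, E ≤ M ∧ IsPGroup 2 E ∧ (∀ (x : G) (_ : x ∈ E) (hx : x ∈ M), MulAut.conj ⟨x, hx⟩ ∈ F) ∧
      (∀ a ∈ F, ∃ (x : G) (_ : x ∈ E) (hx : x ∈ M), MulAut.conj ⟨x, hx⟩ = a) ∧ Nat.card F ≤ Nat.card E := by
  have : Fact (Nat.Prime 2) := ⟨Nat.prime_two⟩
  let N : Subgroup M := F.comap (MulAut.conj : M →* MulAut M)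
  let f : N →* F := ((MulAut.conj : M →* MulAut M).comp N.subtype).codRestrict F fun x => x.2
  have hf : Function.Surjective f := by
    rintro ⟨s, hs⟩
    obtain ⟨x, hx⟩ := hFA hs
    exact ⟨⟨x, by rw [mem_comap, hx]; exact hs⟩, Subtype.ext hx⟩
  obtain ⟨P⟩ : Nonempty (Sylow 2 N) := inferInstance
  have hP : ((P : Subgroup N).map f) = ⊤ := by
    have h1 := (P.mapSurjective hf).is_maximal' (Q := ⊤) (hF.of_equiv Subgroup.topEquiv.symm) le_top
    rw [Sylow.coe_mapSurjective] at h1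
    exact h1.symm
  have key : ∀ s ∈ F, ∃ x : N, x ∈ P ∧ MulAut.conj (x : M) = s := by
    intro s hs
    have h1 : (⟨s, hs⟩ : F) ∈ (P : Subgroup N).map f := by rw [hP]; exact mem_top _
    obtain ⟨x, hx, h2⟩ := h1
    exact ⟨x, hx, congrArg Subtype.val h2⟩
  have hE : ∀ (x : G), x ∈ ((P : Subgroup N).map N.subtype).map M.subtype ↔ ∃ y : N, y ∈ P ∧ ((y : M) : G) = x := by
    intro x
    constructor
    · rintro ⟨_, ⟨y, hy, rfl⟩, rfl⟩
      exact ⟨y, hy, rfl⟩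
    · rintro ⟨y, hy, rfl⟩
      exact ⟨_, ⟨y, hy, rfl⟩, rfl⟩
  refine ⟨((P : Subgroup N).map N.subtype).map M.subtype, ?_, (P.isPGroup'.map _).map _, ?_, ?_, ?_⟩
  · rintro _ ⟨x, -, rfl⟩
    exact x.2
  · intro x hx hxM
    obtain ⟨y, hy, rfl⟩ := (hE x).1 hx
    exact y.2
  · intro a ha
    obtain ⟨x, hx, h1⟩ := key a ha
    exact ⟨x, (hE _).2 ⟨x, hx, rfl⟩, (x : M).2, h1⟩
  · have h1 : Nat.card ↥(((P : Subgroup N).map N.subtype).map M.subtype) = Nat.card P := by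
      rw [← Nat.card_congr (((P : Subgroup N).map N.subtype).equivMapOfInjective M.subtype M.subtype_injective).toEquiv,
        ← Nat.card_congr ((P : Subgroup N).equivMapOfInjective N.subtype N.subtype_injective).toEquiv]
    rw [h1]
    have h2 : Nat.card ((P : Subgroup N).map f) ≤ Nat.card P :=
      Nat.card_le_card_of_surjective (fun x : P => (⟨f x, ⟨x, x.2, rfl⟩⟩ : (P : Subgroup N).map f))
        (by rintro ⟨_, x, hx, rfl⟩; exact ⟨⟨x, hx⟩, rfl⟩)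
    rwa [hP, Nat.card_congr (Subgroup.topEquiv (G := F)).toEquiv] at h2

/-- orders: image of a subgroup of `N(M)` in `Aut(M)` -/
theorem card_image {R : Subgroup G} (hR : R ≤ normalizer (M : Set G)) :
    Nat.card R = Nat.card ↥((psi M).comp (inclusion hR)).range * Nat.card (R ⊓ centralizer (M : Set G) : Subgroup G) := by
  set ρ : R →* MulAut M := (psi M).comp (inclusion hR) with hρ
  have h1 : ρ.ker = (R ⊓ centralizer (M : Set G)).subgroupOf R := by
    ext x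
    rw [MonoidHom.mem_ker, mem_subgroupOf, mem_inf]
    have h2 : ρ x = psi M ⟨x, hR x.2⟩ := rfl
    rw [h2, mem_ker, mem_centralizer_iff]
    constructor
    · intro h
      exact ⟨x.2, fun m hm => (h m hm).symm⟩
    · intro h m hm
      exact (h.2 m hm).symm
  have h2 := ρ.ker.card_mul_index
  rw [Subgroup.index_ker, mul_comm] at h2
  rw [← h2, h1, Nat.card_congr (subgroupOfEquivOfLe (inf_le_left : R ⊓ centralizer (M : Set G) ≤ R)).toEquiv]

/-- **The facts on `N_G(M)`.** -/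
theorem mfacts (hp : ⁅M, M⁆ = M) (hZ : Odd (Nat.card (center ↥M)))
    (hQ : ∃ (K : Type) (_ : Field K) (_ : Fintype K), Fintype.card K = 4 ∧
      Nonempty ((↥M ⧸ center ↥M) ≃* Cfsg.PSU 5 K 2)) : MFacts M 16 8 256 := by
  have : Fact (Nat.Prime 2) := ⟨Nat.prime_two⟩
  obtain ⟨K, iK, iK', hK, ⟨e⟩⟩ := hQ
  obtain ⟨e1⟩ := range_equiv (K := ↥M)
  have hA : Nonempty (↥(Ab M) ≃* Cfsg.PSU 5 K 2) := ⟨e1.symm.trans e⟩
  obtain ⟨Fl, FA, -, -⟩ := p1_full (MulAut M) (Ab M) K hK hA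
  have FC := flagCen (MulAut M) (Ab M) K hK hA
  have hinner : ∀ g : MulAut M, UFiveTwo.Inner (Ab M) g ↔ g ∈ Ab M := by
    intro g
    constructor
    · rintro ⟨a, ha, h⟩
      have h1 := cent_Ab hp (c := a⁻¹ * g) fun b hb => (mem_centralizer_iff.1 h b hb).symm
      rw [inv_mul_eq_one] at h1
      rwa [← h1]
    · intro h
      exact ⟨g, h, by rw [inv_mul_cancel]; exact one_mem _⟩
  have hcomm : ∀ {f : G} (hf : f ∈ normalizer (M : Set G)) {F : Subgroup (MulAut M)} {E' : Subgroup G},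
      IsPGroup 2 E' → (∀ x ∈ F, x * psi M ⟨f, hf⟩ = psi M ⟨f, hf⟩ * x) → E' ≤ M →
      (∀ (x : G) (_ : x ∈ E') (hx : x ∈ M), MulAut.conj ⟨x, hx⟩ ∈ F) → ∀ x ∈ E', x * f = f * x := by
    intro f hf F E' h2 h3 h4 h5 x hx
    obtain ⟨k, hk⟩ := h2 ⟨x, hx⟩
    exact comm_of_psi hZ hf (h4 hx) (congrArg Subtype.val hk) (h3 _ (h5 x hx (h4 hx))).symm
  have hsq : ∀ {f : G} (hf : f ∈ normalizer (M : Set G)), f * f = 1 → psi M ⟨f, hf⟩ * psi M ⟨f, hf⟩ = 1 := by
    intro f hf h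
    rw [← map_mul, ← map_one (psi M)]
    congr 1
    exact Subtype.ext h
  refine ⟨?_, ?_, ?_, ?_, ?_⟩
  · -- inv
    have hr := Fl.r_mem 0
    have hz : IsPGroup 2 (zpowers (Fl.r 0)) := by
      rintro ⟨y, n, rfl⟩
      refine ⟨1, Subtype.ext ?_⟩
      show (Fl.r 0 ^ n) ^ 2 ^ 1 = 1
      rw [← zpow_natCast, ← zpow_mul, mul_comm, zpow_mul, zpow_natCast, pow_one, pow_two, Fl.r_sq, one_zpow]
    obtain ⟨E, hE, hE2, -, h3, -⟩ := exists_E hz (by rw [zpowers_le]; exact hr)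
    obtain ⟨x, hxE, hxM, hx⟩ := h3 _ (mem_zpowers (Fl.r 0))
    have hxN : x ∈ normalizer (M : Set G) := le_normalizer hxM
    obtain ⟨k, hk⟩ := hE2 ⟨x, hxE⟩
    have hk' : x ^ 2 ^ k = 1 := congrArg Subtype.val hk
    have hxx : x * x = 1 := by
      have h4 : psi M (⟨x, hxN⟩ * ⟨x, hxN⟩) = 1 := by
        rw [map_mul, psi_M hxM, hx, Fl.r_sq]
      have h5 := mem_ker.1 h4
      refine odd_cent hZ (mul_mem hxM hxM) h5 (k := k) ?_
      rw [← pow_two, ← pow_mul, mul_comm, pow_mul, hk', one_pow]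
    refine ⟨x, hxM, hxx, ?_⟩
    by_contra hcon
    push Not at hcon
    have h4 : psi M ⟨x, hxN⟩ = 1 := mem_ker.2 hcon
    rw [psi_M hxM, hx] at h4
    exact Fl.r_ne h4
  · -- ind
    intro x hx y hy h1 h2
    rw [inn_iff (y := ⟨x, hx⟩), ← hinner] at h1
    rw [inn_iff (y := ⟨y, hy⟩), ← hinner] at h2
    refine (inn_iff (y := ⟨x, hx⟩ * ⟨y, hy⟩)).2 ?_
    rw [← hinner, map_mul]
    exact FA.ind _ (mem_norm _) _ (mem_norm _) h1 h2
  · -- o1
    intro f hf hff hfi R hR hRi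
    have hRN : R ≤ normalizer (M : Set G) := fun r hr => Inn.mem_normalizer (hRi r hr).1
    rw [card_image hRN]
    refine Nat.mul_le_mul_right _ ?_
    refine FC.o1 (psi M ⟨f, hf⟩) (mem_norm _) (hsq hf hff) ?_ _ ?_ ?_ ?_
    · rintro ⟨a, ha, h⟩
      apply hfi
      rw [inn_iff (y := ⟨f, hf⟩)]
      have h1 := cent_Ab hp (c := a⁻¹ * psi M ⟨f, hf⟩) h
      rw [inv_mul_eq_one] at h1
      rwa [← h1]
    · rintro _ ⟨r, rfl⟩
      have h1 : Inn M ((⟨r, hRN r.2⟩ : ↥(normalizer (M : Set G))) : G) := (hRi r r.2).1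
      exact inn_iff.1 h1
    · have h1 := (hR.of_equiv Subgroup.topEquiv.symm).map ((psi M).comp (inclusion hRN))
      rwa [← MonoidHom.range_eq_map] at h1
    · rintro _ ⟨r, rfl⟩
      have h1 : (⟨r, hRN r.2⟩ : ↥(normalizer (M : Set G))) * ⟨f, hf⟩ = ⟨f, hf⟩ * ⟨r, hRN r.2⟩ :=
        Subtype.ext (hRi r r.2).2
      have h2 := congrArg (psi M) h1
      rw [map_mul, map_mul] at h2
      exact h2
  · -- o2
    intro f hf hff
    obtain ⟨F, hF, hF2, hFc, hFn⟩ := FC.o2e (psi M ⟨f, hf⟩) (mem_norm _) (hsq hf hff)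
    have hF2' : IsPGroup 2 F := by
      rintro ⟨y, hy⟩
      refine ⟨1, Subtype.ext ?_⟩
      show y ^ 2 ^ 1 = 1
      rw [pow_one, pow_two, hF2 y hy]
    obtain ⟨E, hE, hE2, h3, h4, h5⟩ := exists_E hF2' hF
    refine ⟨E, hE, ?_, hcomm hf hE2 hFc hE h3, hFn.trans h5⟩
    intro x hxE
    have hxM := hE hxE
    have hxN : x ∈ normalizer (M : Set G) := le_normalizer hxM
    obtain ⟨k, hk⟩ := hE2 ⟨x, hxE⟩
    have hk' : x ^ 2 ^ k = 1 := congrArg Subtype.val hk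
    have h6 : psi M (⟨x, hxN⟩ * ⟨x, hxN⟩) = 1 := by
      rw [map_mul, psi_M hxM]
      exact hF2 _ (h3 x hxE hxM)
    refine odd_cent hZ (mul_mem hxM hxM) (mem_ker.1 h6) (k := k) ?_
    rw [← pow_two, ← pow_mul, mul_comm, pow_mul, hk', one_pow]
  · -- o3
    intro f hf hff hfi
    have h0 := (inn_iff (y := ⟨f, hf⟩)).1 hfi
    obtain ⟨F, hF, hF2, hFc, hFn⟩ := FC.o3 (psi M ⟨f, hf⟩) h0 (hsq hf hff)
    obtain ⟨E, hE, hE2, h3, h4, h5⟩ := exists_E hF2 hF
    exact ⟨E, hE, hE2, hcomm hf hE2 hFc hE h3, hFn.trans h5⟩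

end

end Cfsg.Agent.UFiveTwo.CenLift
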