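import Cfsg.Agent.UFiveTwo.SplitLiftU
import Cfsg.Agent.UFiveTwo.CenLift

/-!
# S1778, type `U₅(2)`, split case: `MFacts` for the factor `M ≤ G` over `A₁`
-/

set_option autoImplicit false

namespace Cfsg.Agent.UFiveTwo.Assembly

open Cfsg Subgroup Cfsg.Agent.StdEven Cfsg.Agent.StdEven.CoreQuot Cfsg.Agent.StdL2.Setup Cfsg.Agent.StdEven.Red
open Cfsg.Agent.UFiveTwo.Zero Cfsg.Agent.UFiveTwo.Big Cfsg.Agent.SwapEnd Cfsg.Agent.UFiveTwo.CenLift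

universe u

variable {G : Type u} [Group G] [Finite G] {L A T : Subgroup G} {t : G} {h : Hyp A t T}
variable {E : Env (im A t A) h.tX}

section

variable {A1 : Subgroup (XQ A t)} (H : Split (im A t A) h.tX A1) {M : Subgroup G}

theorem pr_mem_A1 (hN : ∀ m ∈ M, m ∈ NO A t) (hi : im A t M = A1) (m : ↥M) :
    pr A t ⟨m, hN m m.2⟩ ∈ A1 := by
  have h1 : ((⟨m, hN m m.2⟩ : ↥(NO A t)) : G) ∈ M := m.2
  rw [← hi]; exact pr_mem_im h1

/-- `m ↦ φ(pr m)` -/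
def rho (hN : ∀ m ∈ M, m ∈ NO A t) (hi : im A t M = A1) : ↥M →* XQ A t :=
  H.phi.comp (((pr A t).comp (Subgroup.inclusion fun m hm => hN m hm)).codRestrict A1
    fun m => pr_mem_A1 hN hi m)

theorem rho_apply (hN : ∀ m ∈ M, m ∈ NO A t) (hi : im A t M = A1) (m : ↥M) :
    rho H hN hi m = pr A t ⟨m, hN m m.2⟩ * (h.tX * pr A t ⟨m, hN m m.2⟩ * h.tX) := rfl

theorem range_rho (hN : ∀ m ∈ M, m ∈ NO A t) (hi : im A t M = A1) : (rho H hN hi).range = im A t A := by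
  ext a
  constructor
  · rintro ⟨m, rfl⟩
    exact H.diag _ (pr_mem_A1 hN hi m)
  · intro ha
    obtain ⟨x, hx, h1⟩ := H.onto a ha
    rw [← hi] at hx
    obtain ⟨n, hn, rfl⟩ := mem_im.1 hx
    exact ⟨⟨n, hn⟩, h1⟩

theorem ker_rho (hp : ⁅M, M⁆ = M) (hc : ∀ m ∈ M, ∀ o ∈ core A t, o * m = m * o) (hN : ∀ m ∈ M, m ∈ NO A t)
    (hi : im A t M = A1) {m : ↥M} (hm : rho H hN hi m = 1) : m ∈ center ↥M := by
  have h1 : ∀ x ∈ M, ∀ y ∈ M, (m : G) * x * (m : G)⁻¹ * x⁻¹ * y = y * ((m : G) * x * (m : G)⁻¹ * x⁻¹) := by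
    intro x hx y hy
    have h2 := H.ker_comm (pr_mem_A1 hN hi m) (pr_mem_A1 hN hi ⟨x, hx⟩) hm
    have h3 : pr A t (⟨m, hN m m.2⟩ * ⟨x, hN x hx⟩ * ⟨m, hN m m.2⟩⁻¹ * ⟨x, hN x hx⟩⁻¹) = 1 := by
      rw [map_mul, map_mul, map_mul, map_inv, map_inv, h2]
      group
    rw [pr_eq_one] at h3
    have h4 := hc y hy _ h3
    exact h4
  have h2 := hom_trivial hp (fun x => (m : G) * x * (m : G)⁻¹ * x⁻¹)
    (fun x hx y hy => by
      show (m : G) * (x * y) * (m : G)⁻¹ * (x * y)⁻¹ = (m : G) * x * (m : G)⁻¹ * x⁻¹ * ((m : G) * y * (m : G)⁻¹ * y⁻¹)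
      have h3 := h1 y hy x⁻¹ (inv_mem hx)
      calc (m : G) * (x * y) * (m : G)⁻¹ * (x * y)⁻¹ = (m : G) * x * (m : G)⁻¹ * (((m : G) * y * (m : G)⁻¹ * y⁻¹) * x⁻¹) := by
            group
        _ = _ := by rw [h3]; group)
    (fun x hx y hy => h1 x hx _ (mul_mem (mul_mem (mul_mem m.2 hy) (inv_mem m.2)) (inv_mem hy)))
  rw [mem_center_iff]
  intro g
  apply Subtype.ext
  have h3 : (m : G) * g * (m : G)⁻¹ * (g : G)⁻¹ = 1 := h2 g g.2
  show (g : G) * m = m * g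
  calc (g : G) * m = ((m : G) * g * (m : G)⁻¹ * (g : G)⁻¹) * g * m := by rw [h3, one_mul]
    _ = m * g := by group

theorem center_rho (hN : ∀ m ∈ M, m ∈ NO A t) (hi : im A t M = A1) {m : ↥M} (hm : m ∈ center ↥M) : rho H hN hi m = 1 := by
  apply H.cent
  · rw [← range_rho H hN hi]; exact ⟨m, rfl⟩
  · intro a ha
    rw [← range_rho H hN hi] at ha
    obtain ⟨x, rfl⟩ := ha
    rw [← map_mul, ← map_mul, mem_center_iff.1 hm x]

include H in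
theorem quot_equiv (hp : ⁅M, M⁆ = M) (hc : ∀ m ∈ M, ∀ o ∈ core A t, o * m = m * o) (hN : ∀ m ∈ M, m ∈ NO A t)
    (hi : im A t M = A1) : Nonempty ((↥M ⧸ center ↥M) ≃* ↥(im A t A)) := by
  have h1 : (rho H hN hi).ker = center ↥M := by
    ext x
    rw [MonoidHom.mem_ker]
    exact ⟨fun hx => ker_rho H hp hc hN hi hx, fun hx => center_rho H hN hi hx⟩
  exact ⟨(QuotientGroup.quotientMulEquivOfEq h1.symm).trans
    ((QuotientGroup.quotientKerEquivRange _).trans (MulEquiv.subgroupCongr (range_rho H hN hi)))⟩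

include H in
theorem odd_center (hN : ∀ m ∈ M, m ∈ NO A t) (hi : im A t M = A1) : Odd (Nat.card (center ↥M)) := by
  have : Fact (Nat.Prime 2) := ⟨Nat.prime_two⟩
  rw [← Nat.not_even_iff_odd]
  intro hev
  obtain ⟨z, hz⟩ := exists_prime_orderOf_dvd_card' 2 hev.two_dvd
  have hz2 : z ^ 2 = 1 := by rw [← hz, pow_orderOf_eq_one]
  have hm2 : ((z : ↥M) : G) ^ 2 = 1 := congrArg (fun x : center ↥M => ((x : ↥M) : G)) hz2
  have h1 := center_rho H hN hi z.2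
  have h2 : pr A t ⟨((z : ↥M) : G), hN _ (z : ↥M).2⟩ = 1 := by
    refine H.ker_pow (pr_mem_A1 hN hi z) h1 (k := 1) ?_
    rw [pow_one, ← map_pow]
    have h3 : (⟨((z : ↥M) : G), hN _ (z : ↥M).2⟩ : ↥(NO A t)) ^ 2 = 1 := Subtype.ext hm2
    rw [h3, map_one]
  have h4 : ((z : ↥M) : G) = 1 := by
    have h5 : (⟨((z : ↥M) : G), hN _ (z : ↥M).2⟩ : ↥(NO A t)) = 1 :=
      SwapEnd.eq_one_of_two_odd h.odd_ker (x := (⟨((z : ↥M) : G), hN _ (z : ↥M).2⟩ : ↥(NO A t))) (k := 1) h2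
        (Subtype.ext (by simpa using hm2))
    exact congrArg Subtype.val h5
  have h5 : z = 1 := Subtype.ext (Subtype.ext h4)
  rw [h5, orderOf_one] at hz
  exact absurd hz (by norm_num)

end

/-- **The factor `M` with all its facts.** -/
theorem Start.exists_mfacts (S : Start L A T t h E) {A1 : Subgroup (XQ A t)} (H : Split (im A t A) h.tX A1) :
    ∃ (M : Subgroup G) (W : Swap M t), Swap.Dia W A ∧ MFacts M 16 8 256 ∧ Odd (Nat.card (center ↥M)) ∧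
      (∀ m ∈ M, ∀ o ∈ core A t, o * m = m * o) ∧ (∀ m ∈ M, m ∈ NO A t) ∧ im A t M = A1 ∧
      (∀ x : G, (∃ k : ℕ, x ^ 2 ^ k = 1) → (∀ o ∈ core A t, o * x = x * o) →
        (∀ hx : x ∈ NO A t, pr A t ⟨x, hx⟩ ∈ A1) → x ∈ M) := by
  obtain ⟨M, W, D, hc, hN, hi, h2⟩ := S.exists_swap H
  obtain ⟨e⟩ := quot_equiv H W.perf hc hN hi
  obtain ⟨K, i1, i2, hK, ⟨e'⟩⟩ := S.iso
  have ho := odd_center H hN hi
  exact ⟨M, W, D, mfacts W.perf ho ⟨K, i1, i2, hK, ⟨e.trans e'⟩⟩, ho, hc, hN, hi, h2⟩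

end Cfsg.Agent.UFiveTwo.Assembly
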