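import Cfsg.Agent.StdEven.OuterKill
import Cfsg.Agent.StdEven.Syl

/-!
# S1778, type `U₅(2)`, the end of the field case (VII): the fusion argument in `G`

`S` is the grown 2-group, `T` a Sylow 2-subgroup of `C_G(t)` normalising `S`.
-/

set_option autoImplicit false
set_option linter.unusedSectionVars false
set_option linter.style.haveILetI false

namespace Cfsg.Agent.UFiveTwo.Field

open Subgroup Cfsg.Agent.StdEven.Syl
open scoped commutatorElement

variable {G : Type*} [Group G]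

/-- the hypotheses -/
structure FEnd (t : G) (T S : Subgroup G) : Prop where
  tt : t * t = 1
  tT : t ∈ T
  twoS : IsPGroup 2 S
  twoT : IsPGroup 2 T
  TC : ∀ x ∈ T, x * t = t * x
  syl : ∀ Q : Subgroup G, IsPGroup 2 Q → (∀ x ∈ Q, x * t = t * x) → T ≤ Q → Q = T
  norm : ∀ x ∈ T, ∀ s ∈ S, x * s * x⁻¹ ∈ S
  tS : t ∉ S
  ab : ∀ x ∈ T, ∀ y ∈ T, x * y * x⁻¹ * y⁻¹ ∈ S
  idx : ∀ x ∈ T, ∀ y ∈ T, x ∉ S → t * x ∉ S → y ∉ S → t * y ∉ S → x⁻¹ * y ∈ S ∨ t * (x⁻¹ * y) ∈ S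
  star : ∀ g : G, g * t * g⁻¹ ∈ S ⊔ T → ∃ x ∈ S, g * t * g⁻¹ = x * t * x⁻¹

namespace FEnd

variable {t : G} {T S : Subgroup G} (e : FEnd t T S)

include e

theorem T_le_normalizer : T ≤ normalizer (S : Set G) := by
  intro x hx
  rw [mem_normalizer_iff]
  intro s
  refine ⟨fun hs => e.norm x hx s hs, fun hs => ?_⟩
  have h1 := e.norm x⁻¹ (inv_mem hx) _ hs
  have h2 : x⁻¹ * (x * s * x⁻¹) * x⁻¹⁻¹ = s := by group
  rwa [h2] at h1

/-- elements of `P = S T` -/
theorem mem_P {g : G} : g ∈ S ⊔ T ↔ ∃ s ∈ S, ∃ x ∈ T, s * x = g := by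
  constructor
  · let Y : Subgroup G :=
      { carrier := {g | ∃ s ∈ S, ∃ x ∈ T, s * x = g}
        one_mem' := ⟨1, S.one_mem, 1, T.one_mem, by simp⟩
        mul_mem' := by
          rintro _ _ ⟨a, ha, b, hb, rfl⟩ ⟨a', ha', b', hb', rfl⟩
          exact ⟨a * (b * a' * b⁻¹), mul_mem ha (e.norm b hb a' ha'), b * b', mul_mem hb hb', by group⟩
        inv_mem' := by
          rintro _ ⟨a, ha, b, hb, rfl⟩
          exact ⟨b⁻¹ * a⁻¹ * b⁻¹⁻¹, e.norm _ (inv_mem hb) _ (inv_mem ha), b⁻¹, inv_mem hb, by group⟩ }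
    have h1 : S ⊔ T ≤ Y :=
      sup_le (fun a ha => ⟨a, ha, 1, T.one_mem, by simp⟩) (fun b hb => ⟨1, S.one_mem, b, hb, by simp⟩)
    exact fun hg => h1 hg
  · rintro ⟨s, hs, x, hx, rfl⟩
    exact mul_mem (mem_sup_left hs) (mem_sup_right hx)

theorem two_P : IsPGroup 2 (S ⊔ T : Subgroup G) := e.twoS.to_sup_of_normal_left' e.twoT e.T_le_normalizer

theorem conj_S {p s : G} (hp : p ∈ S ⊔ T) (hs : s ∈ S) : p * s * p⁻¹ ∈ S := by
  obtain ⟨a, ha, x, hx, rfl⟩ := e.mem_P.1 hp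
  have h1 : a * x * s * (a * x)⁻¹ = a * (x * s * x⁻¹) * a⁻¹ := by group
  rw [h1]
  exact mul_mem (mul_mem ha (e.norm x hx s hs)) (inv_mem ha)

theorem ab_P {a b : G} (ha : a ∈ S ⊔ T) (hb : b ∈ S ⊔ T) : ⁅a, b⁆ ∈ S := by
  obtain ⟨s, hs, y, hy, rfl⟩ := e.mem_P.1 ha
  obtain ⟨s', hs', y', hy', rfl⟩ := e.mem_P.1 hb
  have h2 : ⁅s * y, s' * y'⁆ =
      s * (y * s' * y⁻¹) * ((y * y' * y⁻¹ * y'⁻¹) * (y' * s⁻¹ * y'⁻¹) * (y * y' * y⁻¹ * y'⁻¹)⁻¹) *
        (y * y' * y⁻¹ * y'⁻¹) * s'⁻¹ := by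
    rw [commutatorElement_def]; group
  rw [h2]
  have h3 := e.ab y hy y' hy'
  exact mul_mem (mul_mem (mul_mem (mul_mem hs (e.norm y hy s' hs')) (mul_mem (mul_mem h3 (e.norm y' hy' _
    (inv_mem hs))) (inv_mem h3))) h3) (inv_mem hs')

theorem conj_tS {x : G} (hx : x ∈ S) : t * x * t⁻¹ ∈ S := e.norm t e.tT x hx

variable [Finite G]

/-- **The end in `G`.** -/
theorem main {L : Subgroup G} [hLn : L.Normal] (hL : commutator L = ⊤) (hSL : S ≤ L)
    (out : t ∉ L → ∀ x ∈ T, x ∈ L → x ∉ S → ∃ f ∈ T, f ∈ L ∧ f * f = 1 ∧ ∀ y : G, y * t = t * y → y * f * y⁻¹ ∉ S) :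
    IsSyl S L ∧ t ∉ L ∧ IsSyl (S ⊔ T) ⊤ := by
  obtain ⟨P, hP⟩ := Cfsg.Agent.StdEven.OuterKill.exists_sylow e.two_P (le_sup_left : S ≤ S ⊔ T)
    (mem_sup_right e.tT) e.star (by
      intro Q hQ hQc hle
      have h1 := e.syl Q hQ hQc (fun x hx => hle x (mem_sup_right hx) (e.TC x hx))
      rw [h1]; exact le_sup_right)
  have htP : t ∈ (P : Subgroup G) := by rw [hP]; exact mem_sup_right e.tT
  have hSP : S ≤ (P : Subgroup G) := by rw [hP]; exact le_sup_left
  have hstar : ∀ g : G, g * t * g⁻¹ ∈ (P : Subgroup G) → ∃ x ∈ S, g * t * g⁻¹ = x * t * x⁻¹ := by rw [hP]; exact e.star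
  let S' : Subgroup (P : Subgroup G) := S.subgroupOf (P : Subgroup G)
  have hS'n : S'.Normal := by
    refine ⟨fun s hs p => ?_⟩
    rw [mem_subgroupOf] at hs ⊢
    have hp : (p : G) ∈ S ⊔ T := by rw [← hP]; exact p.2
    exact e.conj_S hp hs
  have hcomm : ∀ a b : (P : Subgroup G), (QuotientGroup.mk' S') a * (QuotientGroup.mk' S') b =
      (QuotientGroup.mk' S') b * (QuotientGroup.mk' S') a := by
    intro a b
    have ha : (a : G) ∈ S ⊔ T := by rw [← hP]; exact a.2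
    have hb : (b : G) ∈ S ⊔ T := by rw [← hP]; exact b.2
    have key : (⁅a, b⁆ : (P : Subgroup G)) ∈ S' := by
      rw [mem_subgroupOf]
      exact e.ab_P ha hb
    have h4 := (QuotientGroup.eq_one_iff (N := S') _).2 key
    have h5 : (QuotientGroup.mk' S') ⁅a, b⁆ = 1 := h4
    rw [map_commutatorElement, commutatorElement_eq_one_iff_mul_comm] at h5
    exact h5
  let A := (P : Subgroup G) ⧸ S'
  have hcommA : ∀ a b : A, a * b = b * a := by
    intro a b
    obtain ⟨a, rfl⟩ := QuotientGroup.mk'_surjective S' a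
    obtain ⟨b, rfl⟩ := QuotientGroup.mk'_surjective S' b
    exact hcomm a b
  letI : CommGroup A := { (inferInstance : Group A) with mul_comm := hcommA }
  let φ : (P : Subgroup G) →* A := QuotientGroup.mk' S'
  have hφ : ∀ p : (P : Subgroup G), φ p = 1 ↔ (p : G) ∈ S := fun p => by
    have := QuotientGroup.eq_one_iff (N := S') p
    rw [mem_subgroupOf] at this
    exact this
  have htL : t ∉ L := Cfsg.Agent.StdEven.OuterKill.not_mem hSP e.tt htP hstar hL φ (by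
    rw [Ne, hφ]; exact e.tS)
  have hinf : (S ⊔ T) ⊓ L = S := by
    apply le_antisymm _ (le_inf le_sup_left hSL)
    intro p hp
    by_contra hpS
    obtain ⟨hpP, hpL⟩ := mem_inf.1 hp
    obtain ⟨s, hs, x, hx, hsx⟩ := e.mem_P.1 hpP
    have hxL : x ∈ L := by
      have h1 := mul_mem (inv_mem (hSL hs)) hpL
      have h2 : s⁻¹ * p = x := by rw [← hsx]; group
      rwa [h2] at h1
    have hxS : x ∉ S := fun h => hpS (by rw [← hsx]; exact mul_mem hs h)
    obtain ⟨f, hfT, hfL, hff, hfout⟩ := out htL x hx hxL hxS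
    have hfS : f ∉ S := by
      intro h
      apply hfout 1 (by group)
      have : (1 : G) * f * 1⁻¹ = f := by group
      rw [this]; exact h
    have notL : ∀ y ∈ L, t * y ∉ L := by
      intro y hy h
      apply htL
      have := mul_mem h (inv_mem hy)
      rwa [mul_inv_cancel_right] at this
    have hfP : f ∈ (P : Subgroup G) ⊓ L := mem_inf.2 ⟨by rw [hP]; exact mem_sup_right hfT, hfL⟩
    let ψ : ↥((P : Subgroup G) ⊓ L) →* A := φ.comp (Subgroup.inclusion inf_le_left)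
    have hψ : ∀ z (hz : z ∈ (P : Subgroup G) ⊓ L), ψ ⟨z, hz⟩ = 1 ↔ z ∈ S := fun z hz => hφ ⟨z, (mem_inf.1 hz).1⟩
    obtain ⟨y, hy1, hy2⟩ := Cfsg.Agent.StdEven.OuterKill.no_outer (T := S) e.tt htP
      (fun x hx => e.conj_tS hx) hstar hL ψ hψ hff (e.TC f hfT) hfP hfS (by
        intro z hz _
        by_cases hzS : z ∈ S
        · exact Or.inl ((hψ z hz).2 hzS)
        · right
          obtain ⟨hzP, hzL⟩ := mem_inf.1 hz
          rw [hP] at hzP
          obtain ⟨s', hs', x', hx', hsx'⟩ := e.mem_P.1 hzP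
          have hxL' : x' ∈ L := by
            have h1 := mul_mem (inv_mem (hSL hs')) hzL
            have h2 : s'⁻¹ * z = x' := by rw [← hsx']; group
            rwa [h2] at h1
          have hxS' : x' ∉ S := fun h => hzS (by rw [← hsx']; exact mul_mem hs' h)
          have h3 : f⁻¹ * x' ∈ S := by
            rcases e.idx f hfT x' hx' hfS (fun h => notL f hfL (hSL h)) hxS' (fun h => notL x' hxL' (hSL h)) with h | h
            · exact h
            · exact absurd (hSL h) (notL _ (mul_mem (inv_mem hfL) hxL'))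
          have h4 : f⁻¹ * z ∈ S := by
            have h5 := e.norm f⁻¹ (inv_mem hfT) s' hs'
            have h6 : f⁻¹ * z = (f⁻¹ * s' * f⁻¹⁻¹) * (f⁻¹ * x') := by rw [← hsx']; group
            rw [h6]; exact mul_mem h5 h3
          have h5 : ψ (⟨f, hfP⟩⁻¹ * ⟨z, hz⟩) = 1 := (hψ _ (mul_mem (inv_mem hfP) hz)).2 h4
          rw [map_mul, map_inv, inv_mul_eq_one] at h5
          exact h5.symm)
    exact hfout y hy1 hy2
  have h1 := (isSyl_top_of_sylow P).inf_normal (N' := L) le_top (by rw [normalizer_eq_top_iff.2 hLn])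
  rw [hP, hinf] at h1
  refine ⟨h1, htL, ?_⟩
  have h2 := isSyl_top_of_sylow P
  rwa [hP] at h2

end FEnd

end Cfsg.Agent.UFiveTwo.Field
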