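import Cfsg.Agent.UFiveTwo.FieldStar
import Cfsg.Agent.UFiveTwo.FieldClose
import Cfsg.Agent.StdEven.EndLift

/-!
# S1778, type `U₅(2)`, the end of the field case (VIII): the end in `G`
-/

set_option autoImplicit false
set_option linter.unusedSectionVars false

namespace Cfsg.Agent.UFiveTwo.Field

open Subgroup Cfsg.Agent.StdEven.Syl Cfsg.Agent.StdEven.CoreQuot Cfsg.Agent.StdEven.EndLift
open Cfsg.Agent.StdL2.Setup Cfsg.Agent.StdEven.Loc
open Cfsg.Agent.UFiveTwo.Line Cfsg.Agent.UFiveTwo.Big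

universe u

variable {G : Type u} [Group G] [Finite G] {L A T : Subgroup G} {t : G}

theorem amb (h : Hyp A t T) : Amb (im A t A) h.tX where
  nA := fun _ hg => mem_normalizer_of_conj_le fun _ ha => h.conj_mem_im hg ha
  cc := fun _ hc hA => h.eq_of_cent hc fun _ ha => comm_of_cent hA ha

theorem tT (h : Hyp A t T) {E : Env (im A t A) h.tX} (FA : FlagAut (im A t A) E.toFlag)
    (hsyl : im A t (T ⊓ A) = E.U ⊔ E.Q) : TT E (im A t T) where
  two := h.two_im h.isT.syl.two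
  inf := FA.syl.max (im A t T ⊓ im A t A) ((h.two_im h.isT.syl.two).to_le inf_le_left) inf_le_right
    (by rw [← hsyl]; exact le_inf (im_mono inf_le_left) (im_mono inf_le_right))
  tmem := pr_mem_im h.isT.mem
  cent := fun x hx => by
    obtain ⟨n, hn, rfl⟩ := mem_im.mp hx
    exact h.pr_comm_iff.mpr (h.isT.cent n hn)

section

variable (h : Hyp A t T) {E : Env (im A t A) h.tX} (FA : FlagAut (im A t A) E.toFlag)
  (FO : FlagOut (im A t A) E.toFlag) (hsyl : im A t (T ⊓ A) = E.U ⊔ E.Q)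
  {w : XQ A t → XQ A t} {Qh Γ A1 : Subgroup (XQ A t)} (H : One E w Qh Γ A1)
  {P : Subgroup G} (hP : IsPGroup 2 P) (hPN : P ≤ NO A t) (hTP : T ≤ P)
  (hPi : im A t P = H.S0 ⊔ im A t T)

include FA FO hsyl hP hPN hTP hPi

theorem fend : FEnd t T (back P H.S0) := by
  have D := tT h FA hsyl
  have am := amb h
  have inj : ∀ {g g' : G} (hg : g ∈ P) (hg' : g' ∈ P), pr A t ⟨g, hPN hg⟩ = pr A t ⟨g', hPN hg'⟩ → g = g' := by
    intro g g' hg hg' hgg
    exact congrArg Subtype.val (h.pr_inj hP (x := ⟨g, hPN hg⟩) (y := ⟨g', hPN hg'⟩) hg hg' hgg)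
  -- lifting elements of `S'`
  have lift : ∀ {x : XQ A t}, x ∈ H.S0 ⊔ im A t T → ∃ g, ∃ hg : g ∈ P, pr A t ⟨g, hPN hg⟩ = x := by
    intro x hx
    rw [← hPi] at hx
    obtain ⟨n, hn, hnx⟩ := mem_im.mp hx
    exact ⟨n, hn, hnx⟩
  have mb : ∀ {Y' : Subgroup (XQ A t)} {g : G} (hg : g ∈ P), pr A t ⟨g, hPN hg⟩ ∈ Y' → g ∈ back P Y' :=
    fun hg h => mem_back.mpr ⟨hg, hPN hg, h⟩
  have mb' : ∀ {Y' : Subgroup (XQ A t)} {g : G}, g ∈ back P Y' → ∃ hg : g ∈ P, pr A t ⟨g, hPN hg⟩ ∈ Y' := by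
    intro Y' g hg
    obtain ⟨h1, h2, h3⟩ := mem_back.mp hg
    exact ⟨h1, h3⟩
  have htP : t ∈ P := hTP h.isT.mem
  have mc : ∀ {g g' : G}, g ∈ P → g' ∈ P → g * g' * g⁻¹ ∈ P := fun hg hg' => mul_mem (mul_mem hg hg') (inv_mem hg)
  have pm : ∀ {g g' : G} (hg : g ∈ P) (hg' : g' ∈ P),
      pr A t ⟨g * g', hPN (mul_mem hg hg')⟩ = pr A t ⟨g, hPN hg⟩ * pr A t ⟨g', hPN hg'⟩ := by
    intro g g' hg hg'
    rw [← map_mul]; rfl
  have pi : ∀ {g : G} (hg : g ∈ P), pr A t ⟨g⁻¹, hPN (inv_mem hg)⟩ = (pr A t ⟨g, hPN hg⟩)⁻¹ := by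
    intro g hg
    rw [← map_inv]; rfl
  have pc : ∀ {g g' : G} (hg : g ∈ P) (hg' : g' ∈ P),
      pr A t ⟨g * g' * g⁻¹, hPN (mc hg hg')⟩ = pr A t ⟨g, hPN hg⟩ * pr A t ⟨g', hPN hg'⟩ * (pr A t ⟨g, hPN hg⟩)⁻¹ := by
    intro g g' hg hg'
    rw [← map_inv, ← map_mul, ← map_mul]; rfl
  have hT : ∀ {x : G} (hx : x ∈ T), pr A t ⟨x, hPN (hTP hx)⟩ ∈ im A t T := fun hx => pr_mem_im hx
  have pt : pr A t ⟨t, hPN htP⟩ = h.tX := rfl
  refine
    { tt := h.tt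
      tT := h.isT.mem
      twoS := hP.to_le inf_le_left
      twoT := h.isT.syl.two
      TC := h.isT.cent
      syl := fun Q hQ hQc hTQ => (h.isT.syl_cent h.std h.ht h.htA).max Q hQ (fun x hx => by
        rw [mem_centralizer_singleton_iff]; exact hQc x hx) hTQ
      norm := fun x hx s hs => ?_
      tS := fun h1 => ?_
      ab := fun x hx y hy => ?_
      idx := fun x hx y hy h1 h2 h3 h4 => ?_
      star := fun g hg => ?_ }
  · obtain ⟨h1, h2⟩ := mb' hs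
    refine mb (mc (hTP hx) h1) ?_
    rw [pc (hTP hx) h1]
    exact D.nS0 FA am H.toCtx (hT hx) h2
  · obtain ⟨h1, h2⟩ := mb' h1
    exact H.t_not_mem h2
  · refine mb (mul_mem (mc (hTP hx) (hTP hy)) (inv_mem (hTP hy))) ?_
    rw [pm (mc (hTP hx) (hTP hy)) (inv_mem (hTP hy)), pc (hTP hx) (hTP hy), pi (hTP hy)]
    exact D.ab FA am H.toCtx (hT hx) (hT hy)
  · have k1 : pr A t ⟨x, hPN (hTP hx)⟩ ∉ H.S0 := fun k => h1 (mb (hTP hx) k)
    have k2 : h.tX * pr A t ⟨x, hPN (hTP hx)⟩ ∉ H.S0 := fun k => h2 (mb (mul_mem htP (hTP hx)) (by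
      rw [pm htP (hTP hx)]; exact k))
    have k3 : pr A t ⟨y, hPN (hTP hy)⟩ ∉ H.S0 := fun k => h3 (mb (hTP hy) k)
    have k4 : h.tX * pr A t ⟨y, hPN (hTP hy)⟩ ∉ H.S0 := fun k => h4 (mb (mul_mem htP (hTP hy)) (by
      rw [pm htP (hTP hy)]; exact k))
    rcases D.idx FA am H.toCtx (hT hx) (hT hy) k1 k2 k3 k4 with k | k
    · left
      refine mb (mul_mem (inv_mem (hTP hx)) (hTP hy)) ?_
      rw [pm (inv_mem (hTP hx)) (hTP hy), pi (hTP hx)]; exact k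
    · right
      refine mb (mul_mem htP (mul_mem (inv_mem (hTP hx)) (hTP hy))) ?_
      rw [pm htP (mul_mem (inv_mem (hTP hx)) (hTP hy)), pm (inv_mem (hTP hx)) (hTP hy), pi (hTP hx)]; exact k
  · have hgP : g * t * g⁻¹ ∈ P := by
      have : back P H.S0 ⊔ T ≤ P := sup_le inf_le_left hTP
      exact this hg
    have h2 : g * t * g⁻¹ * (g * t * g⁻¹) = 1 := by
      calc g * t * g⁻¹ * (g * t * g⁻¹) = g * (t * t) * g⁻¹ := by group
        _ = 1 := by rw [h.tt]; group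
    have h3 : pr A t ⟨g * t * g⁻¹, hPN hgP⟩ ∈ H.S0 ⊔ im A t T := by rw [← hPi]; exact pr_mem_im hgP
    have h4 : pr A t ⟨g * t * g⁻¹, hPN hgP⟩ * pr A t ⟨g * t * g⁻¹, hPN hgP⟩ = 1 := by
      rw [← pm hgP hgP, pr_eq_one]
      show g * t * g⁻¹ * (g * t * g⁻¹) ∈ core A t
      rw [h2]; exact one_mem _
    rcases D.star FA am FO H h3 h4 with ⟨x, hx, hxy⟩ | ⟨B', hB1, hB2, hB3, hB4⟩
    · obtain ⟨x, hxP, rfl⟩ := lift (mem_sup_left hx)
      refine ⟨x, mb hxP hx, inj hgP (mc hxP htP) ?_⟩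
      rw [pc hxP htP]; exact hxy
    · exfalso
      have hBB : im A t (back P B') = B' := by
        apply le_antisymm
        · intro y hy
          obtain ⟨n, hn, rfl⟩ := mem_im.mp hy
          exact (mb' hn).choose_spec
        · intro y hy
          obtain ⟨b, hb, rfl⟩ := lift (mem_sup_left (hB1 hy))
          exact pr_mem_im (mb hb hy)
      have hB2' : IsPGroup 2 (back P B') := hP.to_le inf_le_left
      have hcard : Nat.card (back P B') = Nat.card B' := by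
        rw [← h.card_im hB2' (fun x hx => hPN (mb' hx).1), hBB]
      -- the conjugate
      have hsq : ∀ b ∈ back P B', b * b = 1 := by
        intro b hb
        obtain ⟨hbP, hbB⟩ := mb' hb
        apply inj (mul_mem hbP hbP) (one_mem _)
        rw [pm hbP hbP, hB2 _ hbB]
        exact (map_one (pr A t)).symm
      have hcm : ∀ b ∈ back P B', g * t * g⁻¹ * b = b * (g * t * g⁻¹) := by
        intro b hb
        obtain ⟨hbP, hbB⟩ := mb' hb
        apply inj (mul_mem hgP hbP) (mul_mem hbP hgP)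
        rw [pm hgP hbP, pm hbP hgP]
        exact hB4 _ hbB
      let B₂ : Subgroup G := (back P B').map (MulAut.conj g⁻¹).toMonoidHom
      have hmem : ∀ y ∈ B₂, ∃ b ∈ back P B', y = g⁻¹ * b * g := by
        rintro y ⟨b, hb, rfl⟩
        refine ⟨b, hb, ?_⟩
        show g⁻¹ * b * g⁻¹⁻¹ = _
        rw [inv_inv]
      have hc2 : ∀ y ∈ B₂, y * t = t * y := by
        intro y hy
        obtain ⟨b, hb, rfl⟩ := hmem y hy
        have h5 := hcm b hb
        calc g⁻¹ * b * g * t = g⁻¹ * (b * (g * t * g⁻¹)) * g := by group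
          _ = t * (g⁻¹ * b * g) := by rw [← h5]; group
      have hN2 : B₂ ≤ NO A t := fun y hy => h.mem_normalizer_core (hc2 y hy)
      have hp2 : IsPGroup 2 B₂ := hB2'.map _
      have hcard2 : Nat.card B₂ = Nat.card (back P B') :=
        (Nat.card_congr ((back P B').equivMapOfInjective _ (MulAut.conj g⁻¹).injective).toEquiv).symm
      have h6 := card_le E FA am (B := im A t B₂) (fun x hx => by
        obtain ⟨n, hn, rfl⟩ := mem_im.mp hx
        obtain ⟨b, hb, hnb⟩ := hmem n hn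
        rw [← map_mul, pr_eq_one]
        show (n : G) * n ∈ core A t
        have h7 : (n : G) * n = 1 := by
          rw [hnb]
          calc g⁻¹ * b * g * (g⁻¹ * b * g) = g⁻¹ * (b * b) * g := by group
            _ = 1 := by rw [hsq b hb]; group
        rw [h7]; exact one_mem _) (fun x hx => by
        obtain ⟨n, hn, rfl⟩ := mem_im.mp hx
        exact h.pr_comm_iff.mpr (hc2 n hn))
      rw [h.card_im hp2 hN2, hcard2, hcard] at h6
      omega

theorem out (C : Conf L A t) (hSL : H.S0 ≤ im A t L) (htL : t ∉ L) {x : G} (hx : x ∈ T) (hxL : x ∈ L)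
    (hxS : x ∉ back P H.S0) :
    ∃ f ∈ T, f ∈ L ∧ f * f = 1 ∧ ∀ y : G, y * t = t * y → y * f * y⁻¹ ∉ back P H.S0 := by
  have D := tT h FA hsyl
  have am := amb h
  have hLn := C.normal
  have htP : t ∈ P := hTP h.isT.mem
  have hxP := hTP hx
  have notS : ∀ z ∈ H.S0, z * h.tX = h.tX * z → z ∈ im A t A := by
    intro z hz hzt
    have h1 := D.mem_UQ H.toCtx hzt hz
    exact (sup_le E.U_le E.Q_le : E.U ⊔ E.Q ≤ im A t A) h1
  -- `x` is outer
  have hout : ¬ Inner (im A t A) (pr A t ⟨x, hPN hxP⟩) := by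
    refine D.not_inner am H.toCtx (pr_mem_im hx) (fun k => hxS (mem_back.mpr ⟨hxP, hPN hxP, k⟩)) (fun k => htL ?_)
    have h1 : t * x ∈ back P H.S0 := mem_back.mpr ⟨mul_mem htP hxP, hPN (mul_mem htP hxP), by
      have : pr A t ⟨t * x, hPN (mul_mem htP hxP)⟩ = h.tX * pr A t ⟨x, hPN hxP⟩ := by
        rw [h.tX_eq, ← map_mul]; rfl
      rw [this]; exact k⟩
    have h2 : t * x ∈ L := by
      obtain ⟨h3, h4, h5⟩ := mem_back.mp h1
      exact mem_L C h h4 (hSL h5)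
    have := mul_mem h2 (inv_mem hxL)
    rwa [mul_inv_cancel_right] at this
  have hxX : pr A t ⟨x, hPN hxP⟩ * h.tX = h.tX * pr A t ⟨x, hPN hxP⟩ := h.pr_comm_iff.mpr (h.isT.cent x hx)
  obtain ⟨a', ha', hsq⟩ := FO.split _ (am.nA _ hxX) hout
  obtain ⟨a, ha, rfl⟩ := mem_im.mp ha'
  -- `g = x a`
  have hat : (a : G) * t = t * a := (comm_of_centralizer h.htA ha).symm
  obtain ⟨g, hg⟩ : ∃ g : G, g = x * a := ⟨_, rfl⟩
  have hgt : g * t = t * g := by rw [hg, mul_assoc, hat, ← mul_assoc, h.isT.cent x hx, mul_assoc]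
  have hgN : g ∈ NO A t := h.mem_normalizer_core hgt
  have hgL : g ∈ L := by rw [hg]; exact mul_mem hxL (C.le ha)
  have hgX : pr A t ⟨g, hgN⟩ = pr A t ⟨x, hPN hxP⟩ * pr A t a := by
    rw [← map_mul]; congr 1; exact Subtype.ext hg
  rw [← hgX] at hsq
  have hgtX : pr A t ⟨g, hgN⟩ * h.tX = h.tX * pr A t ⟨g, hgN⟩ := h.pr_comm_iff.mpr hgt
  have hgA : pr A t ⟨g, hgN⟩ ∉ im A t A := by
    intro k
    apply hout
    rw [hgX] at k
    have := mul_mem k (inv_mem ha')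
    rw [mul_inv_cancel_right] at this
    exact inner_of_mem this
  have h2 : pr A t ⟨g, hgN⟩ * pr A t ⟨g, hgN⟩ = 1 := by
    rcases am.cc _ (by
      calc pr A t ⟨g, hgN⟩ * pr A t ⟨g, hgN⟩ * h.tX = pr A t ⟨g, hgN⟩ * (pr A t ⟨g, hgN⟩ * h.tX) := mul_assoc _ _ _
        _ = (pr A t ⟨g, hgN⟩ * h.tX) * pr A t ⟨g, hgN⟩ := by rw [mul_assoc, ← hgtX]
        _ = h.tX * (pr A t ⟨g, hgN⟩ * pr A t ⟨g, hgN⟩) := by rw [hgtX, mul_assoc]) hsq with k | k
    · exact k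
    · exfalso
      apply htL
      have k1 : pr A t ⟨g * g * t, mul_mem (mul_mem hgN hgN) h.t_mem⟩ = 1 := by
        have : pr A t ⟨g * g * t, mul_mem (mul_mem hgN hgN) h.t_mem⟩ =
            pr A t ⟨g, hgN⟩ * pr A t ⟨g, hgN⟩ * h.tX := by
          rw [h.tX_eq, ← map_mul, ← map_mul]; rfl
        rw [this, k, h.tX_sq]
      have k2 : g * g * t ∈ core A t := pr_eq_one.mp k1
      have k3 := mem_of_odd C (h.mem_core.mp k2).2.2
      have := mul_mem (inv_mem (mul_mem hgL hgL)) k3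
      rwa [inv_mul_cancel_left] at this
  have h3 : g * g ∈ core A t := by
    have k1 : pr A t ⟨g * g, mul_mem hgN hgN⟩ = 1 := by
      have : pr A t ⟨g * g, mul_mem hgN hgN⟩ = pr A t ⟨g, hgN⟩ * pr A t ⟨g, hgN⟩ := by
        rw [← map_mul]; rfl
      rw [this, h2]
    exact pr_eq_one.mp k1
  obtain ⟨m, hm⟩ := (h.mem_core.mp h3).2.2
  obtain ⟨f₀, hf₀⟩ : ∃ f₀ : G, f₀ = g ^ (2 * m + 1) := ⟨_, rfl⟩
  have hf2 : f₀ * f₀ = 1 := by
    have : f₀ * f₀ = (g * g) ^ (orderOf (g * g)) := by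
      rw [hm, hf₀, ← pow_add, ← pow_two, ← pow_mul]
      congr 1
      ring
    rw [this, pow_orderOf_eq_one]
  have hf₀N : f₀ ∈ NO A t := by rw [hf₀]; exact pow_mem hgN _
  have hf₀L : f₀ ∈ L := by rw [hf₀]; exact pow_mem hgL _
  have hf₀t : f₀ * t = t * f₀ := by rw [hf₀]; exact (Commute.pow_left (show Commute g t from hgt) _)
  have hf₀X : pr A t ⟨f₀, hf₀N⟩ = pr A t ⟨g, hgN⟩ := by
    have : (⟨f₀, hf₀N⟩ : NO A t) = ⟨g, hgN⟩ ^ (2 * m + 1) := Subtype.ext hf₀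
    rw [this, map_pow, pow_succ, pow_mul, pow_two, h2, one_pow, one_mul]
  -- move into `T`
  have hsy := h.isT.syl_cent h.std h.ht h.htA
  have hz2 : IsPGroup 2 (zpowers f₀) := by
    intro z
    refine ⟨1, Subtype.ext ?_⟩
    obtain ⟨k, hk⟩ := mem_zpowers_iff.mp z.2
    show (z : G) ^ 2 ^ 1 = 1
    rw [← hk, pow_one, ← zpow_natCast, ← zpow_mul, mul_comm, zpow_mul]
    have : f₀ ^ ((2 : ℕ) : ℤ) = 1 := by rw [zpow_natCast, pow_two, hf2]
    rw [this, one_zpow]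
  obtain ⟨n, hn, hnf⟩ := hsy.exists_conj hz2 (by
    rw [zpowers_le, mem_centralizer_singleton_iff]; exact hf₀t)
  have hnt : n * t = t * n := mem_centralizer_singleton_iff.mp hn
  have hfT := hnf f₀ (mem_zpowers f₀)
  refine ⟨n * f₀ * n⁻¹, hfT, hLn.conj_mem _ hf₀L n, ?_, ?_⟩
  · calc n * f₀ * n⁻¹ * (n * f₀ * n⁻¹) = n * (f₀ * f₀) * n⁻¹ := by group
      _ = 1 := by rw [hf2]; group
  · intro y hy hyS
    obtain ⟨h4, h5, h6⟩ := mem_back.mp hyS
    obtain ⟨c, hc⟩ : ∃ c : G, c = y * n := ⟨_, rfl⟩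
    have hct : c * t = t * c := by rw [hc, mul_assoc, hnt, ← mul_assoc, hy, mul_assoc]
    have hcN := h.mem_normalizer_core hct
    have e1 : y * (n * f₀ * n⁻¹) * y⁻¹ = c * f₀ * c⁻¹ := by rw [hc]; group
    have hcomm : y * (n * f₀ * n⁻¹) * y⁻¹ * t = t * (y * (n * f₀ * n⁻¹) * y⁻¹) := by
      rw [e1]
      have h7 : c⁻¹ * t = t * c⁻¹ := by
        calc c⁻¹ * t = c⁻¹ * (t * c) * c⁻¹ := by group
          _ = c⁻¹ * (c * t) * c⁻¹ := by rw [hct]
          _ = t * c⁻¹ := by group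
      calc c * f₀ * c⁻¹ * t = c * f₀ * (c⁻¹ * t) := by group
        _ = c * (f₀ * t) * c⁻¹ := by rw [h7]; group
        _ = (c * t) * f₀ * c⁻¹ := by rw [hf₀t]; group
        _ = t * (c * f₀ * c⁻¹) := by rw [hct]; group
    have h8 := notS _ h6 (h.pr_comm_iff.mpr hcomm)
    have h9 : pr A t ⟨_, h5⟩ = pr A t ⟨c, hcN⟩ * pr A t ⟨f₀, hf₀N⟩ * (pr A t ⟨c, hcN⟩)⁻¹ := by
      rw [← map_inv, ← map_mul, ← map_mul]; congr 1; exact Subtype.ext e1
    rw [h9, hf₀X] at h8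
    apply hgA
    have hcX : pr A t ⟨c, hcN⟩ * h.tX = h.tX * pr A t ⟨c, hcN⟩ := h.pr_comm_iff.mpr hct
    have h10 := h.conj_mem_im (x := (pr A t ⟨c, hcN⟩)⁻¹) (by
      calc (pr A t ⟨c, hcN⟩)⁻¹ * h.tX = (pr A t ⟨c, hcN⟩)⁻¹ * (h.tX * pr A t ⟨c, hcN⟩) * (pr A t ⟨c, hcN⟩)⁻¹ := by group
        _ = h.tX * (pr A t ⟨c, hcN⟩)⁻¹ := by rw [← hcX]; group) h8
    have e2 : (pr A t ⟨c, hcN⟩)⁻¹ * (pr A t ⟨c, hcN⟩ * pr A t ⟨g, hgN⟩ * (pr A t ⟨c, hcN⟩)⁻¹) *
        (pr A t ⟨c, hcN⟩)⁻¹⁻¹ = pr A t ⟨g, hgN⟩ := by group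
    rwa [e2] at h10

end

/-- **The end of the field case in `G`.** -/
theorem end_G (C : Conf L A t) (h : Hyp A t T) {E : Env (im A t A) h.tX} (FA : FlagAut (im A t A) E.toFlag)
    (FO : FlagOut (im A t A) E.toFlag) (hsyl : im A t (T ⊓ A) = E.U ⊔ E.Q)
    {w : XQ A t → XQ A t} {Qh Γ A1 : Subgroup (XQ A t)} (H : One E w Qh Γ A1) (hSL : H.S0 ≤ im A t L) :
    ∃ S : Subgroup G, IsSyl S L ∧ t ∉ L ∧ S ≤ NO A t ∧ im A t S = H.S0 ∧ Nonempty (S ≃* H.S0) := by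
  have D := tT h FA hsyl
  have am := amb h
  obtain ⟨P, hP, hPN, hTP, hPi⟩ := h.exists_lift (Y' := H.S0 ⊔ im A t T) (D.two_P FA am H.toCtx) h.isT.syl.two h.T_le
    le_sup_right
  have e := fend h FA FO hsyl H hP hPN hTP hPi
  have hSN : back P H.S0 ≤ NO A t := fun g hg => (mem_back.mp hg).2.choose
  have hSL' : back P H.S0 ≤ L := by
    intro g hg
    obtain ⟨h1, h2, h3⟩ := mem_back.mp hg
    exact mem_L C h h2 (hSL h3)
  have hLn := C.normal
  obtain ⟨h1, h2, -⟩ := e.main (perfect C) hSL' (fun htL x hx hxL hxS =>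
    out h FA FO hsyl H hP hPN hTP hPi C hSL htL hx hxL hxS)
  have h3 : im A t (back P H.S0) = H.S0 := by
    apply le_antisymm
    · intro y hy
      obtain ⟨n, hn, rfl⟩ := mem_im.mp hy
      exact (mem_back.mp hn).2.choose_spec
    · intro y hy
      have h4 : y ∈ im A t P := by rw [hPi]; exact mem_sup_left hy
      obtain ⟨n, hn, rfl⟩ := mem_im.mp h4
      exact pr_mem_im (mem_back.mpr ⟨hn, n.2, hy⟩)
  refine ⟨back P H.S0, h1, h2, hSN, h3, ?_⟩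
  obtain ⟨f, -⟩ := h.exists_equiv_im h1.two hSN
  exact ⟨f.trans (MulEquiv.subgroupCongr h3)⟩

end Cfsg.Agent.UFiveTwo.Field
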