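import Cfsg.Agent.SwapEnd.SplitEnd
import Cfsg.Agent.UFiveTwo.CenInst
import Cfsg.Agent.UFiveTwo.FieldEnd

/-!
# S1778, type `U₅(2)`: the split case is impossible
-/

set_option autoImplicit false

namespace Cfsg.Agent.UFiveTwo.Assembly

open Cfsg Subgroup Cfsg.Agent.StdEven Cfsg.Agent.StdEven.CoreQuot Cfsg.Agent.StdL2.Setup Cfsg.Agent.StdEven.Red
open Cfsg.Agent.UFiveTwo.Zero Cfsg.Agent.UFiveTwo.Big Cfsg.Agent.SwapEnd Cfsg.Agent.UFiveTwo.CenLift

universe u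

/-- **`SplitStmt`.** -/
theorem splitStmt : SplitStmt.{u} := by
  intro G _ _ L A T t h E S w P C S1 H PD
  obtain ⟨M, W, D, F, -, -, hN, hi, -⟩ := S.exists_mfacts H.toSplit
  have hX : ∀ B : Subgroup (XQ A t), (∀ x ∈ B, x * x = 1) → (∀ x ∈ B, x * h.tX = h.tX * x) → Nat.card B ≤ 32 :=
    fun B hB hBt => Field.card_le E S.aut (Field.amb h) hB hBt
  have Hy : SwapEnd.Hyp L A M t 16 8 256 :=
    FromConf.hyp S.conf h W D F.inv F.ind F.o1 F.o2 F.o3 hX S.out.split (by norm_num) (by norm_num)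
  exact false_of_split S.conf h H S.aut.syl PD.ind₁ PD.cen₁ W D (fun m hm => hN m hm) hi Hy

end Cfsg.Agent.UFiveTwo.Assembly
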