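import Cfsg.Agent.UFiveTwo.StartFull
import Cfsg.Agent.UFiveTwo.SplitStmt
import Cfsg.Agent.UFiveTwo.FieldMain

/-!
# S1778, type `U₅(2)`: `Core TypeU52` from S1769
-/

set_option autoImplicit false

namespace Cfsg.Agent.UFiveTwo.Assembly

open Cfsg Subgroup Cfsg.Agent.StdEven Cfsg.Agent.StdEven.Red
open Cfsg.Agent.StdSpFour.CaseBSplit (LinSylow)

universe u

/-- **Type `U₅(2)`**, up to S1769. -/
theorem core (h1769 : ∀ (L : Type u) [Group L] [Finite L] [IsSimpleGroup L], LinSylow.{u, 0} L) :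
    Core.{u} (fun Q _ => TypeU52 Q) :=
  core_of startStmt splitStmt (fieldStmt h1769)

end Cfsg.Agent.UFiveTwo.Assembly
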