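import Cfsg.Agent.WreathFusion.Pair

/-!
# S1778, type `U₅(2)`, world `ε = 0` (III): two commuting perfect groups swapped by `t`

`Split A t A₁`: `t² = 1`, `[A₁, A₁ᵗ] = 1`, `A₁` perfect, `φ(x) = x xᵗ` maps `A₁` onto `A` with kernel of odd order.
-/

set_option autoImplicit false

namespace Cfsg.Agent.UFiveTwo.Zero

open Subgroup Cfsg.Agent.WreathFusion

universe u

variable {X : Type u} [Group X] {A : Subgroup X} {t : X} {A1 : Subgroup X}

/-- Two commuting perfect groups `A₁`, `A₁ᵗ` swapped by `t`, with diagonal `A`. -/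
structure Split {X : Type u} [Group X] (A : Subgroup X) (t : X) (A1 : Subgroup X) : Prop where
  tt : t * t = 1
  comm : ∀ x ∈ A1, ∀ y ∈ A1, x * (t * y * t) = (t * y * t) * x
  perf : A1 ≤ ⁅A1, A1⁆
  diag : ∀ x ∈ A1, x * (t * x * t) ∈ A
  onto : ∀ a ∈ A, ∃ x ∈ A1, x * (t * x * t) = a
  ker : ∀ x ∈ A1, x * (t * x * t) = 1 → Odd (orderOf x)
  cent : ∀ z ∈ A, (∀ a ∈ A, z * a = a * z) → z = 1

namespace Split

variable (H : Split A t A1)

include H

theorem t_inv : t⁻¹ = t := inv_eq_of_mul_eq_one_left H.tt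

theorem ttt (x : X) : t * (t * x * t) * t = x := by
  calc t * (t * x * t) * t = (t * t) * x * (t * t) := by group
    _ = x := by rw [H.tt, one_mul, mul_one]

theorem t_mul (x y : X) : t * (x * y) * t = (t * x * t) * (t * y * t) := by
  calc t * (x * y) * t = t * x * (1 * (y * t)) := by group
    _ = t * x * ((t * t) * (y * t)) := by rw [H.tt]
    _ = _ := by group

theorem t_t_inv (x : X) : t * x⁻¹ * t = (t * x * t)⁻¹ := by
  rw [eq_inv_iff_mul_eq_one, ← H.t_mul, inv_mul_cancel, mul_one, H.tt]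

/-- the map `φ` -/
def phi : A1 →* X where
  toFun x := x.1 * (t * x.1 * t)
  map_one' := by
    change (1 : X) * (t * 1 * t) = 1
    rw [one_mul, mul_one, H.tt]
  map_mul' x y := by
    change (x.1 * y.1) * (t * (x.1 * y.1) * t) = x.1 * (t * x.1 * t) * (y.1 * (t * y.1 * t))
    rw [H.t_mul]
    have h := H.comm y.1 y.2 x.1 x.2
    calc (x.1 * y.1) * ((t * x.1 * t) * (t * y.1 * t)) = x.1 * (y.1 * (t * x.1 * t)) * (t * y.1 * t) := by group
      _ = _ := by rw [h]; group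

theorem phi_apply (x : A1) : H.phi x = x.1 * (t * x.1 * t) := rfl

theorem range_phi : H.phi.range = A := by
  apply le_antisymm
  · rintro _ ⟨x, rfl⟩
    exact H.diag x.1 x.2
  · intro a ha
    obtain ⟨x, hx, h⟩ := H.onto a ha
    exact ⟨⟨x, hx⟩, h⟩

/-- the kernel of `φ` is central -/
theorem ker_comm {x y : X} (hx : x ∈ A1) (hy : y ∈ A1) (h : x * (t * x * t) = 1) : x * y = y * x := by
  have h1 := H.comm y hy x hx
  have h2 : t * x * t = x⁻¹ := eq_inv_of_mul_eq_one_right h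
  rw [h2] at h1
  calc x * y = x * (y * x⁻¹) * x := by group
    _ = y * x := by rw [h1]; group

/-- elements of `A₁ ∩ A₁ᵗ` lie in the kernel -/
theorem ker_of_mem {x : X} (hx : x ∈ A1) (hx' : t * x * t ∈ A1) : x * (t * x * t) = 1 := by
  apply H.cent _ (H.diag x hx)
  intro a ha
  obtain ⟨y, hy, rfl⟩ := H.onto a ha
  have h1 := H.comm x hx y hy
  have h2 := H.comm y hy x hx
  have h3 := H.comm y hy _ hx'
  rw [H.ttt] at h3
  have h4 := H.comm _ hx' y hy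
  have c1 : Commute x (t * y * t) := h1
  have c2 : Commute (t * x * t) y := h2.symm
  have c3 : Commute x y := h3.symm
  have c4 : Commute (t * x * t) (t * y * t) := h4
  exact ((c3.mul_right c1).mul_left (c2.mul_right c4)).eq

/-- an element of `A₁ ∩ A₁ᵗ` of `2`-power order is trivial -/
theorem eq_one_of_mem {x : X} (hx : x ∈ A1) (hx' : t * x * t ∈ A1) {k : ℕ} (hk : x ^ 2 ^ k = 1) : x = 1 := by
  have h1 := H.ker x hx (H.ker_of_mem hx hx')
  have h2 := orderOf_dvd_of_pow_eq_one hk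
  have h3 : Nat.Coprime (orderOf x) (2 ^ k) := Nat.Coprime.pow_right k (Nat.coprime_two_right.2 h1)
  exact orderOf_eq_one_iff.1 (Nat.Coprime.eq_one_of_dvd h3 h2)

theorem ker_pow {x : X} (hx : x ∈ A1) (h : x * (t * x * t) = 1) {k : ℕ} (hk : x ^ 2 ^ k = 1) : x = 1 := by
  have h1 := H.ker x hx h
  have h2 := orderOf_dvd_of_pow_eq_one hk
  have h3 : Nat.Coprime (orderOf x) (2 ^ k) := Nat.Coprime.pow_right k (Nat.coprime_two_right.2 h1)
  exact orderOf_eq_one_iff.1 (Nat.Coprime.eq_one_of_dvd h3 h2)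

/-- the `2`-group `S₁ ≤ A₁` over a `2`-subgroup `S` of `A` -/
theorem exists_S1 [Finite X] {S : Subgroup X} (hS : IsPGroup 2 S) (hSA : S ≤ A) :
    ∃ S1 : Subgroup X, S1 ≤ A1 ∧ IsPGroup 2 S1 ∧ (∀ x ∈ S1, x * (t * x * t) ∈ S) ∧
      (∀ s ∈ S, ∃ x ∈ S1, x * (t * x * t) = s) ∧
      (∀ x ∈ A1, x * (t * x * t) ∈ S → (∃ k : ℕ, x ^ 2 ^ k = 1) → x ∈ S1) := by
  have : Fact (Nat.Prime 2) := ⟨Nat.prime_two⟩
  let N : Subgroup A1 := S.comap H.phi
  let f : N →* S := (H.phi.comp N.subtype).codRestrict S fun x => x.2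
  have hf : Function.Surjective f := by
    rintro ⟨s, hs⟩
    obtain ⟨x, hx, h⟩ := H.onto s (hSA hs)
    exact ⟨⟨⟨x, hx⟩, by change x * (t * x * t) ∈ S; rw [h]; exact hs⟩, Subtype.ext h⟩
  obtain ⟨P⟩ : Nonempty (Sylow 2 N) := inferInstance
  have hP : ((P : Subgroup N).map f) = ⊤ := by
    have h1 := (P.mapSurjective hf).is_maximal' (Q := ⊤) (hS.of_equiv Subgroup.topEquiv.symm) le_top
    rw [Sylow.coe_mapSurjective] at h1
    exact h1.symm
  have key : ∀ s ∈ S, ∃ x : N, x ∈ P ∧ (x : A1).1 * (t * (x : A1).1 * t) = s := by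
    intro s hs
    have h1 : (⟨s, hs⟩ : S) ∈ (P : Subgroup N).map f := by rw [hP]; exact mem_top _
    obtain ⟨x, hx, h2⟩ := h1
    exact ⟨x, hx, congrArg Subtype.val h2⟩
  refine ⟨((P : Subgroup N).map N.subtype).map A1.subtype, ?_, ?_, ?_, ?_, ?_⟩
  · rintro _ ⟨x, -, rfl⟩
    exact x.2
  · exact (P.isPGroup'.map _).map _
  · rintro _ ⟨_, ⟨x, -, rfl⟩, rfl⟩
    exact x.2
  · intro s hs
    obtain ⟨x, hx, h1⟩ := key s hs
    exact ⟨_, ⟨_, ⟨x, hx, rfl⟩, rfl⟩, h1⟩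
  · rintro x hx hxS ⟨k, hk⟩
    obtain ⟨y, hy, h1⟩ := key _ hxS
    -- `c = y⁻¹ x` is in the kernel
    set y' : X := (y : A1).1 with hy'
    have hyA : y' ∈ A1 := (y : A1).2
    have hc : (y'⁻¹ * x) * (t * (y'⁻¹ * x) * t) = 1 := by
      have h2 : H.phi ((y : A1)⁻¹ * ⟨x, hx⟩) = 1 := by
        rw [map_mul, map_inv, H.phi_apply, H.phi_apply, h1, inv_mul_cancel]
      exact h2
    have hcA : y'⁻¹ * x ∈ A1 := mul_mem (inv_mem hyA) hx
    obtain ⟨j, hj⟩ := P.isPGroup' ⟨y, hy⟩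
    have hj' : y' ^ 2 ^ j = 1 := by
      have h3 := congrArg (fun z : (P : Subgroup N) => ((z : N) : A1).1) hj
      exact h3
    have hcom : Commute y' (y'⁻¹ * x) := (H.ker_comm hcA hyA hc).symm
    have h4 : (y'⁻¹ * x) ^ 2 ^ (j + k) = 1 := by
      have h5 : Commute y'⁻¹ x := by
        have h6 : Commute y'⁻¹ (y'⁻¹ * x) := hcom.inv_left
        have h7 : Commute y'⁻¹ y' := (Commute.refl y').inv_left
        have h8 := h7.mul_right h6
        rwa [mul_inv_cancel_left] at h8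
      rw [h5.mul_pow, inv_pow, pow_add 2 j k, pow_mul, hj', one_pow, inv_one, one_mul, mul_comm, pow_mul, hk,
        one_pow]
    have h5 := H.ker_pow hcA hc h4
    have h6 : x = y' := (inv_mul_eq_one.1 h5).symm
    rw [h6]
    exact ⟨_, ⟨y, hy, rfl⟩, rfl⟩

end Split

/-- The `2`-group over `S`. -/
structure SplitS {X : Type u} [Group X] (A : Subgroup X) (t : X) (A1 S S1 : Subgroup X) : Prop
    extends Split A t A1 where
  le : S1 ≤ A1
  isPGroup : IsPGroup 2 S1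
  diagS : ∀ x ∈ S1, x * (t * x * t) ∈ S
  ontoS : ∀ s ∈ S, ∃ x ∈ S1, x * (t * x * t) = s
  max : ∀ x ∈ A1, x * (t * x * t) ∈ S → (∃ k : ℕ, x ^ 2 ^ k = 1) → x ∈ S1

namespace SplitS

variable {S S1 : Subgroup X} (H : SplitS A t A1 S S1)

include H

theorem pow {x : X} (hx : x ∈ S1) : ∃ k : ℕ, x ^ 2 ^ k = 1 := by
  obtain ⟨k, hk⟩ := H.isPGroup ⟨x, hx⟩
  exact ⟨k, congrArg Subtype.val hk⟩

theorem ker_S {x : X} (hx : x ∈ S1) (h : x * (t * x * t) = 1) : x = 1 := by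
  obtain ⟨k, hk⟩ := H.pow hx
  exact H.ker_pow (H.le hx) h hk

theorem inj {x y : X} (hx : x ∈ S1) (hy : y ∈ S1) (h : x * (t * x * t) = y * (t * y * t)) : x = y := by
  have h1 : H.phi ⟨x, H.le hx⟩ = H.phi ⟨y, H.le hy⟩ := h
  have h2 : H.phi (⟨x, H.le hx⟩ * ⟨y, H.le hy⟩⁻¹) = 1 := by rw [map_mul, map_inv, h1, mul_inv_cancel]
  have h3 := H.ker_S (mul_mem hx (inv_mem hy)) h2
  exact mul_inv_eq_one.1 h3

/-- `φ : S₁ ≃ S` -/
noncomputable def equiv : S1 ≃* S :=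
  MulEquiv.ofBijective
    ((H.phi.comp (Subgroup.inclusion H.le)).codRestrict S fun x => H.diagS x.1 x.2)
    ⟨fun _ _ h => Subtype.ext (H.inj (Subtype.property _) (Subtype.property _) (congrArg Subtype.val h)),
      fun s => by
        obtain ⟨x, hx, h⟩ := H.ontoS s.1 s.2
        exact ⟨⟨x, hx⟩, Subtype.ext h⟩⟩

theorem equiv_apply (x : S1) : ((H.equiv x : S) : X) = x.1 * (t * x.1 * t) := rfl

theorem card_eq : Nat.card S1 = Nat.card S := Nat.card_congr H.equiv.toEquiv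

/-- the subgroup `S₁ᵗ` -/
def S2 (t : X) (S1 : Subgroup X) : Subgroup X := S1.map (MulAut.conj t).toMonoidHom

theorem mem_S2 {x : X} : x ∈ S2 t S1 ↔ t * x * t ∈ S1 := by
  constructor
  · rintro ⟨y, hy, rfl⟩
    change t * (t * y * t⁻¹) * t ∈ S1
    rw [H.t_inv, H.ttt]; exact hy
  · intro h
    refine ⟨_, h, ?_⟩
    change t * (t * x * t) * t⁻¹ = x
    rw [H.t_inv, H.ttt]

theorem comm12 {x y : X} (hx : x ∈ A1) (hy : y ∈ S2 t S1) : x * y = y * x := by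
  have h1 := H.comm x hx _ (H.le (H.mem_S2.1 hy))
  rwa [H.ttt] at h1

theorem inf_eq : S1 ⊓ S2 t S1 = ⊥ := by
  rw [eq_bot_iff]
  intro x hx
  obtain ⟨h1, h2⟩ := mem_inf.1 hx
  obtain ⟨k, hk⟩ := H.pow h1
  exact mem_bot.2 (H.eq_one_of_mem (H.le h1) (H.le (H.mem_S2.1 h2)) hk)

theorem mem_sup {x : X} : x ∈ S1 ⊔ S2 t S1 ↔ ∃ a ∈ S1, ∃ b ∈ S1, x = a * (t * b * t) := by
  constructor
  · intro hx
    rw [sup_eq_closure_mul] at hx
    induction hx using closure_induction with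
    | mem x hx =>
      obtain ⟨a, ha, b, hb, rfl⟩ := hx
      exact ⟨a, ha, _, H.mem_S2.1 hb, by rw [H.ttt]⟩
    | one => exact ⟨1, one_mem _, 1, one_mem _, by rw [mul_one, H.tt, mul_one]⟩
    | mul x y _ _ hx hy =>
      obtain ⟨a, ha, b, hb, rfl⟩ := hx
      obtain ⟨a', ha', b', hb', rfl⟩ := hy
      refine ⟨a * a', mul_mem ha ha', b * b', mul_mem hb hb', ?_⟩
      have h := H.comm a' (H.le ha') b (H.le hb)
      calc a * (t * b * t) * (a' * (t * b' * t)) = a * ((t * b * t) * a') * (t * b' * t) := by group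
        _ = _ := by rw [← h, H.t_mul]; group
    | inv x _ hx =>
      obtain ⟨a, ha, b, hb, rfl⟩ := hx
      refine ⟨a⁻¹, inv_mem ha, b⁻¹, inv_mem hb, ?_⟩
      have h := H.comm a⁻¹ (H.le (inv_mem ha)) b⁻¹ (H.le (inv_mem hb))
      rw [h, H.t_t_inv]; group
  · rintro ⟨a, ha, b, hb, rfl⟩
    exact Subgroup.mul_mem_sup ha (H.mem_S2.2 (by rw [H.ttt]; exact hb))

theorem prod : Cfsg.IsInternalDirectProduct S1 (S2 t S1) (S1 ⊔ S2 t S1) :=
  ⟨le_sup_left, le_sup_right, fun _ ha _ hb => H.comm12 (H.le ha) hb, H.inf_eq, rfl⟩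

/-- `T = S₁ S₁ᵗ` is a `2`-group -/
theorem isPGroup_sup : IsPGroup 2 ↥(S1 ⊔ S2 t S1) := by
  rintro ⟨x, hx⟩
  obtain ⟨a, ha, b, hb, rfl⟩ := H.mem_sup.1 hx
  obtain ⟨j, hj⟩ := H.pow ha
  obtain ⟨k, hk⟩ := H.pow hb
  refine ⟨j + k, Subtype.ext ?_⟩
  change (a * (t * b * t)) ^ 2 ^ (j + k) = 1
  have hc : Commute a (t * b * t) := H.comm a (H.le ha) b (H.le hb)
  have h1 : ∀ n : ℕ, (t * b * t) ^ n = t * b ^ n * t := by
    intro n
    have h2 := (MulAut.conj t).toMonoidHom.map_pow b n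
    change t * b ^ n * t⁻¹ = (t * b * t⁻¹) ^ n at h2
    rw [H.t_inv] at h2
    exact h2.symm
  rw [hc.mul_pow, h1, pow_add, pow_mul, hj, one_pow, one_mul, mul_comm, pow_mul, hk, one_pow, mul_one, H.tt]

/-- `t` normalizes `T` -/
theorem t_sup {x : X} (hx : x ∈ S1 ⊔ S2 t S1) : t * x * t ∈ S1 ⊔ S2 t S1 := by
  obtain ⟨a, ha, b, hb, rfl⟩ := H.mem_sup.1 hx
  refine H.mem_sup.2 ⟨b, hb, a, ha, ?_⟩
  rw [H.t_mul, H.ttt, H.comm b (H.le hb) a (H.le ha)]

/-- the involutions of `t T` are `T`-conjugate to `t` -/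
theorem exists_conj {x : X} (hx : x ∈ S1 ⊔ S2 t S1) (h : t * x * (t * x) = 1) :
    ∃ s ∈ S1 ⊔ S2 t S1, s * t * s⁻¹ = t * x := by
  obtain ⟨a, ha, b, hb, rfl⟩ := H.mem_sup.1 hx
  -- `b = a⁻¹`
  have h1 : (b * a) * (t * (a * b) * t) = 1 := by
    have h2 : t * (a * (t * b * t)) * (t * (a * (t * b * t))) = (t * (a * (t * b * t)) * t) * (a * (t * b * t)) := by
      group
    rw [h2, H.t_mul, H.ttt] at h
    have h3 := H.comm b (H.le hb) a (H.le ha)
    have h4 := H.comm a (H.le ha) a (H.le ha)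
    calc (b * a) * (t * (a * b) * t) = b * (a * (t * a * t)) * (t * b * t) := by rw [H.t_mul]; group
      _ = (b * (t * a * t)) * (a * (t * b * t)) := by rw [h4]; group
      _ = 1 := by rw [h3]; exact h
  have hba : b * a = 1 := by
    have h5 : t * (a * b) * t = (b * a)⁻¹ := eq_inv_of_mul_eq_one_right h1
    obtain ⟨k, hk⟩ := H.pow (mul_mem hb ha)
    exact H.eq_one_of_mem (H.le (mul_mem hb ha)) (by
      have h6 : t * (b * a) * t = (a * b)⁻¹ := by
        have h7 : t * (t * (a * b) * t) * t = t * (b * a)⁻¹ * t := by rw [h5]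
        rw [H.ttt, H.t_t_inv] at h7
        rw [h7, inv_inv]
      rw [h6]
      exact inv_mem (H.le (mul_mem ha hb))) hk
  have hb' : b = a⁻¹ := eq_inv_of_mul_eq_one_left hba
  subst hb'
  refine ⟨a⁻¹, mem_sup_left (inv_mem ha), ?_⟩
  have h6 := H.comm a⁻¹ (H.le (inv_mem ha)) a (H.le ha)
  calc a⁻¹ * t * a⁻¹⁻¹ = a⁻¹ * (t * a * (t * t)) := by rw [H.tt]; group
    _ = (a⁻¹ * (t * a * t)) * t := by group
    _ = t * (a * (t * a⁻¹ * t)) := by rw [h6]; group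

theorem unique {a b a' b' : X} (ha : a ∈ S1) (hb : b ∈ S1) (ha' : a' ∈ S1) (hb' : b' ∈ S1)
    (h : a * (t * b * t) = a' * (t * b' * t)) : a = a' ∧ b = b' := by
  have h1 : a'⁻¹ * a = t * (b' * b⁻¹) * t := by
    calc a'⁻¹ * a = a'⁻¹ * (a * (t * b * t)) * (t * b * t)⁻¹ := by group
      _ = _ := by rw [h, ← H.t_t_inv, H.t_mul]; group
  have h2 : a'⁻¹ * a ∈ S1 ⊓ S2 t S1 :=
    mem_inf.2 ⟨mul_mem (inv_mem ha') ha, H.mem_S2.2 (by rw [h1, H.ttt]; exact mul_mem hb' (inv_mem hb))⟩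
  rw [H.inf_eq, mem_bot] at h2
  have h3 : a = a' := (inv_mul_eq_one.1 h2).symm
  subst h3
  refine ⟨rfl, ?_⟩
  have h4 := mul_left_cancel h
  exact mul_left_cancel (mul_right_cancel h4)

/-- `C_T(t) = S` -/
theorem comm_iff {x : X} (hx : x ∈ S1 ⊔ S2 t S1) : t * x = x * t ↔ x ∈ S := by
  constructor
  · intro h
    obtain ⟨a, ha, b, hb, rfl⟩ := H.mem_sup.1 hx
    have h1 : t * (a * (t * b * t)) * t = a * (t * b * t) := by rw [h, mul_assoc, H.tt, mul_one]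
    rw [H.t_mul, H.ttt, ← H.comm b (H.le hb) a (H.le ha)] at h1
    obtain ⟨rfl, -⟩ := H.unique hb ha ha hb h1
    exact H.diagS _ ha
  · intro h
    obtain ⟨a, ha, rfl⟩ := H.ontoS x h
    have h1 := H.comm a (H.le ha) a (H.le ha)
    calc t * (a * (t * a * t)) = t * ((t * a * t) * a) := by rw [h1]
      _ = (t * t) * a * (t * a) := by group
      _ = a * (t * a * t) * t := by
        rw [H.tt, one_mul]
        calc a * (t * a) = a * (t * a * (t * t)) := by rw [H.tt, mul_one]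
          _ = _ := by group

theorem S_le : S ≤ S1 ⊔ S2 t S1 := by
  intro s hs
  obtain ⟨a, ha, rfl⟩ := H.ontoS s hs
  exact H.mem_sup.2 ⟨a, ha, a, ha, rfl⟩

omit H in
theorem card_S2 : Nat.card ↥(S2 t S1) = Nat.card S1 :=
  (Nat.card_congr (S1.equivMapOfInjective _ (MulAut.conj t).injective).toEquiv).symm

/-- `|T| = |S|²` -/
theorem card_sup : Nat.card ↥(S1 ⊔ S2 t S1) = Nat.card S * Nat.card S := by
  have h : Function.Bijective (fun p : S1 × S1 => (⟨p.1.1 * (t * p.2.1 * t),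
      H.mem_sup.2 ⟨_, p.1.2, _, p.2.2, rfl⟩⟩ : ↥(S1 ⊔ S2 t S1))) := by
    constructor
    · rintro ⟨a, b⟩ ⟨a', b'⟩ hab
      obtain ⟨h1, h2⟩ := H.unique a.2 b.2 a'.2 b'.2 (congrArg Subtype.val hab)
      exact Prod.ext (Subtype.ext h1) (Subtype.ext h2)
    · rintro ⟨x, hx⟩
      obtain ⟨a, ha, b, hb, h1⟩ := H.mem_sup.1 hx
      exact ⟨(⟨a, ha⟩, ⟨b, hb⟩), Subtype.ext h1.symm⟩
  rw [← Nat.card_congr (Equiv.ofBijective _ h), Nat.card_prod, H.card_eq]

open scoped commutatorElement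

theorem map_eq : (S1.subgroupOf A1).map H.phi = S := by
  apply le_antisymm
  · rintro _ ⟨x, hx, rfl⟩
    exact H.diagS _ hx
  · intro s hs
    obtain ⟨x, hx, h⟩ := H.ontoS s hs
    exact ⟨⟨x, H.le hx⟩, hx, h⟩

theorem map_subtype : (S1.subgroupOf A1).map A1.subtype = S1 := by
  rw [Subgroup.subgroupOf_map_subtype, inf_eq_left]
  exact H.le

theorem hinj : ∀ x ∈ S1.subgroupOf A1, H.phi x = 1 → x = 1 := fun _ hx h => Subtype.ext (H.ker_S hx h)

theorem ind1 (h : CentIndec S) : CentIndec S1 := by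
  have h1 : CentIndec (S1.subgroupOf A1) := CentIndec.of_map H.phi H.hinj (by rw [H.map_eq]; exact h)
  have h2 := h1.map A1.subtype A1.subtype_injective
  rwa [H.map_subtype] at h2

theorem cen1 (h : centralizer ((⁅S, S⁆ : Subgroup X) : Set X) ⊓ S ≤ ⁅S, S⁆) :
    centralizer ((⁅S1, S1⁆ : Subgroup X) : Set X) ⊓ S1 ≤ ⁅S1, S1⁆ := by
  have h1 := cen_of_map H.phi H.hinj (by rw [H.map_eq]; exact h)
  have h2 := cen_map A1.subtype A1.subtype_injective h1
  rwa [H.map_subtype] at h2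

/-- **The data of Theorem W.** -/
theorem pdata (hne : S ≠ ⊥) (h1 : CentIndec S) (h2 : centralizer ((⁅S, S⁆ : Subgroup X) : Set X) ⊓ S ≤ ⁅S, S⁆) :
    PData (S1 ⊔ S2 t S1) S1 (S2 t S1) A1 (S2 t A1) where
  prod := H.prod
  card_eq := card_S2.symm
  ne₁ := by
    intro h
    apply hne
    rw [eq_bot_iff]
    intro s hs
    obtain ⟨x, hx, rfl⟩ := H.ontoS s hs
    rw [h, mem_bot] at hx
    rw [hx, mem_bot, one_mul, mul_one, H.tt]
  ne₂ := by
    intro h
    apply hne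
    rw [eq_bot_iff]
    intro s hs
    obtain ⟨x, hx, rfl⟩ := H.ontoS s hs
    have hx' : t * x * t ∈ S2 t S1 := H.mem_S2.2 (by rw [H.ttt]; exact hx)
    rw [h, mem_bot] at hx'
    have hx'' : x = 1 := by rw [← H.ttt x, hx', mul_one, H.tt]
    rw [hx'', mem_bot, one_mul, mul_one, H.tt]
  ind₁ := H.ind1 h1
  ind₂ := (H.ind1 h1).map (MulAut.conj t).toMonoidHom (MulAut.conj t).injective
  cen₁ := H.cen1 h2
  cen₂ := cen_map (MulAut.conj t).toMonoidHom (MulAut.conj t).injective (H.cen1 h2)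
  perf₁ := H.perf
  perf₂ := by
    rw [S2, ← map_commutator]
    exact map_mono H.perf
  le₁ := H.le
  le₂ := map_mono H.le
  com₁ := by
    intro x hx
    rw [mem_centralizer_iff]
    intro y hy
    exact (H.comm12 hx hy).symm
  com₂ := by
    rintro _ ⟨x, hx, rfl⟩
    rw [mem_centralizer_iff]
    intro y hy
    change y * (t * x * t⁻¹) = (t * x * t⁻¹) * y
    rw [H.t_inv]
    exact H.comm y (H.le hy) x hx

end SplitS

end Cfsg.Agent.UFiveTwo.Zero
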