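import Cfsg.Agent.UFiveTwo.VFacts

/-!
# Output of sections 3 and 4: the involution `w s` of every transvection `s`
-/

set_option autoImplicit false

namespace Cfsg.Agent.UFiveTwo

open Subgroup

universe u

/-- `w s` for the transvections `s = a * r 0 * a⁻¹`. -/
structure Pts {X : Type u} [Group X] {A : Subgroup X} {t : X} (E : Env A t) (w : X → X) : Prop where
  w_sq : ∀ a ∈ A, w (a * E.r 0 * a⁻¹) * w (a * E.r 0 * a⁻¹) = 1
  w_t : ∀ a ∈ A, w (a * E.r 0 * a⁻¹) * t * w (a * E.r 0 * a⁻¹) = t * (a * E.r 0 * a⁻¹)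
  w_comm : ∀ a ∈ A, ∀ b ∈ A, b * (a * E.r 0 * a⁻¹) = a * E.r 0 * a⁻¹ * b →
    b * w (a * E.r 0 * a⁻¹) = w (a * E.r 0 * a⁻¹) * b
  w_conj : ∀ a ∈ A, ∀ b ∈ A, b * w (a * E.r 0 * a⁻¹) * b⁻¹ = w (b * (a * E.r 0 * a⁻¹) * b⁻¹)

/-- The case `c = 0`. -/
structure CaseZero {X : Type u} [Group X] {A : Subgroup X} {t : X} (E : Env A t) (w : X → X) : Prop where
  comm : ∀ i j, w (E.r i) * w (E.r j) = w (E.r j) * w (E.r i)
  prod : w (E.r 0) * w (E.r 1) * w (E.r 2) * w (E.r 3) * w (E.r 4) = 1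

/-- The case `c = 1`. -/
structure CaseOne {X : Type u} [Group X] {A : Subgroup X} {t : X} (E : Env A t) (w : X → X) : Prop where
  comm : ∀ i j, i ≠ j → w (E.r i) * w (E.r j) = w (E.r j) * w (E.r i) * (E.r i * E.r j)
  prod : ∃ v ∈ closure (Set.range E.r), t = w (E.r 0) * w (E.r 1) * w (E.r 2) * w (E.r 3) * w (E.r 4) * v

end Cfsg.Agent.UFiveTwo
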