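import Cfsg.Agent.UFiveTwo.NoC1Main
import Cfsg.Agent.UFiveTwo.Pts

/-!
# S1778, type `U₅(2)`, section 5: `CaseOne` is impossible
-/

set_option autoImplicit false

namespace Cfsg.Agent.UFiveTwo.NoC1

open Subgroup

universe u

variable {X : Type u} [Group X] {A : Subgroup X} {t : X} {E : Env A t} {w : X → X}

theorem isC1 (P : Pts E w) (C : CaseOne E w) : IsC1 E w where
  sq := by
    rintro s ⟨a, ha, rfl⟩; exact P.w_sq a ha
  wt := by
    rintro s ⟨a, ha, rfl⟩; exact P.w_t a ha
  comm := by
    rintro s ⟨a, ha, rfl⟩ b hb h; exact P.w_comm a ha b hb h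
  equiv := by
    rintro s ⟨a, ha, rfl⟩ b hb; exact P.w_conj a ha b hb
  ww := by
    intro i j
    by_cases h : i = j
    · subst h; rw [E.r_sq, mul_one]
    · exact C.comm i j h
  prod := C.prod

/-- **The case `c = 1` is impossible.** -/
theorem false_of_caseOne (P : Pts E w) (C : CaseOne E w) : False := false_of_c1 (isC1 P C)

end Cfsg.Agent.UFiveTwo.NoC1
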