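import Cfsg.Agent.UFiveTwo.OneU

/-!
# S1778, type `U₅(2)`, section 9 (`eps = 1`), (IV): the elementary abelian group `B₁` of order `2¹²`
-/

set_option autoImplicit false

namespace Cfsg.Agent.UFiveTwo.Big

open Subgroup Cfsg.Agent.UFiveTwo.Line

universe u

variable {X : Type u} [Group X] {A : Subgroup X} {t : X} {E : Env A t} {w : X → X} {Qh Γ A1 : Subgroup X}

/-- `Ps` determines `u` modulo `V`. -/
theorem ps_unique (H : C0 E w) {n u u' : X} (hu : u ∈ E.U) (hu' : u' ∈ E.U) (h : Ps E w n u) (h' : Ps E w n u') :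
    EqM E.V u u' := by
  obtain ⟨s, hs, h⟩ := h
  obtain ⟨s', hs', h'⟩ := h'
  have h1 : u * s = u' * s' := mul_left_cancel (h.symm.trans h')
  apply U_Vs_V H (mul_mem (inv_mem hu) hu')
  have : u⁻¹ * u' = s * s'⁻¹ := by
    calc u⁻¹ * u' = u⁻¹ * (u' * s') * s'⁻¹ := by group
      _ = s * s'⁻¹ := by rw [← h1]; group
  rw [this]; exact mul_mem hs (inv_mem hs')

theorem ps_eqM (H : C0 E w) {n u u' : X} (h : Ps E w n u) (huu : EqM E.V u u') : Ps E w n u' := by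
  obtain ⟨s, hs, h⟩ := h
  refine ⟨(u⁻¹ * u')⁻¹ * s, mul_mem (inv_mem (V_le_Vs huu)) hs, ?_⟩
  rw [h]; group

theorem ps_mul_Vs (H : C0 E w) {n s u : X} (hn : n ∈ Us H) (hs : s ∈ Vs E w) (h : Ps E w n u) :
    Ps E w (n * s) u := by
  have := H.ps_mul hn.1 (one_mem _) h (H.ps_Vs hs)
  rwa [mul_one] at this

theorem Us_conj_Vs (H : C0 E w) {n : X} (hn : n ∈ Us H) : ∀ s ∈ Vs E w, n⁻¹ * s * n ∈ Vs E w := by
  intro s hs
  have : n⁻¹ * s * n = s := by rw [mul_assoc, ← hn.1.cent s hs, inv_mul_cancel_left]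
  rw [this]; exact hs

theorem Us_comm_mod (H : C0 E w) {n n' : X} (hn : n ∈ Us H) (hn' : n' ∈ Us H) : EqM (Vs E w) (n * n') (n' * n) := by
  obtain ⟨s, hs, h⟩ := H.Us_comm hn hn'
  have h1 : n * n' = n' * n * s := by
    have e : n * n' = n * n' * n⁻¹ * n := by group
    rw [e, h, mul_assoc n' s n, ← hn.1.cent s hs]; group
  rw [h1]
  exact (EqM.mul_right hs).symm

theorem Us_inv_mod (H : C0 E w) {n : X} (hn : n ∈ Us H) : EqM (Vs E w) n⁻¹ n := by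
  unfold EqM
  rw [inv_inv]
  exact H.Us_sq hn

theorem ps_conj_l (H : C0 E w) (σ : alternatingGroup (Fin 5)) {n u : X} (h : Ps E w n u) :
    Ps E w (E.l σ * n * (E.l σ)⁻¹) (E.l σ * u * (E.l σ)⁻¹) :=
  ps_conj (E.l_mem σ) (fun s hs => H.l_Vs σ hs) h

theorem ps_conj_h (H : C0 E w) {n u : X} (h : Ps E w n u) :
    Ps E w (E.h * n * E.h⁻¹) (E.h * u * E.h⁻¹) :=
  ps_conj E.h_mem (fun s hs => by rw [conj_eq (H.h_Vs hs)]; exact hs) h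

/-- `n ∈ lσ (A₁ ∩ U*) lσ⁻¹ V*` -/
def Al (H : One E w Qh Γ A1) (n : X) : Prop :=
  ∃ σ, ∃ a ∈ A1, a ∈ Us H.toC0 ∧ ∃ s ∈ Vs E w, n = E.l σ * a * (E.l σ)⁻¹ * s

namespace One

variable (H : One E w Qh Γ A1)

include H

theorem al_Us {n : X} (h : Al H n) : n ∈ Us H.toC0 := by
  obtain ⟨σ, a, -, haU, s, hs, rfl⟩ := h
  exact mul_mem (H.l_Us σ haU) (H.Vs_le_Us hs)

theorem al_mul_Vs {n s : X} (h : Al H n) (hs : s ∈ Vs E w) : Al H (n * s) := by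
  obtain ⟨σ, a, ha, haU, s', hs', rfl⟩ := h
  exact ⟨σ, a, ha, haU, s' * s, mul_mem hs' hs, by group⟩

theorem al_Vs {s : X} (hs : s ∈ Vs E w) : Al H s :=
  ⟨1, 1, one_mem _, one_mem _, s, hs, by rw [map_one]; group⟩

theorem al_eqM {n n' : X} (h : Al H n) (h' : EqM (Vs E w) n n') : Al H n' := by
  have := H.al_mul_Vs h h'
  rwa [mul_inv_cancel_left] at this

theorem al_l (τ : alternatingGroup (Fin 5)) {n : X} (h : Al H n) : Al H (E.l τ * n * (E.l τ)⁻¹) := by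
  obtain ⟨σ, a, ha, haU, s, hs, rfl⟩ := h
  refine ⟨τ * σ, a, ha, haU, E.l τ * s * (E.l τ)⁻¹, H.l_Vs τ hs, ?_⟩
  rw [map_mul]; group

theorem al_h {n : X} (h : Al H n) : Al H (E.h * n * E.h⁻¹) := by
  obtain ⟨σ, a, ha, haU, s, hs, rfl⟩ := h
  refine ⟨σ, E.h * a * E.h⁻¹, H.conj _ E.h_mem (E.h_r 0) a ha, H.h_Us haU, s, hs, ?_⟩
  have h1 := E.h_l σ
  have h2 := comm_inv h1.symm
  have h3 := H.h_Vs hs
  calc E.h * (E.l σ * a * (E.l σ)⁻¹ * s) * E.h⁻¹ = (E.h * E.l σ) * a * (E.l σ)⁻¹ * (s * E.h⁻¹) := by group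
    _ = E.l σ * E.h * a * ((E.l σ)⁻¹ * E.h⁻¹) * s := by
        rw [h1, ← comm_inv h3]; group
    _ = E.l σ * (E.h * a * E.h⁻¹) * (E.l σ)⁻¹ * s := by
        have h4 : (E.l σ)⁻¹ * E.h⁻¹ = E.h⁻¹ * (E.l σ)⁻¹ := by rw [← mul_inv_rev, ← mul_inv_rev, h1]
        rw [h4]; group

theorem al_sq {n : X} (h : Al H n) : n * n = 1 := by
  obtain ⟨σ, a, ha, haU, s, hs, rfl⟩ := h
  have h1 : E.l σ * a * (E.l σ)⁻¹ ∈ Us H.toC0 := H.l_Us σ haU
  have h2 := h1.1.cent s hs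
  calc E.l σ * a * (E.l σ)⁻¹ * s * (E.l σ * a * (E.l σ)⁻¹ * s) =
      E.l σ * a * (E.l σ)⁻¹ * (s * (E.l σ * a * (E.l σ)⁻¹)) * s := by group
    _ = E.l σ * (a * a) * (E.l σ)⁻¹ * (s * s) := by rw [← h2]; group
    _ = 1 := by rw [H.sq a ha, H.Vs_sq hs]; group

theorem al_inv {n : X} (h : Al H n) : Al H n⁻¹ := by
  rw [inv_eq_of_mul_eq_one_left (H.al_sq h)]; exact h

/-- `a ∈ A₁ ∩ U*` lies over some `m ∈ U ∩ Q`. -/
theorem ov_A1_Us {a : X} (ha : a ∈ A1) (haU : a ∈ Us H.toC0) : ∃ m ∈ E.U ⊓ E.Q, Ov E w a m := by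
  obtain ⟨m, hm, hov⟩ := H.ov_A1 ha
  refine ⟨m, ⟨?_, hm⟩, hov⟩
  apply H.Q_Us_U hm
  obtain ⟨u, hu, s, hs, h1⟩ := haU.2
  obtain ⟨ζ, hζ, h2⟩ := hov
  have h3 : m * ζ = u * s := mul_left_cancel (h2.symm.trans h1)
  have h4 : m = u * s * ζ⁻¹ := by rw [← h3]; group
  rw [h4]
  exact mul_mem (mul_mem (H.U_le_Us hu) (H.Vs_le_Us hs)) (inv_mem (H.Vs_le_Us (Zh_le_Vs hζ)))

/-- two elements of `A₁ ∩ U*` over elements congruent modulo `V` are congruent modulo `V*` -/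
theorem A1_eqM {a a' m m' : X} (ha : a ∈ A1) (ha' : a' ∈ A1) (hm : m ∈ E.Q) (hm' : m' ∈ E.Q)
    (h : Ov E w a m) (h' : Ov E w a' m') (hmm : EqM E.V m m') : EqM (Vs E w) a a' := by
  have h1 := H.qov_mul (inv_mem (H.A1_le ha)) hm' (H.qov_inv (H.A1_le ha) hm h) h'
  exact H.mem_Vs_A1 (mul_mem (inv_mem ha) ha') hmm (mul_mem (inv_mem hm) hm') h1

/-- uniqueness -/
theorem al_unique {n n' u u' : X} (hn : Al H n) (hn' : Al H n') (hu : u ∈ E.U) (hu' : u' ∈ E.U)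
    (h : Ps E w n u) (h' : Ps E w n' u') (huu : EqM E.V u u') : EqM (Vs E w) n n' := by
  obtain ⟨σ, a, ha, haU, s, hs, rfl⟩ := hn
  obtain ⟨σ', a', ha', haU', s', hs', rfl⟩ := hn'
  obtain ⟨m, ⟨hmU, hm⟩, hov⟩ := H.ov_A1_Us ha haU
  obtain ⟨m', ⟨hmU', hm'⟩, hov'⟩ := H.ov_A1_Us ha' haU'
  have p1 : Ps E w (E.l σ * a * (E.l σ)⁻¹ * s) (E.l σ * m * (E.l σ)⁻¹) :=
    ps_mul_Vs H.toC0 (H.l_Us σ haU) hs (ps_conj_l H.toC0 σ (ps_of_ov hov))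
  have p2 : Ps E w (E.l σ' * a' * (E.l σ')⁻¹ * s') (E.l σ' * m' * (E.l σ')⁻¹) :=
    ps_mul_Vs H.toC0 (H.l_Us σ' haU') hs' (ps_conj_l H.toC0 σ' (ps_of_ov hov'))
  have e1 := ps_unique H.toC0 (E.U_l m hmU σ) hu p1 h
  have e2 := ps_unique H.toC0 hu' (E.U_l m' hmU' σ') h' p2
  have e3 : EqM E.V (E.l σ * m * (E.l σ)⁻¹) (E.l σ' * m' * (E.l σ')⁻¹) := (e1.trans huu).trans e2
  -- reduce to `σ = σ'`
  have key : ∀ a'' ∈ A1, ∀ m'' ∈ E.Q, a'' ∈ Us H.toC0 → Ov E w a'' m'' → EqM E.V m m'' →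
      EqM (Vs E w) (E.l σ * a * (E.l σ)⁻¹ * s) (E.l σ * a'' * (E.l σ)⁻¹ * s') := by
    intro a'' ha'' m'' hm'' haU'' hov'' hmm
    have h1 := H.A1_eqM ha ha'' hm hm'' hov hov'' hmm
    have h2 : EqM (Vs E w) (E.l σ * a * (E.l σ)⁻¹) (E.l σ * a'' * (E.l σ)⁻¹) :=
      EqM.conj h1 (fun s hs => H.l_Vs σ hs)
    exact ((EqM.mul_right hs).symm.trans h2).trans (EqM.mul_right hs')
  by_cases hmV : m ∈ E.V
  · have hmV' : m' ∈ E.V := by
      have h1 : E.l σ' * m' * (E.l σ')⁻¹ ∈ E.V := e3.mem (V_l E σ m hmV)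
      have h2 := V_l E σ'⁻¹ _ h1
      rw [map_inv, inv_inv] at h2
      have e : (E.l σ')⁻¹ * (E.l σ' * m' * (E.l σ')⁻¹) * E.l σ' = m' := by group
      rwa [e] at h2
    have k1 : E.l σ * a * (E.l σ)⁻¹ * s ∈ Vs E w := mul_mem (H.l_Vs σ (H.mem_Vs_A1 ha hmV hm hov)) hs
    have k2 : E.l σ' * a' * (E.l σ')⁻¹ * s' ∈ Vs E w := mul_mem (H.l_Vs σ' (H.mem_Vs_A1 ha' hmV' hm' hov')) hs'
    exact mul_mem (inv_mem k1) k2
  · -- squares
    have hsq : ∀ q ∈ E.U, q ∈ E.Q → q ∉ E.V → q * q = E.r 0 := by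
      intro q hqU hqQ hqV
      rcases E.Q_sq q hqQ with h1 | h1
      · exact absurd (E.U_one q hqU h1) hqV
      · exact h1
    have hmV' : m' ∉ E.V := by
      intro hmV'
      apply hmV
      have h1 : E.l σ * m * (E.l σ)⁻¹ ∈ E.V := e3.symm.mem (V_l E σ' m' hmV')
      have h2 := V_l E σ⁻¹ _ h1
      rw [map_inv, inv_inv] at h2
      have e : (E.l σ)⁻¹ * (E.l σ * m * (E.l σ)⁻¹) * E.l σ = m := by group
      rwa [e] at h2
    have hm2 := hsq m hmU hm hmV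
    have hm2' := hsq m' hmU' hm' hmV'
    have h0 : (σ : Equiv.Perm (Fin 5)) 0 = (σ' : Equiv.Perm (Fin 5)) 0 := by
      apply E.r_inj
      rw [← E.l_r, ← E.l_r, ← hm2]
      conv_rhs => rw [hm2, ← hm2']
      obtain ⟨v, hv, h1⟩ : ∃ v ∈ E.V, E.l σ' * m' * (E.l σ')⁻¹ = E.l σ * m * (E.l σ)⁻¹ * v := ⟨_, e3, by group⟩
      have hU1 := E.U_l m hmU σ
      calc E.l σ * (m * m) * (E.l σ)⁻¹ = (E.l σ * m * (E.l σ)⁻¹) * (E.l σ * m * (E.l σ)⁻¹) * (v * v) := by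
            rw [E.V_sq hv]; group
        _ = (E.l σ * m * (E.l σ)⁻¹) * ((E.l σ * m * (E.l σ)⁻¹) * v) * v := by group
        _ = (E.l σ * m * (E.l σ)⁻¹) * (v * (E.l σ * m * (E.l σ)⁻¹)) * v := by rw [E.U_V hU1 hv]
        _ = (E.l σ * m * (E.l σ)⁻¹ * v) * (E.l σ * m * (E.l σ)⁻¹ * v) := by group
        _ = E.l σ' * (m' * m') * (E.l σ')⁻¹ := by rw [← h1]; group
    set ρ := σ⁻¹ * σ' with hρ
    have hρ0 : (ρ : Equiv.Perm (Fin 5)) 0 = 0 := by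
      have : (ρ : Equiv.Perm (Fin 5)) 0 = (σ : Equiv.Perm (Fin 5))⁻¹ ((σ' : Equiv.Perm (Fin 5)) 0) := rfl
      rw [this, ← h0]
      exact (σ : Equiv.Perm (Fin 5)).symm_apply_apply 0
    have hρr : E.l ρ * E.r 0 = E.r 0 * E.l ρ := by
      apply comm_of_conj
      rw [E.l_r, hρ0]
    have hσσ : E.l σ' = E.l σ * E.l ρ := by rw [hρ, map_mul, map_inv]; group
    have k1 := key (E.l ρ * a' * (E.l ρ)⁻¹) (H.conj _ (E.l_mem ρ) hρr a' ha') (E.l ρ * m' * (E.l ρ)⁻¹)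
      (E.Q_conj _ (E.l_mem ρ) hρr m' hm') (H.l_Us ρ haU') (H.ov_conj (E.l_mem ρ) hρr hov') (by
        have h5 := EqM.conj e3 (V_l E σ⁻¹)
        rw [map_inv, inv_inv, hσσ] at h5
        have e4 : (E.l σ)⁻¹ * (E.l σ * m * (E.l σ)⁻¹) * E.l σ = m := by group
        have e5 : (E.l σ)⁻¹ * (E.l σ * E.l ρ * m' * (E.l σ * E.l ρ)⁻¹) * E.l σ = E.l ρ * m' * (E.l ρ)⁻¹ := by group
        rwa [e4, e5] at h5)
    have e6 : E.l σ * (E.l ρ * a' * (E.l ρ)⁻¹) * (E.l σ)⁻¹ * s' = E.l σ' * a' * (E.l σ')⁻¹ * s' := by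
      rw [hσσ]; group
    rwa [e6] at k1

/-- existence -/
theorem al_exists {u : X} (hu : u ∈ E.U) : ∃ n, Al H n ∧ Ps E w n u := by
  by_cases hV : u ∈ E.V
  · obtain ⟨s, hs, h⟩ := H.exists_Vs hV
    exact ⟨s, H.al_Vs hs, 1, one_mem _, by rw [h, mul_one]⟩
  rcases E.U_sq u hu with h | ⟨i, h⟩
  · exact absurd (E.U_one u hu h) hV
  obtain ⟨u₀, hu₀, hq₀, h₀⟩ := exists_UQ H.toC0
  obtain ⟨σ, hσ⟩ := exists_trans_one 0 i
  set u₁ := E.l σ * u₀ * (E.l σ)⁻¹ with hu₁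
  have h1 : u₁ * u₁ = u * u := by
    rw [h, hu₁]
    calc E.l σ * u₀ * (E.l σ)⁻¹ * (E.l σ * u₀ * (E.l σ)⁻¹) = E.l σ * (u₀ * u₀) * (E.l σ)⁻¹ := by group
      _ = E.r i := by rw [h₀, E.l_r, hσ]
  have h2 : u₁ * u₁ ≠ 1 := by rw [h1, h]; exact E.r_ne' i
  have hu₁U : u₁ ∈ E.U := E.U_l u₀ hu₀ σ
  obtain ⟨a, ha, hov⟩ := H.exists_A1 hq₀
  have haU := H.mem_Us_A1 ha hu₀ hq₀ hov
  have hn : Al H (E.l σ * a * (E.l σ)⁻¹) := ⟨σ, a, ha, haU, 1, one_mem _, by group⟩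
  have hp : Ps E w (E.l σ * a * (E.l σ)⁻¹) u₁ := ps_conj_l H.toC0 σ (ps_of_ov hov)
  rcases cls E hu₁U hu h1 h2 with h3 | h3 | h3
  · exact ⟨_, hn, ps_eqM H.toC0 hp h3.symm⟩
  · exact ⟨_, H.al_h hn, ps_eqM H.toC0 (ps_conj_h H.toC0 hp) h3.symm⟩
  · exact ⟨_, H.al_h (H.al_h hn), ps_eqM H.toC0 (ps_conj_h H.toC0 (ps_conj_h H.toC0 hp)) h3.symm⟩

/-- products over the same point -/
theorem al_mul_same {n u : X} (hn : Al H n) (hu : u ∈ E.U) (h : Ps E w n u) :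
    Al H (n * n) ∧ Al H (n * (E.h * n * E.h⁻¹)) ∧ Al H (n * (E.h * (E.h * n * E.h⁻¹) * E.h⁻¹)) := by
  refine ⟨by rw [H.al_sq hn]; exact H.al_Vs (one_mem _), ?_⟩
  obtain ⟨σ, a, ha, haU, s, hs, rfl⟩ := hn
  have key : ∀ a' ∈ A1, a' ∈ Us H.toC0 → Al H (E.l σ * a * (E.l σ)⁻¹ * s * (E.l σ * a' * (E.l σ)⁻¹ * s)) := by
    intro a' ha' haU'
    refine ⟨σ, a * a', mul_mem ha ha', mul_mem haU haU', s * s, mul_mem hs hs, ?_⟩
    have h1 := (H.l_Us σ haU').1.cent s hs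
    calc E.l σ * a * (E.l σ)⁻¹ * s * (E.l σ * a' * (E.l σ)⁻¹ * s) =
        E.l σ * a * (E.l σ)⁻¹ * (s * (E.l σ * a' * (E.l σ)⁻¹)) * s := by group
      _ = _ := by rw [← h1]; group
  have hh : ∀ a', E.h * (E.l σ * a' * (E.l σ)⁻¹ * s) * E.h⁻¹ = E.l σ * (E.h * a' * E.h⁻¹) * (E.l σ)⁻¹ * s := by
    intro a'
    have h1 := E.h_l σ
    have h3 := H.h_Vs hs
    have h4 : (E.l σ)⁻¹ * E.h⁻¹ = E.h⁻¹ * (E.l σ)⁻¹ := by rw [← mul_inv_rev, ← mul_inv_rev, h1]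
    calc E.h * (E.l σ * a' * (E.l σ)⁻¹ * s) * E.h⁻¹ = (E.h * E.l σ) * a' * (E.l σ)⁻¹ * (s * E.h⁻¹) := by group
      _ = E.l σ * E.h * a' * ((E.l σ)⁻¹ * E.h⁻¹) * s := by
          rw [h1, ← comm_inv h3]; group
      _ = _ := by rw [h4]; group
  have a1 := H.conj _ E.h_mem (E.h_r 0) a ha
  have a2 := H.conj _ E.h_mem (E.h_r 0) _ a1
  have u1 := H.h_Us haU
  have u2 := H.h_Us u1
  refine ⟨by rw [hh]; exact key _ a1 u1, by rw [hh, hh]; exact key _ a2 u2⟩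

/-- closure under multiplication -/
theorem al_mul {n n' : X} (hn : Al H n) (hn' : Al H n') : Al H (n * n') := by
  obtain ⟨ha, u, hu, hp⟩ := H.al_Us hn
  obtain ⟨ha', u', hu', hp'⟩ := H.al_Us hn'
  have hnU := H.al_Us hn
  have hnU' := H.al_Us hn'
  have vs_of : ∀ x y, Al H x → y ∈ E.U → Ps E w x y → y ∈ E.V → x ∈ Vs E w := by
    intro x y hx hy hpx hyV
    have h1 : EqM (Vs E w) 1 x := by
      refine H.al_unique (H.al_Vs (one_mem _)) hx (one_mem _) hy ⟨1, one_mem _, by group⟩ hpx ?_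
      unfold EqM; rw [inv_one, one_mul]; exact hyV
    unfold EqM at h1
    rwa [inv_one, one_mul] at h1
  by_cases huV : u ∈ E.V
  · have h1 := vs_of n u hn hu hp huV
    rw [← ha'.cent n h1]
    exact H.al_mul_Vs hn' h1
  by_cases huV' : u' ∈ E.V
  · exact H.al_mul_Vs hn (vs_of n' u' hn' hu' hp' huV')
  rcases E.U_sq u hu with h2 | ⟨i, h2⟩
  · exact absurd (E.U_one u hu h2) huV
  rcases E.U_sq u' hu' with h3 | ⟨j, h3⟩
  · exact absurd (E.U_one u' hu' h3) huV'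
  -- transport along congruences
  have tr : ∀ x, EqM (Vs E w) x n' → Al H (n * x) → Al H (n * n') := by
    intro x hx h
    exact H.al_eqM h (EqM.mul (EqM.refl _ n) hx (fun s hs => by
      have hxU : x ∈ Us H.toC0 := by
        have h4 := mul_mem hnU' (inv_mem (H.Vs_le_Us hx))
        have e : n' * (x⁻¹ * n')⁻¹ = x := by group
        rwa [e] at h4
      exact Us_conj_Vs H.toC0 hxU s hs))
  by_cases hij : i = j
  · subst hij
    obtain ⟨k0, k1, k2⟩ := H.al_mul_same hn hu hp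
    have hne : u * u ≠ 1 := by rw [h2]; exact E.r_ne' i
    rcases cls E hu hu' (by rw [h2, h3]) hne with h4 | h4 | h4
    · exact tr n (H.al_unique hn hn' hu hu' hp hp' h4.symm) k0
    · exact tr _ (H.al_unique (H.al_h hn) hn' (E.U_h u hu) hu' (ps_conj_h H.toC0 hp) hp' h4.symm) k1
    · exact tr _ (H.al_unique (H.al_h (H.al_h hn)) hn' (E.U_h _ (E.U_h u hu)) hu'
        (ps_conj_h H.toC0 (ps_conj_h H.toC0 hp)) hp' h4.symm) k2
  · obtain ⟨τ, hτ3, hτ1, hτ⟩ := exists_cyc E H.toC0 hu hu' hij h2 h3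
    set g := E.l τ with hg
    have hg3 : g * g * g = 1 := by
      have : τ * τ * τ = 1 := Subtype.ext hτ3
      rw [hg, ← map_mul, ← map_mul, this, map_one]
    set n1 := g * n * g⁻¹ with hn1
    set n2 := g * n1 * g⁻¹ with hn2
    set u1 := g * u * g⁻¹ with hu1
    set u2 := g * u1 * g⁻¹ with hu2
    have a1 : Al H n1 := H.al_l τ hn
    have a2 : Al H n2 := H.al_l τ a1
    have U1 : u1 ∈ E.U := E.U_l u hu τ
    have U2 : u2 ∈ E.U := E.U_l u1 U1 τ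
    have p1 : Ps E w n1 u1 := ps_conj_l H.toC0 τ hp
    have p2 : Ps E w n2 u2 := ps_conj_l H.toC0 τ p1
    have b1 := H.al_Us a1
    have b2 := H.al_Us a2
    have g3u : g * u2 * g⁻¹ = u := by
      rw [hu2, hu1]
      calc g * (g * (g * u * g⁻¹) * g⁻¹) * g⁻¹ = (g * g * g) * u * (g * g * g)⁻¹ := by group
        _ = u := by rw [hg3]; group
    have g3n : g * n2 * g⁻¹ = n := by
      rw [hn2, hn1]
      calc g * (g * (g * n * g⁻¹) * g⁻¹) * g⁻¹ = (g * g * g) * n * (g * g * g)⁻¹ := by group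
        _ = n := by rw [hg3]; group
    -- `e = u u1 u2 ∈ V`
    have heU : u * u1 * u2 ∈ E.U := mul_mem (mul_mem hu U1) U2
    have he : u * u1 * u2 ∈ E.V := by
      refine fpf E hτ3 hτ1 H.toC0 heU ?_
      rw [← hg]
      have e1 : g * (u * u1 * u2) * g⁻¹ = u⁻¹ * (u * u1 * u2) * u := by
        calc g * (u * u1 * u2) * g⁻¹ = (g * u * g⁻¹) * (g * u1 * g⁻¹) * (g * u2 * g⁻¹) := by group
          _ = u1 * u2 * u := by rw [g3u]
          _ = _ := by group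
      rw [e1]
      obtain ⟨v, hv, h4⟩ := U_comm_V E (inv_mem hu) heU
      have h5 : u⁻¹ * (u * u1 * u2) * u = u * u1 * u2 * v := by
        calc u⁻¹ * (u * u1 * u2) * u = (u⁻¹ * (u * u1 * u2)) * u := by group
          _ = (u * u1 * u2) * (u⁻¹ * (v * u)) := by rw [h4]; group
          _ = (u * u1 * u2) * (u⁻¹ * (u * v)) := by rw [E.U_V hu hv]
          _ = _ := by group
      rw [h5]
      exact (EqM.mul_right hv).symm
    -- `d = n n1 n2 ∈ V*`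
    have hdU : n * n1 * n2 ∈ Us H.toC0 := mul_mem (mul_mem hnU b1) b2
    have hdp : Ps E w (n * n1 * n2) (u * u1 * u2) :=
      H.ps_mul (H.ac_mul ha b1.1) U2 (H.ps_mul ha U1 hp p1) p2
    obtain ⟨u₂, hu₂, s₂, hs₂, hd⟩ := H.mem_UVs hdU.1 (V_le_Vs he) hdp
    have hd1 : EqM (Vs E w) (g * (n * n1 * n2) * g⁻¹) (n * n1 * n2) := by
      have e1 : g * (n * n1 * n2) * g⁻¹ = (n1 * n2) * n := by
        calc g * (n * n1 * n2) * g⁻¹ = (g * n * g⁻¹) * (g * n1 * g⁻¹) * (g * n2 * g⁻¹) := by group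
          _ = n1 * n2 * n := by rw [g3n]
      rw [e1]
      have h4 := Us_comm_mod H.toC0 (mul_mem b1 b2) hnU
      have e2 : n * (n1 * n2) = n * n1 * n2 := by group
      rwa [e2] at h4
    have hd2 : n * n1 * n2 ∈ Vs E w := by
      rw [hd] at hd1 ⊢
      have h4 : EqM (Vs E w) (g * u₂ * g⁻¹) u₂ := by
        have h5 : EqM (Vs E w) (g * u₂ * g⁻¹) (g * (u₂ * s₂) * g⁻¹) :=
          EqM.conj (EqM.mul_right hs₂) (fun s hs => H.l_Vs τ hs)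
        exact (h5.trans hd1).trans (EqM.mul_right hs₂).symm
      have h6 : EqM E.V (g * u₂ * g⁻¹) u₂ := U_Vs_V H.toC0 (mul_mem (inv_mem (E.U_l u₂ hu₂ τ)) hu₂) h4
      exact mul_mem (V_le_Vs (fpf E hτ3 hτ1 H.toC0 hu₂ h6)) hs₂
    -- `n n1 ≡ n2`
    have hfin : Al H (n * n1) := by
      have h4 : EqM (Vs E w) n2⁻¹ (n * n1) := by
        unfold EqM
        rw [inv_inv]
        have e : n2 * (n * n1) = n2 * (n * n1 * n2) * n2⁻¹ := by group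
        rw [e, conj_eq (b2.1.cent _ hd2)]
        exact hd2
      exact H.al_eqM (H.al_inv a2) h4
    exact tr n1 (H.al_unique a1 hn' U1 hu' p1 hp' hτ) hfin

end One

/-- The group `B₁`. -/
def B1 (H : One E w Qh Γ A1) : Subgroup X where
  carrier := {n | Al H n}
  one_mem' := H.al_Vs (one_mem _)
  mul_mem' := fun ha hb => H.al_mul ha hb
  inv_mem' := fun ha => H.al_inv ha

end Cfsg.Agent.UFiveTwo.Big
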