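import Cfsg.Agent.UFiveTwo.Pts

/-!
# Output of section 6: the group `Qh` of order `2¹⁴` at the point `r 0` (input of section 7)

`z = r 0`, `w = w (r 0)`, `Z^ = ⟨z, w⟩`; `Γ / Z^ = γ(M)` (`M = Q / ⟨z⟩`) is the `D`-invariant complement of `Q Z^ / Z^` in
`Qh / Z^`; `Mv g m` says that `g ∈ Γ` is a representative of `γ(m)`: `g t g⁻¹ = t m` (`m² = 1`) or `t m w` (`m² = z`).
-/

set_option autoImplicit false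

namespace Cfsg.Agent.UFiveTwo

open Subgroup

universe u

/-- `g` moves `t` to `t m` resp. `t m w`. -/
def Mv {X : Type u} [Group X] (t w g m : X) : Prop := g * t * g⁻¹ = t * m ∨ g * t * g⁻¹ = t * (m * w)

/-- Output of section 6 (`c = 0`) at the point `r 0`. -/
structure QHat {X : Type u} [Group X] {A : Subgroup X} {t : X} (E : Env A t) (w : X → X) (Qh Γ : Subgroup X) : Prop where
  Q_le : E.Q ≤ Qh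
  Γ_le : Γ ≤ Qh
  gen : ∀ g ∈ Qh, ∃ q ∈ E.Q, ∃ c ∈ Γ, g = q * c
  r_mem : E.r 0 ∈ Γ
  w_mem : w (E.r 0) ∈ Γ
  inf : ∀ g ∈ Γ, g ∈ E.Q → g = 1 ∨ g = E.r 0
  /-- `D = C_A(r 0)` normalizes `Γ` (hence `Qh`) -/
  D_conj : ∀ a ∈ A, a * E.r 0 = E.r 0 * a → ∀ g ∈ Γ, a * g * a⁻¹ ∈ Γ
  r_comm : ∀ g ∈ Qh, g * E.r 0 = E.r 0 * g
  w_comm : ∀ g ∈ Qh, g * w (E.r 0) = w (E.r 0) * g
  /-- the elements `g_x`, `x = r i * r j` -/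
  ww_mem : ∀ i j, i ≠ 0 → j ≠ 0 → w (E.r i) * w (E.r j) ∈ Γ
  /-- action on `t` -/
  mv : ∀ g ∈ Γ, ∃ m ∈ E.Q, Mv t (w (E.r 0)) g m
  onto : ∀ m ∈ E.Q, ∃ g ∈ Γ, Mv t (w (E.r 0)) g m
  ker : ∀ g ∈ Γ, (Mv t (w (E.r 0)) g 1 ∨ Mv t (w (E.r 0)) g (E.r 0)) →
    g = 1 ∨ g = E.r 0 ∨ g = w (E.r 0) ∨ g = E.r 0 * w (E.r 0)
  /-- action on `Q`: `[γ(m), q] = w ^ b(m, q)` -/
  form0 : ∀ g ∈ Γ, ∀ m ∈ E.Q, Mv t (w (E.r 0)) g m → ∀ q ∈ E.Q, m * q = q * m → g * q = q * g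
  form1 : ∀ g ∈ Γ, ∀ m ∈ E.Q, Mv t (w (E.r 0)) g m → ∀ q ∈ E.Q, m * q ≠ q * m → g * q = q * g * w (E.r 0)
  /-- `Γ` is commutative modulo `⟨z'⟩`, `z' = w z ^ eps` -/
  eps : ∃ z', (z' = w (E.r 0) ∨ z' = w (E.r 0) * E.r 0) ∧
    (∀ g ∈ Γ, ∀ g' ∈ Γ, ∀ m ∈ E.Q, ∀ m' ∈ E.Q, Mv t (w (E.r 0)) g m → Mv t (w (E.r 0)) g' m' →
      (m * m' = m' * m → g * g' = g' * g) ∧ (m * m' ≠ m' * m → g * g' = g' * g * z')) ∧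
    (∀ g ∈ Γ, ∀ m ∈ E.Q, Mv t (w (E.r 0)) g m → (m * m = 1 → g * g = 1) ∧ (m * m ≠ 1 → g * g = z'))

end Cfsg.Agent.UFiveTwo
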