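import Mathlib
import Cfsg.Agent.ClassificationK.Extraspecial

set_option autoImplicit false

/-!
# S1778, type `U5(2)`, section 6: the input at one point, and the calculus in `Q₁`

`Q` is extraspecial with centre `⟨z⟩`, `t` and `w` centralise `Q`, `[w, t] = z`, and for every
involution `x ≠ z` of `Q` there is an involution `g x` with `g x * t * g x = t * x` and
`[g x, q] = w ^ b (x, q)`.
-/

namespace Cfsg.Agent.UFiveTwo

/-- The input for the construction of the group `Q̂` at one point. -/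
structure Hat (G : Type*) [Group G] where
  t : G
  z : G
  w : G
  Q : Subgroup G
  g : G → G
  tt : t * t = 1
  zz : z * z = 1
  z1 : z ≠ 1
  ww : w * w = 1
  tz : t * z = z * t
  wz : w * z = z * w
  wt : w * t = t * w * z
  zQ : z ∈ Q
  tQ : ∀ q ∈ Q, t * q = q * t
  wQ : ∀ q ∈ Q, w * q = q * w
  cQ : ∀ q ∈ Q, ∀ r ∈ Q, q * r = r * q ∨ q * r = r * q * z
  sQ : ∀ q ∈ Q, q * q = 1 ∨ q * q = z
  nQ : ∀ q ∈ Q, (∀ r ∈ Q, q * r = r * q) → q = 1 ∨ q = z
  gen : Q ≤ Subgroup.closure {x | x ∈ Q ∧ x * x = 1 ∧ x ≠ 1 ∧ x ≠ z}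
  gg : ∀ x ∈ Q, x * x = 1 → x ≠ 1 → x ≠ z → g x * g x = 1
  gz : ∀ x ∈ Q, x * x = 1 → x ≠ 1 → x ≠ z → g x * z = z * g x
  gw : ∀ x ∈ Q, x * x = 1 → x ≠ 1 → x ≠ z → g x * w = w * g x
  gt : ∀ x ∈ Q, x * x = 1 → x ≠ 1 → x ≠ z → g x * t = t * x * g x
  gq : ∀ x ∈ Q, x * x = 1 → x ≠ 1 → x ≠ z → ∀ q ∈ Q, x * q = q * x → g x * q = q * g x
  gq' : ∀ x ∈ Q, x * x = 1 → x ≠ 1 → x ≠ z → ∀ q ∈ Q, x * q ≠ q * x → g x * q = q * g x * w
  gxz : ∀ x ∈ Q, x * x = 1 → x ≠ 1 → x ≠ z → g (x * z) = g x * w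
  ker : ∀ u, u * t = t * u → u * w = w * u → (∀ q ∈ Q, u * q = q * u) →
    ∃ o, Odd (orderOf o) ∧ o * t = t * o ∧ o * w = w * o ∧ (∀ q ∈ Q, o * q = q * o) ∧
      (∀ x ∈ Q, x * x = 1 → x ≠ 1 → x ≠ z → g x * o = o * g x) ∧ (u = o ∨ u = o * z)

namespace Hat

open scoped commutatorElement

variable {G : Type*} [Group G] (D : Hat G)

theorem zmod2 (i : ZMod 2) : i = 0 ∨ i = 1 := by
  revert i; decide

/-- `x` is an involution of `Q` different from `z`. -/
def IsX (x : G) : Prop := x ∈ D.Q ∧ x * x = 1 ∧ x ≠ 1 ∧ x ≠ D.z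

/-- The involutions of `Q` different from `z`. -/
def X : Set G := {x | x ∈ D.Q ∧ x * x = 1 ∧ x ≠ 1 ∧ x ≠ D.z}

variable {D}

theorem IsX.Q {x : G} (hx : D.IsX x) : x ∈ D.Q := hx.1
theorem IsX.sq {x : G} (hx : D.IsX x) : x * x = 1 := hx.2.1
theorem IsX.ne1 {x : G} (hx : D.IsX x) : x ≠ 1 := hx.2.2.1
theorem IsX.nez {x : G} (hx : D.IsX x) : x ≠ D.z := hx.2.2.2
theorem IsX.gg {x : G} (hx : D.IsX x) : D.g x * D.g x = 1 := D.gg x hx.1 hx.2.1 hx.2.2.1 hx.2.2.2
theorem IsX.gz {x : G} (hx : D.IsX x) : D.g x * D.z = D.z * D.g x :=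
  D.gz x hx.1 hx.2.1 hx.2.2.1 hx.2.2.2
theorem IsX.gw {x : G} (hx : D.IsX x) : D.g x * D.w = D.w * D.g x :=
  D.gw x hx.1 hx.2.1 hx.2.2.1 hx.2.2.2
theorem IsX.gt {x : G} (hx : D.IsX x) : D.g x * D.t = D.t * x * D.g x :=
  D.gt x hx.1 hx.2.1 hx.2.2.1 hx.2.2.2
theorem IsX.gxz {x : G} (hx : D.IsX x) : D.g (x * D.z) = D.g x * D.w :=
  D.gxz x hx.1 hx.2.1 hx.2.2.1 hx.2.2.2

variable (D)

theorem QX : D.Q ≤ Subgroup.closure D.X := D.gen

theorem mem_X {x : G} : x ∈ D.X ↔ D.IsX x := Iff.rfl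

theorem zc {q : G} (hq : q ∈ D.Q) : D.z * q = q * D.z := by
  rcases D.cQ D.z D.zQ q hq with h | h
  · exact h
  · exfalso
    -- `z q = q z z = q`, so `z = 1`
    have h1 : D.z * q = q := by rw [h, mul_assoc, D.zz, mul_one]
    exact D.z1 (by simpa using h1)

theorem w_notMem : D.w ∉ D.Q := by
  intro h
  have h1 := D.tQ D.w h
  have h2 := D.wt
  rw [← h1] at h2
  exact D.z1 (by simpa using h2)

/-- `z ^ i`. -/
def zp (i : ZMod 2) : G := if i = 0 then 1 else D.z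

/-- `w ^ i`. -/
def wp (i : ZMod 2) : G := if i = 0 then 1 else D.w

@[simp] theorem zp_zero : D.zp 0 = 1 := by simp [zp]
@[simp] theorem zp_one : D.zp 1 = D.z := by simp [zp]
@[simp] theorem wp_zero : D.wp 0 = 1 := by simp [wp]
@[simp] theorem wp_one : D.wp 1 = D.w := by simp [wp]

theorem one_add_one' : (1 : ZMod 2) + 1 = 0 := by decide

theorem zp_add (i j : ZMod 2) : D.zp (i + j) = D.zp i * D.zp j := by
  rcases zmod2 i with rfl | rfl <;> rcases zmod2 j with rfl | rfl <;>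
    simp [one_add_one', D.zz]

theorem wp_add (i j : ZMod 2) : D.wp (i + j) = D.wp i * D.wp j := by
  rcases zmod2 i with rfl | rfl <;> rcases zmod2 j with rfl | rfl <;>
    simp [one_add_one', D.ww]

theorem zp_mem (i : ZMod 2) : D.zp i ∈ D.Q := by
  rcases zmod2 i with rfl | rfl
  · simpa using D.Q.one_mem
  · simpa using D.zQ

theorem zp_inj {i j : ZMod 2} (h : D.zp i = D.zp j) : i = j := by
  rcases zmod2 i with rfl | rfl <;> rcases zmod2 j with rfl | rfl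
  · rfl
  · exact absurd (by simpa using h.symm) D.z1
  · exact absurd (by simpa using h) D.z1
  · rfl

theorem zp_sq (i : ZMod 2) : D.zp i * D.zp i = 1 := by
  rw [← D.zp_add]
  rcases zmod2 i with rfl | rfl
  · simp
  · simp [one_add_one']

theorem wp_sq (i : ZMod 2) : D.wp i * D.wp i = 1 := by
  rw [← D.wp_add]
  rcases zmod2 i with rfl | rfl
  · simp
  · simp [one_add_one']

theorem zp_c {q : G} (hq : q ∈ D.Q) (i : ZMod 2) : D.zp i * q = q * D.zp i := by
  rcases zmod2 i with rfl | rfl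
  · simp
  · simpa using D.zc hq

theorem wp_c {q : G} (hq : q ∈ D.Q) (i : ZMod 2) : D.wp i * q = q * D.wp i := by
  rcases zmod2 i with rfl | rfl
  · simp
  · simpa using D.wQ q hq

theorem zp_t (i : ZMod 2) : D.zp i * D.t = D.t * D.zp i := by
  rcases zmod2 i with rfl | rfl
  · simp
  · simpa using D.tz.symm

theorem zp_w (i : ZMod 2) : D.zp i * D.w = D.w * D.zp i := by
  rcases zmod2 i with rfl | rfl
  · simp
  · simpa using D.wz.symm

theorem zp_wp (i j : ZMod 2) : D.zp i * D.wp j = D.wp j * D.zp i := by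
  rcases zmod2 j with rfl | rfl
  · simp
  · simpa using D.zp_w i

theorem wp_t (i : ZMod 2) : D.wp i * D.t = D.t * D.wp i * D.zp i := by
  rcases zmod2 i with rfl | rfl
  · simp
  · simpa using D.wt

theorem zz_comm (i j : ZMod 2) : D.zp i * D.zp j = D.zp j * D.zp i := by
  rw [← D.zp_add, ← D.zp_add, add_comm]

theorem ww_comm (i j : ZMod 2) : D.wp i * D.wp j = D.wp j * D.wp i := by
  rw [← D.wp_add, ← D.wp_add, add_comm]

/-- `wp i ∈ Q` only for `i = 0`. -/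
theorem wp_mem {i : ZMod 2} (h : D.wp i ∈ D.Q) : i = 0 := by
  rcases zmod2 i with rfl | rfl
  · rfl
  · exact absurd (by simpa using h) D.w_notMem

open Classical in
/-- The commutator form of `Q`. -/
noncomputable def b (_ : Hat G) (q r : G) : ZMod 2 := if q * r = r * q then 0 else 1

open Classical in
/-- The squaring form of `Q`. -/
noncomputable def s (_ : Hat G) (q : G) : ZMod 2 := if q * q = 1 then 0 else 1

theorem b_eq_zero {q r : G} : D.b q r = 0 ↔ q * r = r * q := by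
  unfold b; split_ifs with h <;> simp [h]

theorem b_eq_one {q r : G} : D.b q r = 1 ↔ q * r ≠ r * q := by
  unfold b; split_ifs with h <;> simp [h]

theorem s_eq_zero {q : G} : D.s q = 0 ↔ q * q = 1 := by
  unfold s; split_ifs with h <;> simp [h]

theorem b_spec {q r : G} (hq : q ∈ D.Q) (hr : r ∈ D.Q) : q * r = r * q * D.zp (D.b q r) := by
  rcases D.cQ q hq r hr with h | h
  · rw [D.b_eq_zero.2 h, zp_zero, mul_one, h]
  · have h0 : q * r ≠ r * q := by
      intro h1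
      rw [h] at h1
      exact D.z1 (by simpa using h1)
    rw [D.b_eq_one.2 h0, zp_one, h]

theorem s_spec {q : G} (hq : q ∈ D.Q) : q * q = D.zp (D.s q) := by
  rcases D.sQ q hq with h | h
  · rw [D.s_eq_zero.2 h, zp_zero, h]
  · have h0 : D.s q = 1 := by
      rcases zmod2 (D.s q) with h1 | h1
      · rw [D.s_eq_zero, h] at h1
        exact absurd h1 D.z1
      · exact h1
    rw [h0, zp_one, h]

theorem b_of {q r : G} (hq : q ∈ D.Q) (hr : r ∈ D.Q) {i : ZMod 2} (h : q * r = r * q * D.zp i) :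
    D.b q r = i := by
  apply D.zp_inj
  rw [D.b_spec hq hr] at h
  exact mul_left_cancel h

theorem s_of {q : G} (hq : q ∈ D.Q) {i : ZMod 2} (h : q * q = D.zp i) : D.s q = i := by
  apply D.zp_inj
  rw [← h, D.s_spec hq]

theorem b_symm (q r : G) : D.b q r = D.b r q := by
  rcases zmod2 (D.b q r) with h | h
  · rw [h, eq_comm, D.b_eq_zero, eq_comm]; exact D.b_eq_zero.1 h
  · rw [h, eq_comm, D.b_eq_one, ne_comm]; exact D.b_eq_one.1 h

@[simp] theorem b_self (q : G) : D.b q q = 0 := D.b_eq_zero.2 rfl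

theorem b_mul {q r u : G} (hq : q ∈ D.Q) (hr : r ∈ D.Q) (hu : u ∈ D.Q) :
    D.b (q * r) u = D.b q u + D.b r u := by
  apply D.b_of (D.Q.mul_mem hq hr) hu
  calc q * r * u = q * (r * u) := by group
    _ = q * (u * r * D.zp (D.b r u)) := by rw [D.b_spec hr hu]
    _ = (q * u) * r * D.zp (D.b r u) := by group
    _ = u * q * (D.zp (D.b q u) * r) * D.zp (D.b r u) := by rw [D.b_spec hq hu]; group
    _ = u * q * (r * D.zp (D.b q u)) * D.zp (D.b r u) := by rw [D.zp_c hr]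
    _ = u * (q * r) * D.zp (D.b q u + D.b r u) := by rw [D.zp_add]; group

theorem b_mul' {q r u : G} (hq : q ∈ D.Q) (hr : r ∈ D.Q) (hu : u ∈ D.Q) :
    D.b u (q * r) = D.b u q + D.b u r := by
  rw [D.b_symm, D.b_mul hq hr hu, D.b_symm q, D.b_symm r]

@[simp] theorem b_one (q : G) : D.b 1 q = 0 := D.b_eq_zero.2 (by simp)
@[simp] theorem b_one' (q : G) : D.b q 1 = 0 := D.b_eq_zero.2 (by simp)

theorem b_zp {q : G} (hq : q ∈ D.Q) (i : ZMod 2) : D.b (D.zp i) q = 0 :=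
  D.b_eq_zero.2 (D.zp_c hq i)

theorem b_zp' {q : G} (hq : q ∈ D.Q) (i : ZMod 2) : D.b q (D.zp i) = 0 := by
  rw [D.b_symm, D.b_zp hq]

theorem b_z {q : G} (hq : q ∈ D.Q) : D.b D.z q = 0 := D.b_eq_zero.2 (D.zc hq)

theorem b_z' {q : G} (hq : q ∈ D.Q) : D.b q D.z = 0 := by
  rw [D.b_symm, D.b_z hq]

theorem b_mul_zp {q r : G} (hq : q ∈ D.Q) (hr : r ∈ D.Q) (i : ZMod 2) :
    D.b (q * D.zp i) r = D.b q r := by
  rw [D.b_mul hq (D.zp_mem i) hr, D.b_zp hr, add_zero]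

theorem b_mul_zp' {q r : G} (hq : q ∈ D.Q) (hr : r ∈ D.Q) (i : ZMod 2) :
    D.b q (r * D.zp i) = D.b q r := by
  rw [D.b_mul' hr (D.zp_mem i) hq, D.b_zp' hq, add_zero]

theorem b_inv {q r : G} (hq : q ∈ D.Q) (hr : r ∈ D.Q) : D.b q⁻¹ r = D.b q r := by
  have h := D.b_mul (D.Q.inv_mem hq) hq hr
  rw [inv_mul_cancel, D.b_one] at h
  have h2 : ∀ i j : ZMod 2, 0 = i + j → i = j := by decide
  exact h2 _ _ h

theorem s_mul {q r : G} (hq : q ∈ D.Q) (hr : r ∈ D.Q) :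
    D.s (q * r) = D.s q + D.s r + D.b q r := by
  apply D.s_of (D.Q.mul_mem hq hr)
  calc q * r * (q * r) = q * (r * q) * r := by group
    _ = q * (q * r * D.zp (D.b r q)) * r := by rw [D.b_spec hr hq]
    _ = (q * q) * r * (D.zp (D.b r q) * r) := by group
    _ = (q * q) * r * (r * D.zp (D.b r q)) := by rw [D.zp_c hr]
    _ = (q * q) * (r * r) * D.zp (D.b r q) := by group
    _ = D.zp (D.s q + D.s r + D.b q r) := by
        rw [D.s_spec hq, D.s_spec hr, D.zp_add, D.zp_add, D.b_symm q r]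

@[simp] theorem s_one : D.s 1 = 0 := D.s_eq_zero.2 (by simp)
@[simp] theorem s_z : D.s D.z = 0 := D.s_eq_zero.2 D.zz
@[simp] theorem s_zp (i : ZMod 2) : D.s (D.zp i) = 0 := D.s_eq_zero.2 (D.zp_sq i)

theorem s_inv {q : G} (hq : q ∈ D.Q) : D.s q⁻¹ = D.s q := by
  apply D.s_of (D.Q.inv_mem hq)
  calc q⁻¹ * q⁻¹ = (q * q)⁻¹ := by group
    _ = D.zp (D.s q) := by
        rw [D.s_spec hq]
        exact inv_eq_of_mul_eq_one_left (D.zp_sq _)

theorem s_mul_zp {q : G} (hq : q ∈ D.Q) (i : ZMod 2) : D.s (q * D.zp i) = D.s q := by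
  rw [D.s_mul hq (D.zp_mem i), D.b_zp' hq, s_zp, add_zero, add_zero]

theorem IsX.s {D : Hat G} {x : G} (hx : D.IsX x) : D.s x = 0 := D.s_eq_zero.2 hx.2.1

theorem IsX.inv {D : Hat G} {x : G} (hx : D.IsX x) : x⁻¹ = x := inv_eq_of_mul_eq_one_left hx.2.1

theorem IsX.ginv {D : Hat G} {x : G} (hx : D.IsX x) : (D.g x)⁻¹ = D.g x :=
  inv_eq_of_mul_eq_one_left hx.gg

theorem IsX.gb {D : Hat G} {x q : G} (hx : D.IsX x) (hq : q ∈ D.Q) :
    D.g x * q = q * D.g x * D.wp (D.b x q) := by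
  rcases zmod2 (D.b x q) with h | h
  · rw [h, wp_zero, mul_one]
    exact D.gq x hx.1 hx.2.1 hx.2.2.1 hx.2.2.2 q hq (D.b_eq_zero.1 h)
  · rw [h, wp_one]
    exact D.gq' x hx.1 hx.2.1 hx.2.2.1 hx.2.2.2 q hq (D.b_eq_one.1 h)

theorem IsX.gwp {D : Hat G} {x : G} (hx : D.IsX x) (i : ZMod 2) :
    D.g x * D.wp i = D.wp i * D.g x := by
  rcases zmod2 i with rfl | rfl
  · simp
  · simpa using hx.gw

theorem IsX.gzp {D : Hat G} {x : G} (hx : D.IsX x) (i : ZMod 2) :
    D.g x * D.zp i = D.zp i * D.g x := by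
  rcases zmod2 i with rfl | rfl
  · simp
  · simpa using hx.gz

/-- `Q` is closed under multiplication of `X` by `z`. -/
theorem IsX.mulz {D : Hat G} {x : G} (hx : D.IsX x) : D.IsX (x * D.z) := by
  refine ⟨D.Q.mul_mem hx.Q D.zQ, ?_, ?_, ?_⟩
  · have h := D.zc hx.Q
    calc x * D.z * (x * D.z) = x * (D.z * x) * D.z := by group
      _ = (x * x) * (D.z * D.z) := by rw [h]; group
      _ = 1 := by rw [hx.sq, D.zz, mul_one]
  · intro h
    apply hx.nez
    have h2 : x = D.z⁻¹ := eq_inv_of_mul_eq_one_left h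
    rw [h2]
    exact inv_eq_of_mul_eq_one_left D.zz
  · intro h
    exact hx.ne1 (by simpa using h)

/-- Membership in `X` through the squaring form. -/
theorem IsX.mk {x : G} (hx : x ∈ D.Q) (hs : D.s x = 0) (h1 : x ≠ 1) (hz : x ≠ D.z) : D.IsX x :=
  ⟨hx, D.s_eq_zero.1 hs, h1, hz⟩

/-- `Q` is a `2`-group in the weak sense: `q ^ 4 = 1`. -/
theorem q4 {q : G} (hq : q ∈ D.Q) : q * q * (q * q) = 1 := by
  rw [D.s_spec hq, D.zp_sq]

/-! ### Duality -/

theorem comm_zp {q r : G} (hq : q ∈ D.Q) (hr : r ∈ D.Q) : ⁅q, r⁆ = D.zp (D.b q r) := by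
  rw [commutatorElement_def, D.b_spec hq hr, mul_assoc r q, ← D.zp_c hq, mul_assoc r,
    mul_assoc (D.zp _), mul_inv_cancel, mul_one, ← D.zp_c hr, mul_assoc, mul_inv_cancel,
    mul_one]

theorem exists_ncomm : ∃ q ∈ D.Q, ∃ r ∈ D.Q, q * r ≠ r * q := by
  by_contra hcon
  push Not at hcon
  -- all of `Q` is central, hence `Q = {1, z}`; but then `X` is empty
  have hX : D.X = ∅ := by
    rw [Set.eq_empty_iff_forall_notMem]
    intro x hx
    rw [mem_X] at hx
    rcases D.nQ x hx.Q (fun r hr => hcon x hx.Q r hr) with h1 | h1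
    · exact hx.ne1 h1
    · exact hx.nez h1
  have h2 := D.QX
  rw [hX, Subgroup.closure_empty] at h2
  exact D.z1 (Subgroup.mem_bot.1 (h2 D.zQ))

/-- Every homomorphism from `Q` to `ZMod 2` is `b (q₀, ·)`. -/
theorem exists_dual [Finite D.Q] (f : G → ZMod 2)
    (hf : ∀ q ∈ D.Q, ∀ r ∈ D.Q, f (q * r) = f q + f r) :
    ∃ q₀ ∈ D.Q, ∀ q ∈ D.Q, f q = D.b q₀ q := by
  have hcz : ∀ c : Subgroup.center D.Q, (c : D.Q) = 1 ∨ ((c : D.Q) : G) = D.z := by
    intro c
    have h := Subgroup.mem_center_iff.1 c.2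
    rcases D.nQ _ (c : D.Q).2 (fun r hr => by
      have := congrArg Subtype.val (h ⟨r, hr⟩)
      simpa using this.symm) with h1 | h1
    · left; exact Subtype.ext h1
    · right; exact h1
  have hzc : ∀ i, (⟨D.zp i, D.zp_mem i⟩ : D.Q) ∈ Subgroup.center D.Q := by
    intro i
    rw [Subgroup.mem_center_iff]
    intro r
    apply Subtype.ext
    exact (D.zp_c r.2 i).symm
  have hcard : Nat.card (Subgroup.center D.Q) = 2 := by
    rw [Nat.card_eq_two_iff]
    refine ⟨1, ⟨⟨D.zp 1, D.zp_mem 1⟩, hzc 1⟩, ?_, ?_⟩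
    · intro h
      have h2 := congrArg (fun c : Subgroup.center D.Q => ((c : D.Q) : G)) h
      exact D.z1 (by simpa using h2.symm)
    · rw [Set.eq_univ_iff_forall]
      intro c
      rcases hcz c with h | h
      · left
        exact Subtype.ext h
      · right
        show c = _
        exact Subtype.ext (Subtype.ext (by simpa using h))
  have hcomm : commutator D.Q = Subgroup.center D.Q := by
    apply le_antisymm
    · rw [commutator_def, Subgroup.commutator_le]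
      rintro ⟨q, hq⟩ - ⟨r, hr⟩ -
      rw [Subgroup.mem_center_iff]
      rintro ⟨v, hv⟩
      apply Subtype.ext
      show v * ⁅q, r⁆ = ⁅q, r⁆ * v
      rw [D.comm_zp hq hr, D.zp_c hv]
    · intro c hc
      rcases hcz ⟨c, hc⟩ with h | h
      · have h' : c = 1 := h
        rw [h']; exact Subgroup.one_mem _
      · -- some commutator is `z`
        have h' : (c : G) = D.z := h
        obtain ⟨q, hq, r, hr, hqr⟩ := D.exists_ncomm
        have h1 : D.b q r = 1 := D.b_eq_one.2 hqr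
        have h2 : ⁅(⟨q, hq⟩ : D.Q), ⟨r, hr⟩⁆ = c := by
          apply Subtype.ext
          show ⁅q, r⁆ = (c : G)
          rw [h', D.comm_zp hq hr, h1, zp_one]
        rw [← h2]
        exact Subgroup.commutator_mem_commutator (Subgroup.mem_top _) (Subgroup.mem_top _)
  have hf1 : f 1 = 0 := by
    have h := hf 1 D.Q.one_mem 1 D.Q.one_mem
    rw [mul_one] at h
    simpa using h
  let F : D.Q →* Subgroup.center D.Q :=
    { toFun := fun q => ⟨⟨D.zp (f q), D.zp_mem _⟩, hzc _⟩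
      map_one' := by
        apply Subtype.ext
        apply Subtype.ext
        show D.zp (f ((1 : D.Q) : G)) = 1
        rw [Subgroup.coe_one, hf1, zp_zero]
      map_mul' := fun q r => by
        apply Subtype.ext
        apply Subtype.ext
        show D.zp (f ((q * r : D.Q) : G)) = D.zp (f q) * D.zp (f r)
        rw [Subgroup.coe_mul, hf q q.2 r r.2, zp_add] }
  obtain ⟨x, hx⟩ := ClassificationK.Extraspecial.exists_commutator_eq hcomm Nat.prime_two hcard F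
  refine ⟨x, x.2, fun q hq => ?_⟩
  have h := congrArg Subtype.val (hx ⟨q, hq⟩)
  have h' : ⁅(x : G), q⁆ = D.zp (f q) := h
  rw [D.comm_zp x.2 hq] at h'
  exact (D.zp_inj h').symm

/-- An element acting on `Q` trivially modulo `⟨z⟩` acts as an element of `Q`. -/
theorem exists_inner [Finite D.Q] (u : G) (hu : ∀ q ∈ D.Q, ∃ j, u * q * u⁻¹ = q * D.zp j) :
    ∃ q₀ ∈ D.Q, ∀ q ∈ D.Q, u * q * u⁻¹ = q₀ * q * q₀⁻¹ := by
  classical
  choose! f hf using hu
  obtain ⟨q₀, hq₀, h⟩ := D.exists_dual f (fun q hq r hr => by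
    apply D.zp_inj
    have h1 : q * r * D.zp (f (q * r)) = q * r * (D.zp (f q) * D.zp (f r)) := by
      rw [← hf _ (D.Q.mul_mem hq hr)]
      calc u * (q * r) * u⁻¹ = (u * q * u⁻¹) * (u * r * u⁻¹) := by group
        _ = q * (D.zp (f q) * r) * D.zp (f r) := by rw [hf q hq, hf r hr]; group
        _ = q * r * (D.zp (f q) * D.zp (f r)) := by rw [D.zp_c hr]; group
    rw [D.zp_add]
    exact mul_left_cancel h1)
  refine ⟨q₀, hq₀, fun q hq => ?_⟩
  rw [hf q hq, h q hq, D.b_spec hq₀ hq, mul_assoc q q₀, ← D.zp_c hq₀, ← mul_assoc, mul_assoc,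
    mul_inv_cancel, mul_one]

/-- Nondegeneracy. -/
theorem eq_zp {q : G} (hq : q ∈ D.Q) (h : ∀ r ∈ D.Q, D.b q r = 0) : ∃ i, q = D.zp i := by
  rcases D.nQ q hq (fun r hr => D.b_eq_zero.1 (h r hr)) with h1 | h1
  · exact ⟨0, by rw [h1, zp_zero]⟩
  · exact ⟨1, by rw [h1, zp_one]⟩

/-- Nondegeneracy, tested on `X`. -/
theorem eq_zp_of_X {q : G} (hq : q ∈ D.Q) (h : ∀ x, D.IsX x → D.b q x = 0) :
    ∃ i, q = D.zp i := by
  apply D.eq_zp hq
  intro r hr
  have hcl : ∀ r ∈ Subgroup.closure D.X, r ∈ D.Q ∧ D.b q r = 0 := by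
    intro r hr
    induction hr using Subgroup.closure_induction with
    | mem x hx => exact ⟨IsX.Q hx, h x hx⟩
    | one => exact ⟨D.Q.one_mem, by simp⟩
    | mul x y _ _ hx hy =>
      exact ⟨D.Q.mul_mem hx.1 hy.1, by rw [D.b_mul' hx.1 hy.1 hq, hx.2, hy.2, add_zero]⟩
    | inv x _ hx =>
      exact ⟨D.Q.inv_mem hx.1, by rw [D.b_symm, D.b_inv hx.1 hq, D.b_symm, hx.2]⟩
  exact (hcl r (D.QX hr)).2

end Hat

end Cfsg.Agent.UFiveTwo
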