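import Mathlib
import Cfsg.Agent.UFiveTwo.QHatBase

set_option autoImplicit false

/-!
# S1778, type `U5(2)`, section 6: the group `Q̂`

`Q̂ = ⟨Q, w, g x⟩` has order `|Q|²`, `Q̂ / ⟨z, w⟩` is elementary abelian, `⟨z, w⟩` is central,
`C_{Q̂}(t) = Q`, and all involutions of `t Q̂` are conjugate to `t` under `Q̂`.
-/

namespace Cfsg.Agent.UFiveTwo.Hat

open Subgroup

variable {G : Type*} [Group G] (D : Hat G)

/-- The group `Q̂`. -/
def Qh : Subgroup G := closure ((D.Q : Set G) ∪ ({D.w} ∪ {y | ∃ x, D.IsX x ∧ y = D.g x}))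

theorem Q_le_Qh : D.Q ≤ D.Qh := fun _ hq => subset_closure (Or.inl hq)

theorem w_Qh : D.w ∈ D.Qh := subset_closure (Or.inr (Or.inl rfl))

theorem z_Qh : D.z ∈ D.Qh := D.Q_le_Qh D.zQ

theorem IsX.gQh {D : Hat G} {x : G} (hx : D.IsX x) : D.g x ∈ D.Qh :=
  subset_closure (Or.inr (Or.inr ⟨x, hx, rfl⟩))

theorem wp_Qh (i : ZMod 2) : D.wp i ∈ D.Qh := by
  rcases zmod2 i with rfl | rfl
  · simpa using D.Qh.one_mem
  · simpa using D.w_Qh

theorem zp_Qh (i : ZMod 2) : D.zp i ∈ D.Qh := D.Q_le_Qh (D.zp_mem i)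

/-- The action of `u` on `t`, `w` and `Q`. -/
structure Good (u m : G) : Prop where
  mQ : m ∈ D.Q
  t : u * D.t * u⁻¹ = D.t * m * D.wp (D.s m)
  q : ∀ q ∈ D.Q, ∃ j, u * q * u⁻¹ = q * D.wp (D.b m q) * D.zp j
  w : u * D.w * u⁻¹ = D.w
  z : u * D.z * u⁻¹ = D.z

theorem conj_eq {a b : G} (h : a * b = b * a) : a * b * a⁻¹ = b := by
  rw [h, mul_assoc, mul_inv_cancel, mul_one]

theorem Good.of_Q {q : G} (hq : q ∈ D.Q) : D.Good q 1 where
  mQ := D.Q.one_mem
  t := by
    rw [conj_eq (D.tQ q hq).symm]; simp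
  q := fun r hr => ⟨D.b q r, by
    rw [D.b_spec hq hr, mul_assoc r q, ← D.zp_c hq, mul_assoc r, mul_assoc (D.zp _),
      mul_inv_cancel, mul_one, b_one, wp_zero, mul_one]⟩
  w := conj_eq (D.wQ q hq).symm
  z := conj_eq (D.zc hq).symm

theorem Good.of_w : D.Good D.w D.z where
  mQ := D.zQ
  t := by
    rw [D.wt, mul_assoc D.t, D.wz, s_z, wp_zero, mul_one]
    group
  q := fun r hr => ⟨0, by rw [conj_eq (D.wQ r hr), D.b_z hr, wp_zero, zp_zero, mul_one, mul_one]⟩
  w := by group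
  z := conj_eq D.wz

theorem Good.of_g {x : G} (hx : D.IsX x) : D.Good (D.g x) x where
  mQ := hx.Q
  t := by
    rw [hx.gt, hx.s, wp_zero, mul_one, mul_assoc, mul_inv_cancel, mul_one]
  q := fun r hr => ⟨0, by
    rw [hx.gb hr, mul_assoc r, hx.gwp, mul_assoc, mul_assoc, mul_inv_cancel, zp_zero, mul_one,
      mul_one]⟩
  w := conj_eq hx.gw
  z := conj_eq hx.gz

variable {D}

theorem Good.wp {u m : G} (h : D.Good u m) (i : ZMod 2) : u * D.wp i * u⁻¹ = D.wp i := by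
  rcases zmod2 i with rfl | rfl
  · simp
  · simpa using h.w

theorem Good.zp {u m : G} (h : D.Good u m) (i : ZMod 2) : u * D.zp i * u⁻¹ = D.zp i := by
  rcases zmod2 i with rfl | rfl
  · simp
  · simpa using h.z

theorem conj_mul' (u a b : G) : u * (a * b) * u⁻¹ = (u * a * u⁻¹) * (u * b * u⁻¹) := by group

theorem s_congr {m n : G} (hm : m ∈ D.Q) (hn : n ∈ D.Q) (i : ZMod 2) :
    D.s (m * n * D.zp i) = D.s m + D.s n + D.b m n := by
  rw [D.s_mul_zp (D.Q.mul_mem hm hn), D.s_mul hm hn]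

theorem Good.mul {u m v n : G} (hu : D.Good u m) (hv : D.Good v n) :
    ∃ k, D.Good (u * v) (m * n * D.zp k) := by
  obtain ⟨j, hj⟩ := hu.q n hv.mQ
  have hmn := D.Q.mul_mem hu.mQ hv.mQ
  refine ⟨j, ⟨D.Q.mul_mem hmn (D.zp_mem j), ?_, ?_, ?_, ?_⟩⟩
  · calc u * v * D.t * (u * v)⁻¹ = u * (v * D.t * v⁻¹) * u⁻¹ := by group
      _ = (u * D.t * u⁻¹) * (u * n * u⁻¹) * (u * D.wp (D.s n) * u⁻¹) := by rw [hv.t]; group
      _ = D.t * m * (D.wp (D.s m) * n) * D.wp (D.b m n) * D.zp j * D.wp (D.s n) := by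
          rw [hu.t, hj, hu.wp]; group
      _ = D.t * m * n * D.wp (D.s m) * D.wp (D.b m n) * (D.zp j * D.wp (D.s n)) := by
          rw [D.wp_c hv.mQ]; group
      _ = D.t * m * n * (D.wp (D.s m) * D.wp (D.b m n) * D.wp (D.s n) * D.zp j) := by
          rw [D.zp_wp]; group
      _ = D.t * m * n * (D.wp (D.s m + D.s n + D.b m n) * D.zp j) := by
          rw [← D.wp_add, ← D.wp_add, add_right_comm]
      _ = D.t * (m * n * D.zp j) * D.wp (D.s (m * n * D.zp j)) := by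
          rw [s_congr hu.mQ hv.mQ, ← D.zp_wp]; group
  · intro q hq
    obtain ⟨j1, h1⟩ := hv.q q hq
    obtain ⟨j2, h2⟩ := hu.q q hq
    refine ⟨j2 + j1, ?_⟩
    calc u * v * q * (u * v)⁻¹ = u * (v * q * v⁻¹) * u⁻¹ := by group
      _ = (u * q * u⁻¹) * (u * D.wp (D.b n q) * u⁻¹) * (u * D.zp j1 * u⁻¹) := by
          rw [h1]; group
      _ = q * D.wp (D.b m q) * (D.zp j2 * D.wp (D.b n q)) * D.zp j1 := by
          rw [h2, hu.wp, hu.zp]; group
      _ = q * D.wp (D.b m q) * (D.wp (D.b n q) * D.zp j2) * D.zp j1 := by rw [D.zp_wp]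
      _ = q * D.wp (D.b (m * n * D.zp j) q) * D.zp (j2 + j1) := by
          rw [D.b_mul_zp hmn hq, D.b_mul hu.mQ hv.mQ hq, D.wp_add, D.zp_add]; group
  · calc u * v * D.w * (u * v)⁻¹ = u * (v * D.w * v⁻¹) * u⁻¹ := by group
      _ = D.w := by rw [hv.w, hu.w]
  · calc u * v * D.z * (u * v)⁻¹ = u * (v * D.z * v⁻¹) * u⁻¹ := by group
      _ = D.z := by rw [hv.z, hu.z]

theorem inv_conj {u a b : G} (h : u * a * u⁻¹ = b) : u⁻¹ * b * u = a := by
  rw [← h]; group

theorem Good.inv {u m : G} (hu : D.Good u m) : ∃ k, D.Good u⁻¹ (m⁻¹ * D.zp k) := by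
  obtain ⟨j, hj⟩ := hu.q m hu.mQ
  rw [D.b_self, wp_zero, mul_one] at hj
  have hmi := D.Q.inv_mem hu.mQ
  have hw : u⁻¹ * D.w * u = D.w := inv_conj hu.w
  have hz : u⁻¹ * D.z * u = D.z := inv_conj hu.z
  have hwp : ∀ i, u⁻¹ * D.wp i * u = D.wp i := fun i => inv_conj (hu.wp i)
  have hzp : ∀ i, u⁻¹ * D.zp i * u = D.zp i := fun i => inv_conj (hu.zp i)
  -- `u⁻¹ m u = m z^j`
  have hm : u⁻¹ * m * u = m * D.zp j := by
    have h1 := inv_conj hj
    calc u⁻¹ * m * u = (u⁻¹ * m * u) * D.zp j * D.zp j := by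
          rw [mul_assoc (u⁻¹ * m * u), D.zp_sq, mul_one]
      _ = (u⁻¹ * m * u) * (u⁻¹ * D.zp j * u) * D.zp j := by rw [hzp]
      _ = (u⁻¹ * (m * D.zp j) * u) * D.zp j := by group
      _ = m * D.zp j := by rw [h1]
  have ht : u⁻¹ * D.t * u = D.t * (m⁻¹ * D.zp j) * D.wp (D.s m) := by
    have h1 := inv_conj hu.t
    calc u⁻¹ * D.t * u
        = (u⁻¹ * D.t * u) * (m * (D.zp j * (D.wp (D.s m) * D.wp (D.s m)) * D.zp j) * m⁻¹) := by
          rw [D.wp_sq, mul_one, D.zp_sq, mul_one, mul_inv_cancel, mul_one]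
      _ = (u⁻¹ * D.t * u) * (m * D.zp j) * D.wp (D.s m) * (D.wp (D.s m) * D.zp j * m⁻¹) := by
          group
      _ = (u⁻¹ * D.t * u) * (u⁻¹ * m * u) * (u⁻¹ * D.wp (D.s m) * u) *
            (D.wp (D.s m) * D.zp j * m⁻¹) := by rw [hm, hwp]
      _ = (u⁻¹ * (D.t * m * D.wp (D.s m)) * u) * (D.wp (D.s m) * (D.zp j * m⁻¹)) := by group
      _ = D.t * (m⁻¹ * D.zp j) * D.wp (D.s m) := by
          rw [h1, D.zp_c hmi, D.wp_c (D.Q.mul_mem hmi (D.zp_mem j))]; group
  refine ⟨j, ⟨D.Q.mul_mem hmi (D.zp_mem j), ?_, ?_, ?_, ?_⟩⟩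
  · rw [inv_inv, ht, D.s_mul_zp hmi, D.s_inv hu.mQ]
  · intro q hq
    obtain ⟨i, hi⟩ := hu.q q hq
    refine ⟨i, ?_⟩
    have h1 := inv_conj hi
    rw [inv_inv, D.b_mul_zp hmi hq, D.b_inv hu.mQ hq]
    calc u⁻¹ * q * u
        = (u⁻¹ * q * u) * (D.wp (D.b m q) * (D.zp i * D.zp i) * D.wp (D.b m q)) := by
          rw [D.zp_sq, mul_one, D.wp_sq, mul_one]
      _ = (u⁻¹ * q * u) * (u⁻¹ * D.wp (D.b m q) * u) * (u⁻¹ * D.zp i * u) *
            (D.zp i * D.wp (D.b m q)) := by rw [hwp, hzp]; group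
      _ = (u⁻¹ * (q * D.wp (D.b m q) * D.zp i) * u) * (D.zp i * D.wp (D.b m q)) := by group
      _ = q * D.wp (D.b m q) * D.zp i := by rw [h1, D.zp_wp]; group
  · rw [inv_inv]; exact hw
  · rw [inv_inv]; exact hz

/-- The subgroup of all `u` with some `Good u m`. -/
def Gd : Subgroup G where
  carrier := {u | ∃ m, D.Good u m}
  one_mem' := ⟨1, Good.of_Q D D.Q.one_mem⟩
  mul_mem' := by
    rintro u v ⟨m, hm⟩ ⟨n, hn⟩
    obtain ⟨k, hk⟩ := hm.mul hn
    exact ⟨_, hk⟩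
  inv_mem' := by
    rintro u ⟨m, hm⟩
    obtain ⟨k, hk⟩ := hm.inv
    exact ⟨_, hk⟩

theorem Qh_le_Gd : D.Qh ≤ Gd (D := D) := by
  unfold Qh
  rw [closure_le]
  rintro u (hu | hu | ⟨x, hx, rfl⟩)
  · exact ⟨1, Good.of_Q D hu⟩
  · rw [Set.mem_singleton_iff] at hu
    subst hu
    exact ⟨_, Good.of_w D⟩
  · exact ⟨x, Good.of_g D hx⟩

theorem exists_good {u : G} (hu : u ∈ D.Qh) : ∃ m, D.Good u m := Qh_le_Gd hu

theorem Good.unique {u m n : G} (hm : D.Good u m) (hn : D.Good u n) : m = n := by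
  have h := hm.t
  rw [hn.t, mul_assoc, mul_assoc] at h
  have h1 := mul_left_cancel h
  -- `n wp = m wp`
  have h2 : m⁻¹ * n = D.wp (D.s m + D.s n) := by
    calc m⁻¹ * n = m⁻¹ * (n * D.wp (D.s n)) * D.wp (D.s n) := by
          rw [mul_assoc, mul_assoc n, D.wp_sq, mul_one]
      _ = D.wp (D.s m) * D.wp (D.s n) := by rw [h1]; group
      _ = _ := (D.wp_add _ _).symm
  have h3 := D.wp_mem (h2 ▸ D.Q.mul_mem (D.Q.inv_mem hm.mQ) hn.mQ)
  rw [h3, wp_zero] at h2
  exact (inv_mul_eq_one.1 h2)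

/-- `w` can be used to change the sign. -/
theorem Good.wmul {u m : G} (h : D.Good u m) : D.Good (D.w * u) (m * D.z) where
  mQ := D.Q.mul_mem h.mQ D.zQ
  t := by
    have hs : D.s (m * D.z) = D.s m := by
      rw [← zp_one, D.s_mul_zp h.mQ]
    rw [hs]
    calc D.w * u * D.t * (D.w * u)⁻¹ = D.w * (u * D.t * u⁻¹) * D.w⁻¹ := by group
      _ = (D.w * D.t) * m * D.wp (D.s m) * D.w⁻¹ := by rw [h.t]; group
      _ = D.t * (D.w * (D.z * m * D.wp (D.s m)) * D.w⁻¹) := by rw [D.wt]; group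
      _ = D.t * (m * D.z) * D.wp (D.s m) := by
          rw [conj_eq]
          · rw [D.zc h.mQ]; group
          · rw [← mul_assoc, ← mul_assoc, D.wz, mul_assoc D.z, D.wQ m h.mQ, mul_assoc (D.z * m),
              ← wp_one, D.ww_comm]
            group
  q := fun q hq => by
    obtain ⟨j, hj⟩ := h.q q hq
    refine ⟨j, ?_⟩
    rw [← zp_one, D.b_mul_zp h.mQ hq]
    calc D.w * u * q * (D.w * u)⁻¹ = D.w * (u * q * u⁻¹) * D.w⁻¹ := by group
      _ = _ := by
        rw [hj, conj_eq]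
        rw [← mul_assoc, ← mul_assoc, D.wQ q hq, mul_assoc q, ← wp_one, D.ww_comm,
          mul_assoc _ (D.zp j), D.zp_wp]
        group
  w := by
    calc D.w * u * D.w * (D.w * u)⁻¹ = D.w * (u * D.w * u⁻¹) * D.w⁻¹ := by group
      _ = D.w := by rw [h.w]; group
  z := by
    calc D.w * u * D.z * (D.w * u)⁻¹ = D.w * (u * D.z * u⁻¹) * D.w⁻¹ := by group
      _ = D.z := by rw [h.z, conj_eq D.wz]

theorem Good.wpmul {u m : G} (h : D.Good u m) (i : ZMod 2) :
    D.Good (D.wp i * u) (m * D.zp i) := by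
  rcases zmod2 i with rfl | rfl
  · simpa using h
  · simpa using h.wmul

/-- The values `m` belonging to a subgroup that contains `w`. -/
def vals (H : Subgroup G) (hw : D.w ∈ H) : Subgroup G where
  carrier := {m | ∃ u ∈ H, D.Good u m}
  one_mem' := ⟨1, H.one_mem, Good.of_Q D D.Q.one_mem⟩
  mul_mem' := by
    rintro m n ⟨u, hu, hm⟩ ⟨v, hv, hn⟩
    obtain ⟨k, hk⟩ := hm.mul hn
    refine ⟨D.wp k * (u * v), H.mul_mem ?_ (H.mul_mem hu hv), ?_⟩
    · rcases zmod2 k with rfl | rfl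
      · simpa using H.one_mem
      · simpa using hw
    · have h := hk.wpmul k
      rwa [mul_assoc, D.zp_sq, mul_one] at h
  inv_mem' := by
    rintro m ⟨u, hu, hm⟩
    obtain ⟨k, hk⟩ := hm.inv
    refine ⟨D.wp k * u⁻¹, H.mul_mem ?_ (H.inv_mem hu), ?_⟩
    · rcases zmod2 k with rfl | rfl
      · simpa using H.one_mem
      · simpa using hw
    · have h := hk.wpmul k
      rwa [mul_assoc, D.zp_sq, mul_one] at h

theorem Q_le_vals (H : Subgroup G) (hw : D.w ∈ H) (hg : ∀ x, D.IsX x → D.g x ∈ H) :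
    D.Q ≤ vals H hw := by
  refine D.QX.trans ?_
  rw [closure_le]
  intro x hx
  exact ⟨D.g x, hg x hx, Good.of_g D hx⟩

theorem exists_of_val {m : G} (hm : m ∈ D.Q) : ∃ u ∈ D.Qh, D.Good u m :=
  Q_le_vals D.Qh D.w_Qh (fun _ hx => hx.gQh) hm

/-! ### Commutators -/

/-- `[g x, g y] ∈ ⟨z⟩ w ^ b (x, y)`. -/
theorem gg_comm [Finite D.Q] {x y : G} (hx : D.IsX x) (hy : D.IsX y) :
    ∃ i, D.g x * D.g y = D.g y * D.g x * D.wp (D.b x y) * D.zp i := by
  -- `k = (g_x g_y)²`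
  obtain ⟨P, hP⟩ : ∃ P, P = D.g x * D.g y := ⟨_, rfl⟩
  obtain ⟨β, hβ⟩ : ∃ β, β = D.b x y := ⟨_, rfl⟩
  rw [← hP, ← hβ]
  have hPw : ∀ i, P * D.wp i = D.wp i * P := fun i => by
    rw [hP, mul_assoc, hy.gwp, ← mul_assoc, hx.gwp, mul_assoc]
  have hPz : ∀ i, P * D.zp i = D.zp i * P := fun i => by
    rw [hP, mul_assoc, hy.gzp, ← mul_assoc, hx.gzp, mul_assoc]
  have hPq : ∀ q ∈ D.Q, P * q = q * P * D.wp (D.b x q + D.b y q) := fun q hq => by
    rw [hP, mul_assoc, hy.gb hq, ← mul_assoc, ← mul_assoc, hx.gb hq, mul_assoc (q * D.g x),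
      ← hy.gwp, ← mul_assoc, mul_assoc, ← D.wp_add]
    group
  have hPt : P * D.t = D.t * x * y * P * D.wp β := by
    calc P * D.t = D.g x * (D.g y * D.t) := by rw [hP]; group
      _ = (D.g x * D.t) * y * D.g y := by rw [hy.gt]; group
      _ = D.t * x * (D.g x * y) * D.g y := by rw [hx.gt]; group
      _ = D.t * x * y * D.g x * (D.wp β * D.g y) := by rw [hx.gb hy.Q, ← hβ]; group
      _ = D.t * x * y * P * D.wp β := by rw [← hy.gwp, hP]; group
  obtain ⟨k, hk⟩ : ∃ k, k = P * P := ⟨_, rfl⟩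
  have hkw : k * D.w = D.w * k := by
    have h := hPw 1
    rw [wp_one] at h
    rw [hk, mul_assoc, h, ← mul_assoc, h, mul_assoc]
  have hkz : k * D.z = D.z * k := by
    have h := hPz 1
    rw [zp_one] at h
    rw [hk, mul_assoc, h, ← mul_assoc, h, mul_assoc]
  have hkq : ∀ q ∈ D.Q, k * q = q * k := by
    intro q hq
    calc k * q = P * (P * q) := by rw [hk]; group
      _ = (P * q) * P * D.wp (D.b x q + D.b y q) := by
          rw [show P * (P * q) = P * (q * P * D.wp (D.b x q + D.b y q)) by rw [hPq q hq]]; group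
      _ = q * P * (D.wp (D.b x q + D.b y q) * P) * D.wp (D.b x q + D.b y q) := by
          rw [hPq q hq]; group
      _ = q * P * P * (D.wp (D.b x q + D.b y q) * D.wp (D.b x q + D.b y q)) := by
          rw [← hPw]; group
      _ = q * k := by rw [D.wp_sq, hk]; group
  have hkt : k * D.t = D.t * k * D.zp β := by
    calc k * D.t = P * (P * D.t) := by rw [hk]; group
      _ = (P * D.t) * x * y * P * D.wp β := by
          rw [show P * (P * D.t) = P * (D.t * x * y * P * D.wp β) by rw [hPt]]; group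
      _ = D.t * x * y * P * (D.wp β * x) * y * P * D.wp β := by rw [hPt]; group
      _ = D.t * x * y * (P * x) * (D.wp β * y) * P * D.wp β := by rw [D.wp_c hx.Q]; group
      _ = D.t * x * y * (P * x) * y * (D.wp β * P) * D.wp β := by rw [D.wp_c hy.Q]; group
      _ = D.t * x * y * (P * x) * y * P * (D.wp β * D.wp β) := by rw [← hPw]; group
      _ = D.t * x * y * (x * P * D.wp β) * y * P := by
          rw [D.wp_sq, hPq x hx.Q, b_self, zero_add, D.b_symm y x, ← hβ]; group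
      _ = D.t * x * y * x * P * (D.wp β * y) * P := by group
      _ = D.t * x * y * x * (P * y) * D.wp β * P := by rw [D.wp_c hy.Q]; group
      _ = D.t * x * y * x * y * P * (D.wp β * D.wp β) * P := by
          rw [hPq y hy.Q, b_self, add_zero, ← hβ]; group
      _ = D.t * ((x * y) * (x * y)) * k := by rw [D.wp_sq, hk]; group
      _ = D.t * k * D.zp β := by
          rw [D.s_spec (D.Q.mul_mem hx.Q hy.Q), D.s_mul hx.Q hy.Q, hx.s, hy.s, add_zero,
            zero_add, mul_assoc, mul_assoc, ← hβ]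
          congr 1
          rcases zmod2 β with h | h
          · rw [h]; simp
          · rw [h]; simpa using hkz.symm
  -- `k wp β` centralises everything
  obtain ⟨o, ho, -, how, hoq, hog, hou⟩ := D.ker (k * D.wp β) (by
      calc k * D.wp β * D.t = k * (D.wp β * D.t) := by group
        _ = (k * D.t) * D.wp β * D.zp β := by rw [D.wp_t]; group
        _ = D.t * k * (D.zp β * D.wp β) * D.zp β := by rw [hkt]; group
        _ = D.t * k * D.wp β * (D.zp β * D.zp β) := by rw [D.zp_wp]; group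
        _ = D.t * (k * D.wp β) := by rw [D.zp_sq]; group)
    (by
      rw [mul_assoc, ← wp_one, D.ww_comm β 1, ← mul_assoc, wp_one, hkw, mul_assoc])
    (fun q hq => by rw [mul_assoc, D.wp_c hq, ← mul_assoc, hkq q hq, mul_assoc])
  have hou' : ∃ i, k * D.wp β = o * D.zp i := by
    rcases hou with h | h
    · exact ⟨0, by simpa using h⟩
    · exact ⟨1, by simpa using h⟩
  obtain ⟨i, hi⟩ := hou'
  -- `k = o z^i w^β` is inverted by `g x` and commutes with it
  have hk1 : k = o * D.zp i * D.wp β := by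
    rw [← hi, mul_assoc, D.wp_sq, mul_one]
  have hgk : D.g x * k = k * D.g x := by
    rw [hk1, ← mul_assoc, ← mul_assoc, hog x hx.1 hx.2.1 hx.2.2.1 hx.2.2.2, mul_assoc o, hx.gzp,
      ← mul_assoc, mul_assoc _ (D.g x), hx.gwp]
    group
  have hkk : k * k = 1 := by
    have h1 : D.g x * k * D.g x * k = 1 := by
      rw [hk, hP]
      calc D.g x * (D.g x * D.g y * (D.g x * D.g y)) * D.g x * (D.g x * D.g y * (D.g x * D.g y))
          = (D.g x * D.g x) * D.g y * D.g x * D.g y * (D.g x * D.g x) * D.g y * D.g x * D.g y := by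
            group
        _ = D.g y * D.g x * (D.g y * D.g y) * D.g x * D.g y := by rw [hx.gg]; group
        _ = D.g y * (D.g x * D.g x) * D.g y := by rw [hy.gg]; group
        _ = 1 := by rw [hx.gg, mul_one, hy.gg]
    rw [hgk, mul_assoc k, hx.gg, mul_one] at h1
    exact h1
  have hoo : o * o = 1 := by
    have h2 : k * k = o * o := by
      rw [hk1]
      calc o * D.zp i * D.wp β * (o * D.zp i * D.wp β)
          = o * (D.zp i * D.wp β) * o * (D.zp i * D.wp β) := by group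
        _ = o * (D.wp β * (D.zp i * o)) * (D.zp i * D.wp β) := by rw [D.zp_wp]; group
        _ = o * (D.wp β * o) * (D.zp i * D.zp i) * D.wp β := by
            rw [show D.zp i * o = o * D.zp i from (hoq _ (D.zp_mem i)).symm]; group
        _ = o * (o * D.wp β) * D.wp β := by
            rw [D.zp_sq, mul_one, show D.wp β * o = o * D.wp β from ?_]
            rcases zmod2 β with h | h
            · rw [h]; simp
            · rw [h]; simpa using how.symm
        _ = o * o * (D.wp β * D.wp β) := by group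
        _ = o * o := by rw [D.wp_sq, mul_one]
    rw [← h2, hkk]
  have ho1 : o = 1 := by
    have h1 : orderOf o ∣ 2 := orderOf_dvd_of_pow_eq_one (by rw [pow_two, hoo])
    rcases (Nat.dvd_prime Nat.prime_two).1 h1 with h | h
    · exact orderOf_eq_one_iff.1 h
    · rw [h] at ho; exact absurd ho (by decide)
  refine ⟨i, ?_⟩
  have h3 : k = D.zp i * D.wp β := by rw [hk1, ho1, one_mul]
  calc P = D.g y * D.g x * (D.g x * D.g y * P) := by
        calc P = D.g y * (D.g y * P) := by rw [← mul_assoc, hy.gg, one_mul]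
          _ = D.g y * (D.g x * D.g x) * (D.g y * P) := by rw [hx.gg, mul_one]
          _ = _ := by group
    _ = D.g y * D.g x * k := by rw [hk, hP]
    _ = D.g y * D.g x * D.wp β * D.zp i := by rw [h3, D.zp_wp]; group

end Cfsg.Agent.UFiveTwo.Hat
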