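import Mathlib
import Cfsg.Agent.UFiveTwo.QHatGroup

set_option autoImplicit false

/-!
# S1778, type `U5(2)`, section 6: the structure of `Q̂`

`Ẑ = ⟨z, w⟩` is central in `Q̂`, `Q̂ / Ẑ` is elementary abelian, `C_{Q̂}(t) = Q`,
`|Q̂| = |Q| ^ 2`, the involutions of `t Q̂` are conjugate to `t` under `Q̂`.
-/

namespace Cfsg.Agent.UFiveTwo.Hat

open Subgroup

variable {G : Type*} [Group G] (D : Hat G)

/-- The four group `Ẑ = {1, z, w, w z}`. -/
def Zh : Subgroup G where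
  carrier := {u | ∃ i j, u = D.wp i * D.zp j}
  one_mem' := ⟨0, 0, by simp⟩
  mul_mem' := by
    rintro u v ⟨i, j, rfl⟩ ⟨i', j', rfl⟩
    refine ⟨i + i', j + j', ?_⟩
    calc D.wp i * D.zp j * (D.wp i' * D.zp j') = D.wp i * (D.zp j * D.wp i') * D.zp j' := by group
      _ = D.wp i * D.wp i' * (D.zp j * D.zp j') := by rw [D.zp_wp]; group
      _ = _ := by rw [← D.wp_add, ← D.zp_add]
  inv_mem' := by
    rintro u ⟨i, j, rfl⟩
    refine ⟨i, j, ?_⟩
    apply inv_eq_of_mul_eq_one_left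
    calc D.wp i * D.zp j * (D.wp i * D.zp j) = D.wp i * (D.zp j * D.wp i) * D.zp j := by group
      _ = D.wp i * D.wp i * (D.zp j * D.zp j) := by rw [D.zp_wp]; group
      _ = 1 := by rw [D.wp_sq, D.zp_sq, mul_one]

theorem mem_Zh {u : G} : u ∈ D.Zh ↔ ∃ i j, u = D.wp i * D.zp j := Iff.rfl

theorem wpzp_mem (i j : ZMod 2) : D.wp i * D.zp j ∈ D.Zh := ⟨i, j, rfl⟩

theorem wp_Zh (i : ZMod 2) : D.wp i ∈ D.Zh := ⟨i, 0, by simp⟩

theorem zp_Zh (i : ZMod 2) : D.zp i ∈ D.Zh := ⟨0, i, by simp⟩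

theorem w_Zh : D.w ∈ D.Zh := ⟨1, 0, by simp⟩

theorem z_Zh : D.z ∈ D.Zh := ⟨0, 1, by simp⟩

theorem Zh_le_Qh : D.Zh ≤ D.Qh := by
  rintro u ⟨i, j, rfl⟩
  exact D.Qh.mul_mem (D.wp_Qh i) (D.zp_Qh j)

theorem Zh_sq {u : G} (hu : u ∈ D.Zh) : u * u = 1 := by
  obtain ⟨i, j, rfl⟩ := hu
  calc D.wp i * D.zp j * (D.wp i * D.zp j) = D.wp i * (D.zp j * D.wp i) * D.zp j := by group
    _ = D.wp i * D.wp i * (D.zp j * D.zp j) := by rw [D.zp_wp]; group
    _ = 1 := by rw [D.wp_sq, D.zp_sq, mul_one]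

theorem Zh_inv {u : G} (hu : u ∈ D.Zh) : u⁻¹ = u := inv_eq_of_mul_eq_one_left (D.Zh_sq hu)

variable {D}

theorem wpc {u : G} (hu : u ∈ D.Qh) (i : ZMod 2) : u * D.wp i = D.wp i * u := by
  obtain ⟨m, hm⟩ := exists_good hu
  have h := hm.wp i
  rwa [mul_inv_eq_iff_eq_mul] at h

theorem zpc {u : G} (hu : u ∈ D.Qh) (i : ZMod 2) : u * D.zp i = D.zp i * u := by
  obtain ⟨m, hm⟩ := exists_good hu
  have h := hm.zp i
  rwa [mul_inv_eq_iff_eq_mul] at h

theorem Zhc {u ζ : G} (hu : u ∈ D.Qh) (hζ : ζ ∈ D.Zh) : u * ζ = ζ * u := by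
  obtain ⟨i, j, rfl⟩ := hζ
  rw [← mul_assoc, wpc hu, mul_assoc, zpc hu, mul_assoc]

/-- The subgroup of `Q̂` of the elements commuting with `s` modulo `Ẑ`. -/
def cz (s : G) : Subgroup G where
  carrier := {v | v ∈ D.Qh ∧ ∃ ζ ∈ D.Zh, s * v = v * s * ζ}
  one_mem' := ⟨D.Qh.one_mem, 1, D.Zh.one_mem, by simp⟩
  mul_mem' := by
    rintro u v ⟨hu, ζ, hζ, h⟩ ⟨hv, ξ, hξ, h'⟩
    refine ⟨D.Qh.mul_mem hu hv, ζ * ξ, D.Zh.mul_mem hζ hξ, ?_⟩
    calc s * (u * v) = (s * u) * v := by group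
      _ = u * s * (ζ * v) := by rw [h]; group
      _ = u * (s * v) * ζ := by rw [← Zhc hv hζ]; group
      _ = u * v * s * (ξ * ζ) := by rw [h']; group
      _ = u * v * s * (ζ * ξ) := by rw [Zhc (D.Zh_le_Qh hξ) hζ]
  inv_mem' := by
    rintro u ⟨hu, ζ, hζ, h⟩
    refine ⟨D.Qh.inv_mem hu, ζ, hζ, ?_⟩
    calc s * u⁻¹ = u⁻¹ * (u * s * ζ) * ζ⁻¹ * u⁻¹ := by group
      _ = u⁻¹ * s * (u * ζ⁻¹) * u⁻¹ := by rw [← h]; group
      _ = u⁻¹ * s * (ζ * u) * u⁻¹ := by rw [D.Zh_inv hζ, Zhc hu hζ]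
      _ = u⁻¹ * s * ζ := by group

theorem mem_cz {s v : G} : v ∈ cz (D := D) s ↔ v ∈ D.Qh ∧ ∃ ζ ∈ D.Zh, s * v = v * s * ζ := Iff.rfl

variable [Finite D.Q]

/-- `Q̂' ≤ Ẑ`. -/
theorem comm_Qh {u v : G} (hu : u ∈ D.Qh) (hv : v ∈ D.Qh) : ∃ ζ ∈ D.Zh, u * v = v * u * ζ := by
  -- first step: `s` a generator
  have key : ∀ s ∈ ((D.Q : Set G) ∪ ({D.w} ∪ {y | ∃ x, D.IsX x ∧ y = D.g x})),
      D.Qh ≤ cz (D := D) s := by
    intro s hs
    unfold Qh
    rw [closure_le]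
    intro v hv
    refine ⟨subset_closure hv, ?_⟩
    rcases hs with hs | hs | ⟨x, hx, rfl⟩
    · rcases hv with hv | hv | ⟨y, hy, rfl⟩
      · exact ⟨_, D.zp_Zh _, D.b_spec hs hv⟩
      · rw [Set.mem_singleton_iff] at hv
        subst hv
        exact ⟨1, D.Zh.one_mem, by rw [mul_one]; exact (D.wQ s hs).symm⟩
      · refine ⟨_, D.wp_Zh (D.b y s), ?_⟩
        rw [hy.gb hs, mul_assoc, mul_assoc, D.wp_sq, mul_one]
    · rw [Set.mem_singleton_iff] at hs
      subst hs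
      refine ⟨1, D.Zh.one_mem, ?_⟩
      rw [mul_one]
      have h := wpc (D := D) (subset_closure hv) 1
      rw [wp_one] at h
      exact h.symm
    · rcases hv with hv | hv | ⟨y, hy, rfl⟩
      · exact ⟨_, D.wp_Zh _, hx.gb hv⟩
      · rw [Set.mem_singleton_iff] at hv
        subst hv
        exact ⟨1, D.Zh.one_mem, by rw [mul_one]; exact hx.gw⟩
      · obtain ⟨i, hi⟩ := gg_comm hx hy
        refine ⟨_, D.wpzp_mem (D.b x y) i, ?_⟩
        rw [hi]; group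
  -- second step
  have key2 : D.Qh ≤ cz (D := D) v := by
    unfold Qh
    rw [closure_le]
    intro s hs
    have hsQ : s ∈ D.Qh := subset_closure hs
    obtain ⟨-, ζ, hζ, h⟩ := key s hs hv
    refine ⟨hsQ, ζ, hζ, ?_⟩
    rw [h, mul_assoc, mul_assoc, D.Zh_sq hζ, mul_one]
  obtain ⟨-, ζ, hζ, h⟩ := key2 hu
  refine ⟨ζ, hζ, ?_⟩
  rw [h, mul_assoc, mul_assoc, D.Zh_sq hζ, mul_one]

/-- The squares of `Q̂` lie in `Ẑ`. -/
theorem sq_Qh {u : G} (hu : u ∈ D.Qh) : u * u ∈ D.Zh := by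
  have key : D.Qh ≤ (({
      carrier := {v | v ∈ D.Qh ∧ v * v ∈ D.Zh}
      one_mem' := ⟨D.Qh.one_mem, by rw [mul_one]; exact D.Zh.one_mem⟩
      mul_mem' := by
        rintro u v ⟨hu, hu2⟩ ⟨hv, hv2⟩
        refine ⟨D.Qh.mul_mem hu hv, ?_⟩
        obtain ⟨ζ, hζ, h⟩ := comm_Qh hv hu
        have h1 : u * v * (u * v) = u * u * (v * v) * ζ := by
          calc u * v * (u * v) = u * (v * u) * v := by group
            _ = u * u * v * (ζ * v) := by rw [h]; group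
            _ = u * u * (v * v) * ζ := by rw [← Zhc hv hζ]; group
        rw [h1]
        exact D.Zh.mul_mem (D.Zh.mul_mem hu2 hv2) hζ
      inv_mem' := by
        rintro u ⟨hu, hu2⟩
        refine ⟨D.Qh.inv_mem hu, ?_⟩
        have h1 : u⁻¹ * u⁻¹ = (u * u)⁻¹ := by group
        rw [h1]
        exact D.Zh.inv_mem hu2 } : Subgroup G)) := by
    conv_lhs => unfold Qh
    rw [closure_le]
    intro s hs
    refine ⟨subset_closure hs, ?_⟩
    rcases hs with hs | hs | ⟨x, hx, rfl⟩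
    · rw [D.s_spec hs]; exact D.zp_Zh _
    · rw [Set.mem_singleton_iff] at hs
      subst hs
      rw [D.ww]; exact D.Zh.one_mem
    · rw [hx.gg]; exact D.Zh.one_mem
  exact (key hu).2

theorem four_Qh {u : G} (hu : u ∈ D.Qh) : u * u * (u * u) = 1 := D.Zh_sq (sq_Qh hu)

/-- `C_{Q̂}(t) = Q`. -/
theorem mem_Q_of_comm {u : G} (hu : u ∈ D.Qh) (ht : u * D.t = D.t * u) : u ∈ D.Q := by
  obtain ⟨m, hm⟩ := exists_good hu
  -- `m = 1`
  have h1 : m * D.wp (D.s m) = 1 := by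
    have h := hm.t
    rw [conj_eq ht, mul_assoc] at h
    exact (mul_eq_left.1 h.symm)
  have hm1 : m = 1 := by
    have h2 : D.wp (D.s m) = m⁻¹ := by rw [eq_inv_iff_mul_eq_one, D.wp_c hm.mQ]; exact h1
    have h3 := D.wp_mem (h2 ▸ D.Q.inv_mem hm.mQ)
    rw [h3, wp_zero, mul_one] at h1
    exact h1
  subst hm1
  obtain ⟨q₀, hq₀, h⟩ := D.exists_inner u (fun q hq => by
    obtain ⟨j, hj⟩ := hm.q q hq
    rw [b_one, wp_zero, mul_one] at hj
    exact ⟨j, hj⟩)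
  have hv : q₀⁻¹ * u ∈ D.Qh := D.Qh.mul_mem (D.Qh.inv_mem (D.Q_le_Qh hq₀)) hu
  obtain ⟨o, ho, -, -, -, -, hou⟩ := D.ker (q₀⁻¹ * u)
    (by
      rw [mul_assoc, ht, ← mul_assoc, ← mul_assoc, D.tQ _ (D.Q.inv_mem hq₀)])
    (by
      have h1 := wpc hv 1
      rwa [wp_one] at h1)
    (fun q hq => by
      have h1 := h q hq
      calc q₀⁻¹ * u * q = q₀⁻¹ * (u * q * u⁻¹) * u := by group
        _ = q * (q₀⁻¹ * u) := by rw [h1]; group)
  have ho4 : o ^ 4 = 1 := by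
    have hQ : o ∈ D.Qh := by
      rcases hou with h2 | h2
      · rw [← h2]; exact hv
      · have h3 : o = q₀⁻¹ * u * D.z := by rw [h2, mul_assoc, D.zz, mul_one]
        rw [h3]; exact D.Qh.mul_mem hv D.z_Qh
    have h4 := four_Qh hQ
    calc o ^ 4 = o * o * (o * o) := by rw [show (4 : ℕ) = 2 + 2 from rfl, pow_add, pow_two]
      _ = 1 := h4
  have ho1 : o = 1 := by
    have h2 : orderOf o ∣ 4 := orderOf_dvd_of_pow_eq_one ho4
    have h3 : Nat.Coprime (orderOf o) 4 := by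
      have : Nat.Coprime (orderOf o) (2 ^ 2) := Nat.Coprime.pow_right 2 ho.coprime_two_right
      exact this
    exact orderOf_eq_one_iff.1 (Nat.Coprime.eq_one_of_dvd h3 h2)
  have hz : q₀⁻¹ * u ∈ D.Q := by
    rcases hou with h2 | h2
    · rw [h2, ho1]; exact D.Q.one_mem
    · rw [h2, ho1, one_mul]; exact D.zQ
  have h5 := D.Q.mul_mem hq₀ hz
  rwa [mul_inv_cancel_left] at h5

theorem comm_iff {u : G} (hu : u ∈ D.Qh) : u * D.t = D.t * u ↔ u ∈ D.Q :=
  ⟨mem_Q_of_comm hu, fun h => (D.tQ u h).symm⟩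

/-- Elements with the same `m` differ by `Q`. -/
theorem Good.mem_Q {u v m : G} (hu : D.Good u m) (hv : D.Good v m) (huQ : u ∈ D.Qh)
    (hvQ : v ∈ D.Qh) : u⁻¹ * v ∈ D.Q := by
  apply mem_Q_of_comm (D.Qh.mul_mem (D.Qh.inv_mem huQ) hvQ)
  have h1 : u * D.t * u⁻¹ = v * D.t * v⁻¹ := by rw [hu.t, hv.t]
  calc u⁻¹ * v * D.t = u⁻¹ * (v * D.t * v⁻¹) * v := by group
    _ = D.t * (u⁻¹ * v) := by rw [← h1]; group

omit [Finite D.Q] in
theorem Good.mul_Q {u m q : G} (hu : D.Good u m) (hq : q ∈ D.Q) : D.Good (u * q) m where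
  mQ := hu.mQ
  t := by
    calc u * q * D.t * (u * q)⁻¹ = u * (q * D.t * q⁻¹) * u⁻¹ := by group
      _ = _ := by rw [conj_eq (D.tQ q hq).symm, hu.t]
  q := fun r hr => by
    obtain ⟨j, hj⟩ := hu.q r hr
    refine ⟨D.b q r + j, ?_⟩
    calc u * q * r * (u * q)⁻¹ = u * (q * r * q⁻¹) * u⁻¹ := by group
      _ = (u * r * u⁻¹) * (u * D.zp (D.b q r) * u⁻¹) := by
          rw [D.b_spec hq hr, mul_assoc r q, ← D.zp_c hq]; group
      _ = r * D.wp (D.b m r) * D.zp (D.b q r + j) := by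
          rw [hj, hu.zp, D.zp_add, D.zz_comm]; group
  w := by
    calc u * q * D.w * (u * q)⁻¹ = u * (q * D.w * q⁻¹) * u⁻¹ := by group
      _ = D.w := by rw [conj_eq (D.wQ q hq).symm, hu.w]
  z := by
    calc u * q * D.z * (u * q)⁻¹ = u * (q * D.z * q⁻¹) * u⁻¹ := by group
      _ = D.z := by rw [conj_eq (D.zc hq).symm, hu.z]

/-- `|Q̂| = |Q| ^ 2`. -/
theorem card_Qh : Nat.card D.Qh = Nat.card D.Q * Nat.card D.Q := by
  classical
  choose m hm using fun u : D.Qh => exists_good u.2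
  have hQ : D.Q.subgroupOf D.Qh ≤ ⊤ := le_top
  let K : Subgroup D.Qh := D.Q.subgroupOf D.Qh
  have hrel : ∀ u v : D.Qh, m u = m v ↔ u⁻¹ * v ∈ K := by
    intro u v
    rw [mem_subgroupOf]
    constructor
    · intro h
      exact (hm u).mem_Q (h ▸ hm v) u.2 v.2
    · intro h
      have h1 := (hm u).mul_Q h
      have h2 : (u : G) * (((u⁻¹ * v : D.Qh)) : G) = v := by
        push_cast; group
      rw [h2] at h1
      exact h1.unique (hm v)
  let f : D.Qh ⧸ K → D.Q := fun c => Quotient.liftOn' c (fun u => (⟨m u, (hm u).mQ⟩ : D.Q))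
    (fun u v h => Subtype.ext ((hrel u v).2 (QuotientGroup.leftRel_apply.1 h)))
  have hf : Function.Bijective f := by
    constructor
    · intro c d
      induction c using QuotientGroup.induction_on with
      | H u =>
        induction d using QuotientGroup.induction_on with
        | H v =>
          intro h
          exact QuotientGroup.eq.2 ((hrel u v).1 (congrArg Subtype.val h))
    · rintro ⟨q, hq⟩
      obtain ⟨u, hu, hg⟩ := exists_of_val (D := D) hq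
      refine ⟨QuotientGroup.mk ⟨u, hu⟩, ?_⟩
      apply Subtype.ext
      exact (hm ⟨u, hu⟩).unique hg
  rw [Subgroup.card_eq_card_quotient_mul_card_subgroup K, Nat.card_congr (Equiv.ofBijective f hf),
    Nat.card_congr (subgroupOfEquivOfLe D.Q_le_Qh).toEquiv]

/-- `t` normalises `Q̂`. -/
theorem t_conj {u : G} (hu : u ∈ D.Qh) : D.t * u * D.t ∈ D.Qh := by
  have ht : D.t⁻¹ = D.t := inv_eq_of_mul_eq_one_left D.tt
  have key : D.Qh ≤ D.Qh.comap (MulAut.conj D.t).toMonoidHom := by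
    conv_lhs => unfold Qh
    rw [closure_le]
    intro s hs
    show D.t * s * D.t⁻¹ ∈ D.Qh
    rcases hs with hs | hs | ⟨x, hx, rfl⟩
    · rw [conj_eq (D.tQ s hs)]; exact D.Q_le_Qh hs
    · rw [Set.mem_singleton_iff] at hs
      subst hs
      have h1 : D.t * D.w * D.t⁻¹ = D.w * D.z := by
        rw [ht]
        have h2 := D.wt
        calc D.t * D.w * D.t = D.t * (D.w * D.t) := by group
          _ = (D.t * D.t) * D.w * D.z := by rw [h2]; group
          _ = D.w * D.z := by rw [D.tt, one_mul]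
      rw [h1]; exact D.Qh.mul_mem D.w_Qh D.z_Qh
    · have h1 : D.t * D.g x * D.t⁻¹ = x * D.g x := by
        rw [ht]
        calc D.t * D.g x * D.t = D.t * (D.g x * D.t) := by group
          _ = (D.t * D.t) * x * D.g x := by rw [hx.gt]; group
          _ = x * D.g x := by rw [D.tt, one_mul]
      rw [h1]; exact D.Qh.mul_mem (D.Q_le_Qh hx.Q) hx.gQh
  have h := key hu
  have h' : D.t * u * D.t⁻¹ ∈ D.Qh := h
  rwa [ht] at h'

/-- The involutions of `t Q̂` are conjugate to `t` under `Q̂`. -/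
theorem invol_tQh {u : G} (hu : u ∈ D.Qh) (h : D.t * u * (D.t * u) = 1) :
    ∃ v ∈ D.Qh, v * D.t * v⁻¹ = D.t * u := by
  obtain ⟨m, hm⟩ := exists_good hu
  obtain ⟨i, j, hij⟩ := sq_Qh hu
  -- `u t u⁻¹ = t u⁻²`
  have h1 : u * D.t * u⁻¹ = D.t * (u * u)⁻¹ := by
    have h2 : u * D.t * u = D.t := by
      calc u * D.t * u = D.t * D.t * (u * D.t * u) := by rw [D.tt, one_mul]
        _ = D.t * (D.t * u * (D.t * u)) := by group
        _ = D.t := by rw [h, mul_one]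
    calc u * D.t * u⁻¹ = (u * D.t * u) * (u * u)⁻¹ := by group
      _ = _ := by rw [h2]
  rw [D.Zh_inv (sq_Qh hu), hij, hm.t, mul_assoc] at h1
  have h3 := mul_left_cancel h1
  have h4 : m * D.zp j = D.wp (D.s m + i) := by
    calc m * D.zp j = D.wp (D.s m) * (D.wp (D.s m) * (m * D.zp j)) := by
          rw [← mul_assoc, D.wp_sq, one_mul]
      _ = D.wp (D.s m) * ((m * D.wp (D.s m)) * D.zp j) := by
          rw [← D.wp_c hm.mQ]; group
      _ = D.wp (D.s m) * D.wp i * (D.zp j * D.zp j) := by rw [h3]; group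
      _ = _ := by rw [D.zp_sq, mul_one, D.wp_add]
  have h5 := D.wp_mem (h4 ▸ D.Q.mul_mem hm.mQ (D.zp_mem j))
  rw [h5, wp_zero] at h4
  have hmj : m = D.zp j := by
    calc m = m * D.zp j * D.zp j := by rw [mul_assoc, D.zp_sq, mul_one]
      _ = _ := by rw [h4, one_mul]
  -- `u wp j` commutes with `t`
  have hq : u * D.wp j ∈ D.Q := by
    apply mem_Q_of_comm (D.Qh.mul_mem hu (D.wp_Qh j))
    have h6 := hm.t
    rw [hmj, s_zp, wp_zero, mul_one, mul_inv_eq_iff_eq_mul] at h6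
    calc u * D.wp j * D.t = u * (D.wp j * D.t) := by group
      _ = (u * D.t) * D.wp j * D.zp j := by rw [D.wp_t]; group
      _ = D.t * (D.zp j * u) * D.wp j * D.zp j := by rw [h6]; group
      _ = D.t * u * (D.zp j * D.wp j) * D.zp j := by rw [← zpc hu]; group
      _ = D.t * (u * D.wp j) * (D.zp j * D.zp j) := by rw [D.zp_wp]; group
      _ = D.t * (u * D.wp j) := by rw [D.zp_sq, mul_one]
  obtain ⟨q, hqd⟩ : ∃ q, q = u * D.wp j := ⟨_, rfl⟩
  rw [← hqd] at hq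
  have hu' : u = q * D.wp j := by rw [hqd, mul_assoc, D.wp_sq, mul_one]
  -- `j = s q`
  have hj : j = D.s q := by
    have h7 : D.t * u * (D.t * u) = D.zp (j + D.s q) := by
      rw [hu']
      calc D.t * (q * D.wp j) * (D.t * (q * D.wp j))
          = D.t * q * (D.wp j * D.t) * q * D.wp j := by group
        _ = D.t * (q * D.t) * D.wp j * (D.zp j * q) * D.wp j := by rw [D.wp_t]; group
        _ = D.t * D.t * q * (D.wp j * q) * D.zp j * D.wp j := by
            rw [← D.tQ q hq, D.zp_c hq]; group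
        _ = (D.t * D.t) * (q * q) * D.wp j * (D.zp j * D.wp j) := by
            rw [D.wp_c hq]; group
        _ = (D.t * D.t) * (q * q) * (D.wp j * D.wp j) * D.zp j := by rw [D.zp_wp]; group
        _ = D.zp (j + D.s q) := by
            rw [D.tt, D.wp_sq, D.s_spec hq, one_mul, mul_one, add_comm, D.zp_add]
    rw [h] at h7
    have h8 : D.zp 0 = D.zp (j + D.s q) := by rw [zp_zero]; exact h7
    have h9 := D.zp_inj h8
    have h10 : ∀ a c : ZMod 2, 0 = a + c → a = c := by decide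
    exact h10 _ _ h9
  obtain ⟨v, hv, hg⟩ := exists_of_val (D := D) hq
  refine ⟨v, hv, ?_⟩
  rw [hg.t, hu', ← hj, mul_assoc]

end Cfsg.Agent.UFiveTwo.Hat
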