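import Mathlib
import Cfsg.Agent.UFiveTwo.QHatMain

set_option autoImplicit false

/-!
# S1778, type `U5(2)`, section 6: the subgroup `Γ = ⟨g x⟩ Ẑ` of `Q̂`

`Γ / Ẑ ≃ Q / ⟨z⟩`, and for `u, v ∈ Γ` over `m, n ∈ Q` one has
`[u, v] = w ^ b (m, n) * z ^ B (m, n)` with a bilinear alternating form `B` on `Q / ⟨z⟩`.
-/

namespace Cfsg.Agent.UFiveTwo.Hat

open Subgroup

variable {G : Type*} [Group G] (D : Hat G)

/-- The subgroup `Γ = ⟨g x⟩ Ẑ`. -/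
def Gm : Subgroup G := closure ({y | ∃ x, D.IsX x ∧ y = D.g x} ∪ (D.Zh : Set G))

theorem Zh_le_Gm : D.Zh ≤ D.Gm := fun _ h => subset_closure (Or.inr h)

theorem IsX.gGm {D : Hat G} {x : G} (hx : D.IsX x) : D.g x ∈ D.Gm :=
  subset_closure (Or.inl ⟨x, hx, rfl⟩)

theorem Gm_le_Qh : D.Gm ≤ D.Qh := by
  unfold Gm
  rw [closure_le]
  rintro u (⟨x, hx, rfl⟩ | hu)
  · exact hx.gQh
  · exact D.Zh_le_Qh hu

theorem exists_Gm {m : G} (hm : m ∈ D.Q) : ∃ u ∈ D.Gm, D.Good u m :=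
  Q_le_vals D.Gm (D.Zh_le_Gm D.w_Zh) (fun _ hx => hx.gGm) hm

theorem Good.of_Zh (i j : ZMod 2) : D.Good (D.wp i * D.zp j) (D.zp i) := by
  have h := (Good.of_Q D (D.zp_mem j)).wpmul i
  rwa [one_mul] at h

variable {D}

/-- The commutator relation. -/
def Rel (D : Hat G) (u v : G) : Prop :=
  ∃ m n j, D.Good u m ∧ D.Good v n ∧ u * v = v * u * D.wp (D.b m n) * D.zp j

theorem Rel.symm {u v : G} (hu : u ∈ D.Qh) (hv : v ∈ D.Qh) (h : Rel D u v) : Rel D v u := by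
  obtain ⟨m, n, j, hm, hn, h⟩ := h
  refine ⟨n, m, j, hn, hm, ?_⟩
  rw [D.b_symm n m]
  calc v * u = v * u * D.wp (D.b m n) * D.zp j * D.zp j * D.wp (D.b m n) := by
        rw [mul_assoc _ (D.zp j) (D.zp j), D.zp_sq, mul_one, mul_assoc, D.wp_sq, mul_one]
    _ = u * v * (D.zp j * D.wp (D.b m n)) := by rw [← h]; group
    _ = _ := by rw [D.zp_wp]; group

/-- The subgroup of the `v` with `Rel s v`. -/
def rel (s : G) (hs : s ∈ D.Qh) : Subgroup G where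
  carrier := {v | v ∈ D.Qh ∧ Rel D s v}
  one_mem' := by
    obtain ⟨m, hm⟩ := exists_good hs
    exact ⟨D.Qh.one_mem, m, 1, 0, hm, Good.of_Q D D.Q.one_mem, by simp⟩
  mul_mem' := by
    rintro u v ⟨hu, m, n, j, hm, hn, h⟩ ⟨hv, m', n', j', hm', hn', h'⟩
    obtain rfl := hm.unique hm'
    obtain ⟨k, hk⟩ := hn.mul hn'
    refine ⟨D.Qh.mul_mem hu hv, m, _, j + j', hm, hk, ?_⟩
    have hb : D.b m (n * n' * D.zp k) = D.b m n + D.b m n' := by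
      rw [D.b_mul_zp' hm.mQ (D.Q.mul_mem hn.mQ hn'.mQ), D.b_mul' hn.mQ hn'.mQ hm.mQ]
    rw [hb, D.wp_add, D.zp_add]
    calc s * (u * v) = (s * u) * v := by group
      _ = u * s * D.wp (D.b m n) * (D.zp j * v) := by rw [h]; group
      _ = u * s * (D.wp (D.b m n) * v) * D.zp j := by rw [← zpc hv]; group
      _ = u * (s * v) * D.wp (D.b m n) * D.zp j := by rw [← wpc hv]; group
      _ = u * v * s * D.wp (D.b m n') * (D.zp j' * D.wp (D.b m n)) * D.zp j := by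
          rw [h']; group
      _ = u * v * s * (D.wp (D.b m n') * D.wp (D.b m n)) * (D.zp j' * D.zp j) := by
          rw [D.zp_wp]; group
      _ = u * v * s * (D.wp (D.b m n) * D.wp (D.b m n')) * (D.zp j * D.zp j') := by
          rw [D.ww_comm, D.zz_comm]
      _ = _ := by group
  inv_mem' := by
    rintro u ⟨hu, m, n, j, hm, hn, h⟩
    obtain ⟨k, hk⟩ := hn.inv
    refine ⟨D.Qh.inv_mem hu, m, _, j, hm, hk, ?_⟩
    have hb : D.b m (n⁻¹ * D.zp k) = D.b m n := by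
      rw [D.b_mul_zp' hm.mQ (D.Q.inv_mem hn.mQ), D.b_symm, D.b_inv hn.mQ hm.mQ, D.b_symm]
    rw [hb]
    have hζ := D.wpzp_mem (D.b m n) j
    calc s * u⁻¹ = u⁻¹ * (u * s) * u⁻¹ := by group
      _ = u⁻¹ * (s * u * (D.wp (D.b m n) * D.zp j)) * u⁻¹ := by
          rw [h, mul_assoc (u * s), mul_assoc (u * s), D.Zh_sq hζ, mul_one]
      _ = u⁻¹ * s * (u * (D.wp (D.b m n) * D.zp j)) * u⁻¹ := by group
      _ = u⁻¹ * s * (D.wp (D.b m n) * D.zp j) := by rw [Zhc hu hζ]; group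
      _ = _ := by group

theorem mem_rel {s v : G} (hs : s ∈ D.Qh) : v ∈ rel s hs ↔ v ∈ D.Qh ∧ Rel D s v := Iff.rfl

variable [Finite D.Q]

theorem rel_Gm {u v : G} (hu : u ∈ D.Gm) (hv : v ∈ D.Gm) : Rel D u v := by
  have key : ∀ s ∈ ({y | ∃ x, D.IsX x ∧ y = D.g x} ∪ (D.Zh : Set G)), ∀ hs : s ∈ D.Qh,
      D.Gm ≤ rel s hs := by
    intro s hs hsQ
    unfold Gm
    rw [closure_le]
    intro v hv
    have hvQ : v ∈ D.Qh := D.Gm_le_Qh (subset_closure hv)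
    refine ⟨hvQ, ?_⟩
    rcases hs with ⟨x, hx, rfl⟩ | ⟨i, j, rfl⟩
    · rcases hv with ⟨y, hy, rfl⟩ | ⟨i, j, rfl⟩
      · obtain ⟨i, hi⟩ := gg_comm hx hy
        exact ⟨x, y, i, Good.of_g D hx, Good.of_g D hy, hi⟩
      · refine ⟨x, D.zp i, 0, Good.of_g D hx, Good.of_Zh D i j, ?_⟩
        rw [D.b_zp' hx.Q, wp_zero, zp_zero, mul_one, mul_one]
        exact Zhc hx.gQh (D.wpzp_mem i j)
    · obtain ⟨n, hn⟩ := exists_good hvQ
      refine ⟨D.zp i, n, 0, Good.of_Zh D i j, hn, ?_⟩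
      rw [D.b_zp hn.mQ, wp_zero, zp_zero, mul_one, mul_one]
      exact (Zhc hvQ (D.wpzp_mem i j)).symm
  have hvQ : v ∈ D.Qh := D.Gm_le_Qh hv
  have key2 : D.Gm ≤ rel v hvQ := by
    conv_lhs => unfold Gm
    rw [closure_le]
    intro s hs
    have hsQ : s ∈ D.Qh := D.Gm_le_Qh (subset_closure hs)
    exact ⟨hsQ, Rel.symm hsQ hvQ (key s hs hsQ hv).2⟩
  exact Rel.symm hvQ (D.Gm_le_Qh hu) (key2 hu).2

/-- An element of `Γ` over `⟨z⟩` lies in `Ẑ`. -/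
theorem mem_Zh_of_good {k : G} {i : ZMod 2} (hk : k ∈ D.Gm) (h : D.Good k (D.zp i)) :
    k ∈ D.Zh := by
  obtain ⟨l, hl⟩ : ∃ l, l = D.wp i * k := ⟨_, rfl⟩
  have hlG : l ∈ D.Gm := by
    rw [hl]; exact D.Gm.mul_mem (D.Zh_le_Gm (D.wp_Zh i)) hk
  have hg : D.Good l 1 := by
    have h1 := h.wpmul i
    rwa [D.zp_sq, ← hl] at h1
  have hlQ : l ∈ D.Q := by
    apply mem_Q_of_comm (D.Gm_le_Qh hlG)
    have h1 := hg.t
    rw [s_one, wp_zero, mul_one, mul_one, mul_inv_eq_iff_eq_mul] at h1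
    exact h1
  obtain ⟨j, hj⟩ := D.eq_zp_of_X hlQ (fun x hx => by
    obtain ⟨m, n, j, hm, hn, h1⟩ := rel_Gm hx.gGm hlG
    obtain rfl := hm.unique (Good.of_g D hx)
    obtain rfl := hn.unique hg
    rw [b_one', wp_zero, mul_one, hx.gb hlQ] at h1
    have h2 := mul_left_cancel h1
    have h3 := D.wp_mem (h2 ▸ D.zp_mem j)
    rw [D.b_symm]; exact h3)
  have hk' : k = D.wp i * l := by rw [hl, ← mul_assoc, D.wp_sq, one_mul]
  rw [hk', hj]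
  exact D.wpzp_mem i j

/-- Two elements of `Γ` over the same element of `Q` differ by `Ẑ`. -/
theorem Good.diff {u v m : G} (hu : D.Good u m) (hv : D.Good v m) (huG : u ∈ D.Gm)
    (hvG : v ∈ D.Gm) : ∃ ζ ∈ D.Zh, v = u * ζ := by
  refine ⟨u⁻¹ * v, ?_, by group⟩
  obtain ⟨k, hk⟩ := hu.inv
  obtain ⟨l, hl⟩ := hk.mul hv
  have h1 : m⁻¹ * D.zp k * m * D.zp l = D.zp (k + l) := by
    rw [mul_assoc m⁻¹, D.zp_c hu.mQ, ← mul_assoc, inv_mul_cancel, one_mul, D.zp_add]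
  rw [h1] at hl
  exact mem_Zh_of_good (D.Gm.mul_mem (D.Gm.inv_mem huG) hvG) hl

variable (D)

/-- A lift of `m ∈ Q` to `Γ`. -/
noncomputable def ga (m : G) : G := open Classical in
  if h : m ∈ D.Q then (D.exists_Gm h).choose else 1

theorem ga_Gm {m : G} (hm : m ∈ D.Q) : D.ga m ∈ D.Gm := by
  rw [ga, dif_pos hm]; exact (D.exists_Gm hm).choose_spec.1

theorem ga_good {m : G} (hm : m ∈ D.Q) : D.Good (D.ga m) m := by
  rw [ga, dif_pos hm]; exact (D.exists_Gm hm).choose_spec.2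

open Classical in
/-- The form `B` on `Q / ⟨z⟩`. -/
noncomputable def B (m n : G) : ZMod 2 :=
  if D.ga m * D.ga n = D.ga n * D.ga m * D.wp (D.b m n) then 0 else 1

variable {D}

/-- `[u, v] = w ^ b (m, n) * z ^ B (m, n)`. -/
theorem B_spec {u v m n : G} (hu : u ∈ D.Gm) (hv : v ∈ D.Gm) (hm : D.Good u m)
    (hn : D.Good v n) : u * v = v * u * D.wp (D.b m n) * D.zp (D.B m n) := by
  have h1 : D.ga m * D.ga n = D.ga n * D.ga m * D.wp (D.b m n) * D.zp (D.B m n) := by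
    obtain ⟨m', n', j, hm', hn', h⟩ := rel_Gm (D.ga_Gm hm.mQ) (D.ga_Gm hn.mQ)
    obtain rfl := hm'.unique (D.ga_good hm.mQ)
    obtain rfl := hn'.unique (D.ga_good hn.mQ)
    rcases zmod2 j with rfl | rfl
    · rw [zp_zero, mul_one] at h
      have hB : D.B m' n' = 0 := by unfold B; rw [if_pos h]
      rw [hB, zp_zero, mul_one, h]
    · have hB : D.B m' n' = 1 := by
        unfold B
        rw [if_neg]
        intro h2
        rw [h2, zp_one] at h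
        exact D.z1 (mul_eq_left.1 h.symm)
      rw [hB, h]
  obtain ⟨ζ, hζ, h2⟩ := (D.ga_good hm.mQ).diff hm (D.ga_Gm hm.mQ) hu
  obtain ⟨ξ, hξ, h3⟩ := (D.ga_good hn.mQ).diff hn (D.ga_Gm hn.mQ) hv
  have hcu := fun ζ (hζ : ζ ∈ D.Zh) => Zhc (D.Gm_le_Qh (D.ga_Gm hm.mQ)) hζ
  have hcv := fun ζ (hζ : ζ ∈ D.Zh) => Zhc (D.Gm_le_Qh (D.ga_Gm hn.mQ)) hζ
  rw [h2, h3]
  calc D.ga m * ζ * (D.ga n * ξ) = D.ga m * (ζ * D.ga n) * ξ := by group
    _ = (D.ga m * D.ga n) * ζ * ξ := by rw [← hcv ζ hζ]; group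
    _ = D.ga n * D.ga m * ((D.wp (D.b m n) * D.zp (D.B m n)) * (ζ * ξ)) := by rw [h1]; group
    _ = D.ga n * (D.ga m * ξ) * ζ * (D.wp (D.b m n) * D.zp (D.B m n)) := by
        rw [Zhc (D.Zh_le_Qh (D.wpzp_mem _ _)) (D.Zh.mul_mem hζ hξ),
          Zhc (D.Zh_le_Qh hζ) hξ]; group
    _ = _ := by rw [hcu ξ hξ]; group

theorem B_of {u v m n : G} (hu : u ∈ D.Gm) (hv : v ∈ D.Gm) (hm : D.Good u m)
    (hn : D.Good v n) {j : ZMod 2} (h : u * v = v * u * D.wp (D.b m n) * D.zp j) :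
    D.B m n = j := by
  rw [B_spec hu hv hm hn] at h
  exact D.zp_inj (mul_left_cancel h)

theorem B_symm {m n : G} (hm : m ∈ D.Q) (hn : n ∈ D.Q) : D.B m n = D.B n m := by
  have h := B_spec (D.ga_Gm hn) (D.ga_Gm hm) (D.ga_good hn) (D.ga_good hm)
  apply B_of (D.ga_Gm hm) (D.ga_Gm hn) (D.ga_good hm) (D.ga_good hn)
  rw [D.b_symm m n, h, mul_assoc _ (D.wp _), mul_assoc _ (D.wp _), mul_assoc _ (_ * _),
    D.Zh_sq (D.wpzp_mem _ _), mul_one]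

theorem B_self {m : G} (hm : m ∈ D.Q) : D.B m m = 0 := by
  apply B_of (D.ga_Gm hm) (D.ga_Gm hm) (D.ga_good hm) (D.ga_good hm)
  simp

theorem B_zp {n : G} (hn : n ∈ D.Q) (i : ZMod 2) : D.B (D.zp i) n = 0 := by
  have hg := Good.of_Zh D i 0
  apply B_of (D.Zh_le_Gm (D.wpzp_mem i 0)) (D.ga_Gm hn) hg (D.ga_good hn)
  rw [D.b_zp hn, wp_zero, mul_one, zp_zero, mul_one, mul_one]
  exact (wpc (D.Gm_le_Qh (D.ga_Gm hn)) i).symm

theorem B_mul {m m' n : G} (hm : m ∈ D.Q) (hm' : m' ∈ D.Q) (hn : n ∈ D.Q) :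
    D.B (m * m') n = D.B m n + D.B m' n := by
  obtain ⟨k, hk⟩ := (D.ga_good hm).mul (D.ga_good hm')
  have hk' := hk.wpmul k
  rw [mul_assoc, D.zp_sq, mul_one] at hk'
  have hu := D.ga_Gm hm
  have hu' := D.ga_Gm hm'
  have hv := D.ga_Gm hn
  have h1 := B_spec hu hv (D.ga_good hm) (D.ga_good hn)
  have h2 := B_spec hu' hv (D.ga_good hm') (D.ga_good hn)
  apply B_of (D.Gm.mul_mem (D.Zh_le_Gm (D.wp_Zh k)) (D.Gm.mul_mem hu hu')) hv hk' (D.ga_good hn)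
  rw [D.b_mul hm hm' hn]
  have hc := wpc (D.Gm_le_Qh hv) k
  calc D.wp k * (D.ga m * D.ga m') * D.ga n
      = D.wp k * D.ga m * (D.ga m' * D.ga n) := by group
    _ = D.wp k * (D.ga m * D.ga n) * D.ga m' * (D.wp (D.b m' n) * D.zp (D.B m' n)) := by
        rw [h2]; group
    _ = D.wp k * D.ga n * D.ga m * ((D.wp (D.b m n) * D.zp (D.B m n)) * D.ga m') *
          (D.wp (D.b m' n) * D.zp (D.B m' n)) := by rw [h1]; group
    _ = (D.wp k * D.ga n) * D.ga m * D.ga m' * (D.wp (D.b m n) * (D.zp (D.B m n) *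
          D.wp (D.b m' n)) * D.zp (D.B m' n)) := by
        rw [← Zhc (D.Gm_le_Qh hu') (D.wpzp_mem _ _)]; group
    _ = D.ga n * (D.wp k * (D.ga m * D.ga m')) * (D.wp (D.b m n) * D.wp (D.b m' n)) *
          (D.zp (D.B m n) * D.zp (D.B m' n)) := by
        rw [← hc, D.zp_wp]; group
    _ = _ := by rw [D.wp_add, D.zp_add]

theorem B_mul' {m m' n : G} (hm : m ∈ D.Q) (hm' : m' ∈ D.Q) (hn : n ∈ D.Q) :
    D.B n (m * m') = D.B n m + D.B n m' := by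
  rw [B_symm hn (D.Q.mul_mem hm hm'), B_mul hm hm' hn, B_symm hm hn, B_symm hm' hn]

/-- Linear forms agreeing on `X` agree on `Q`. -/
theorem eq_of_X {f f' : G → ZMod 2} (hf : ∀ q ∈ D.Q, ∀ r ∈ D.Q, f (q * r) = f q + f r)
    (hf' : ∀ q ∈ D.Q, ∀ r ∈ D.Q, f' (q * r) = f' q + f' r) (h : ∀ x, D.IsX x → f x = f' x)
    {q : G} (hq : q ∈ D.Q) : f q = f' q := by
  have h1 : ∀ f : G → ZMod 2, (∀ q ∈ D.Q, ∀ r ∈ D.Q, f (q * r) = f q + f r) → f 1 = 0 := by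
    intro f hf
    have h := hf 1 D.Q.one_mem 1 D.Q.one_mem
    rw [mul_one] at h
    simpa using h
  have hinv : ∀ f : G → ZMod 2, (∀ q ∈ D.Q, ∀ r ∈ D.Q, f (q * r) = f q + f r) →
      ∀ q ∈ D.Q, f q⁻¹ = f q := by
    intro f hf q hq
    have h := hf q⁻¹ (D.Q.inv_mem hq) q hq
    rw [inv_mul_cancel, h1 f hf] at h
    have h2 : ∀ i j : ZMod 2, 0 = i + j → i = j := by decide
    exact h2 _ _ h
  have hcl : ∀ r ∈ Subgroup.closure D.X, r ∈ D.Q ∧ f r = f' r := by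
    intro r hr
    induction hr using Subgroup.closure_induction with
    | mem x hx => exact ⟨IsX.Q hx, h x hx⟩
    | one => exact ⟨D.Q.one_mem, by rw [h1 f hf, h1 f' hf']⟩
    | mul x y _ _ hx hy =>
      exact ⟨D.Q.mul_mem hx.1 hy.1, by rw [hf _ hx.1 _ hy.1, hf' _ hx.1 _ hy.1, hx.2, hy.2]⟩
    | inv x _ hx =>
      exact ⟨D.Q.inv_mem hx.1, by rw [hinv f hf _ hx.1, hinv f' hf' _ hx.1, hx.2]⟩
  exact (hcl q (D.QX hq)).2

end Cfsg.Agent.UFiveTwo.Hat
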