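import Mathlib
import Cfsg.Agent.UFiveTwo.QHatGamma

set_option autoImplicit false

/-!
# S1778, type `U5(2)`, section 6: the subgroups `hat Y` of `Q̂`, `⟨z⟩ ≤ Y ≤ Q`

`hat Y = {γ q | γ ∈ Γ over m ∈ Y, q ∈ Y}` has order `|Y| ^ 2`, is normal in `Q̂ ⟨t⟩`,
`hat Q = Q̂`, `C_{hat Y}(t) = Y`, and all involutions of `t (hat Y)` are conjugate to `t`
under `hat Y`.
-/

namespace Cfsg.Agent.UFiveTwo.Hat

open Subgroup

variable {G : Type*} [Group G] {D : Hat G}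

variable (D) in
/-- The elements of `Γ` acting on `Q` exactly by `q ↦ q w ^ b (m, q)`. -/
def Ga : Subgroup G where
  carrier := {u | u ∈ D.Gm ∧ ∃ m, D.Good u m ∧ ∀ q ∈ D.Q, u * q = q * u * D.wp (D.b m q)}
  one_mem' := ⟨D.Gm.one_mem, 1, Good.of_Q D D.Q.one_mem, fun q _ => by simp⟩
  mul_mem' := by
    rintro u v ⟨hu, m, hm, h⟩ ⟨hv, n, hn, h'⟩
    obtain ⟨k, hk⟩ := hm.mul hn
    refine ⟨D.Gm.mul_mem hu hv, _, hk, fun q hq => ?_⟩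
    rw [D.b_mul_zp (D.Q.mul_mem hm.mQ hn.mQ) hq, D.b_mul hm.mQ hn.mQ hq, D.wp_add]
    calc u * v * q = u * (v * q) := by group
      _ = (u * q) * v * D.wp (D.b n q) := by rw [h' q hq]; group
      _ = q * u * (D.wp (D.b m q) * v) * D.wp (D.b n q) := by rw [h q hq]; group
      _ = _ := by rw [← wpc (D.Gm_le_Qh hv)]; group
  inv_mem' := by
    rintro u ⟨hu, m, hm, h⟩
    obtain ⟨k, hk⟩ := hm.inv
    refine ⟨D.Gm.inv_mem hu, _, hk, fun q hq => ?_⟩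
    rw [D.b_mul_zp (D.Q.inv_mem hm.mQ) hq, D.b_inv hm.mQ hq]
    calc u⁻¹ * q = u⁻¹ * (q * u * D.wp (D.b m q)) * D.wp (D.b m q) * u⁻¹ := by
          rw [mul_assoc u⁻¹, mul_assoc (q * u), D.wp_sq]; group
      _ = q * D.wp (D.b m q) * u⁻¹ := by rw [← h q hq]; group
      _ = _ := by rw [mul_assoc, ← wpc (D.Gm_le_Qh (D.Gm.inv_mem hu))]; group

theorem Gm_act {u m q : G} (hu : u ∈ D.Gm) (hm : D.Good u m) (hq : q ∈ D.Q) :
    u * q = q * u * D.wp (D.b m q) := by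
  have key : D.Gm ≤ D.Ga := by
    conv_lhs => unfold Gm
    rw [closure_le]
    intro s hs
    refine ⟨subset_closure hs, ?_⟩
    rcases hs with ⟨x, hx, rfl⟩ | ⟨i, j, rfl⟩
    · exact ⟨x, Good.of_g D hx, fun q hq => hx.gb hq⟩
    · refine ⟨_, Good.of_Zh D i j, fun q hq => ?_⟩
      rw [D.b_zp hq, wp_zero, mul_one]
      exact (Zhc (D.Q_le_Qh hq) (D.wpzp_mem i j)).symm
  obtain ⟨-, m', hm', h⟩ := key hu
  obtain rfl := hm.unique hm'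
  exact h q hq

theorem Gm_t {u m : G} (hm : D.Good u m) : u * D.t = D.t * m * D.wp (D.s m) * u := by
  have h := hm.t
  rwa [mul_inv_eq_iff_eq_mul] at h

section fin

variable [Finite D.Q]

/-- `u = γ q` with `γ ∈ Γ`, `q ∈ Q`. -/
theorem exists_Gm_mul {u m : G} (hu : u ∈ D.Qh) (h : D.Good u m) :
    ∃ q ∈ D.Q, u = D.ga m * q := by
  refine ⟨(D.ga m)⁻¹ * u, ?_, by group⟩
  exact (D.ga_good h.mQ).mem_Q h (D.Gm_le_Qh (D.ga_Gm h.mQ)) hu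

/-- Two elements of `Γ` over the same `m` differ by `⟨z⟩`. -/
theorem Good.diff_z {u v m : G} (hu : D.Good u m) (hv : D.Good v m) (huG : u ∈ D.Gm)
    (hvG : v ∈ D.Gm) : ∃ j, v = u * D.zp j := by
  obtain ⟨ζ, ⟨i, j, rfl⟩, h⟩ := hu.diff hv huG hvG
  have h1 : D.Good v (m * D.zp i) := by
    have h2 := (hu.mul_Q (D.zp_mem j)).wpmul i
    have h3 : D.wp i * (u * D.zp j) = v := by
      rw [h, ← mul_assoc, ← wpc (D.Gm_le_Qh huG) i]; group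
    rwa [h3] at h2
  have h4 := hv.unique h1
  have h5 : D.zp i = 1 := (mul_eq_left.1 h4.symm)
  rw [← zp_zero] at h5
  have h6 := D.zp_inj h5
  subst h6
  exact ⟨j, by rw [h]; simp⟩

end fin

variable (D) in
/-- The subgroup `hat Y` of `Q̂`. -/
def hat (Y : Subgroup G) (hY : Y ≤ D.Q) (hz : D.z ∈ Y) : Subgroup G where
  carrier := {u | ∃ γ ∈ D.Gm, ∃ m ∈ Y, D.Good γ m ∧ ∃ q ∈ Y, u = γ * q}
  one_mem' := ⟨1, D.Gm.one_mem, 1, Y.one_mem, Good.of_Q D D.Q.one_mem, 1, Y.one_mem, by simp⟩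
  mul_mem' := by
    rintro u v ⟨γ, hγ, m, hm, hg, q, hq, rfl⟩ ⟨γ', hγ', m', hm', hg', q', hq', rfl⟩
    have hzp : ∀ i, D.zp i ∈ Y := fun i => by
      rcases zmod2 i with rfl | rfl
      · simpa using Y.one_mem
      · simpa using hz
    obtain ⟨k, hk⟩ := hg.mul hg'
    have h1 : D.Good (γ * γ' * D.wp (D.b m' q)) (m * m' * D.zp k * D.zp (D.b m' q)) := by
      have h2 := hk.wpmul (D.b m' q)
      rwa [← wpc (D.Gm_le_Qh (D.Gm.mul_mem hγ hγ'))] at h2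
    refine ⟨γ * γ' * D.wp (D.b m' q), D.Gm.mul_mem (D.Gm.mul_mem hγ hγ')
      (D.Zh_le_Gm (D.wp_Zh _)), _, Y.mul_mem (Y.mul_mem (Y.mul_mem hm hm') (hzp k)) (hzp _), h1,
      q * q', Y.mul_mem hq hq', ?_⟩
    have h3 := Gm_act hγ' hg' (hY hq)
    calc γ * q * (γ' * q') = γ * (q * γ' * (D.wp (D.b m' q) * D.wp (D.b m' q))) * q' := by
          rw [D.wp_sq]; group
      _ = γ * (q * γ' * D.wp (D.b m' q)) * D.wp (D.b m' q) * q' := by group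
      _ = γ * γ' * (q * D.wp (D.b m' q)) * q' := by rw [← h3]; group
      _ = _ := by rw [← D.wp_c (hY hq)]; group
  inv_mem' := by
    rintro u ⟨γ, hγ, m, hm, hg, q, hq, rfl⟩
    have hzp : ∀ i, D.zp i ∈ Y := fun i => by
      rcases zmod2 i with rfl | rfl
      · simpa using Y.one_mem
      · simpa using hz
    obtain ⟨k, hk⟩ := hg.inv
    have h1 := hk.wpmul (D.b (m⁻¹ * D.zp k) q⁻¹)
    rw [← wpc (D.Gm_le_Qh (D.Gm.inv_mem hγ))] at h1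
    refine ⟨γ⁻¹ * D.wp (D.b (m⁻¹ * D.zp k) q⁻¹), D.Gm.mul_mem (D.Gm.inv_mem hγ)
      (D.Zh_le_Gm (D.wp_Zh _)), _, Y.mul_mem (Y.mul_mem (Y.inv_mem hm) (hzp k)) (hzp _), h1,
      q⁻¹, Y.inv_mem hq, ?_⟩
    have h3 := Gm_act (D.Gm.inv_mem hγ) hk (D.Q.inv_mem (hY hq))
    calc (γ * q)⁻¹ = q⁻¹ * γ⁻¹ * (D.wp (D.b (m⁻¹ * D.zp k) q⁻¹) *
          D.wp (D.b (m⁻¹ * D.zp k) q⁻¹)) := by
            rw [D.wp_sq]; group
      _ = (q⁻¹ * γ⁻¹ * D.wp (D.b (m⁻¹ * D.zp k) q⁻¹)) * D.wp (D.b (m⁻¹ * D.zp k) q⁻¹) := by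
            group
      _ = γ⁻¹ * (q⁻¹ * D.wp (D.b (m⁻¹ * D.zp k) q⁻¹)) := by rw [← h3]; group
      _ = _ := by rw [← D.wp_c (D.Q.inv_mem (hY hq))]; group

variable [Finite D.Q] {Y : Subgroup G} {hY : Y ≤ D.Q} {hz : D.z ∈ Y}

omit [Finite D.Q] in
theorem mem_hat {u : G} : u ∈ D.hat Y hY hz ↔
    ∃ γ ∈ D.Gm, ∃ m ∈ Y, D.Good γ m ∧ ∃ q ∈ Y, u = γ * q := Iff.rfl

omit [Finite D.Q] in
theorem zp_of_z {Y : Subgroup G} (hz : D.z ∈ Y) (i : ZMod 2) : D.zp i ∈ Y := by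
  rcases zmod2 i with rfl | rfl
  · simpa using Y.one_mem
  · simpa using hz

theorem hat_le_Qh : D.hat Y hY hz ≤ D.Qh := by
  rintro u ⟨γ, hγ, m, hm, hg, q, hq, rfl⟩
  exact D.Qh.mul_mem (D.Gm_le_Qh hγ) (D.Q_le_Qh (hY hq))

theorem Y_le_hat : Y ≤ D.hat Y hY hz := fun q hq =>
  ⟨1, D.Gm.one_mem, 1, Y.one_mem, Good.of_Q D D.Q.one_mem, q, hq, by simp⟩

theorem Gm_mem_hat {γ m : G} (hγ : γ ∈ D.Gm) (hg : D.Good γ m) (hm : m ∈ Y) :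
    γ ∈ D.hat Y hY hz := ⟨γ, hγ, m, hm, hg, 1, Y.one_mem, by simp⟩

theorem Zh_le_hat : D.Zh ≤ D.hat Y hY hz := by
  rintro u ⟨i, j, rfl⟩
  exact Gm_mem_hat (D.Zh_le_Gm (D.wpzp_mem i j)) (Good.of_Zh D i j) (zp_of_z hz i)

theorem g_mem_hat {x : G} (hx : D.IsX x) (hxY : x ∈ Y) : D.g x ∈ D.hat Y hY hz :=
  Gm_mem_hat hx.gGm (Good.of_g D hx) hxY

theorem hat_mono {Y' : Subgroup G} {hY' : Y' ≤ D.Q} {hz' : D.z ∈ Y'} (h : Y ≤ Y') :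
    D.hat Y hY hz ≤ D.hat Y' hY' hz' := by
  rintro u ⟨γ, hγ, m, hm, hg, q, hq, rfl⟩
  exact ⟨γ, hγ, m, h hm, hg, q, h hq, rfl⟩

theorem hat_Q : D.hat D.Q le_rfl D.zQ = D.Qh := by
  apply le_antisymm hat_le_Qh
  intro u hu
  obtain ⟨m, hm⟩ := exists_good hu
  obtain ⟨q, hq, h⟩ := exists_Gm_mul hu hm
  exact ⟨D.ga m, D.ga_Gm hm.mQ, m, hm.mQ, D.ga_good hm.mQ, q, hq, h⟩

/-- Membership in `hat Y` for an element with known `m`. -/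
theorem mem_hat_iff {u m : G} (hu : D.Good u m) : u ∈ D.hat Y hY hz ↔
    m ∈ Y ∧ ∃ q ∈ Y, u = D.ga m * q := by
  constructor
  · rintro ⟨γ, hγ, m', hm', hg, q, hq, rfl⟩
    have h1 : m = m' := hu.unique (hg.mul_Q (hY hq))
    subst h1
    refine ⟨hm', ?_⟩
    obtain ⟨j, hj⟩ := (D.ga_good hu.mQ).diff_z hg (D.ga_Gm hu.mQ) hγ
    exact ⟨D.zp j * q, Y.mul_mem (zp_of_z hz j) hq, by rw [hj]; group⟩
  · rintro ⟨hm, q, hq, rfl⟩
    exact ⟨D.ga m, D.ga_Gm hu.mQ, m, hm, D.ga_good hu.mQ, q, hq, rfl⟩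

/-- `hat Y ⊓ Q = Y` -/
theorem mem_hat_Q {q : G} (hq : q ∈ D.Q) : q ∈ D.hat Y hY hz ↔ q ∈ Y := by
  constructor
  · intro h
    obtain ⟨γ, hγ, m', hm', hg, r, hr, hqr⟩ := h
    have h1 : D.Good q m' := hqr ▸ hg.mul_Q (hY hr)
    have h2 := h1.unique (Good.of_Q D hq)
    rw [h2] at hg
    obtain ⟨j, hj⟩ := (Good.of_Q D D.Q.one_mem).diff_z hg D.Gm.one_mem hγ
    rw [hqr, hj, one_mul]
    exact Y.mul_mem (zp_of_z hz j) hr
  · intro h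
    exact Y_le_hat h

theorem card_hat : Nat.card (D.hat Y hY hz) = Nat.card Y * Nat.card Y := by
  classical
  rw [← Nat.card_prod]
  symm
  refine Nat.card_congr (Equiv.ofBijective
    (fun p : Y × Y => (⟨D.ga p.1 * p.2, ⟨D.ga p.1, D.ga_Gm (hY p.1.2), p.1, p.1.2,
      D.ga_good (hY p.1.2), p.2, p.2.2, rfl⟩⟩ : D.hat Y hY hz)) ⟨?_, ?_⟩)
  · rintro ⟨m, q⟩ ⟨m', q'⟩ h
    have h0 : D.ga m * (q : G) = D.ga m' * q' := congrArg Subtype.val h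
    have h1 : D.Good (D.ga m * (q : G)) m := (D.ga_good (hY m.2)).mul_Q (hY q.2)
    have h2 : D.Good (D.ga m' * (q' : G)) m' := (D.ga_good (hY m'.2)).mul_Q (hY q'.2)
    rw [h0] at h1
    have h3 : m = m' := Subtype.ext (h1.unique h2)
    subst h3
    have h4 : q = q' := Subtype.ext (mul_left_cancel h0)
    rw [h4]
  · rintro ⟨u, hu⟩
    obtain ⟨m, hm⟩ := exists_good (hat_le_Qh hu)
    obtain ⟨h1, q, hq, h2⟩ := (mem_hat_iff hm).1 hu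
    exact ⟨⟨⟨m, h1⟩, ⟨q, hq⟩⟩, Subtype.ext h2.symm⟩

/-- `t` normalises `hat Y`. -/
theorem t_conj_hat {u : G} (hu : u ∈ D.hat Y hY hz) : D.t * u * D.t ∈ D.hat Y hY hz := by
  obtain ⟨γ, hγ, m, hm, hg, q, hq, rfl⟩ := hu
  have h1 := Gm_t hg
  have h2 : D.t * (γ * q) * D.t = m * D.wp (D.s m) * γ * q := by
    calc D.t * (γ * q) * D.t = D.t * γ * (q * D.t) := by group
      _ = D.t * (γ * D.t) * q := by rw [← D.tQ q (hY hq)]; group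
      _ = (D.t * D.t) * m * D.wp (D.s m) * γ * q := by rw [h1]; group
      _ = _ := by rw [D.tt, one_mul]
  rw [h2]
  exact mul_mem (mul_mem (mul_mem (Y_le_hat hm) (Zh_le_hat (D.wp_Zh _))) (Gm_mem_hat hγ hg hm))
    (Y_le_hat hq)

/-- `Q̂` normalises `hat Y`. -/
theorem conj_hat {u v : G} (hu : u ∈ D.Qh) (hv : v ∈ D.hat Y hY hz) :
    u * v * u⁻¹ ∈ D.hat Y hY hz := by
  obtain ⟨ζ, hζ, h⟩ := comm_Qh hu (hat_le_Qh hv)
  have h1 : u * v * u⁻¹ = v * ζ := by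
    rw [h, mul_assoc v, Zhc hu hζ]; group
  rw [h1]
  exact mul_mem hv (Zh_le_hat hζ)

/-- Commuting `Y, Y'` have commuting hats when `B` vanishes on them. -/
theorem hat_comm {Y' : Subgroup G} {hY' : Y' ≤ D.Q} {hz' : D.z ∈ Y'}
    (hc : ∀ m ∈ Y, ∀ n ∈ Y', m * n = n * m) (hB : ∀ m ∈ Y, ∀ n ∈ Y', D.B m n = 0) {u v : G}
    (hu : u ∈ D.hat Y hY hz) (hv : v ∈ D.hat Y' hY' hz') : u * v = v * u := by
  obtain ⟨γ, hγ, m, hm, hg, q, hq, rfl⟩ := hu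
  obtain ⟨γ', hγ', m', hm', hg', q', hq', rfl⟩ := hv
  have h0 : ∀ m ∈ Y, ∀ n ∈ Y', D.b m n = 0 := fun m hm n hn => D.b_eq_zero.2 (hc m hm n hn)
  have h1 : γ * γ' = γ' * γ := by
    have h := B_spec hγ hγ' hg hg'
    rwa [h0 m hm m' hm', hB m hm m' hm', wp_zero, zp_zero, mul_one, mul_one] at h
  have h2 : γ * q' = q' * γ := by
    have h := Gm_act hγ hg (hY' hq')
    rwa [h0 m hm q' hq', wp_zero, mul_one] at h
  have h3 : γ' * q = q * γ' := by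
    have h := Gm_act hγ' hg' (hY hq)
    rwa [D.b_symm, h0 q hq m' hm', wp_zero, mul_one] at h
  calc γ * q * (γ' * q') = γ * (q * γ') * q' := by group
    _ = (γ * γ') * (q * q') := by rw [← h3]; group
    _ = γ' * (γ * q') * q := by rw [h1, hc q hq q' hq']; group
    _ = _ := by rw [h2]; group

/-- The involutions of `t (hat Y)` are conjugate to `t` under `hat Y`. -/
theorem invol_t_hat {u : G} (hu : u ∈ D.hat Y hY hz) (h : D.t * u * (D.t * u) = 1) :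
    ∃ v ∈ D.hat Y hY hz, v * D.t * v⁻¹ = D.t * u := by
  obtain ⟨v, hv, hvt⟩ := invol_tQh (hat_le_Qh hu) h
  obtain ⟨n, hn⟩ := exists_good hv
  -- `u = n w^(s n)`, so `n ∈ Y`
  have h1 : n * D.wp (D.s n) = u := by
    have h2 := hn.t
    rw [hvt, mul_assoc] at h2
    exact (mul_left_cancel h2).symm
  have hnY : n ∈ Y := by
    have h3 : n = u * D.wp (D.s n) := by rw [← h1, mul_assoc, D.wp_sq, mul_one]
    have h4 : n ∈ D.hat Y hY hz := by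
      rw [h3]; exact mul_mem hu (Zh_le_hat (D.wp_Zh _))
    exact (mem_hat_Q hn.mQ).1 h4
  refine ⟨D.ga n, Gm_mem_hat (D.ga_Gm hn.mQ) (D.ga_good hn.mQ) hnY, ?_⟩
  rw [(D.ga_good hn.mQ).t, mul_assoc, h1]

/-- `C_{hat Y}(t) = Y` -/
theorem hat_comm_t {u : G} (hu : u ∈ D.hat Y hY hz) : u * D.t = D.t * u ↔ u ∈ Y := by
  rw [comm_iff (hat_le_Qh hu)]
  exact ⟨fun h => (mem_hat_Q h).1 hu, fun h => hY h⟩

end Cfsg.Agent.UFiveTwo.Hat
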