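import Mathlib
import Cfsg.Agent.UFiveTwo.QHatGamma

set_option autoImplicit false

/-!
# S1778, type `U5(2)`, section 6: `[g x, g y] = (w z ^ ε) ^ b (x, y)` with constant `ε`
-/

namespace Cfsg.Agent.UFiveTwo

/-- The input for the construction of `Q̂` at one point, with the centraliser `C = C_A(z)` and
the element `h` of order three that acts on `Q / ⟨z⟩` as a scalar. -/
structure HatC (G : Type*) [Group G] extends Hat G where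
  C : Subgroup G
  h : G
  hC : h ∈ C
  Ct : ∀ c ∈ C, c * t = t * c
  Cw : ∀ c ∈ C, c * w = w * c
  Cz : ∀ c ∈ C, c * z = z * c
  CQ : ∀ c ∈ C, ∀ q ∈ Q, c * q * c⁻¹ ∈ Q
  Cg : ∀ c ∈ C, ∀ x ∈ Q, x * x = 1 → x ≠ 1 → x ≠ z → g (c * x * c⁻¹) = c * g x * c⁻¹
  Ctr : ∀ x ∈ Q, x * x = 1 → x ≠ 1 → x ≠ z → ∀ y ∈ Q, y * y = 1 → y ≠ 1 → y ≠ z →
    ∃ c ∈ C, c * x * c⁻¹ = y ∨ c * x * c⁻¹ = y * z
  hhh : h * h * h = 1
  hc : ∀ c ∈ C, ∀ q ∈ Q, c * (h * q * h⁻¹) * c⁻¹ = h * (c * q * c⁻¹) * h⁻¹ ∨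
    c * (h * q * h⁻¹) * c⁻¹ = h * (c * q * c⁻¹) * h⁻¹ * z
  hn : ∀ q ∈ Q, q * (h * q * h⁻¹) * (h * (h * q * h⁻¹) * h⁻¹) = 1 ∨
    q * (h * q * h⁻¹) * (h * (h * q * h⁻¹) * h⁻¹) = z
  hN : ∀ x ∈ Q, x * x = 1 → x ≠ 1 → x ≠ z →
    g x * (h * g x * h⁻¹) * (h * (h * g x * h⁻¹) * h⁻¹) = 1 ∨
    g x * (h * g x * h⁻¹) * (h * (h * g x * h⁻¹) * h⁻¹) = w
  fix : ∀ x ∈ Q, x * x = 1 → x ≠ 1 → x ≠ z → ∀ q ∈ Q,
    (∀ c ∈ C, c * x * c⁻¹ = x → c * q * c⁻¹ = q ∨ c * q * c⁻¹ = q * z) →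
    ∃ y, (y = 1 ∨ y = x ∨ y = h * x * h⁻¹ ∨ y = h * (h * x * h⁻¹) * h⁻¹) ∧ (q = y ∨ q = y * z)

namespace HatC

open Subgroup Hat

variable {G : Type*} [Group G] (D : HatC G)

theorem zp_or {a b : G} (h : a = b ∨ a = b * D.z) : ∃ i, a = b * D.zp i := by
  rcases h with h | h
  · exact ⟨0, by rw [h]; simp⟩
  · exact ⟨1, by rw [h]; simp⟩

/-- Conjugation with `h`. -/
def σ (q : G) : G := D.h * q * D.h⁻¹

theorem σ_def (q : G) : D.σ q = D.h * q * D.h⁻¹ := rfl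

theorem σ_Q {q : G} (hq : q ∈ D.Q) : D.σ q ∈ D.Q := D.CQ _ D.hC q hq

theorem σ_mul (q r : G) : D.σ (q * r) = D.σ q * D.σ r := by
  unfold σ; group

theorem conj_z {c : G} (hc : c ∈ D.C) : c * D.z * c⁻¹ = D.z := conj_eq (D.Cz c hc)

theorem conj_zp {c : G} (hc : c ∈ D.C) (i : ZMod 2) : c * D.zp i * c⁻¹ = D.zp i := by
  rcases zmod2 i with rfl | rfl
  · simp
  · simpa using D.conj_z hc

theorem conj_wp {c : G} (hc : c ∈ D.C) (i : ZMod 2) : c * D.wp i * c⁻¹ = D.wp i := by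
  rcases zmod2 i with rfl | rfl
  · simp
  · simpa using conj_eq (D.Cw c hc)

theorem σ_zp (i : ZMod 2) : D.σ (D.zp i) = D.zp i := D.conj_zp D.hC i

theorem σ_wp (i : ZMod 2) : D.σ (D.wp i) = D.wp i := D.conj_wp D.hC i

theorem σσσ (q : G) : D.σ (D.σ (D.σ q)) = q := by
  unfold σ
  calc D.h * (D.h * (D.h * q * D.h⁻¹) * D.h⁻¹) * D.h⁻¹
      = (D.h * D.h * D.h) * q * (D.h * D.h * D.h)⁻¹ := by group
    _ = q := by rw [D.hhh]; group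

theorem conj_X {c x : G} (hc : c ∈ D.C) (hx : D.IsX x) : D.IsX (c * x * c⁻¹) := by
  refine ⟨D.CQ c hc x hx.Q, ?_, ?_, ?_⟩
  · calc c * x * c⁻¹ * (c * x * c⁻¹) = c * (x * x) * c⁻¹ := by group
      _ = 1 := by rw [hx.sq]; group
  · intro h
    exact hx.ne1 (conj_eq_one_iff.1 h)
  · intro h
    apply hx.nez
    have h1 := D.conj_z hc
    rw [← h1] at h
    exact mul_left_cancel (mul_right_cancel h)

theorem σ_X {x : G} (hx : D.IsX x) : D.IsX (D.σ x) := D.conj_X D.hC hx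

theorem conj_g {c x : G} (hc : c ∈ D.C) (hx : D.IsX x) :
    D.g (c * x * c⁻¹) = c * D.g x * c⁻¹ := D.Cg c hc x hx.1 hx.2.1 hx.2.2.1 hx.2.2.2

theorem σ_g {x : G} (hx : D.IsX x) : D.g (D.σ x) = D.σ (D.g x) := D.conj_g D.hC hx

theorem conj_b {c q r : G} (_ : c ∈ D.C) : D.b (c * q * c⁻¹) (c * r * c⁻¹) = D.b q r := by
  have h1 : ∀ {c q r : G}, q * r = r * q →
      c * q * c⁻¹ * (c * r * c⁻¹) = c * r * c⁻¹ * (c * q * c⁻¹) := by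
    intro c q r h
    calc c * q * c⁻¹ * (c * r * c⁻¹) = c * (q * r) * c⁻¹ := by group
      _ = _ := by rw [h]; group
  rcases zmod2 (D.b q r) with h | h
  · rw [h, b_eq_zero]
    exact h1 (D.b_eq_zero.1 h)
  · rw [h, b_eq_one]
    intro h2
    apply D.b_eq_one.1 h
    have h3 := h1 (c := c⁻¹) h2
    calc q * r = c⁻¹ * (c * q * c⁻¹) * c⁻¹⁻¹ * (c⁻¹ * (c * r * c⁻¹) * c⁻¹⁻¹) := by group
      _ = _ := by rw [h3]; group

theorem conj_s {c q : G} : D.s (c * q * c⁻¹) = D.s q := by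
  have h1 : c * q * c⁻¹ * (c * q * c⁻¹) = c * (q * q) * c⁻¹ := by group
  rcases zmod2 (D.s q) with h | h
  · rw [h, s_eq_zero, h1, D.s_eq_zero.1 h]; group
  · rcases zmod2 (D.s (c * q * c⁻¹)) with h2 | h2
    · exfalso
      rw [s_eq_zero, h1, conj_eq_one_iff, ← D.s_eq_zero, h] at h2
      exact one_ne_zero h2
    · rw [h, h2]

theorem σ_b (q r : G) : D.b (D.σ q) (D.σ r) = D.b q r := D.conj_b D.hC

theorem good_conj {c u m : G} (hc : c ∈ D.C) (h : D.Good u m) :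
    D.Good (c * u * c⁻¹) (c * m * c⁻¹) where
  mQ := D.CQ c hc m h.mQ
  t := by
    have hct : c⁻¹ * D.t * c = D.t := inv_conj (conj_eq (D.Ct c hc))
    calc c * u * c⁻¹ * D.t * (c * u * c⁻¹)⁻¹ = c * (u * (c⁻¹ * D.t * c) * u⁻¹) * c⁻¹ := by group
      _ = (c * D.t * c⁻¹) * (c * m * c⁻¹) * (c * D.wp (D.s m) * c⁻¹) := by
          rw [hct, h.t]; group
      _ = _ := by rw [conj_eq (D.Ct c hc), D.conj_wp hc, D.conj_s]
  q := fun q hq => by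
    have hc' := D.C.inv_mem hc
    have hq' : c⁻¹ * q * c ∈ D.Q := by
      have h1 := D.CQ _ hc' q hq
      rwa [inv_inv] at h1
    obtain ⟨j, hj⟩ := h.q _ hq'
    refine ⟨j, ?_⟩
    have hb : D.b (c * m * c⁻¹) q = D.b m (c⁻¹ * q * c) := by
      rw [← D.conj_b hc (q := m)]
      congr 1
      group
    rw [hb]
    calc c * u * c⁻¹ * q * (c * u * c⁻¹)⁻¹ = c * (u * (c⁻¹ * q * c) * u⁻¹) * c⁻¹ := by group
      _ = q * (c * D.wp (D.b m (c⁻¹ * q * c)) * c⁻¹) * (c * D.zp j * c⁻¹) := by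
          rw [hj]; group
      _ = _ := by rw [D.conj_wp hc, D.conj_zp hc]
  w := by
    have hcw : c⁻¹ * D.w * c = D.w := inv_conj (conj_eq (D.Cw c hc))
    calc c * u * c⁻¹ * D.w * (c * u * c⁻¹)⁻¹ = c * (u * (c⁻¹ * D.w * c) * u⁻¹) * c⁻¹ := by group
      _ = D.w := by rw [hcw, h.w, conj_eq (D.Cw c hc)]
  z := by
    have hcw : c⁻¹ * D.z * c = D.z := inv_conj (conj_eq (D.Cz c hc))
    calc c * u * c⁻¹ * D.z * (c * u * c⁻¹)⁻¹ = c * (u * (c⁻¹ * D.z * c) * u⁻¹) * c⁻¹ := by group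
      _ = D.z := by rw [hcw, h.z, conj_eq (D.Cz c hc)]

theorem conj_Zh {c ζ : G} (hc : c ∈ D.C) (hζ : ζ ∈ D.Zh) : c * ζ * c⁻¹ = ζ := by
  obtain ⟨i, j, rfl⟩ := hζ
  rw [conj_mul', D.conj_wp hc, D.conj_zp hc]

theorem conj_Gm {c u : G} (hc : c ∈ D.C) (hu : u ∈ D.Gm) : c * u * c⁻¹ ∈ D.Gm := by
  have key : D.Gm ≤ D.Gm.comap (MulAut.conj c).toMonoidHom := by
    conv_lhs => unfold Gm
    rw [closure_le]
    intro s hs
    show c * s * c⁻¹ ∈ D.Gm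
    rcases hs with ⟨x, hx, rfl⟩ | hs
    · rw [← D.conj_g hc hx]
      exact (D.conj_X hc hx).gGm
    · rw [D.conj_Zh hc hs]
      exact D.Zh_le_Gm hs
  exact key hu

theorem conj_Qh {c u : G} (hc : c ∈ D.C) (hu : u ∈ D.Qh) : c * u * c⁻¹ ∈ D.Qh := by
  have key : D.Qh ≤ D.Qh.comap (MulAut.conj c).toMonoidHom := by
    conv_lhs => unfold Qh
    rw [closure_le]
    intro s hs
    show c * s * c⁻¹ ∈ D.Qh
    rcases hs with hs | hs | ⟨x, hx, rfl⟩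
    · exact D.Q_le_Qh (D.CQ c hc s hs)
    · rw [Set.mem_singleton_iff] at hs
      subst hs
      rw [conj_eq (D.Cw c hc)]; exact D.w_Qh
    · rw [← D.conj_g hc hx]
      exact (D.conj_X hc hx).gQh
  exact key hu

/-- The norm of `x ∈ Q` lies in `⟨z⟩`. -/
theorem norm_Q {q : G} (hq : q ∈ D.Q) : ∃ i, q * D.σ q * D.σ (D.σ q) = D.zp i := by
  rcases D.hn q hq with h | h
  · exact ⟨0, by rw [zp_zero]; exact h⟩
  · exact ⟨1, by rw [zp_one]; exact h⟩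

/-- The norm of `g x` lies in `⟨w⟩`. -/
theorem norm_g {x : G} (hx : D.IsX x) : ∃ i, D.g x * D.σ (D.g x) * D.σ (D.σ (D.g x)) = D.wp i := by
  rcases D.hN x hx.1 hx.2.1 hx.2.2.1 hx.2.2.2 with h | h
  · exact ⟨0, by rw [wp_zero]; exact h⟩
  · exact ⟨1, by rw [wp_one]; exact h⟩

theorem b_norm {q r : G} (hq : q ∈ D.Q) (hr : r ∈ D.Q) :
    D.b q r + D.b (D.σ q) r + D.b (D.σ (D.σ q)) r = 0 := by
  obtain ⟨i, hi⟩ := D.norm_Q hq
  have h := D.b_zp hr i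
  rwa [← hi, D.b_mul (D.Q.mul_mem hq (D.σ_Q hq)) (D.σ_Q (D.σ_Q hq)) hr,
    D.b_mul hq (D.σ_Q hq) hr] at h

/-- the adjoint of `σ` -/
theorem b_adj (q r : G) : D.b (D.σ q) r = D.b q (D.σ (D.σ r)) := by
  calc D.b (D.σ q) r = D.b (D.σ q) (D.σ (D.σ (D.σ r))) := by rw [D.σσσ]
    _ = D.b q (D.σ (D.σ r)) := D.σ_b _ _

theorem s_σ (q : G) : D.s (D.σ q) = D.s q := D.conj_s

/-- `b (q, σ q) = s q`. -/
theorem b_σ_self {q : G} (hq : q ∈ D.Q) : D.b q (D.σ q) = D.s q := by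
  obtain ⟨i, hi⟩ := D.norm_Q hq
  -- `q σq = σσq⁻¹ z^i`
  have h1 : q * D.σ q = (D.σ (D.σ q))⁻¹ * D.zp i := by
    rw [← D.zp_c (D.Q.inv_mem (D.σ_Q (D.σ_Q hq))), ← hi]; group
  have h2 := congrArg D.s h1
  rw [D.s_mul hq (D.σ_Q hq), D.s_mul_zp (D.Q.inv_mem (D.σ_Q (D.σ_Q hq))),
    D.s_inv (D.σ_Q (D.σ_Q hq)), D.s_σ, D.s_σ, D.s_σ] at h2
  have h3 : ∀ a c : ZMod 2, a + a + c = a → c = a := by decide
  exact h3 _ _ h2

variable [Finite D.Q]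

theorem conj_B {c m n : G} (hc : c ∈ D.C) (hm : m ∈ D.Q) (hn : n ∈ D.Q) :
    D.B (c * m * c⁻¹) (c * n * c⁻¹) = D.B m n := by
  apply B_of (D.conj_Gm hc (D.ga_Gm hm)) (D.conj_Gm hc (D.ga_Gm hn))
    (D.good_conj hc (D.ga_good hm)) (D.good_conj hc (D.ga_good hn))
  have h := B_spec (D.ga_Gm hm) (D.ga_Gm hn) (D.ga_good hm) (D.ga_good hn)
  rw [D.conj_b hc]
  calc c * D.ga m * c⁻¹ * (c * D.ga n * c⁻¹) = c * (D.ga m * D.ga n) * c⁻¹ := by group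
    _ = (c * D.ga n * c⁻¹) * (c * D.ga m * c⁻¹) * (c * D.wp (D.b m n) * c⁻¹) *
          (c * D.zp (D.B m n) * c⁻¹) := by rw [h]; group
    _ = _ := by rw [D.conj_wp hc, D.conj_zp hc]

theorem add_eq_zero' : ∀ i j : ZMod 2, i + j = 0 → i = j := by decide

/-- `B = ε b`. -/
theorem exists_eps : ∃ ε : ZMod 2, ∀ m ∈ D.Q, ∀ n ∈ D.Q, D.B m n = ε * D.b m n := by
  classical
  have hdual : ∀ x, D.IsX x → ∃ φ ∈ D.Q, ∀ n ∈ D.Q, D.B x n = D.b φ n := fun x hx =>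
    D.exists_dual (fun n => D.B x n) (fun q hq r hr => B_mul' hq hr hx.Q)
  -- there is an `x₀`
  obtain ⟨x₀, hx₀⟩ : ∃ x, D.IsX x := by
    by_contra hcon
    push Not at hcon
    have hX : D.X = ∅ := by
      rw [Set.eq_empty_iff_forall_notMem]
      intro x hx
      exact hcon x hx
    have h2 := D.QX
    rw [hX, Subgroup.closure_empty] at h2
    exact D.z1 (Subgroup.mem_bot.1 (h2 D.zQ))
  obtain ⟨φ, hφ, hφB⟩ := hdual x₀ hx₀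
  -- `φ` is fixed by the stabiliser
  have hfix : ∀ c ∈ D.C, c * x₀ * c⁻¹ = x₀ → c * φ * c⁻¹ = φ ∨ c * φ * c⁻¹ = φ * D.z := by
    intro c hc hcx
    have h1 : ∀ n ∈ D.Q, D.b (c * φ * c⁻¹ * φ⁻¹) n = 0 := by
      intro n hn
      have hn' : c⁻¹ * n * c ∈ D.Q := by
        have h1 := D.CQ _ (D.C.inv_mem hc) n hn
        rwa [inv_inv] at h1
      have h3 : c * (c⁻¹ * n * c) * c⁻¹ = n := by group
      have h2 : D.b (c * φ * c⁻¹) n = D.b φ n := by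
        calc D.b (c * φ * c⁻¹) n = D.b (c * φ * c⁻¹) (c * (c⁻¹ * n * c) * c⁻¹) := by rw [h3]
          _ = D.b φ (c⁻¹ * n * c) := D.conj_b hc
          _ = D.B x₀ (c⁻¹ * n * c) := (hφB _ hn').symm
          _ = D.B (c * x₀ * c⁻¹) (c * (c⁻¹ * n * c) * c⁻¹) := (D.conj_B hc hx₀.Q hn').symm
          _ = D.B x₀ n := by rw [hcx, h3]
          _ = D.b φ n := hφB n hn
      rw [D.b_mul (D.CQ c hc φ hφ) (D.Q.inv_mem hφ) hn, h2, D.b_inv hφ hn]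
      rcases zmod2 (D.b φ n) with h | h
      · rw [h]; rfl
      · rw [h]; exact one_add_one'
    obtain ⟨i, hi⟩ := D.eq_zp (D.Q.mul_mem (D.CQ c hc φ hφ) (D.Q.inv_mem hφ)) h1
    rw [mul_inv_eq_iff_eq_mul, D.zp_c hφ] at hi
    rcases zmod2 i with rfl | rfl
    · left; rw [hi]; simp
    · right; rw [hi]; simp
  obtain ⟨y, hy, hφy⟩ := D.fix x₀ hx₀.1 hx₀.2.1 hx₀.2.2.1 hx₀.2.2.2 φ hφ hfix
  have hφy' : ∃ i, φ = y * D.zp i := D.zp_or hφy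
  obtain ⟨i, hi⟩ := hφy'
  have hyQ : y ∈ D.Q := by
    have h1 : y = φ * D.zp i := by rw [hi, mul_assoc, D.zp_sq, mul_one]
    rw [h1]; exact D.Q.mul_mem hφ (D.zp_mem i)
  have hBy : ∀ n ∈ D.Q, D.B x₀ n = D.b y n := fun n hn => by
    rw [hφB n hn, hi, D.b_mul_zp hyQ hn]
  -- transport by `C`
  have htr : ∀ f : G → G, (∀ q ∈ D.Q, f q ∈ D.Q) →
      (∀ c ∈ D.C, ∀ q ∈ D.Q, ∃ j, c * f q * c⁻¹ = f (c * q * c⁻¹) * D.zp j) →
      (∀ q ∈ D.Q, ∃ j, f (q * D.z) = f q * D.zp j) → y = f x₀ →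
      ∀ x, D.IsX x → ∀ n ∈ D.Q, D.B x n = D.b (f x) n := by
    intro f hfQ hfc hfz hyf x hx n hn
    obtain ⟨c, hc, h⟩ := D.Ctr x₀ hx₀.1 hx₀.2.1 hx₀.2.2.1 hx₀.2.2.2 x hx.1 hx.2.1 hx.2.2.1 hx.2.2.2
    have hn' : c⁻¹ * n * c ∈ D.Q := by
      have h1 := D.CQ _ (D.C.inv_mem hc) n hn
      rwa [inv_inv] at h1
    have h3 : c * (c⁻¹ * n * c) * c⁻¹ = n := by group
    have hx' : D.B x n = D.B (c * x₀ * c⁻¹) n := by
      rcases h with h | h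
      · rw [h]
      · have h4 := B_zp (D := D.toHat) hn 1
        rw [zp_one] at h4
        rw [h, B_mul hx.Q D.zQ hn, h4, add_zero]
    obtain ⟨j, hj⟩ := hfc c hc x₀ hx₀.Q
    have hcx : c * x₀ * c⁻¹ ∈ D.Q := D.CQ c hc x₀ hx₀.Q
    calc D.B x n = D.B (c * x₀ * c⁻¹) (c * (c⁻¹ * n * c) * c⁻¹) := by rw [hx', h3]
      _ = D.B x₀ (c⁻¹ * n * c) := D.conj_B hc hx₀.Q hn'
      _ = D.b (f x₀) (c⁻¹ * n * c) := by rw [hBy _ hn', hyf]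
      _ = D.b (c * f x₀ * c⁻¹) (c * (c⁻¹ * n * c) * c⁻¹) := (D.conj_b hc).symm
      _ = D.b (f (c * x₀ * c⁻¹)) n := by rw [hj, h3, D.b_mul_zp (hfQ _ hcx) hn]
      _ = D.b (f x) n := by
          rcases h with h | h
          · rw [h]
          · obtain ⟨k, hk⟩ := hfz x hx.Q
            rw [h, hk, D.b_mul_zp (hfQ _ hx.Q) hn]
  -- the two `σ` cases are impossible
  have hσ : ∀ f : G → G, (f = D.σ ∨ f = fun q => D.σ (D.σ q)) →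
      (∀ x, D.IsX x → ∀ n ∈ D.Q, D.B x n = D.b (f x) n) → False := by
    intro f hf hB
    -- adjoint of `σ` is `σσ`
    have hadj : ∀ q r : G, D.b (D.σ q) r = D.b q (D.σ (D.σ r)) := by
      intro q r
      calc D.b (D.σ q) r = D.b (D.σ q) (D.σ (D.σ (D.σ r))) := by rw [D.σσσ]
        _ = D.b q (D.σ (D.σ r)) := D.σ_b _ _
    have h1 : ∀ n, D.IsX n → D.b (D.σ x₀ * D.σ (D.σ x₀)) n = 0 := by
      intro n hn
      have h2 : D.B x₀ n = D.B n x₀ := B_symm hx₀.Q hn.Q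
      have h3 : D.b (D.σ x₀) n = D.b (D.σ (D.σ x₀)) n := by
        rcases hf with rfl | rfl
        · rw [hB x₀ hx₀ n hn.Q, hB n hn x₀ hx₀.Q] at h2
          rw [h2, hadj n x₀, D.b_symm]
        · rw [hB x₀ hx₀ n hn.Q, hB n hn x₀ hx₀.Q] at h2
          rw [show D.b (D.σ (D.σ x₀)) n = D.b (D.σ (D.σ n)) x₀ from h2, D.b_symm _ x₀, hadj]
      rw [D.b_mul (D.σ_Q hx₀.Q) (D.σ_Q (D.σ_Q hx₀.Q)) hn.Q, h3]
      rcases zmod2 (D.b (D.σ (D.σ x₀)) n) with h | h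
      · rw [h]; rfl
      · rw [h]; exact one_add_one'
    obtain ⟨i, hi⟩ := D.eq_zp_of_X (D.Q.mul_mem (D.σ_Q hx₀.Q) (D.σ_Q (D.σ_Q hx₀.Q))) h1
    obtain ⟨j, hj⟩ : ∃ j, x₀ * D.σ x₀ * D.σ (D.σ x₀) = D.zp j := by
      rcases D.hn x₀ hx₀.Q with h | h
      · exact ⟨0, by rw [zp_zero]; exact h⟩
      · exact ⟨1, by rw [zp_one]; exact h⟩
    rw [mul_assoc, hi] at hj
    have hx : x₀ = D.zp (j + i) := by
      rw [D.zp_add, ← hj, mul_assoc, D.zp_sq, mul_one]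
    rcases zmod2 (j + i) with h | h
    · rw [h, zp_zero] at hx; exact hx₀.ne1 hx
    · rw [h, zp_one] at hx; exact hx₀.nez hx
  -- the extension to `Q`
  have hext : ∀ ε : ZMod 2, (∀ x, D.IsX x → ∀ n ∈ D.Q, D.B x n = ε * D.b x n) →
      ∀ m ∈ D.Q, ∀ n ∈ D.Q, D.B m n = ε * D.b m n := by
    intro ε hB m hm n hn
    exact eq_of_X (D := D.toHat) (f := fun m => D.B m n) (f' := fun m => ε * D.b m n)
      (fun q hq r hr => B_mul hq hr hn)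
      (fun q hq r hr => by
        show ε * D.b (q * r) n = ε * D.b q n + ε * D.b r n
        rw [D.b_mul hq hr hn, mul_add]) (fun x hx => hB x hx n hn) hm
  have hσc : ∀ c ∈ D.C, ∀ q ∈ D.Q, ∃ j, c * D.σ q * c⁻¹ = D.σ (c * q * c⁻¹) * D.zp j :=
    fun c hc q hq => D.zp_or (D.hc c hc q hq)
  have hσz : ∀ q ∈ D.Q, ∃ j, D.σ (q * D.z) = D.σ q * D.zp j := by
    intro q _
    refine ⟨1, ?_⟩
    have h1 := D.σ_zp 1
    rw [zp_one] at h1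
    rw [D.σ_mul, h1, zp_one]
  rcases hy with hy | hy | hy | hy
  · refine ⟨0, hext 0 ?_⟩
    intro x hx n hn
    rw [htr (fun _ => 1) (fun _ _ => D.Q.one_mem) (fun c _ q _ => ⟨0, by simp⟩)
      (fun _ _ => ⟨0, by simp⟩) hy x hx n hn, b_one, zero_mul]
  · refine ⟨1, hext 1 ?_⟩
    intro x hx n hn
    rw [htr (fun q => q) (fun _ h => h) (fun c _ q _ => ⟨0, by simp⟩)
      (fun _ _ => ⟨1, by simp⟩) hy x hx n hn, one_mul]
  · exfalso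
    exact hσ D.σ (Or.inl rfl) (htr D.σ (fun q hq => D.σ_Q hq) hσc hσz hy)
  · exfalso
    refine hσ (fun q => D.σ (D.σ q)) (Or.inr rfl) (htr _ (fun q hq => D.σ_Q (D.σ_Q hq)) ?_ ?_ hy)
    · intro c hc q hq
      obtain ⟨j, hj⟩ := hσc c hc (D.σ q) (D.σ_Q hq)
      obtain ⟨k, hk⟩ := hσc c hc q hq
      refine ⟨k + j, ?_⟩
      rw [hj, hk, D.σ_mul, D.σ_zp, D.zp_add, mul_assoc]
    · intro q hq
      obtain ⟨j, hj⟩ := hσz q hq
      exact ⟨j, by rw [hj, D.σ_mul, D.σ_zp]⟩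

end HatC

end Cfsg.Agent.UFiveTwo
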