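import Cfsg.Agent.UFiveTwo.BOne
import Cfsg.Agent.UFiveTwo.Pts

/-!
# The involution `w₀` moving `t` to `t * r 0` and centralizing `C_A(r 0)`
-/

set_option autoImplicit false

namespace Cfsg.Agent.UFiveTwo

open Subgroup Equiv

universe u

set_option maxRecDepth 100000 in
theorem dec_sq : ∀ s : Fin 5 → ZMod 2,
    (s + (fun x => s ((swap 1 2 * swap 2 3 : Perm (Fin 5)).symm x)) = 0 ∨
      s + (fun x => s ((swap 1 2 * swap 2 3 : Perm (Fin 5)).symm x)) = 1 ∨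
      s + (fun x => s ((swap 1 2 * swap 2 3 : Perm (Fin 5)).symm x)) + Pi.single 0 1 = 0 ∨
      s + (fun x => s ((swap 1 2 * swap 2 3 : Perm (Fin 5)).symm x)) + Pi.single 0 1 = 1) →
    (s + (fun x => s ((swap 2 3 * swap 3 4 : Perm (Fin 5)).symm x)) = 0 ∨
      s + (fun x => s ((swap 2 3 * swap 3 4 : Perm (Fin 5)).symm x)) = 1 ∨
      s + (fun x => s ((swap 2 3 * swap 3 4 : Perm (Fin 5)).symm x)) + Pi.single 0 1 = 0 ∨
      s + (fun x => s ((swap 2 3 * swap 3 4 : Perm (Fin 5)).symm x)) + Pi.single 0 1 = 1) →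
    (s = 0 ∨ s = 1) ∨ (s + Pi.single 0 1 = 0 ∨ s + Pi.single 0 1 = 1) := by decide +kernel

set_option maxRecDepth 100000 in
theorem dec_corr1 : ∀ s : Fin 5 → ZMod 2,
    (s + (fun x => s ((swap 1 2 * swap 3 4 : Perm (Fin 5)).symm x)) = 0 ∨
      s + (fun x => s ((swap 1 2 * swap 3 4 : Perm (Fin 5)).symm x)) = 1) →
    ∃ s' : Fin 5 → ZMod 2, s + (s' + (fun x => s' ((swap 1 2 * swap 3 4 : Perm (Fin 5)).symm x))) = 0 ∨
      s + (s' + (fun x => s' ((swap 1 2 * swap 3 4 : Perm (Fin 5)).symm x))) = 1 := by decide +kernel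

set_option maxRecDepth 100000 in
theorem dec_corr2 : ∀ s : Fin 5 → ZMod 2,
    (s + (fun x => s ((swap 1 2 * swap 3 4 : Perm (Fin 5)).symm x)) = 0 ∨
      s + (fun x => s ((swap 1 2 * swap 3 4 : Perm (Fin 5)).symm x)) = 1) →
    (s + (fun x => s ((swap 1 3 * swap 2 4 : Perm (Fin 5)).symm x)) = 0 ∨
      s + (fun x => s ((swap 1 3 * swap 2 4 : Perm (Fin 5)).symm x)) = 1) →
    ∃ s' : Fin 5 → ZMod 2, (s' + (fun x => s' ((swap 1 2 * swap 3 4 : Perm (Fin 5)).symm x)) = 0 ∨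
      s' + (fun x => s' ((swap 1 2 * swap 3 4 : Perm (Fin 5)).symm x)) = 1) ∧
      (s + (s' + (fun x => s' ((swap 1 3 * swap 2 4 : Perm (Fin 5)).symm x))) = 0 ∨
      s + (s' + (fun x => s' ((swap 1 3 * swap 2 4 : Perm (Fin 5)).symm x))) = 1) := by decide +kernel

set_option maxRecDepth 100000 in
theorem dec_klein : ∀ σ : Perm (Fin 5), Perm.sign σ = 1 → σ 0 = 0 → σ * σ = 1 →
    σ = 1 ∨ σ = swap 1 2 * swap 3 4 ∨ σ = swap 1 3 * swap 2 4 ∨
      σ = (swap 1 2 * swap 3 4) * (swap 1 3 * swap 2 4) := by decide +kernel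

theorem klein_cases {κ : alternatingGroup (Fin 5)} (h : IsKlein κ) :
    κ = 1 ∨ κ = tw 1 2 3 4 (by decide) ∨ κ = tw 1 3 2 4 (by decide) ∨
      κ = tw 1 2 3 4 (by decide) * tw 1 3 2 4 (by decide) := by
  have h1 := dec_klein κ (Equiv.Perm.mem_alternatingGroup.mp κ.2) h.1 h.2
  rcases h1 with h1 | h1 | h1 | h1
  · exact Or.inl (Subtype.ext h1)
  · exact Or.inr (Or.inl (Subtype.ext h1))
  · exact Or.inr (Or.inr (Or.inl (Subtype.ext h1)))
  · exact Or.inr (Or.inr (Or.inr (Subtype.ext h1)))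

variable {X : Type u} [Group X] {A : Subgroup X} {t : X}

namespace Flag

theorem v_eq_one_iff (F : Flag A) (s : Fin 5 → ZMod 2) : F.v s = 1 ↔ s = 0 ∨ s = 1 := by
  rw [← F.v_zero, F.v_eq_iff, add_zero]

end Flag

namespace Env

variable (E : Env A t)

include E

theorem conj_t {a b x : X} (ha : a ∈ A) (h : b * t * b⁻¹ = t * x) :
    a * b * a⁻¹ * t * (a * b * a⁻¹)⁻¹ = t * (a * x * a⁻¹) := by
  have h1 : a⁻¹ * t * a = t := by rw [mul_assoc, E.t_A a ha, inv_mul_cancel_left]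
  calc a * b * a⁻¹ * t * (a * b * a⁻¹)⁻¹ = a * b * (a⁻¹ * t * a) * b⁻¹ * a⁻¹ := by group
    _ = a * (b * t * b⁻¹) * a⁻¹ := by rw [h1]; group
    _ = (a * t) * x * a⁻¹ := by rw [h]; group
    _ = _ := by rw [← E.t_A a ha]; group

variable [Finite X]

/-- Two elements over `v`: the squares differ by `1` or `v`. -/
theorem sq_or {b b' v : X} (hb : b ∈ E.B0) (hb' : b' ∈ E.B0) (hv : v ∈ E.V) (h : b * t * b⁻¹ = t * v)
    (h' : b' * t * b'⁻¹ = t * v) : b' * b' = b * b ∨ b' * b' = v * (b * b) := by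
  obtain ⟨e, he, v', hv', rfl⟩ := E.B0_eq hb hb' hv h h'
  rcases he with rfl | rfl
  · left
    rw [one_mul, E.vb_sq hb hv']
  · right
    have h1 : v' * b * e * (v' * b)⁻¹ = e * v := by
      calc v' * b * e * (v' * b)⁻¹ = v' * (b * e * b⁻¹) * v'⁻¹ := by group
        _ = (v' * (e * v)) * v'⁻¹ := by rw [h]
        _ = e * v := by
          rw [← mul_assoc, ← E.t_V hv', mul_assoc e, E.comm_VV hv' hv, ← mul_assoc, mul_inv_cancel_right]
    have h2 := E.tb_sq h1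
    rw [mul_assoc e v' b, h2, E.vb_sq hb hv']

theorem inv_unique {b b' v : X} (hb : b ∈ E.B0) (hb' : b' ∈ E.B0) (hv : v ∈ E.V) (h : b * t * b⁻¹ = t * v)
    (h' : b' * t * b'⁻¹ = t * v) (hs : b * b = 1) (hs' : b' * b' = 1) (hv1 : v ≠ 1) :
    ∃ v' ∈ E.V, b' = v' * b := by
  obtain ⟨e, he, v', hv', h1⟩ := E.B0_eq hb hb' hv h h'
  rcases he with rfl | rfl
  · exact ⟨v', hv', by rw [h1, one_mul]⟩
  · exfalso
    have h3 : v' * b * e * (v' * b)⁻¹ = e * v := by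
      calc v' * b * e * (v' * b)⁻¹ = v' * (b * e * b⁻¹) * v'⁻¹ := by group
        _ = (v' * (e * v)) * v'⁻¹ := by rw [h]
        _ = e * v := by
          rw [← mul_assoc, ← E.t_V hv', mul_assoc e, E.comm_VV hv' hv, ← mul_assoc, mul_inv_cancel_right]
    have h2 := E.tb_sq h3
    have h4 : e * (v' * b) = b' := by rw [h1, mul_assoc]
    rw [h4, hs', E.vb_sq hb hv', hs, mul_one] at h2
    exact hv1 h2.symm

theorem exists_inv0 : ∃ b ∈ E.B0, b * b = 1 ∧ b * t * b⁻¹ = t * E.r 0 := by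
  obtain ⟨b, hb, h⟩ := E.exists_B0_of (E.r_V 0)
  obtain ⟨s, hs⟩ := E.exists_v (E.B0_sq hb)
  have key : ∀ σ : alternatingGroup (Fin 5), (σ : Perm (Fin 5)) 0 = 0 →
      (s + (fun x => s ((σ : Perm (Fin 5)).symm x)) = 0 ∨
      s + (fun x => s ((σ : Perm (Fin 5)).symm x)) = 1 ∨
      s + (fun x => s ((σ : Perm (Fin 5)).symm x)) + Pi.single 0 1 = 0 ∨
      s + (fun x => s ((σ : Perm (Fin 5)).symm x)) + Pi.single 0 1 = 1) := by
    intro σ hσ
    have h1 := E.conj_t (E.l_mem σ) h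
    rw [E.l_r, hσ] at h1
    have h2 : E.l σ * b * (E.l σ)⁻¹ * (E.l σ * b * (E.l σ)⁻¹) = E.v (fun x => s ((σ : Perm (Fin 5)).symm x)) := by
      rw [← E.l_v, ← hs]
      group
    rcases E.sq_or hb (E.l_B0 hb σ) (E.r_V 0) h h1 with h3 | h3
    · rw [h2, hs] at h3
      have h4 : E.v (s + fun x => s ((σ : Perm (Fin 5)).symm x)) = 1 := by
        rw [E.v_add, h3, E.V_sq (E.v_mem s)]
      rcases E.v_eq_one h4 with h5 | h5
      · exact Or.inl h5
      · exact Or.inr (Or.inl h5)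
    · rw [h2, hs] at h3
      have h4 : E.v (s + (fun x => s ((σ : Perm (Fin 5)).symm x)) + Pi.single 0 1) = 1 := by
        rw [E.v_add, E.v_add, h3, E.v_single, E.comm_VV (E.r_V 0) (E.v_mem s), ← mul_assoc,
          E.V_sq (E.v_mem s), one_mul, E.r_sq]
      rcases E.v_eq_one h4 with h5 | h5
      · exact Or.inr (Or.inr (Or.inl h5))
      · exact Or.inr (Or.inr (Or.inr h5))
  have h1 := dec_sq s (key (tw 1 2 2 3 (by decide)) rfl) (key (tw 2 3 3 4 (by decide)) rfl)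
  rcases h1 with h1 | h1
  · exact ⟨b, hb, by rw [hs]; exact (E.v_eq_one_iff s).mpr h1, h⟩
  · have h2 : E.v s = E.r 0 := by
      rw [← E.v_single, E.v_eq_iff]
      exact h1
    refine ⟨t * b, mul_mem E.t_B0 hb, ?_, ?_⟩
    · rw [E.tb_sq h, hs, h2, E.r_sq]
    · have h3 := E.mul_t E.t_N1 (E.r_V 0) (g := t) (v := 1) (by group) h
      rwa [one_mul] at h3

theorem v_b {s s' : Fin 5 → ZMod 2} (h : s + s' = 0 ∨ s + s' = 1) : E.v s = E.v s' := E.v_eq_iff.mpr h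

/-- `w₀`. -/
theorem exists_w0 : ∃ b ∈ E.B0, b * b = 1 ∧ b * t * b⁻¹ = t * E.r 0 ∧ ∀ κ, IsKlein κ →
    b * E.l κ = E.l κ * b := by
  obtain ⟨b, hb, hbb, h⟩ := E.exists_inv0
  have hx2 : E.l (tw 1 2 3 4 (by decide)) * E.l (tw 1 2 3 4 (by decide)) = 1 := by
    rw [← map_mul]
    have : tw 1 2 3 4 (by decide) * tw 1 2 3 4 (by decide) = 1 := by
      apply Subtype.ext
      change swap 1 2 * swap 3 4 * (swap 1 2 * swap 3 4) = (1 : Perm (Fin 5))
      decide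
    rw [this, map_one]
  have hy2 : E.l (tw 1 3 2 4 (by decide)) * E.l (tw 1 3 2 4 (by decide)) = 1 := by
    rw [← map_mul]
    have : tw 1 3 2 4 (by decide) * tw 1 3 2 4 (by decide) = 1 := by
      apply Subtype.ext
      change swap 1 3 * swap 2 4 * (swap 1 3 * swap 2 4) = (1 : Perm (Fin 5))
      decide
    rw [this, map_one]
  have hxy : E.l (tw 1 2 3 4 (by decide)) * E.l (tw 1 3 2 4 (by decide)) =
      E.l (tw 1 3 2 4 (by decide)) * E.l (tw 1 2 3 4 (by decide)) := by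
    rw [← map_mul, ← map_mul]
    have : tw 1 2 3 4 (by decide) * tw 1 3 2 4 (by decide) = tw 1 3 2 4 (by decide) * tw 1 2 3 4 (by decide) := by
      apply Subtype.ext
      change swap 1 2 * swap 3 4 * (swap 1 3 * swap 2 4) = swap 1 3 * swap 2 4 * (swap 1 2 * swap 3 4 : Perm (Fin 5))
      decide
    rw [this]
  -- general: conjugate of an involution over `r 0`
  have key : ∀ c ∈ E.B0, c * c = 1 → c * t * c⁻¹ = t * E.r 0 → ∀ σ : alternatingGroup (Fin 5),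
      (σ : Perm (Fin 5)) 0 = 0 → ∃ v' ∈ E.V, E.l σ * c * (E.l σ)⁻¹ = v' * c := by
    intro c hc hcc hct σ hσ
    have h1 := E.conj_t (E.l_mem σ) hct
    rw [E.l_r, hσ] at h1
    exact E.inv_unique hc (E.l_B0 hc σ) (E.r_V 0) hct h1 hcc (by
      calc E.l σ * c * (E.l σ)⁻¹ * (E.l σ * c * (E.l σ)⁻¹) = E.l σ * (c * c) * (E.l σ)⁻¹ := by group
        _ = 1 := by rw [hcc, mul_one, mul_inv_cancel]) E.r_ne
  have upd : ∀ c ∈ E.B0, c * c = 1 → c * t * c⁻¹ = t * E.r 0 → ∀ v' ∈ E.V,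
      v' * c ∈ E.B0 ∧ v' * c * (v' * c) = 1 ∧ v' * c * t * (v' * c)⁻¹ = t * E.r 0 := by
    intro c hc hcc hct v' hv'
    refine ⟨mul_mem (E.V_B0 hv') hc, by rw [E.vb_sq hc hv', hcc], ?_⟩
    calc v' * c * t * (v' * c)⁻¹ = v' * (c * t * c⁻¹) * v'⁻¹ := by group
      _ = (v' * (t * E.r 0)) * v'⁻¹ := by rw [hct]
      _ = t * E.r 0 := by
        rw [← mul_assoc, ← E.t_V hv', mul_assoc t, E.comm_VV hv' (E.r_V 0), ← mul_assoc, mul_inv_cancel_right]
  set x := E.l (tw 1 2 3 4 (by decide)) with hx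
  set y := E.l (tw 1 3 2 4 (by decide)) with hy
  have hx1 : x⁻¹ = x := inv_eq_of_mul_eq_one_left hx2
  have hy1 : y⁻¹ = y := inv_eq_of_mul_eq_one_left hy2
  have hxv : ∀ s, x * E.v s * x⁻¹ = E.v (fun i => s ((swap 1 2 * swap 3 4 : Perm (Fin 5)).symm i)) :=
    fun s => E.l_v _ s
  have hyv : ∀ s, y * E.v s * y⁻¹ = E.v (fun i => s ((swap 1 3 * swap 2 4 : Perm (Fin 5)).symm i)) :=
    fun s => E.l_v _ s
  -- step 1
  obtain ⟨b1, hb1, hbb1, hbt1, hbx⟩ : ∃ b1 ∈ E.B0, b1 * b1 = 1 ∧ b1 * t * b1⁻¹ = t * E.r 0 ∧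
      x * b1 * x⁻¹ = b1 := by
    obtain ⟨v0, hv0, h1⟩ := key b hb hbb h (tw 1 2 3 4 (by decide)) rfl
    obtain ⟨s, rfl⟩ := E.exists_v hv0
    rw [← hx] at h1
    have h2 : x * E.v s * x⁻¹ * E.v s = 1 := by
      have h3 : b = (x * E.v s * x⁻¹ * E.v s) * b := by
        calc b = (x * x) * b * (x * x)⁻¹ := by rw [hx2]; group
          _ = x * (x * b * x⁻¹) * x⁻¹ := by group
          _ = x * (E.v s * b) * x⁻¹ := by rw [h1]
          _ = x * E.v s * x⁻¹ * (x * b * x⁻¹) := by group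
          _ = _ := by rw [h1]; group
      exact (mul_eq_right.mp h3.symm)
    rw [hxv, ← E.v_add, add_comm] at h2
    obtain ⟨s', hs'⟩ := dec_corr1 s (E.v_eq_one h2)
    have h4 : E.v s = E.v s' * (x * E.v s' * x⁻¹) := by
      rw [hxv, ← E.v_add]
      exact E.v_b hs'
    obtain ⟨u1, u2, u3⟩ := upd b hb hbb h _ (E.v_mem s')
    refine ⟨E.v s' * b, u1, u2, u3, ?_⟩
    have h5 : x * E.v s' * x⁻¹ * E.v s = E.v s' := by
      rw [h4, E.comm_VV (E.v_mem s') (by rw [hxv]; exact E.v_mem _), ← mul_assoc,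
        E.V_sq (by rw [hxv]; exact E.v_mem _), one_mul]
    calc x * (E.v s' * b) * x⁻¹ = (x * E.v s' * x⁻¹) * (x * b * x⁻¹) := by group
      _ = (x * E.v s' * x⁻¹ * E.v s) * b := by rw [h1]; group
      _ = E.v s' * b := by rw [h5]
  -- step 2
  obtain ⟨b2, hb2, hbb2, hbt2, hbx2, hby2⟩ : ∃ b1 ∈ E.B0, b1 * b1 = 1 ∧ b1 * t * b1⁻¹ = t * E.r 0 ∧
      x * b1 * x⁻¹ = b1 ∧ y * b1 * y⁻¹ = b1 := by
    obtain ⟨v0, hv0, h1⟩ := key b1 hb1 hbb1 hbt1 (tw 1 3 2 4 (by decide)) rfl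
    obtain ⟨s, rfl⟩ := E.exists_v hv0
    rw [← hy] at h1
    have h2 : y * E.v s * y⁻¹ * E.v s = 1 := by
      have h3 : b1 = (y * E.v s * y⁻¹ * E.v s) * b1 := by
        calc b1 = (y * y) * b1 * (y * y)⁻¹ := by rw [hy2]; group
          _ = y * (y * b1 * y⁻¹) * y⁻¹ := by group
          _ = y * (E.v s * b1) * y⁻¹ := by rw [h1]
          _ = y * E.v s * y⁻¹ * (y * b1 * y⁻¹) := by group
          _ = _ := by rw [h1]; group
      exact (mul_eq_right.mp h3.symm)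
    rw [hyv, ← E.v_add, add_comm] at h2
    have h2' : x * E.v s * x⁻¹ = E.v s := by
      have h3 : x * E.v s * x⁻¹ * b1 = E.v s * b1 := by
        calc x * E.v s * x⁻¹ * b1 = x * E.v s * x⁻¹ * (x * b1 * x⁻¹) := by rw [hbx]
          _ = x * (E.v s * b1) * x⁻¹ := by group
          _ = x * (y * b1 * y⁻¹) * x⁻¹ := by rw [h1]
          _ = (x * y) * b1 * (x * y)⁻¹ := by group
          _ = y * (x * b1 * x⁻¹) * y⁻¹ := by rw [hxy]; group
          _ = E.v s * b1 := by rw [hbx, h1]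
      exact mul_right_cancel h3
    have h2'' : s + (fun i => s ((swap 1 2 * swap 3 4 : Perm (Fin 5)).symm i)) = 0 ∨
        s + (fun i => s ((swap 1 2 * swap 3 4 : Perm (Fin 5)).symm i)) = 1 := by
      rw [hxv] at h2'
      exact E.v_eq_iff.mp h2'.symm
    obtain ⟨s', hs1, hs2⟩ := dec_corr2 s h2'' (E.v_eq_one h2)
    have h4 : E.v s = E.v s' * (y * E.v s' * y⁻¹) := by
      rw [hyv, ← E.v_add]
      exact E.v_b hs2
    have h4' : x * E.v s' * x⁻¹ = E.v s' := by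
      rw [hxv]
      exact (E.v_b hs1).symm
    obtain ⟨u1, u2, u3⟩ := upd b1 hb1 hbb1 hbt1 _ (E.v_mem s')
    refine ⟨E.v s' * b1, u1, u2, u3, ?_, ?_⟩
    · calc x * (E.v s' * b1) * x⁻¹ = (x * E.v s' * x⁻¹) * (x * b1 * x⁻¹) := by group
        _ = E.v s' * b1 := by rw [h4', hbx]
    · have h5 : y * E.v s' * y⁻¹ * E.v s = E.v s' := by
        rw [h4, E.comm_VV (E.v_mem s') (by rw [hyv]; exact E.v_mem _), ← mul_assoc,
          E.V_sq (by rw [hyv]; exact E.v_mem _), one_mul]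
      calc y * (E.v s' * b1) * y⁻¹ = (y * E.v s' * y⁻¹) * (y * b1 * y⁻¹) := by group
        _ = (y * E.v s' * y⁻¹ * E.v s) * b1 := by rw [h1]; group
        _ = E.v s' * b1 := by rw [h5]
  refine ⟨b2, hb2, hbb2, hbt2, fun κ hκ => ?_⟩
  have cx : Commute b2 x := by
    have := mul_inv_eq_iff_eq_mul.mp hbx2
    exact this.symm
  have cy : Commute b2 y := by
    have := mul_inv_eq_iff_eq_mul.mp hby2
    exact this.symm
  rcases klein_cases hκ with rfl | rfl | rfl | rfl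
  · rw [map_one, mul_one, one_mul]
  · exact cx
  · exact cy
  · rw [map_mul]
    exact cx.mul_right cy

end Env

end Cfsg.Agent.UFiveTwo
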