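import Mathlib
import Cfsg.Agent.UFiveTwo.BTwo

set_option autoImplicit false

/-!
# S1778, type `U5(2)`, section 6: facts on `A` used for `Q̂`

`h0` normalises `V ∩ Q`, `U` and permutes the five `r i`.
-/

namespace Cfsg.Agent.UFiveTwo

open Subgroup Equiv

universe u

variable {X : Type u} [Group X] {A : Subgroup X}

namespace Flag

variable (F : Flag A)

theorem dec_single : ∀ i j : Fin 5, (Pi.single 0 1 + Pi.single 1 1 + Pi.single i 1 : Fin 5 → ZMod 2) ≠ 0 ∧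
    (Pi.single 0 1 + Pi.single 1 1 + Pi.single i 1 : Fin 5 → ZMod 2) ≠ 1 ∧
    (i ≠ j → (Pi.single i 1 + Pi.single j 1 : Fin 5 → ZMod 2) ≠ 0 ∧
      (Pi.single i 1 + Pi.single j 1 : Fin 5 → ZMod 2) ≠ 1) := by decide +kernel

theorem rr_ne_r (i : Fin 5) : F.r 0 * F.r 1 ≠ F.r i := by
  intro h
  rw [← F.v_single, ← F.v_single, ← F.v_single, ← F.v_add, F.v_eq_iff] at h
  rcases h with h | h
  · exact (dec_single i i).1 h
  · exact (dec_single i i).2.1 h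

/-- Squares of `U` lie in `V`. -/
theorem U_sq_V {u : X} (hu : u ∈ F.U) : u * u ∈ F.V := by
  rcases F.U_sq u hu with h | ⟨i, h⟩
  · rw [h]; exact one_mem _
  · rw [h]; exact F.r_V i

/-- `U' ≤ V`. -/
theorem U_comm_V {u u' : X} (hu : u ∈ F.U) (hu' : u' ∈ F.U) : ∃ v ∈ F.V, u * u' = u' * u * v := by
  have h1 := F.U_sq_V (mul_mem hu' hu)
  have h2 := F.U_sq_V hu
  have h3 := F.U_sq_V hu'
  refine ⟨(u' * u)⁻¹ * (u * u'), ?_, by group⟩
  -- `u⁻¹ u'⁻¹ u u' = ...`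
  have e : (u' * u)⁻¹ * (u * u') = (u' * u * (u' * u))⁻¹ * ((u' * u) * u * u') := by group
  have e2 : (u' * u) * u * u' = (u * u) * (u' * u') := by
    calc u' * u * u * u' = u' * (u * u) * u' := by group
      _ = (u * u) * u' * u' := by rw [F.U_V hu' h2]
      _ = _ := by group
  rw [e, e2]
  exact mul_mem (inv_mem h1) (mul_mem h2 h3)

theorem h_cube : F.h * F.h * F.h = 1 := by
  have h := F.h_pow
  rw [pow_succ, pow_two] at h
  exact h

theorem hq_norm {q : X} (hq : q ∈ F.U) : ∃ v ∈ F.V, q * (F.h * q * F.h⁻¹) *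
    (F.h * (F.h * q * F.h⁻¹) * F.h⁻¹) = v := by
  obtain ⟨u, hu, v, hv, rfl⟩ := F.U_comm q hq
  refine ⟨v, hv, ?_⟩
  have hvh : F.h * v * F.h⁻¹ = v := by rw [F.h_V hv, mul_inv_cancel_right]
  have h3 := F.h_cube
  have hh : F.h * F.h = F.h⁻¹ := eq_inv_of_mul_eq_one_left h3
  have e1 : F.h * (u⁻¹ * (F.h * u * F.h⁻¹) * v) * F.h⁻¹ =
      (F.h * u * F.h⁻¹)⁻¹ * (F.h * (F.h * u * F.h⁻¹) * F.h⁻¹) * v := by
    calc F.h * (u⁻¹ * (F.h * u * F.h⁻¹) * v) * F.h⁻¹ =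
        (F.h * u * F.h⁻¹)⁻¹ * (F.h * (F.h * u * F.h⁻¹) * F.h⁻¹) * (F.h * v * F.h⁻¹) := by group
      _ = _ := by rw [hvh]
  have e2 : F.h * (F.h * (u⁻¹ * (F.h * u * F.h⁻¹) * v) * F.h⁻¹) * F.h⁻¹ =
      (F.h * (F.h * u * F.h⁻¹) * F.h⁻¹)⁻¹ * u * v := by
    rw [e1]
    have e3 : F.h * (F.h * (F.h * u * F.h⁻¹) * F.h⁻¹) * F.h⁻¹ = u := by
      calc F.h * (F.h * (F.h * u * F.h⁻¹) * F.h⁻¹) * F.h⁻¹ =
          (F.h * F.h * F.h) * u * (F.h * F.h * F.h)⁻¹ := by group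
        _ = u := by rw [h3]; group
    calc F.h * ((F.h * u * F.h⁻¹)⁻¹ * (F.h * (F.h * u * F.h⁻¹) * F.h⁻¹) * v) * F.h⁻¹ =
        (F.h * (F.h * u * F.h⁻¹) * F.h⁻¹)⁻¹ * (F.h * (F.h * (F.h * u * F.h⁻¹) * F.h⁻¹) * F.h⁻¹) *
          (F.h * v * F.h⁻¹) := by
            simp only [mul_assoc, mul_inv_rev, inv_inv, inv_mul_cancel_left]
      _ = _ := by rw [e3, hvh]
  have hu1 := F.U_h u hu
  have hu2 := F.U_h _ hu1
  rw [e2, e1]
  obtain ⟨a, ha⟩ : ∃ a, a = F.h * u * F.h⁻¹ := ⟨_, rfl⟩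
  obtain ⟨b, hb⟩ : ∃ b, b = F.h * (F.h * u * F.h⁻¹) * F.h⁻¹ := ⟨_, rfl⟩
  rw [← ha] at hu1
  rw [← hb] at hu2
  rw [← hb, ← ha]
  calc u⁻¹ * a * v * (a⁻¹ * b * v) * (b⁻¹ * u * v) = u⁻¹ * a * (v * (a⁻¹ * b)) * (v * (b⁻¹ * u)) * v := by
        group
    _ = u⁻¹ * a * (a⁻¹ * b * v) * (b⁻¹ * u * v) * v := by
        rw [← F.U_V (mul_mem (inv_mem hu1) hu2) hv, ← F.U_V (mul_mem (inv_mem hu2) hu) hv]
    _ = u⁻¹ * b * (v * (b⁻¹ * u)) * (v * v) := by group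
    _ = u⁻¹ * b * (b⁻¹ * u * v) * (v * v) := by rw [← F.U_V (mul_mem (inv_mem hu2) hu) hv]
    _ = v * (v * v) := by group
    _ = v := by rw [F.V_sq hv, mul_one]

/-- The elements of `Q` centralising `U` modulo `⟨r 0⟩` lie in `V`. -/
theorem mem_V_of_fix {q : X} (hq : q ∈ F.Q)
    (h : ∀ u ∈ F.U, q * u = u * q ∨ q * u = u * q * F.r 0) : q ∈ F.V := by
  obtain ⟨u0, hu0, σ, hσ, rfl⟩ := F.Q_gen q hq
  have hu0U : u0 ∈ F.U := (mem_inf.1 hu0).1
  have hzl : F.l σ * F.r 0 * (F.l σ)⁻¹ = F.r 0 := by rw [F.l_r, hσ.1]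
  -- (i) `σ = 1`
  have hσ1 : σ = 1 := by
    by_contra hne
    let K : Subgroup (alternatingGroup (Fin 5)) :=
      { carrier := {τ | ∀ u ∈ F.U, ∃ v ∈ F.V, F.l τ * u * (F.l τ)⁻¹ = u * v}
        one_mem' := fun u _ => ⟨1, one_mem _, by rw [map_one]; group⟩
        mul_mem' := by
          intro a b ha hb u hu
          obtain ⟨v, hv, h1⟩ := hb u hu
          obtain ⟨v', hv', h2⟩ := ha u hu
          have h3 : F.l a * v * (F.l a)⁻¹ ∈ F.V := by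
            obtain ⟨s, rfl⟩ := F.exists_v hv
            rw [F.l_v]; exact F.v_mem _
          refine ⟨v' * (F.l a * v * (F.l a)⁻¹), mul_mem hv' h3, ?_⟩
          rw [map_mul]
          calc F.l a * F.l b * u * (F.l a * F.l b)⁻¹ =
              F.l a * (F.l b * u * (F.l b)⁻¹) * (F.l a)⁻¹ := by group
            _ = (F.l a * u * (F.l a)⁻¹) * (F.l a * v * (F.l a)⁻¹) := by rw [h1]; group
            _ = _ := by rw [h2]; group
        inv_mem' := by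
          intro a ha u hu
          have hu' := F.U_l u hu a⁻¹
          obtain ⟨v, hv, h1⟩ := ha _ hu'
          rw [map_inv] at h1 hu' ⊢
          have h2 : u = (F.l a)⁻¹ * u * F.l a * v := by
            calc u = F.l a * ((F.l a)⁻¹ * u * (F.l a)⁻¹⁻¹) * (F.l a)⁻¹ := by group
              _ = _ := by rw [h1]; group
          refine ⟨v, hv, ?_⟩
          calc (F.l a)⁻¹ * u * (F.l a)⁻¹⁻¹ = (F.l a)⁻¹ * u * F.l a * v * v := by
                rw [mul_assoc _ v v, F.V_sq hv]; group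
            _ = u * v := by rw [← h2] }
    have hKn : K.Normal := by
      constructor
      intro a ha b u hu
      have hu' := F.U_l u hu b⁻¹
      obtain ⟨v, hv, h1⟩ := ha _ hu'
      rw [map_inv] at h1
      have h3 : F.l b * v * (F.l b)⁻¹ ∈ F.V := by
        obtain ⟨s, rfl⟩ := F.exists_v hv
        rw [F.l_v]; exact F.v_mem _
      refine ⟨F.l b * v * (F.l b)⁻¹, h3, ?_⟩
      rw [map_mul, map_mul, map_inv]
      calc F.l b * F.l a * (F.l b)⁻¹ * u * (F.l b * F.l a * (F.l b)⁻¹)⁻¹ =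
          F.l b * (F.l a * ((F.l b)⁻¹ * u * (F.l b)⁻¹⁻¹) * (F.l a)⁻¹) * (F.l b)⁻¹ := by group
        _ = u * (F.l b * v * (F.l b)⁻¹) := by rw [h1]; group
    have hσK : σ ∈ K := by
      intro u hu
      obtain ⟨v, hv, h1⟩ := F.U_comm_V (inv_mem hu0U) hu
      -- `lσ u lσ⁻¹ = u0⁻¹ u u0 z^e`
      have hz := F.r_V 0
      rcases h u hu with h2 | h2
      · refine ⟨v, hv, ?_⟩
        calc F.l σ * u * (F.l σ)⁻¹ = u0⁻¹ * (u0 * F.l σ * u) * (F.l σ)⁻¹ := by group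
          _ = u0⁻¹ * u * u0 := by rw [h2]; group
          _ = u * v := by rw [h1, mul_assoc, ← F.U_V hu0U hv]; group
      · refine ⟨v * F.r 0, mul_mem hv hz, ?_⟩
        calc F.l σ * u * (F.l σ)⁻¹ = u0⁻¹ * (u0 * F.l σ * u) * (F.l σ)⁻¹ := by group
          _ = u0⁻¹ * u * u0 * (F.l σ * F.r 0 * (F.l σ)⁻¹) := by rw [h2]; group
          _ = u * u0⁻¹ * (v * u0) * F.r 0 := by rw [hzl, h1]; group
          _ = u * (v * F.r 0) := by rw [← F.U_V hu0U hv]; group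
    have hK : K = ⊤ := by
      have := alternatingGroup.isSimpleGroup_five
      rcases hKn.eq_bot_or_eq_top with h1 | h1
      · exfalso
        rw [h1, mem_bot] at hσK
        exact hne hσK
      · exact h1
    obtain ⟨u, hu, h1⟩ := F.U_exists 1
    obtain ⟨τ, hτ⟩ := exists_trans_one 1 2
    have hτK : τ ∈ K := by rw [hK]; exact mem_top _
    obtain ⟨v, hv, h2⟩ := hτK u hu
    have h3 : F.r 2 = F.r 1 := by
      calc F.r 2 = F.l τ * F.r 1 * (F.l τ)⁻¹ := by rw [F.l_r, hτ]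
        _ = (F.l τ * u * (F.l τ)⁻¹) * (F.l τ * u * (F.l τ)⁻¹) := by rw [← h1]; group
        _ = u * (v * u) * v := by rw [h2]; group
        _ = (u * u) * (v * v) := by rw [← F.U_V hu hv]; group
        _ = F.r 1 := by rw [h1, F.V_sq hv, mul_one]
    exact absurd (F.r_inj h3) (by decide)
  subst hσ1
  rw [map_one, mul_one] at h hq ⊢
  by_contra hV
  -- (ii)
  have key : ∀ p ∈ F.U, p ∈ F.Q → p ∉ F.V → (∀ u ∈ F.U, p * u = u * p ∨ p * u = u * p * F.r 0) →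
      ∀ u ∈ F.U, u * u = F.r 1 → p * u = u * p * F.r 0 := by
    intro p hpU hpQ hpV hp u hu hu1
    rcases hp u hu with h1 | h1
    · exfalso
      have hpp : p * p = F.r 0 := by
        rcases F.Q_sq p hpQ with h2 | h2
        · exact absurd (F.U_one p hpU h2) hpV
        · exact h2
      have h2 : p * u * (p * u) = F.r 0 * F.r 1 := by
        calc p * u * (p * u) = p * (u * p) * u := by group
          _ = (p * p) * (u * u) := by rw [← h1]; group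
          _ = _ := by rw [hpp, hu1]
      rcases F.U_sq _ (mul_mem hpU hu) with h3 | ⟨i, h3⟩
      · rw [h2] at h3
        exact F.rr_ne_one (by decide) h3
      · rw [h2] at h3
        exact F.rr_ne_r i h3
    · exact h1
  have hhr : F.h * F.r 0 * F.h⁻¹ = F.r 0 := by rw [F.h_r, mul_inv_cancel_right]
  have step : ∀ p ∈ F.U, p ∈ F.Q → p ∉ F.V → (∀ u ∈ F.U, p * u = u * p ∨ p * u = u * p * F.r 0) →
      F.h * p * F.h⁻¹ ∈ F.U ∧ F.h * p * F.h⁻¹ ∈ F.Q ∧ F.h * p * F.h⁻¹ ∉ F.V ∧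
      (∀ u ∈ F.U, F.h * p * F.h⁻¹ * u = u * (F.h * p * F.h⁻¹) ∨
        F.h * p * F.h⁻¹ * u = u * (F.h * p * F.h⁻¹) * F.r 0) := by
    intro p hpU hpQ hpV hp
    refine ⟨F.U_h p hpU, F.Q_conj F.h F.h_mem (F.h_r 0) p hpQ, ?_, ?_⟩
    · intro h1
      apply hpV
      have h2 : p = F.h * p * F.h⁻¹ := by
        have h3 := F.h_V h1
        have h4 : F.h * p * F.h⁻¹ = F.h⁻¹ * (F.h * (F.h * p * F.h⁻¹)) := by group
        rw [h3] at h4
        calc p = F.h⁻¹ * (F.h * p * F.h⁻¹ * F.h) := by group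
          _ = _ := h4.symm
      rw [h2]; exact h1
    · intro u hu
      have hu' : F.h⁻¹ * u * F.h ∈ F.U := by
        have h1 := F.U_h _ (F.U_h u hu)
        have h2 : F.h * (F.h * u * F.h⁻¹) * F.h⁻¹ = F.h⁻¹ * u * F.h := by
          have h3 := F.h_cube
          have hh : F.h * F.h = F.h⁻¹ := eq_inv_of_mul_eq_one_left h3
          calc F.h * (F.h * u * F.h⁻¹) * F.h⁻¹ = (F.h * F.h) * u * (F.h * F.h)⁻¹ := by group
            _ = _ := by rw [hh, inv_inv]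
        rwa [h2] at h1
      rcases hp _ hu' with h1 | h1
      · left
        calc F.h * p * F.h⁻¹ * u = F.h * (p * (F.h⁻¹ * u * F.h)) * F.h⁻¹ := by group
          _ = _ := by rw [h1]; group
      · right
        calc F.h * p * F.h⁻¹ * u = F.h * (p * (F.h⁻¹ * u * F.h)) * F.h⁻¹ := by group
          _ = u * (F.h * p * F.h⁻¹) * (F.h * F.r 0 * F.h⁻¹) := by rw [h1]; group
          _ = _ := by rw [hhr]
  obtain ⟨a1, a2, a3, a4⟩ := step u0 hu0U hq hV h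
  obtain ⟨b1, b2, b3, b4⟩ := step _ a1 a2 a3 a4
  obtain ⟨u, hu, hu1⟩ := F.U_exists 1
  have k0 := key u0 hu0U hq hV h u hu hu1
  have k1 := key _ a1 a2 a3 a4 u hu hu1
  have k2 := key _ b1 b2 b3 b4 u hu hu1
  obtain ⟨v, hv, hn⟩ := F.hq_norm hu0U
  obtain ⟨p1, hp1⟩ : ∃ p, p = F.h * u0 * F.h⁻¹ := ⟨_, rfl⟩
  rw [← hp1] at a1 k1 hn
  rw [← hp1] at k2 b1
  obtain ⟨p2, hp2⟩ : ∃ p, p = F.h * p1 * F.h⁻¹ := ⟨_, rfl⟩
  rw [← hp2] at k2 b1 hn
  have hrU : ∀ x ∈ F.U, x * F.r 0 = F.r 0 * x := fun x hx => F.U_r x hx 0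
  -- `v u = u v`, but `u0 p1 p2 u = u (u0 p1 p2) r0³`
  have h1 : u0 * p1 * p2 * u = u * (u0 * p1 * p2) * F.r 0 := by
    calc u0 * p1 * p2 * u = u0 * p1 * (p2 * u) := by group
      _ = u0 * (p1 * u) * p2 * F.r 0 := by rw [k2]; group
      _ = (u0 * u) * p1 * (F.r 0 * p2) * F.r 0 := by rw [k1]; group
      _ = u * u0 * (F.r 0 * p1) * (p2 * F.r 0) * F.r 0 := by rw [k0, ← hrU p2 b1]; group
      _ = u * (u0 * p1) * (F.r 0 * p2) * (F.r 0 * F.r 0) := by rw [← hrU p1 a1]; group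
      _ = _ := by rw [← hrU p2 b1, F.r_sq]; group
  rw [hn] at h1
  have h2 : v * u = u * v := (F.U_V hu hv).symm
  rw [h2] at h1
  exact F.r_ne (mul_eq_left.1 h1.symm)

end Flag

end Cfsg.Agent.UFiveTwo
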