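import Mathlib
import Cfsg.Agent.UFiveTwo.QHatFlag

set_option autoImplicit false

/-!
# S1778, type `U5(2)`, section 6: `h0` permutes the points of the base line
-/

namespace Cfsg.Agent.UFiveTwo

open Subgroup Equiv

universe u

variable {X : Type u} [Group X] {A : Subgroup X}

namespace Flag

variable (F : Flag A)

theorem h0_cube : F.h0 * F.h0 * F.h0 = 1 := by
  have h := F.h0_pow
  rw [pow_succ, pow_two] at h
  exact h

theorem h0_inv : F.h0⁻¹ = F.h0 * F.h0 := (eq_inv_of_mul_eq_one_left F.h0_cube).symm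

/-- Conjugation with `h0`. -/
def c0 (x : X) : X := F.h0 * x * F.h0⁻¹

theorem c0_mul (x y : X) : F.c0 (x * y) = F.c0 x * F.c0 y := by unfold c0; group

theorem c0_ccc (x : X) : F.c0 (F.c0 (F.c0 x)) = x := by
  unfold c0
  calc F.h0 * (F.h0 * (F.h0 * x * F.h0⁻¹) * F.h0⁻¹) * F.h0⁻¹
      = (F.h0 * F.h0 * F.h0) * x * (F.h0 * F.h0 * F.h0)⁻¹ := by group
    _ = x := by rw [F.h0_cube]; group

theorem c0_Q {q : X} (hq : q ∈ F.Q) : F.c0 q ∈ F.Q := F.Q_conj F.h0 F.h0_mem F.h0_r q hq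

theorem c0_r0 : F.c0 (F.r 0) = F.r 0 := by
  unfold c0
  rw [F.h0_r, mul_inv_cancel_right]

theorem c0_inj {x y : X} (h : F.c0 x = F.c0 y) : x = y := by
  unfold c0 at h
  exact mul_left_cancel (mul_right_cancel h)

/-- `c0 a = q a` with `q ∈ Q` for `a ∈ C_A(r 0)`. -/
theorem c0_eq {a : X} (ha : a ∈ A) (haz : a * F.r 0 = F.r 0 * a) :
    ∃ q ∈ F.Q, F.c0 a = q * a := by
  have h1 := F.h0_comm a⁻¹ (inv_mem ha) (by
    rw [inv_mul_eq_iff_eq_mul, ← mul_assoc, haz, mul_inv_cancel_right])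
  rw [inv_inv] at h1
  -- a⁻¹ h0 a h0⁻¹ ∈ Q
  have h2 := F.Q_conj a ha haz _ h1
  refine ⟨F.c0 a * a⁻¹, ?_, by group⟩
  have h3 : a * (a⁻¹ * F.h0 * a * F.h0⁻¹) * a⁻¹ = F.c0 a * a⁻¹ := by unfold c0; group
  rwa [h3] at h2

theorem Q_r0 {q : X} (hq : q ∈ F.Q) : q * F.r 0 = F.r 0 * q := F.Q_r q hq

theorem Q_comm_or {q q' : X} (hq : q ∈ F.Q) (hq' : q' ∈ F.Q) :
    q * q' = q' * q ∨ q * q' = q' * q * F.r 0 := by
  have hz := F.Q_r0 (mul_mem hq' hq)
  rcases F.Q_comm q hq q' hq' with h | h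
  · left
    calc q * q' = (q * q' * q⁻¹ * q'⁻¹) * (q' * q) := by group
      _ = _ := by rw [h, one_mul]
  · right
    calc q * q' = (q * q' * q⁻¹ * q'⁻¹) * (q' * q) := by group
      _ = _ := by rw [h, hz]

/-- `h0` normalises `V ∩ Q`. -/
theorem c0_VQ {y : X} (hV : y ∈ F.V) (hQ : y ∈ F.Q) : F.c0 y ∈ F.V := by
  apply F.mem_V_of_fix (F.c0_Q hQ)
  intro u hu
  -- `u = c0 (q u)`-like: write `u = c0 u'` with `u' = c0 (c0 u)`
  have huA := F.U_le hu
  have huz := F.U_r u hu 0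
  obtain ⟨q1, hq1, h1⟩ := F.c0_eq huA huz
  obtain ⟨q2, hq2, h2⟩ : ∃ q ∈ F.Q, F.c0 (F.c0 u) = q * u := by
    refine ⟨F.c0 q1 * q1, mul_mem (F.c0_Q hq1) hq1, ?_⟩
    calc F.c0 (F.c0 u) = F.c0 (q1 * u) := by rw [h1]
      _ = F.c0 q1 * F.c0 u := F.c0_mul _ _
      _ = _ := by rw [h1, mul_assoc]
  have h3 : u = F.c0 (q2 * u) := by rw [← h2, F.c0_ccc]
  have hyu : y * u = u * y := (F.U_V hu hV).symm
  rcases F.Q_comm_or hQ hq2 with h4 | h4
  · left
    calc F.c0 y * u = F.c0 y * F.c0 (q2 * u) := by rw [← h3]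
      _ = F.c0 (y * q2 * u) := by rw [← F.c0_mul]; group
      _ = F.c0 (q2 * (y * u)) := by rw [h4]; group
      _ = F.c0 (q2 * u * y) := by rw [hyu]; group
      _ = u * F.c0 y := by rw [F.c0_mul (q2 * u), ← h3]
  · right
    have hzu : F.r 0 * u = u * F.r 0 := huz.symm
    have hzy : F.r 0 * y = y * F.r 0 := (F.Q_r0 hQ).symm
    calc F.c0 y * u = F.c0 y * F.c0 (q2 * u) := by rw [← h3]
      _ = F.c0 (y * q2 * u) := by rw [← F.c0_mul]; group
      _ = F.c0 (q2 * y * (F.r 0 * u)) := by rw [h4]; group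
      _ = F.c0 (q2 * (y * u) * F.r 0) := by rw [hzu]; group
      _ = F.c0 (q2 * u * y * F.r 0) := by rw [hyu]; group
      _ = u * F.c0 y * F.r 0 := by rw [F.c0_mul, F.c0_mul (q2 * u), ← h3, F.c0_r0]

theorem dec_klein3 : ∀ σ : Perm (Fin 5), σ 0 = 0 → σ * σ = 1 → Perm.sign σ = 1 →
    ((Pi.single (σ 1) 1 + Pi.single (σ 2) 1 : Fin 5 → ZMod 2) + (Pi.single 1 1 + Pi.single 2 1) = 0 ∨
     (Pi.single (σ 1) 1 + Pi.single (σ 2) 1 : Fin 5 → ZMod 2) + (Pi.single 1 1 + Pi.single 2 1) = 1) →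
    ((Pi.single (σ 1) 1 + Pi.single (σ 3) 1 : Fin 5 → ZMod 2) + (Pi.single 1 1 + Pi.single 3 1) = 0 ∨
     (Pi.single (σ 1) 1 + Pi.single (σ 3) 1 : Fin 5 → ZMod 2) + (Pi.single 1 1 + Pi.single 3 1) = 1) →
    σ = 1 := by decide +kernel

/-- An element of `Q` centralising `V ∩ Q` lies in `U`. -/
theorem mem_U_of_comm {q : X} (hq : q ∈ F.Q) (h : ∀ y ∈ F.V, y ∈ F.Q → q * y = y * q) :
    q ∈ F.U := by
  obtain ⟨u, hu, σ, hσ, rfl⟩ := F.Q_gen q hq
  have huU : u ∈ F.U := (mem_inf.1 hu).1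
  have key : ∀ i j : Fin 5, i ≠ 0 → j ≠ 0 →
      (Pi.single ((σ : Perm (Fin 5)) i) 1 + Pi.single ((σ : Perm (Fin 5)) j) 1 : Fin 5 → ZMod 2) +
        (Pi.single i 1 + Pi.single j 1) = 0 ∨
      (Pi.single ((σ : Perm (Fin 5)) i) 1 + Pi.single ((σ : Perm (Fin 5)) j) 1 : Fin 5 → ZMod 2) +
        (Pi.single i 1 + Pi.single j 1) = 1 := by
    intro i j hi hj
    rw [← F.v_eq_iff, F.v_add, F.v_add, F.v_single, F.v_single, F.v_single, F.v_single]
    have hyV : F.r i * F.r j ∈ F.V := mul_mem (F.r_V i) (F.r_V j)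
    have h1 := h _ hyV (F.rr_Q i j hi hj)
    have h2 : F.l σ * (F.r i * F.r j) * (F.l σ)⁻¹ = F.r i * F.r j := by
      calc F.l σ * (F.r i * F.r j) * (F.l σ)⁻¹ = u⁻¹ * (u * F.l σ * (F.r i * F.r j)) * (F.l σ)⁻¹ := by
            group
        _ = u⁻¹ * ((F.r i * F.r j) * u) := by rw [h1]; group
        _ = F.r i * F.r j := by rw [← F.U_V huU hyV]; group
    rw [← h2, ← F.l_r σ i, ← F.l_r σ j]
    group
  have h1 := dec_klein3 σ hσ.1 hσ.2 (Perm.mem_alternatingGroup.1 σ.2) (key 1 2 (by decide) (by decide))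
    (key 1 3 (by decide) (by decide))
  have h2 : σ = 1 := Subtype.ext h1
  rw [h2, map_one, mul_one]
  exact huU

/-- `h0` normalises `U`. -/
theorem c0_U {u : X} (hu : u ∈ F.U) : F.c0 u ∈ F.U := by
  obtain ⟨q, hq, h⟩ := F.c0_eq (F.U_le hu) (F.U_r u hu 0)
  rw [h]
  refine mul_mem (F.mem_U_of_comm hq ?_) hu
  intro y hyV hyQ
  -- `y = c0 y'`
  have h1 := F.c0_VQ (F.c0_VQ hyV hyQ) (F.c0_Q hyQ)
  have h2 := F.c0_ccc y
  obtain ⟨y', hy'⟩ : ∃ y', y' = F.c0 (F.c0 y) := ⟨_, rfl⟩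
  rw [← hy'] at h1 h2
  have h3 : u * y' = y' * u := F.U_V hu h1
  have h4 : F.c0 u * y = y * F.c0 u := by rw [← h2, ← F.c0_mul, ← F.c0_mul, h3]
  rw [h] at h4
  have h5 : u * y = y * u := F.U_V hu hyV
  calc q * y = q * (y * u) * u⁻¹ := by group
    _ = q * u * y * u⁻¹ := by rw [← h5]; group
    _ = y * q := by rw [h4]; group

/-- `h0` permutes the points of the base line. -/
theorem exists_perm : ∃ π : Perm (Fin 5), (∀ i, F.c0 (F.r i) = F.r (π i)) ∧ π 0 = 0 ∧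
    π * π * π = 1 ∧ π ≠ 1 := by
  have h1 : ∀ i, ∃ j, F.c0 (F.r i) = F.r j := by
    intro i
    obtain ⟨u, hu, hui⟩ := F.U_exists i
    have h2 : F.c0 u * F.c0 u = F.c0 (F.r i) := by rw [← F.c0_mul, hui]
    rcases F.U_sq _ (F.c0_U hu) with h3 | ⟨j, h3⟩
    · exfalso
      rw [h2] at h3
      have h4 : F.c0 (F.r i) = F.c0 1 := by rw [h3]; unfold c0; group
      exact F.r_ne' i (F.c0_inj h4)
    · exact ⟨j, by rw [← h2, h3]⟩
  choose f hf using h1
  have hinj : Function.Injective f := by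
    intro i j hij
    apply F.r_inj
    apply F.c0_inj
    rw [hf, hf, hij]
  have hbij : Function.Bijective f := ⟨hinj, Finite.surjective_of_injective hinj⟩
  refine ⟨Equiv.ofBijective f hbij, hf, ?_, ?_, ?_⟩
  · apply F.r_inj
    rw [Equiv.ofBijective_apply, ← hf, F.c0_r0]
  · apply Equiv.ext
    intro i
    show f (f (f i)) = i
    apply F.r_inj
    rw [← hf, ← hf, ← hf, F.c0_ccc]
  · intro h
    have h2 : ∀ i, f i = i := fun i => by
      have := congrArg (fun e : Perm (Fin 5) => e i) h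
      exact this
    have h3 : F.c0 (F.r 1 * F.r 2) = F.r 1 * F.r 2 := by rw [F.c0_mul, hf, hf, h2, h2]
    rcases F.h0_fix _ (F.rr_Q 1 2 (by decide) (by decide)) (Or.inl h3) with h4 | h4
    · exact F.rr_ne_one (by decide) h4
    · have h5 : F.v (Pi.single 1 1 + Pi.single 2 1) = F.v (Pi.single 0 1) := by
        rw [F.v_add, F.v_single, F.v_single, F.v_single, h4]
      rw [F.v_eq_iff] at h5
      revert h5
      decide +kernel

/-- The elements of `V ∩ Q`. -/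
theorem VQ_cases {y : X} (hV : y ∈ F.V) (hQ : y ∈ F.Q) :
    y = 1 ∨ y = F.r 0 ∨ ∃ i j : Fin 5, i ≠ 0 ∧ j ≠ 0 ∧ i ≠ j ∧ y = F.r i * F.r j := by
  have hdec : ∀ s : Fin 5 → ZMod 2, s = 0 ∨ s = 1 ∨ (∃ i, s = Pi.single i 1 ∨ s + 1 = Pi.single i 1) ∨
      (∃ i j, i ≠ j ∧ (s = Pi.single i 1 + Pi.single j 1 ∨ s + 1 = Pi.single i 1 + Pi.single j 1)) := by
    decide +kernel
  have h1 : ∀ s, F.v (s + 1) = F.v s := fun s => by rw [F.v_add, F.v_one, mul_one]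
  obtain ⟨s, rfl⟩ := F.exists_v hV
  rcases hdec s with rfl | rfl | ⟨i, hi⟩ | ⟨i, j, hij, hh⟩
  · left; exact F.v_zero
  · left; exact F.v_one
  · have h2 : F.v s = F.r i := by
      rcases hi with hi | hi
      · rw [hi, F.v_single]
      · rw [← h1, hi, F.v_single]
    rw [h2] at hQ ⊢
    by_cases hi0 : i = 0
    · right; left; rw [hi0]
    · exact absurd hQ (F.r_nQ i hi0)
  · have h2 : F.v s = F.r i * F.r j := by
      rcases hh with hh | hh
      · rw [hh, F.v_add, F.v_single, F.v_single]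
      · rw [← h1, hh, F.v_add, F.v_single, F.v_single]
    rw [h2] at hQ ⊢
    by_cases hi0 : i = 0
    · exfalso
      subst hi0
      apply F.r_nQ j (fun h => hij h.symm)
      have h3 := mul_mem (inv_mem F.r_Q) hQ
      rwa [inv_mul_cancel_left] at h3
    by_cases hj0 : j = 0
    · exfalso
      subst hj0
      apply F.r_nQ i hi0
      have h3 := mul_mem hQ (inv_mem F.r_Q)
      rwa [mul_inv_cancel_right] at h3
    exact Or.inr (Or.inr ⟨i, j, hi0, hj0, hij, rfl⟩)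

end Flag

end Cfsg.Agent.UFiveTwo
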