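import Mathlib
import Cfsg.Agent.UFiveTwo.QHatHz
import Cfsg.Agent.UFiveTwo.QHatEps
import Cfsg.Agent.UFiveTwo.Pts

set_option autoImplicit false

/-!
# S1778, type `U5(2)`, section 6: `HatC` from `Env`, `Pts`, `CaseZero`
-/

namespace Cfsg.Agent.UFiveTwo

open Subgroup Equiv

universe u

section five

variable {X : Type u} [Group X] (f : Fin 5 → X)

/-- Products of five commuting involutions. -/
def pv (c : Fin 5 → ZMod 2) : X :=
  f 0 ^ (c 0).val * (f 1 ^ (c 1).val * (f 2 ^ (c 2).val * (f 3 ^ (c 3).val * f 4 ^ (c 4).val)))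

variable {f}

theorem pv_pow (sq : ∀ i, f i * f i = 1) (i : Fin 5) (a b : ZMod 2) :
    f i ^ (a + b).val = f i ^ a.val * f i ^ b.val := by
  have h : f i ^ 2 = 1 := by rw [pow_two, sq i]
  rw [← pow_add]
  have : (a + b).val ≡ a.val + b.val [MOD 2] := by
    rw [ZMod.val_add]; exact Nat.mod_modEq _ _
  exact (pow_eq_pow_iff_modEq.mpr (this.of_dvd (orderOf_dvd_of_pow_eq_one h)))

theorem pv_com (cm : ∀ i j, f i * f j = f j * f i) (i j : Fin 5) (m n : ℕ) :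
    Commute (f i ^ m) (f j ^ n) := (show Commute (f i) (f j) from cm i j).pow_pow m n

theorem pv_mulmul {a b c d : X} (h : Commute b c) : (a * b) * (c * d) = (a * c) * (b * d) := by
  rw [mul_assoc, ← mul_assoc b c d, h.eq]; group

theorem pv_add (sq : ∀ i, f i * f i = 1) (cm : ∀ i j, f i * f j = f j * f i)
    (c d : Fin 5 → ZMod 2) : pv f (c + d) = pv f c * pv f d := by
  unfold pv
  simp only [Pi.add_apply, pv_pow sq]
  rw [pv_mulmul ((((pv_com cm 1 0 _ _).mul_left ((pv_com cm 2 0 _ _).mul_left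
      ((pv_com cm 3 0 _ _).mul_left (pv_com cm 4 0 _ _)))))),
    pv_mulmul (((pv_com cm 2 1 _ _).mul_left ((pv_com cm 3 1 _ _).mul_left (pv_com cm 4 1 _ _)))),
    pv_mulmul ((pv_com cm 3 2 _ _).mul_left (pv_com cm 4 2 _ _)),
    pv_mulmul (pv_com cm 4 3 _ _)]

theorem pv_zero : pv f 0 = 1 := by simp [pv]

theorem pv_one (prod : f 0 * f 1 * f 2 * f 3 * f 4 = 1) : pv f 1 = 1 := by
  have e : ∀ i : Fin 5, ((1 : Fin 5 → ZMod 2) i).val = 1 := fun i => rfl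
  simp only [pv, e, pow_one]
  simpa only [mul_assoc] using prod

theorem pv_single (i : Fin 5) : pv f (Pi.single i 1) = f i := by
  have e1 : ZMod.val (1 : ZMod 2) = 1 := rfl
  fin_cases i <;> simp [pv, e1]

end five

theorem dec_norm : ∀ π : Perm (Fin 5), π 0 = 0 → π * π * π = 1 → π ≠ 1 → ∀ i j : Fin 5, i ≠ 0 →
    j ≠ 0 → i ≠ j →
    ((Pi.single i 1 + Pi.single j 1) + (Pi.single (π i) 1 + Pi.single (π j) 1) +
      (Pi.single (π (π i)) 1 + Pi.single (π (π j)) 1) : Fin 5 → ZMod 2) = 0 ∨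
    ((Pi.single i 1 + Pi.single j 1) + (Pi.single (π i) 1 + Pi.single (π j) 1) +
      (Pi.single (π (π i)) 1 + Pi.single (π (π j)) 1) : Fin 5 → ZMod 2) = Pi.single 0 1 + 1 := by
  decide +kernel

theorem dec_klein4 : ∀ σ : Perm (Fin 5), σ 0 = 0 → σ * σ = 1 → Perm.sign σ = 1 →
    ∀ i j : Fin 5, i ≠ 0 → j ≠ 0 → i ≠ j →
    (Pi.single (σ i) 1 + Pi.single (σ j) 1 : Fin 5 → ZMod 2) = Pi.single i 1 + Pi.single j 1 ∨
    (Pi.single (σ i) 1 + Pi.single (σ j) 1 : Fin 5 → ZMod 2) =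
      Pi.single i 1 + Pi.single j 1 + (Pi.single 0 1 + 1) := by decide +kernel

set_option maxRecDepth 100000 in
theorem dec_pair : ∀ i j k l : Fin 5, ((i ≠ 0 ∧ j ≠ 0 ∧ i ≠ j) ∧ (k ≠ 0 ∧ l ≠ 0 ∧ k ≠ l)) →
    ∃ a b c d : Fin 5, (a ≠ b ∧ c ≠ d) ∧ (swap a b * swap c d) 0 = 0 ∧
    (((swap a b * swap c d) i = k ∧ (swap a b * swap c d) j = l) ∨
      ((swap a b * swap c d) i = l ∧ (swap a b * swap c d) j = k)) := by decide +kernel

section

variable {X : Type u} [Group X] {A : Subgroup X} {t : X} {E : Env A t} {w : X → X}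

theorem Pts.tv (E : Env A t) (i : Fin 5) : ∃ a ∈ A, E.r i = a * E.r 0 * a⁻¹ := by
  obtain ⟨σ, hσ⟩ := exists_trans_one 0 i
  exact ⟨E.l σ, E.l_mem σ, by rw [E.l_r, hσ]⟩

theorem Pts.sq (P : Pts E w) (i : Fin 5) : w (E.r i) * w (E.r i) = 1 := by
  obtain ⟨a, ha, h⟩ := Pts.tv E i
  rw [h]; exact P.w_sq a ha

theorem Pts.wt (P : Pts E w) (i : Fin 5) : w (E.r i) * t * w (E.r i) = t * E.r i := by
  obtain ⟨a, ha, h⟩ := Pts.tv E i
  rw [h]; exact P.w_t a ha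

theorem Pts.com (P : Pts E w) (i : Fin 5) {b : X} (hb : b ∈ A) (h : b * E.r i = E.r i * b) :
    b * w (E.r i) = w (E.r i) * b := by
  obtain ⟨a, ha, h'⟩ := Pts.tv E i
  rw [h'] at h ⊢; exact P.w_comm a ha b hb h

theorem Pts.conj (P : Pts E w) (i : Fin 5) {b : X} (hb : b ∈ A) :
    b * w (E.r i) * b⁻¹ = w (b * E.r i * b⁻¹) := by
  obtain ⟨a, ha, h'⟩ := Pts.tv E i
  rw [h']; exact P.w_conj a ha b hb

theorem Pts.wt' (P : Pts E w) (i : Fin 5) : w (E.r i) * t = t * E.r i * w (E.r i) := by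
  calc w (E.r i) * t = w (E.r i) * t * (w (E.r i) * w (E.r i)) := by rw [P.sq, mul_one]
    _ = (w (E.r i) * t * w (E.r i)) * w (E.r i) := by group
    _ = _ := by rw [P.wt]

/-- `w_i` and `r_j` commute. -/
theorem Pts.wr (P : Pts E w) (i j : Fin 5) : E.r j * w (E.r i) = w (E.r i) * E.r j :=
  P.com i (E.r_mem j) (E.r_comm j i)

/-- `t` does not commute with `w_0`. -/
theorem Pts.t_ne (P : Pts E w) : t * w (E.r 0) ≠ w (E.r 0) * t := by
  intro h
  have h1 := P.wt' 0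
  have h2 := P.wr 0 0
  rw [← h, mul_assoc, h2] at h1
  have h3 := mul_left_cancel h1
  exact E.r_ne (mul_eq_left.1 h3.symm)

variable (E w) in
/-- The characterisation of `g x`. -/
structure IsG (x y : X) : Prop where
  hsq : y * y = 1
  hz : y * E.r 0 = E.r 0 * y
  hw : y * w (E.r 0) = w (E.r 0) * y
  ht : y * t = t * x * y
  hq : ∀ q ∈ E.Q, x * q = q * x → y * q = q * y
  hq' : ∀ q ∈ E.Q, x * q ≠ q * x → y * q = q * y * w (E.r 0)
  hn : y * (E.h0 * y * E.h0⁻¹) * (E.h0 * (E.h0 * y * E.h0⁻¹) * E.h0⁻¹) = 1 ∨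
    y * (E.h0 * y * E.h0⁻¹) * (E.h0 * (E.h0 * y * E.h0⁻¹) * E.h0⁻¹) = w (E.r 0)

theorem IsG.unique (P : Pts E w) {x y y' : X} (h : IsG E w x y) (h' : IsG E w x y') : y = y' := by
  obtain ⟨W, hW⟩ : ∃ W, W = w (E.r 0) := ⟨_, rfl⟩
  have hWz : W * E.r 0 = E.r 0 * W := by rw [hW]; exact (P.wr 0 0).symm
  have hWW : W * W = 1 := by rw [hW]; exact P.sq 0
  have hyi : y⁻¹ = y := inv_eq_of_mul_eq_one_left h.hsq
  have ht : (y * y') * t = t * (y * y') := by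
    have h1 := h.ht
    have h2 : y * (t * x) = t * y := by
      calc y * (t * x) = y * (t * x * y) * y⁻¹ := by group
        _ = t * y := by rw [← h1, ← mul_assoc, h.hsq, one_mul, hyi]
    calc y * y' * t = y * (y' * t) := by group
      _ = (y * (t * x)) * y' := by rw [h'.ht]; group
      _ = _ := by rw [h2]; group
  have hq : ∀ q ∈ E.Q, (y * y') * q = q * (y * y') := by
    intro q hq
    by_cases hc : x * q = q * x
    · rw [mul_assoc, h'.hq q hq hc, ← mul_assoc, h.hq q hq hc, mul_assoc]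
    · have h1 := h'.hq' q hq hc
      have h2 := h.hq' q hq hc
      rw [← hW] at h1 h2
      have h3 : y' * W = W * y' := by rw [hW]; exact h'.hw
      calc y * y' * q = y * (y' * q) := by group
        _ = (y * q) * (y' * W) := by rw [h1]; group
        _ = q * y * (W * W) * y' := by rw [h3, h2]; group
        _ = _ := by rw [hWW]; group
  have hw : (y * y') * W = W * (y * y') := by
    rw [hW, mul_assoc, h'.hw, ← mul_assoc, h.hw, mul_assoc]
  obtain ⟨e, he, h1⟩ := E.cQ _ ht hq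
  have he1 : e = 1 := by
    rcases he with he | he
    · exact he
    · exfalso
      rcases h1 with h1 | h1
      · rw [h1, he] at hw
        exact P.t_ne (hW ▸ hw)
      · rw [h1, he] at hw
        apply P.t_ne
        rw [← hW]
        have h2 : t * W * E.r 0 = W * t * E.r 0 := by
          calc t * W * E.r 0 = t * E.r 0 * W := by rw [mul_assoc, hWz, mul_assoc]
            _ = _ := by rw [hw, mul_assoc]
        exact mul_right_cancel h2
  subst he1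
  have hy' : y' = y * (y * y') := by rw [← mul_assoc, h.hsq, one_mul]
  rcases h1 with h1 | h1
  · rw [hy', h1, mul_one]
  · exfalso
    rw [one_mul] at h1
    rw [h1] at hy'
    have hc0 : E.h0 * E.r 0 * E.h0⁻¹ = E.r 0 := by rw [E.h0_r, mul_inv_cancel_right]
    have hn : y' * (E.h0 * y' * E.h0⁻¹) * (E.h0 * (E.h0 * y' * E.h0⁻¹) * E.h0⁻¹) =
        y * (E.h0 * y * E.h0⁻¹) * (E.h0 * (E.h0 * y * E.h0⁻¹) * E.h0⁻¹) * E.r 0 := by
      have hzc : ∀ a : X, a * E.r 0 = E.r 0 * a → (E.h0 * a * E.h0⁻¹) * E.r 0 =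
          E.r 0 * (E.h0 * a * E.h0⁻¹) := by
        intro a ha
        calc E.h0 * a * E.h0⁻¹ * E.r 0 = E.h0 * a * E.h0⁻¹ * (E.h0 * E.r 0 * E.h0⁻¹) := by rw [hc0]
          _ = E.h0 * (a * E.r 0) * E.h0⁻¹ := by group
          _ = (E.h0 * E.r 0 * E.h0⁻¹) * (E.h0 * a * E.h0⁻¹) := by rw [ha]; group
          _ = _ := by rw [hc0]
      have e1 : E.h0 * y' * E.h0⁻¹ = (E.h0 * y * E.h0⁻¹) * E.r 0 := by
        rw [hy']
        calc E.h0 * (y * E.r 0) * E.h0⁻¹ = E.h0 * y * E.h0⁻¹ * (E.h0 * E.r 0 * E.h0⁻¹) := by group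
          _ = _ := by rw [hc0]
      have e2 : E.h0 * (E.h0 * y' * E.h0⁻¹) * E.h0⁻¹ =
          (E.h0 * (E.h0 * y * E.h0⁻¹) * E.h0⁻¹) * E.r 0 := by
        rw [e1]
        calc E.h0 * (E.h0 * y * E.h0⁻¹ * E.r 0) * E.h0⁻¹ =
            E.h0 * (E.h0 * y * E.h0⁻¹) * E.h0⁻¹ * (E.h0 * E.r 0 * E.h0⁻¹) := by group
          _ = _ := by rw [hc0]
      obtain ⟨a, ha⟩ : ∃ a, a = E.h0 * y * E.h0⁻¹ := ⟨_, rfl⟩
      rw [e2, e1, hy']
      rw [← ha]
      have k1 : a * E.r 0 = E.r 0 * a := ha ▸ hzc y h.hz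
      have k2 := hzc a k1
      obtain ⟨b, hb⟩ : ∃ b, b = E.h0 * a * E.h0⁻¹ := ⟨_, rfl⟩
      rw [← hb] at k2 ⊢
      calc y * E.r 0 * (a * E.r 0) * (b * E.r 0) = y * (E.r 0 * a) * (E.r 0 * b) * E.r 0 := by group
        _ = y * a * (E.r 0 * E.r 0) * b * E.r 0 := by rw [← k1]; group
        _ = y * a * b * E.r 0 := by rw [E.r_sq, mul_one]
    have hzW : E.r 0 ≠ W := by
      intro h2
      apply P.t_ne
      rw [← hW, ← h2]
      exact E.t_A _ (E.r_mem 0)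
    have h2 := h.hn
    have h3 := h'.hn
    rw [hn, ← hW] at h3
    rw [← hW] at h2
    rcases h2 with h2 | h2
    · rw [h2, one_mul] at h3
      rcases h3 with h3 | h3
      · exact E.r_ne h3
      · exact hzW h3
    · rw [h2] at h3
      rcases h3 with h3 | h3
      · apply hzW
        calc E.r 0 = W * (W * E.r 0) := by rw [← mul_assoc, hWW, one_mul]
          _ = W := by rw [h3, mul_one]
      · exact E.r_ne (mul_eq_left.1 h3)

/-- conjugation by `a ∈ C_A(r 0)` -/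
theorem IsG.conj (P : Pts E w) {x y a : X} (h : IsG E w x y) (ha : a ∈ A)
    (haz : a * E.r 0 = E.r 0 * a) : IsG E w (a * x * a⁻¹) (a * y * a⁻¹) := by
  obtain ⟨W, hW⟩ : ∃ W, W = w (E.r 0) := ⟨_, rfl⟩
  have haW : a * W = W * a := by rw [hW]; exact P.com 0 ha haz
  have cz : a * E.r 0 * a⁻¹ = E.r 0 := by rw [haz, mul_inv_cancel_right]
  have cw : a * W * a⁻¹ = W := by rw [haW, mul_inv_cancel_right]
  have ct : a * t * a⁻¹ = t := by rw [← E.t_A a ha, mul_inv_cancel_right]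
  have hai := inv_mem ha
  have haz' : a⁻¹ * E.r 0 = E.r 0 * a⁻¹ := by
    rw [inv_mul_eq_iff_eq_mul, ← mul_assoc, haz, mul_inv_cancel_right]
  have hyW : y * W = W * y := by rw [hW]; exact h.hw
  have cm : ∀ b c : X, a * (b * c) * a⁻¹ = (a * b * a⁻¹) * (a * c * a⁻¹) := fun b c => by group
  have hWz : W * E.r 0 = E.r 0 * W := by rw [hW]; exact (P.wr 0 0).symm
  refine ⟨?_, ?_, ?_, ?_, ?_, ?_, ?_⟩
  · rw [← cm, h.hsq]; group
  · calc a * y * a⁻¹ * E.r 0 = (a * y * a⁻¹) * (a * E.r 0 * a⁻¹) := by rw [cz]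
      _ = (a * E.r 0 * a⁻¹) * (a * y * a⁻¹) := by rw [← cm, h.hz, cm]
      _ = _ := by rw [cz]
  · rw [← hW]
    calc a * y * a⁻¹ * W = (a * y * a⁻¹) * (a * W * a⁻¹) := by rw [cw]
      _ = (a * W * a⁻¹) * (a * y * a⁻¹) := by rw [← cm, hyW, cm]
      _ = _ := by rw [cw]
  · calc a * y * a⁻¹ * t = (a * y * a⁻¹) * (a * t * a⁻¹) := by rw [ct]
      _ = (a * t * a⁻¹) * (a * x * a⁻¹) * (a * y * a⁻¹) := by rw [← cm, h.ht, cm, cm]
      _ = _ := by rw [ct]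
  · intro q hq hc
    have hq' : a⁻¹ * q * a ∈ E.Q := by
      have h1 := E.Q_conj a⁻¹ hai haz' q hq
      rwa [inv_inv] at h1
    have hq'' : a * (a⁻¹ * q * a) * a⁻¹ = q := by group
    have hc' : x * (a⁻¹ * q * a) = (a⁻¹ * q * a) * x := by
      calc x * (a⁻¹ * q * a) = a⁻¹ * (a * x * a⁻¹ * q) * a := by group
        _ = _ := by rw [hc]; group
    calc a * y * a⁻¹ * q = a * (y * (a⁻¹ * q * a)) * a⁻¹ := by group
      _ = _ := by rw [h.hq _ hq' hc']; group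
  · intro q hq hc
    have hq' : a⁻¹ * q * a ∈ E.Q := by
      have h1 := E.Q_conj a⁻¹ hai haz' q hq
      rwa [inv_inv] at h1
    have hc' : x * (a⁻¹ * q * a) ≠ (a⁻¹ * q * a) * x := by
      intro h1
      apply hc
      calc a * x * a⁻¹ * q = a * (x * (a⁻¹ * q * a)) * a⁻¹ := by group
        _ = _ := by rw [h1]; group
    have h2 := h.hq' _ hq' hc'
    rw [← hW] at h2 ⊢
    calc a * y * a⁻¹ * q = a * (y * (a⁻¹ * q * a)) * a⁻¹ := by group
      _ = q * (a * y * a⁻¹) * (a * W * a⁻¹) := by rw [h2]; group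
      _ = _ := by rw [cw]
  · -- the norm
    rw [← hW]
    have hn := h.hn
    rw [← hW] at hn
    -- `a⁻¹ h0 a = q h0`
    obtain ⟨q, hq, hqa⟩ : ∃ q ∈ E.Q, a⁻¹ * E.h0 * a = q * E.h0 := by
      have h1 := E.h0_comm a⁻¹ hai haz'
      rw [inv_inv] at h1
      exact ⟨_, h1, by group⟩
    have hqw : q * W = W * q := by
      rw [hW]; exact P.com 0 (E.Q_le hq) (E.Q_r q hq)
    have hc0w : E.h0 * W = W * E.h0 := by rw [hW]; exact P.com 0 E.h0_mem E.h0_r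
    -- action of `q` on elements `b` with `b * q ∈ q b ⟨W⟩`
    have key : ∀ (k : ℕ) (b : X), (b = y ∨ b = E.h0 * y * E.h0⁻¹) → b * W = W * b ∧
        ∃ j : ℕ, q * b * q⁻¹ = b * W ^ j := by
      intro _ b hb
      have hyq : ∀ r ∈ E.Q, ∃ j : ℕ, r * y * r⁻¹ = y * W ^ j := by
        intro r hr
        by_cases hc : x * r = r * x
        · refine ⟨0, ?_⟩
          rw [← h.hq r hr hc, pow_zero, mul_one, mul_inv_cancel_right]
        · refine ⟨1, ?_⟩
          have h1 := h.hq' r hr hc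
          rw [← hW] at h1
          have hrw : r * W = W * r := by rw [hW]; exact P.com 0 (E.Q_le hr) (E.Q_r r hr)
          have h2 : y * r * W = r * y := by
            have hWW : W * W = 1 := by rw [hW]; exact P.sq 0
            rw [h1, mul_assoc, hWW, mul_one]
          calc r * y * r⁻¹ = y * (r * W) * r⁻¹ := by rw [← h2]; group
            _ = y * W ^ 1 := by rw [hrw, pow_one]; group
      rcases hb with rfl | rfl
      · exact ⟨hyW, hyq q hq⟩
      · constructor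
        · have c0w : E.h0 * W * E.h0⁻¹ = W := by rw [hc0w, mul_inv_cancel_right]
          calc E.h0 * y * E.h0⁻¹ * W = E.h0 * y * E.h0⁻¹ * (E.h0 * W * E.h0⁻¹) := by rw [c0w]
            _ = E.h0 * (y * W) * E.h0⁻¹ := by group
            _ = (E.h0 * W * E.h0⁻¹) * (E.h0 * y * E.h0⁻¹) := by rw [hyW]; group
            _ = _ := by rw [c0w]
        · have hr : E.h0⁻¹ * q * E.h0 ∈ E.Q := by
            have h0z' : E.h0⁻¹ * E.r 0 = E.r 0 * E.h0⁻¹ := by
              rw [inv_mul_eq_iff_eq_mul, ← mul_assoc, E.h0_r, mul_inv_cancel_right]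
            have h1 := E.Q_conj E.h0⁻¹ (inv_mem E.h0_mem) h0z' q hq
            rwa [inv_inv] at h1
          obtain ⟨j, hj⟩ := hyq _ hr
          refine ⟨j, ?_⟩
          have c0w : E.h0 * W * E.h0⁻¹ = W := by rw [hc0w, mul_inv_cancel_right]
          have c0wj : E.h0 * W ^ j * E.h0⁻¹ = W ^ j := by rw [← conj_pow, c0w]
          calc q * (E.h0 * y * E.h0⁻¹) * q⁻¹ =
              E.h0 * ((E.h0⁻¹ * q * E.h0) * y * (E.h0⁻¹ * q * E.h0)⁻¹) * E.h0⁻¹ := by group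
            _ = (E.h0 * y * E.h0⁻¹) * (E.h0 * W ^ j * E.h0⁻¹) := by rw [hj]; group
            _ = _ := by rw [c0wj]
    -- `h0 (a y a⁻¹) h0⁻¹ = a (q h0 y h0⁻¹ q⁻¹) a⁻¹`
    obtain ⟨y1, hy1⟩ : ∃ y1, y1 = E.h0 * y * E.h0⁻¹ := ⟨_, rfl⟩
    obtain ⟨y2, hy2⟩ : ∃ y2, y2 = E.h0 * y1 * E.h0⁻¹ := ⟨_, rfl⟩
    rw [← hy1, ← hy2] at hn
    have conj1 : ∀ b : X, E.h0 * (a * b * a⁻¹) * E.h0⁻¹ =
        a * (q * (E.h0 * b * E.h0⁻¹) * q⁻¹) * a⁻¹ := by
      intro b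
      calc E.h0 * (a * b * a⁻¹) * E.h0⁻¹ =
          a * ((a⁻¹ * E.h0 * a) * b * (a⁻¹ * E.h0 * a)⁻¹) * a⁻¹ := by group
        _ = _ := by rw [hqa]; group
    obtain ⟨k1, j1, hj1⟩ := key 0 y1 (Or.inr hy1)
    have hc0Wj : ∀ j : ℕ, E.h0 * W ^ j * E.h0⁻¹ = W ^ j := by
      intro j
      rw [← conj_pow, hc0w, mul_inv_cancel_right]
    have e1 : E.h0 * (a * y * a⁻¹) * E.h0⁻¹ = a * (y1 * W ^ j1) * a⁻¹ := by
      rw [conj1, ← hy1, hj1]
    -- second step: action of `q` on `y2`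
    have hWj : ∀ (b : X) (j : ℕ), b * W = W * b → b * W ^ j = W ^ j * b := fun b j hb =>
      ((show Commute b W from hb).pow_right j).eq
    have k2 : y2 * W = W * y2 := by
      rw [hy2]
      have c0w : E.h0 * W * E.h0⁻¹ = W := by rw [hc0w, mul_inv_cancel_right]
      calc E.h0 * y1 * E.h0⁻¹ * W = E.h0 * y1 * E.h0⁻¹ * (E.h0 * W * E.h0⁻¹) := by rw [c0w]
        _ = E.h0 * (y1 * W) * E.h0⁻¹ := by group
        _ = (E.h0 * W * E.h0⁻¹) * (E.h0 * y1 * E.h0⁻¹) := by rw [k1]; group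
        _ = _ := by rw [c0w]
    obtain ⟨j2, hj2⟩ : ∃ j : ℕ, q * y2 * q⁻¹ = y2 * W ^ j := by
      -- `y2 = h0 y1 h0⁻¹`, use the action of `h0⁻¹ q h0` on `y1`
      have h0z' : E.h0⁻¹ * E.r 0 = E.r 0 * E.h0⁻¹ := by
        rw [inv_mul_eq_iff_eq_mul, ← mul_assoc, E.h0_r, mul_inv_cancel_right]
      have hr1 : E.h0⁻¹ * q * E.h0 ∈ E.Q := by
        have h1 := E.Q_conj E.h0⁻¹ (inv_mem E.h0_mem) h0z' q hq
        rwa [inv_inv] at h1
      have hr2 : E.h0⁻¹ * (E.h0⁻¹ * q * E.h0) * E.h0 ∈ E.Q := by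
        have h1 := E.Q_conj E.h0⁻¹ (inv_mem E.h0_mem) h0z' _ hr1
        rwa [inv_inv] at h1
      have hyq : ∀ r ∈ E.Q, ∃ j : ℕ, r * y * r⁻¹ = y * W ^ j := by
        intro r hr
        by_cases hc : x * r = r * x
        · refine ⟨0, ?_⟩
          rw [← h.hq r hr hc, pow_zero, mul_one, mul_inv_cancel_right]
        · refine ⟨1, ?_⟩
          have h1 := h.hq' r hr hc
          rw [← hW] at h1
          have hrw : r * W = W * r := by rw [hW]; exact P.com 0 (E.Q_le hr) (E.Q_r r hr)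
          have h2 : y * r * W = r * y := by
            have hWW : W * W = 1 := by rw [hW]; exact P.sq 0
            rw [h1, mul_assoc, hWW, mul_one]
          calc r * y * r⁻¹ = y * (r * W) * r⁻¹ := by rw [← h2]; group
            _ = y * W ^ 1 := by rw [hrw, pow_one]; group
      obtain ⟨j, hj⟩ := hyq _ hr2
      refine ⟨j, ?_⟩
      rw [hy2, hy1]
      calc q * (E.h0 * (E.h0 * y * E.h0⁻¹) * E.h0⁻¹) * q⁻¹ =
          E.h0 * (E.h0 * ((E.h0⁻¹ * (E.h0⁻¹ * q * E.h0) * E.h0) * y *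
            (E.h0⁻¹ * (E.h0⁻¹ * q * E.h0) * E.h0)⁻¹) * E.h0⁻¹) * E.h0⁻¹ := by
            simp only [mul_assoc, mul_inv_rev, inv_inv, mul_inv_cancel_left, mul_inv_cancel,
              mul_one]
        _ = E.h0 * ((E.h0 * y * E.h0⁻¹) * (E.h0 * W ^ j * E.h0⁻¹)) * E.h0⁻¹ := by
            rw [hj]
            simp only [mul_assoc, inv_mul_cancel_left]
        _ = (E.h0 * (E.h0 * y * E.h0⁻¹) * E.h0⁻¹) * (E.h0 * W ^ j * E.h0⁻¹) := by
            rw [hc0Wj]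
            nth_rewrite 2 [← hc0Wj j]
            simp only [mul_assoc, inv_mul_cancel_left]
        _ = _ := by rw [hc0Wj]
    have hqWj : ∀ j : ℕ, q * W ^ j * q⁻¹ = W ^ j := by
      intro j
      rw [← conj_pow, hqw, mul_inv_cancel_right]
    have e2 : E.h0 * (E.h0 * (a * y * a⁻¹) * E.h0⁻¹) * E.h0⁻¹ =
        a * (y2 * W ^ (j2 + j1)) * a⁻¹ := by
      rw [e1, conj1]
      have e3 : E.h0 * (y1 * W ^ j1) * E.h0⁻¹ = y2 * W ^ j1 := by
        rw [hy2]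
        calc E.h0 * (y1 * W ^ j1) * E.h0⁻¹ = (E.h0 * y1 * E.h0⁻¹) * (E.h0 * W ^ j1 * E.h0⁻¹) := by
              group
          _ = _ := by rw [hc0Wj]
      rw [e3]
      have e4 : q * (y2 * W ^ j1) * q⁻¹ = y2 * W ^ (j2 + j1) := by
        calc q * (y2 * W ^ j1) * q⁻¹ = (q * y2 * q⁻¹) * (q * W ^ j1 * q⁻¹) := by group
          _ = _ := by rw [hj2, hqWj, pow_add, mul_assoc]
      rw [e4]
    have e5 : a * y * a⁻¹ * (E.h0 * (a * y * a⁻¹) * E.h0⁻¹) *
        (E.h0 * (E.h0 * (a * y * a⁻¹) * E.h0⁻¹) * E.h0⁻¹) =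
        a * ((y * y1 * y2) * W ^ (j1 + (j2 + j1))) * a⁻¹ := by
      rw [e2, e1, pow_add W j1]
      calc a * y * a⁻¹ * (a * (y1 * W ^ j1) * a⁻¹) * (a * (y2 * W ^ (j2 + j1)) * a⁻¹) =
          a * (y * y1 * (W ^ j1 * y2) * W ^ (j2 + j1)) * a⁻¹ := by
            simp only [mul_assoc, inv_mul_cancel_left]
        _ = _ := by rw [← hWj y2 j1 k2]; simp only [mul_assoc]
    rw [e5]
    have hWW : W * W = 1 := by rw [hW]; exact P.sq 0
    have hpow : ∀ j : ℕ, W ^ j = 1 ∨ W ^ j = W := by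
      intro j
      induction j with
      | zero => left; exact pow_zero W
      | succ j ih =>
        rcases ih with h1 | h1
        · right; rw [pow_succ, h1, one_mul]
        · left; rw [pow_succ, h1, hWW]
    have hfin : ∀ c : X, (c = 1 ∨ c = W) → (a * c * a⁻¹ = 1 ∨ a * c * a⁻¹ = W) := by
      rintro c (rfl | rfl)
      · left; group
      · right; exact cw
    apply hfin
    rcases hn with h1 | h1 <;> rcases hpow (j1 + (j2 + j1)) with h2 | h2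
    · left; rw [h1, h2, one_mul]
    · right; rw [h1, h2, one_mul]
    · right; rw [h1, h2, mul_one]
    · left; rw [h1, h2, hWW]

/-- Action of `Q` on the base line. -/
theorem Pts.q_act (P : Pts E w) {q : X} (hq : q ∈ E.Q) : ∃ σ : alternatingGroup (Fin 5),
    IsKlein σ ∧ (∀ i, q * E.r i = E.r ((σ : Perm (Fin 5)) i) * q) ∧
    (∀ i, q * w (E.r i) = w (E.r ((σ : Perm (Fin 5)) i)) * q) := by
  obtain ⟨u, hu, σ, hσ, rfl⟩ := E.Q_gen q hq
  have h1 : ∀ i, (u * E.l σ) * E.r i * (u * E.l σ)⁻¹ = E.r ((σ : Perm (Fin 5)) i) := by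
    intro i
    calc (u * E.l σ) * E.r i * (u * E.l σ)⁻¹ = u * (E.l σ * E.r i * (E.l σ)⁻¹) * u⁻¹ := by group
      _ = E.r ((σ : Perm (Fin 5)) i) := by
          rw [E.l_r, E.U_r u (mem_inf.1 hu).1, mul_inv_cancel_right]
  refine ⟨σ, hσ, fun i => ?_, fun i => ?_⟩
  · rw [← h1 i]; group
  · have h2 := P.conj i (E.Q_le hq)
    rw [h1] at h2
    rw [← h2]; group

/-- The base case: `g (r i * r j) = w i * w j`. -/
theorem IsG.base (P : Pts E w) (C : CaseZero E w) {i j : Fin 5} (hi : i ≠ 0) (hj : j ≠ 0)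
    (hij : i ≠ j) : IsG E w (E.r i * E.r j) (w (E.r i) * w (E.r j)) := by
  have sq : ∀ i, (fun i => w (E.r i)) i * (fun i => w (E.r i)) i = 1 := fun i => P.sq i
  have cm : ∀ i j, (fun i => w (E.r i)) i * (fun i => w (E.r i)) j =
      (fun i => w (E.r i)) j * (fun i => w (E.r i)) i := fun i j => C.comm i j
  have hpair : ∀ i j, pv (fun i => w (E.r i)) (Pi.single i 1 + Pi.single j 1) =
      w (E.r i) * w (E.r j) := fun i j => by rw [pv_add sq cm, pv_single, pv_single]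
  have rsq : ∀ i, E.r i * E.r i = 1 := E.r_sq
  have hrpair : ∀ i j, pv E.r (Pi.single i 1 + Pi.single j 1) = E.r i * E.r j := fun i j => by
    rw [pv_add rsq E.r_comm, pv_single, pv_single]
  have hW : pv (fun i => w (E.r i)) (Pi.single 0 1 + 1) = w (E.r 0) := by
    rw [pv_add sq cm, pv_single, pv_one C.prod, mul_one]
  have hz : pv E.r (Pi.single 0 1 + 1) = E.r 0 := by
    rw [pv_add rsq E.r_comm, pv_single, pv_one E.r_prod, mul_one]
  refine ⟨?_, ?_, ?_, ?_, ?_, ?_, ?_⟩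
  · calc w (E.r i) * w (E.r j) * (w (E.r i) * w (E.r j)) =
        w (E.r i) * (w (E.r j) * w (E.r i)) * w (E.r j) := by group
      _ = (w (E.r i) * w (E.r i)) * (w (E.r j) * w (E.r j)) := by rw [C.comm j i]; group
      _ = 1 := by rw [P.sq, P.sq, mul_one]
  · rw [mul_assoc, ← P.wr j 0, ← mul_assoc, ← P.wr i 0, mul_assoc]
  · rw [mul_assoc, C.comm j 0, ← mul_assoc, C.comm i 0, mul_assoc]
  · calc w (E.r i) * w (E.r j) * t = w (E.r i) * (w (E.r j) * t) := by group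
      _ = (w (E.r i) * t) * E.r j * w (E.r j) := by rw [P.wt' j]; group
      _ = t * E.r i * (w (E.r i) * E.r j) * w (E.r j) := by rw [P.wt' i]; group
      _ = _ := by rw [← P.wr i j]; group
  · intro q hq hc
    obtain ⟨σ, hσ, h1, h2⟩ := P.q_act hq
    have h3 : q * (E.r i * E.r j) = E.r ((σ : Perm (Fin 5)) i) * E.r ((σ : Perm (Fin 5)) j) * q := by
      rw [← mul_assoc, h1, mul_assoc, h1, mul_assoc]
    have h4 : q * (w (E.r i) * w (E.r j)) =
        w (E.r ((σ : Perm (Fin 5)) i)) * w (E.r ((σ : Perm (Fin 5)) j)) * q := by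
      rw [← mul_assoc, h2, mul_assoc, h2, mul_assoc]
    rcases dec_klein4 σ hσ.1 hσ.2 (Perm.mem_alternatingGroup.1 σ.2) i j hi hj hij with h5 | h5
    · rw [h4, ← hpair ((σ : Perm (Fin 5)) i), h5, hpair]
    · exfalso
      rw [← hrpair ((σ : Perm (Fin 5)) i), h5, pv_add rsq E.r_comm, hrpair, hz, ← hc] at h3
      have h6 := mul_right_cancel (show (E.r i * E.r j) * q = (E.r i * E.r j * E.r 0) * q from h3)
      exact E.r_ne (mul_eq_left.1 h6.symm)
  · intro q hq hc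
    obtain ⟨σ, hσ, h1, h2⟩ := P.q_act hq
    have h3 : q * (E.r i * E.r j) = E.r ((σ : Perm (Fin 5)) i) * E.r ((σ : Perm (Fin 5)) j) * q := by
      rw [← mul_assoc, h1, mul_assoc, h1, mul_assoc]
    have h4 : q * (w (E.r i) * w (E.r j)) =
        w (E.r ((σ : Perm (Fin 5)) i)) * w (E.r ((σ : Perm (Fin 5)) j)) * q := by
      rw [← mul_assoc, h2, mul_assoc, h2, mul_assoc]
    rcases dec_klein4 σ hσ.1 hσ.2 (Perm.mem_alternatingGroup.1 σ.2) i j hi hj hij with h5 | h5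
    · exfalso
      rw [← hrpair ((σ : Perm (Fin 5)) i), h5, hrpair] at h3
      exact hc h3.symm
    · rw [← hpair ((σ : Perm (Fin 5)) i), h5, pv_add sq cm, hpair, hW] at h4
      have h6 : q * w (E.r 0) = w (E.r 0) * q := P.com 0 (E.Q_le hq) (E.Q_r q hq)
      -- `q w_i w_j = w_i w_j w_0 q`
      have h7 : w (E.r 0) * (w (E.r 0)) = 1 := P.sq 0
      calc w (E.r i) * w (E.r j) * q = w (E.r i) * w (E.r j) * (w (E.r 0) * w (E.r 0)) * q := by
            rw [h7, mul_one]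
        _ = (w (E.r i) * w (E.r j) * w (E.r 0)) * (w (E.r 0) * q) := by group
        _ = (w (E.r i) * w (E.r j) * w (E.r 0) * q) * w (E.r 0) := by rw [← h6]; group
        _ = q * (w (E.r i) * w (E.r j)) * w (E.r 0) := by rw [← h4]
  · obtain ⟨π, hπ, hπ0, hπ3, hπ1⟩ := E.toFlag.exists_perm
    have hw0 : ∀ i, E.h0 * w (E.r i) * E.h0⁻¹ = w (E.r (π i)) := by
      intro i
      rw [P.conj i E.h0_mem]
      exact congrArg w (hπ i)
    have h1 : E.h0 * (w (E.r i) * w (E.r j)) * E.h0⁻¹ = w (E.r (π i)) * w (E.r (π j)) := by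
      rw [← hw0, ← hw0]; group
    have h2 : E.h0 * (w (E.r (π i)) * w (E.r (π j))) * E.h0⁻¹ =
        w (E.r (π (π i))) * w (E.r (π (π j))) := by
      rw [← hw0 (π i), ← hw0 (π j)]; group
    rw [h1, h2, ← hpair, ← hpair, ← hpair, ← pv_add sq cm, ← pv_add sq cm]
    rcases dec_norm π hπ0 hπ3 hπ1 i j hi hj hij with h3 | h3
    · left; rw [h3, pv_zero]
    · right; rw [h3, hW]

theorem IsG.exists (P : Pts E w) (C : CaseZero E w) {x : X} (hx : x ∈ E.Q) (h1 : x * x = 1)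
    (h2 : x ≠ 1) (h3 : x ≠ E.r 0) : ∃ y, IsG E w x y := by
  obtain ⟨a, ha, haz, i, j, hi, hj, hij, rfl⟩ := E.Q_inv x hx h1 h2 h3
  exact ⟨_, (IsG.base P C hi hj hij).conj P ha haz⟩

variable (E w) in
open Classical in
/-- The element `g x`. -/
noncomputable def gf (x : X) : X := if h : ∃ y, IsG E w x y then h.choose else 1

theorem gf_spec (P : Pts E w) (C : CaseZero E w) {x : X} (hx : x ∈ E.Q) (h1 : x * x = 1)
    (h2 : x ≠ 1) (h3 : x ≠ E.r 0) : IsG E w x (gf E w x) := by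
  have h := IsG.exists P C hx h1 h2 h3
  unfold gf
  rw [dif_pos h]
  exact h.choose_spec

theorem gf_eq (P : Pts E w) {x y : X} (h : IsG E w x y) : gf E w x = y := by
  have h' : ∃ y, IsG E w x y := ⟨y, h⟩
  unfold gf
  rw [dif_pos h']
  exact h'.choose_spec.unique P h

/-- `g (r i * r j) = w i * w j`. -/
theorem gf_rr (P : Pts E w) (C : CaseZero E w) {i j : Fin 5} (hi : i ≠ 0) (hj : j ≠ 0)
    (hij : i ≠ j) : gf E w (E.r i * E.r j) = w (E.r i) * w (E.r j) :=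
  gf_eq P (IsG.base P C hi hj hij)

theorem closure_X (E : Env A t) :
    E.Q ≤ closure {x | x ∈ E.Q ∧ x * x = 1 ∧ x ≠ 1 ∧ x ≠ E.r 0} := by
  have h : closure {x | x ∈ E.Q ∧ x * x = 1 ∧ x ≠ 1 ∧ x ≠ E.r 0} = E.Q := by
    apply E.Q_irr
    · rw [closure_le]
      intro x hx
      exact hx.1
    · intro a ha haz x hx
      have key : closure {x | x ∈ E.Q ∧ x * x = 1 ∧ x ≠ 1 ∧ x ≠ E.r 0} ≤
          (closure {x | x ∈ E.Q ∧ x * x = 1 ∧ x ≠ 1 ∧ x ≠ E.r 0}).comap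
            (MulAut.conj a).toMonoidHom := by
        rw [closure_le]
        rintro y ⟨h1, h2, h3, h4⟩
        apply Subgroup.subset_closure
        show a * y * a⁻¹ ∈ _
        refine ⟨E.Q_conj a ha haz y h1, ?_, ?_, ?_⟩
        · calc a * y * a⁻¹ * (a * y * a⁻¹) = a * (y * y) * a⁻¹ := by group
            _ = 1 := by rw [h2]; group
        · intro h5
          exact h3 (conj_eq_one_iff.1 h5)
        · intro h5
          apply h4
          have h6 : a * E.r 0 * a⁻¹ = E.r 0 := by rw [haz, mul_inv_cancel_right]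
          rw [← h6] at h5
          exact mul_left_cancel (mul_right_cancel h5)
      exact key hx
    · refine ⟨E.r 1 * E.r 2, Subgroup.subset_closure ⟨E.rr_Q 1 2 (by decide) (by decide), ?_, ?_, ?_⟩,
        ?_, ?_⟩
      · exact E.V_sq (mul_mem (E.r_V 1) (E.r_V 2))
      · exact E.rr_ne_one (by decide)
      all_goals first
        | exact E.rr_ne_one (by decide)
        | (intro h5
           have h6 : E.v (Pi.single 1 1 + Pi.single 2 1) = E.v (Pi.single 0 1) := by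
             rw [E.v_add, E.v_single, E.v_single, E.v_single, h5]
           rw [E.v_eq_iff] at h6
           revert h6
           decide +kernel)
  exact h.ge

/-- Transitivity of `C_A(r 0)` on the involutions. -/
theorem trans_X (E : Env A t) {x y : X} (hx : x ∈ E.Q) (h1 : x * x = 1) (h2 : x ≠ 1)
    (h3 : x ≠ E.r 0) (hy : y ∈ E.Q) (h1' : y * y = 1) (h2' : y ≠ 1) (h3' : y ≠ E.r 0) :
    ∃ a ∈ A, a * E.r 0 = E.r 0 * a ∧ a * x * a⁻¹ = y := by
  obtain ⟨a, ha, haz, i, j, hi, hj, hij, rfl⟩ := E.Q_inv x hx h1 h2 h3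
  obtain ⟨b, hb, hbz, k, l, hk, hl, hkl, rfl⟩ := E.Q_inv y hy h1' h2' h3'
  -- an even permutation fixing `0` and moving the pair
  obtain ⟨σ, τ, hτ, h0, hσ⟩ : ∃ σ : Perm (Fin 5), ∃ τ : alternatingGroup (Fin 5),
      (τ : Perm (Fin 5)) = σ ∧ σ 0 = 0 ∧ ((σ i = k ∧ σ j = l) ∨ (σ i = l ∧ σ j = k)) := by
    obtain ⟨a, b, c, d, hne, h0, hσ⟩ := dec_pair i j k l ⟨⟨hi, hj, hij⟩, hk, hl, hkl⟩
    exact ⟨_, tw a b c d hne, rfl, h0, hσ⟩
  have hc0 : E.l τ * E.r 0 = E.r 0 * E.l τ := by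
    have h4 := E.l_r τ 0
    rw [hτ, h0, mul_inv_eq_iff_eq_mul] at h4
    exact h4
  have hc : E.l τ * (E.r i * E.r j) * (E.l τ)⁻¹ = E.r k * E.r l := by
    calc E.l τ * (E.r i * E.r j) * (E.l τ)⁻¹ =
        (E.l τ * E.r i * (E.l τ)⁻¹) * (E.l τ * E.r j * (E.l τ)⁻¹) := by group
      _ = E.r (σ i) * E.r (σ j) := by rw [E.l_r, E.l_r, hτ]
      _ = _ := by
        rcases hσ with ⟨h4, h5⟩ | ⟨h4, h5⟩
        · rw [h4, h5]
        · rw [h4, h5, E.r_comm]
  have haz' : a⁻¹ * E.r 0 = E.r 0 * a⁻¹ := by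
    rw [inv_mul_eq_iff_eq_mul, ← mul_assoc, haz, mul_inv_cancel_right]
  refine ⟨b * E.l τ * a⁻¹, mul_mem (mul_mem hb (E.l_mem τ)) (inv_mem ha), ?_, ?_⟩
  · rw [mul_assoc, haz', ← mul_assoc, mul_assoc b, hc0, ← mul_assoc, hbz]
    group
  · calc b * E.l τ * a⁻¹ * (a * (E.r i * E.r j) * a⁻¹) * (b * E.l τ * a⁻¹)⁻¹ =
        b * (E.l τ * (E.r i * E.r j) * (E.l τ)⁻¹) * b⁻¹ := by group
      _ = _ := by rw [hc]

/-- The fixed points. -/
theorem fix_X (E : Env A t) {x q : X} (hx : x ∈ E.Q) (h1 : x * x = 1) (h2 : x ≠ 1)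
    (h3 : x ≠ E.r 0) (hq : q ∈ E.Q)
    (h : ∀ c ∈ A, c * E.r 0 = E.r 0 * c → c * x * c⁻¹ = x →
      c * q * c⁻¹ = q ∨ c * q * c⁻¹ = q * E.r 0) :
    ∃ y, (y = 1 ∨ y = x ∨ y = E.h0 * x * E.h0⁻¹ ∨ y = E.h0 * (E.h0 * x * E.h0⁻¹) * E.h0⁻¹) ∧
      (q = y ∨ q = y * E.r 0) := by
  -- first for `x = r i * r j`
  have base : ∀ i j : Fin 5, i ≠ 0 → j ≠ 0 → i ≠ j → ∀ q ∈ E.Q,
      (∀ c ∈ A, c * E.r 0 = E.r 0 * c → c * (E.r i * E.r j) * c⁻¹ = E.r i * E.r j →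
        c * q * c⁻¹ = q ∨ c * q * c⁻¹ = q * E.r 0) →
      ∃ y, (y = 1 ∨ y = E.r i * E.r j ∨ y = E.h0 * (E.r i * E.r j) * E.h0⁻¹ ∨
        y = E.h0 * (E.h0 * (E.r i * E.r j) * E.h0⁻¹) * E.h0⁻¹) ∧ (q = y ∨ q = y * E.r 0) := by
    intro i j hi hj hij q hq h
    have hqV : q ∈ E.V := by
      apply E.mem_V_of_fix hq
      intro u hu
      have hxV : E.r i * E.r j ∈ E.V := mul_mem (E.r_V i) (E.r_V j)
      rcases h u (E.U_le hu) (E.U_r u hu 0) (by rw [E.U_V hu hxV, mul_inv_cancel_right]) with h4 | h4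
      · left
        rw [mul_inv_eq_iff_eq_mul] at h4
        exact h4.symm
      · right
        rw [mul_inv_eq_iff_eq_mul] at h4
        have h5 : E.r 0 * u = u * E.r 0 := (E.U_r u hu 0).symm
        rw [h4, mul_assoc (q * E.r 0), ← h5, ← mul_assoc, mul_assoc q, E.r_sq, mul_one]
    obtain ⟨π, hπ, hπ0, hπ3, hπ1⟩ := E.toFlag.exists_perm
    have hc1 : E.h0 * (E.r i * E.r j) * E.h0⁻¹ = E.r (π i) * E.r (π j) := by
      rw [← hπ, ← hπ]; unfold Flag.c0; group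
    have hc2 : E.h0 * (E.r (π i) * E.r (π j)) * E.h0⁻¹ = E.r (π (π i)) * E.r (π (π j)) := by
      rw [← hπ (π i), ← hπ (π j)]; unfold Flag.c0; group
    rw [hc1, hc2]
    rcases E.VQ_cases hqV hq with h4 | h4 | ⟨k, l, hk, hl, hkl, h4⟩
    · exact ⟨1, Or.inl rfl, Or.inl h4⟩
    · exact ⟨1, Or.inl rfl, Or.inr (by rw [h4, one_mul])⟩
    · -- decide
      have hdec : ∀ π : Perm (Fin 5), π 0 = 0 → π * π * π = 1 → π ≠ 1 →
          ∀ i j k l : Fin 5, i ≠ 0 → j ≠ 0 → i ≠ j → k ≠ 0 → l ≠ 0 → k ≠ l →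
          ∃ a : Fin 3, ∃ c : Fin 2,
            ((Pi.single k 1 + Pi.single l 1 : Fin 5 → ZMod 2) =
            (match a with
              | 0 => Pi.single i 1 + Pi.single j 1
              | 1 => Pi.single (π i) 1 + Pi.single (π j) 1
              | 2 => Pi.single (π (π i)) 1 + Pi.single (π (π j)) 1) +
            (match c with
              | 0 => 0
              | 1 => Pi.single 0 1 + 1)) := by decide +kernel
      have rsq : ∀ i, E.r i * E.r i = 1 := E.r_sq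
      have hrpair : ∀ i j, pv E.r (Pi.single i 1 + Pi.single j 1) = E.r i * E.r j := fun i j => by
        rw [pv_add rsq E.r_comm, pv_single, pv_single]
      have hz : pv E.r (Pi.single 0 1 + 1) = E.r 0 := by
        rw [pv_add rsq E.r_comm, pv_single, pv_one E.r_prod, mul_one]
      obtain ⟨a, c, hac⟩ := hdec π hπ0 hπ3 hπ1 i j k l hi hj hij hk hl hkl
      have h5 := congrArg (pv E.r) hac
      rw [hrpair k l, ← h4, pv_add rsq E.r_comm] at h5
      have hc : ∀ y, (q = y * pv E.r (match c with | 0 => 0 | 1 => Pi.single 0 1 + 1)) →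
          (q = y ∨ q = y * E.r 0) := by
        intro y hy
        match c with
        | 0 => left; rw [hy, pv_zero, mul_one]
        | 1 => right; rw [hy, hz]
      match a with
      | 0 => exact ⟨_, Or.inr (Or.inl rfl), hc _ (by rw [h5, hrpair])⟩
      | 1 => exact ⟨_, Or.inr (Or.inr (Or.inl rfl)), hc _ (by rw [h5, hrpair])⟩
      | 2 => exact ⟨_, Or.inr (Or.inr (Or.inr rfl)), hc _ (by rw [h5, hrpair])⟩
  -- general case
  obtain ⟨a, ha, haz, i, j, hi, hj, hij, rfl⟩ := E.Q_inv x hx h1 h2 h3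
  have haz' : a⁻¹ * E.r 0 = E.r 0 * a⁻¹ := by
    rw [inv_mul_eq_iff_eq_mul, ← mul_assoc, haz, mul_inv_cancel_right]
  have hq' : a⁻¹ * q * a ∈ E.Q := by
    have h4 := E.Q_conj a⁻¹ (inv_mem ha) haz' q hq
    rwa [inv_inv] at h4
  obtain ⟨y, hy, hqy⟩ := base i j hi hj hij _ hq' (by
    intro c hc hcz hcx
    have h4 := h (a * c * a⁻¹) (mul_mem (mul_mem ha hc) (inv_mem ha)) (by
        rw [mul_assoc, haz', ← mul_assoc, mul_assoc a, hcz, ← mul_assoc, haz]; group)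
      (by
        calc a * c * a⁻¹ * (a * (E.r i * E.r j) * a⁻¹) * (a * c * a⁻¹)⁻¹ =
            a * (c * (E.r i * E.r j) * c⁻¹) * a⁻¹ := by group
          _ = _ := by rw [hcx])
    rcases h4 with h4 | h4
    · left
      calc c * (a⁻¹ * q * a) * c⁻¹ = a⁻¹ * ((a * c * a⁻¹) * q * (a * c * a⁻¹)⁻¹) * a := by group
        _ = _ := by rw [h4]
    · right
      calc c * (a⁻¹ * q * a) * c⁻¹ = a⁻¹ * ((a * c * a⁻¹) * q * (a * c * a⁻¹)⁻¹) * a := by group
        _ = a⁻¹ * q * (E.r 0 * a) := by rw [h4]; group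
        _ = _ := by rw [← haz]; group)
  -- transport by `a`: `h0 (a x a⁻¹) h0⁻¹` against `a (h0 x h0⁻¹) a⁻¹`
  have haconj : ∀ p ∈ E.Q, ∃ e, (e = 1 ∨ e = E.r 0) ∧
      a * (E.h0 * p * E.h0⁻¹) * a⁻¹ = E.h0 * (a * p * a⁻¹) * E.h0⁻¹ * e := by
    intro p hp
    have h4 := E.h0_comm a ha haz
    obtain ⟨r, hr, hr'⟩ : ∃ r ∈ E.Q, a * E.h0 = r * (E.h0 * a) := ⟨_, h4, by group⟩
    have h5 : E.h0 * (a * p * a⁻¹) * E.h0⁻¹ ∈ E.Q :=
      E.Q_conj _ E.h0_mem E.h0_r _ (E.Q_conj a ha haz p hp)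
    have h6 : a * (E.h0 * p * E.h0⁻¹) * a⁻¹ = r * (E.h0 * (a * p * a⁻¹) * E.h0⁻¹) * r⁻¹ := by
      calc a * (E.h0 * p * E.h0⁻¹) * a⁻¹ = (a * E.h0) * p * (a * E.h0)⁻¹ := by group
        _ = _ := by rw [hr']; group
    rcases E.toFlag.Q_comm_or hr h5 with h7 | h7
    · refine ⟨1, Or.inl rfl, ?_⟩
      rw [h6, h7]; group
    · refine ⟨E.r 0, Or.inr rfl, ?_⟩
      rw [h6, h7, mul_assoc _ (E.r 0), ← E.toFlag.Q_r0 (inv_mem hr)]; group
  have hh0z : E.h0 * E.r 0 * E.h0⁻¹ = E.r 0 := by rw [E.h0_r, mul_inv_cancel_right]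
  have hzQ : ∀ p ∈ E.Q, p * E.r 0 = E.r 0 * p := E.Q_r
  have hzz : E.r 0 * E.r 0 = 1 := E.r_sq 0
  -- `a y a⁻¹ = y' e`
  have hyy : ∃ y', (y' = 1 ∨ y' = a * (E.r i * E.r j) * a⁻¹ ∨
      y' = E.h0 * (a * (E.r i * E.r j) * a⁻¹) * E.h0⁻¹ ∨
      y' = E.h0 * (E.h0 * (a * (E.r i * E.r j) * a⁻¹) * E.h0⁻¹) * E.h0⁻¹) ∧
      ∃ e, (e = 1 ∨ e = E.r 0) ∧ a * y * a⁻¹ = y' * e := by
    have hxQ : E.r i * E.r j ∈ E.Q := E.rr_Q i j hi hj
    rcases hy with rfl | rfl | rfl | rfl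
    · exact ⟨1, Or.inl rfl, 1, Or.inl rfl, by group⟩
    · exact ⟨_, Or.inr (Or.inl rfl), 1, Or.inl rfl, by group⟩
    · obtain ⟨e, he, h4⟩ := haconj _ hxQ
      exact ⟨_, Or.inr (Or.inr (Or.inl rfl)), e, he, h4⟩
    · obtain ⟨e, he, h4⟩ := haconj _ (E.Q_conj _ E.h0_mem E.h0_r _ hxQ)
      obtain ⟨e', he', h5⟩ := haconj _ hxQ
      rw [h5] at h4
      refine ⟨_, Or.inr (Or.inr (Or.inr rfl)), e' * e, ?_, ?_⟩
      · rcases he' with rfl | rfl <;> rcases he with rfl | rfl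
        · left; rw [one_mul]
        · right; rw [one_mul]
        · right; rw [mul_one]
        · left; exact hzz
      · rw [h4]
        have h6 : E.h0 * e' * E.h0⁻¹ = e' := by
          rcases he' with rfl | rfl
          · group
          · exact hh0z
        calc E.h0 * (E.h0 * (a * (E.r i * E.r j) * a⁻¹) * E.h0⁻¹ * e') * E.h0⁻¹ * e =
            E.h0 * (E.h0 * (a * (E.r i * E.r j) * a⁻¹) * E.h0⁻¹) * E.h0⁻¹ *
              ((E.h0 * e' * E.h0⁻¹) * e) := by group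
          _ = _ := by rw [h6]
  obtain ⟨y', hy', e, he, h4⟩ := hyy
  refine ⟨y', hy', ?_⟩
  have h5 : q = a * (a⁻¹ * q * a) * a⁻¹ := by group
  have h6 : q = y' * e ∨ q = y' * e * E.r 0 := by
    rcases hqy with h7 | h7
    · left; rw [h5, h7, h4]
    · right
      rw [h5, h7, ← h4, mul_assoc, mul_assoc, ← haz', ]
      group
  rcases he with rfl | rfl
  · rw [mul_one] at h6
    exact h6
  · rcases h6 with h6 | h6
    · right; exact h6
    · left; rw [h6, mul_assoc, hzz, mul_one]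

/-- The structure `HatC` at the base point. -/
noncomputable def hatC (P : Pts E w) (C : CaseZero E w) : HatC X where
  t := t
  z := E.r 0
  w := w (E.r 0)
  Q := E.Q
  g := gf E w
  tt := E.t_sq
  zz := E.r_sq 0
  z1 := E.r_ne
  ww := P.sq 0
  tz := E.t_A _ (E.r_mem 0)
  wz := (P.wr 0 0).symm
  wt := by
    rw [P.wt' 0, mul_assoc, P.wr 0 0, mul_assoc]
  zQ := E.r_Q
  tQ := fun q hq => E.t_A q (E.Q_le hq)
  wQ := fun q hq => (P.com 0 (E.Q_le hq) (E.Q_r q hq)).symm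
  cQ := fun q hq r hr => E.toFlag.Q_comm_or hq hr
  sQ := E.Q_sq
  nQ := E.Q_nd
  gen := closure_X E
  gg := fun x h1 h2 h3 h4 => (gf_spec P C h1 h2 h3 h4).hsq
  gz := fun x h1 h2 h3 h4 => (gf_spec P C h1 h2 h3 h4).hz
  gw := fun x h1 h2 h3 h4 => (gf_spec P C h1 h2 h3 h4).hw
  gt := fun x h1 h2 h3 h4 => (gf_spec P C h1 h2 h3 h4).ht
  gq := fun x h1 h2 h3 h4 => (gf_spec P C h1 h2 h3 h4).hq
  gq' := fun x h1 h2 h3 h4 => (gf_spec P C h1 h2 h3 h4).hq'
  gxz := by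
    intro x h1 h2 h3 h4
    have G := gf_spec P C h1 h2 h3 h4
    apply gf_eq P
    have hzx : E.r 0 * x = x * E.r 0 := (E.Q_r x h1).symm
    have hWz : w (E.r 0) * E.r 0 = E.r 0 * w (E.r 0) := (P.wr 0 0).symm
    have hWW : w (E.r 0) * w (E.r 0) = 1 := P.sq 0
    have hcz : ∀ q ∈ E.Q, (x * E.r 0) * q = q * (x * E.r 0) ↔ x * q = q * x := by
      intro q hq
      have h5 : E.r 0 * q = q * E.r 0 := (E.Q_r q hq).symm
      rw [mul_assoc, h5, ← mul_assoc, ← mul_assoc, mul_left_inj]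
    have hqW : ∀ q ∈ E.Q, w (E.r 0) * q = q * w (E.r 0) := fun q hq =>
      (P.com 0 (E.Q_le hq) (E.Q_r q hq)).symm
    refine ⟨?_, ?_, ?_, ?_, ?_, ?_, ?_⟩
    · calc gf E w x * w (E.r 0) * (gf E w x * w (E.r 0)) =
          gf E w x * (w (E.r 0) * gf E w x) * w (E.r 0) := by group
        _ = (gf E w x * gf E w x) * (w (E.r 0) * w (E.r 0)) := by rw [← G.hw]; group
        _ = 1 := by rw [G.hsq, hWW, mul_one]
    · rw [mul_assoc, hWz, ← mul_assoc, G.hz, mul_assoc]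
    · calc gf E w x * w (E.r 0) * w (E.r 0) = (w (E.r 0) * gf E w x) * w (E.r 0) := by rw [G.hw]
        _ = _ := by rw [mul_assoc]
    · calc gf E w x * w (E.r 0) * t = gf E w x * (w (E.r 0) * t) := by group
        _ = (gf E w x * t) * E.r 0 * w (E.r 0) := by rw [P.wt' 0]; group
        _ = t * x * (gf E w x * E.r 0) * w (E.r 0) := by rw [G.ht]; group
        _ = _ := by rw [G.hz]; group
    · intro q hq hc
      rw [hcz q hq] at hc
      rw [mul_assoc, hqW q hq, ← mul_assoc, G.hq q hq hc, mul_assoc]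
    · intro q hq hc
      rw [ne_eq, hcz q hq] at hc
      rw [mul_assoc, hqW q hq, ← mul_assoc, G.hq' q hq hc]
      group
    · have hc0 : E.h0 * w (E.r 0) * E.h0⁻¹ = w (E.r 0) := by
        rw [P.com 0 E.h0_mem E.h0_r, mul_inv_cancel_right]
      obtain ⟨W, hW⟩ : ∃ W, W = w (E.r 0) := ⟨_, rfl⟩
      obtain ⟨y, hy⟩ : ∃ y, y = gf E w x := ⟨_, rfl⟩
      have hn := G.hn
      have hyW := G.hw
      rw [← hW, ← hy] at hn hyW ⊢
      rw [← hW] at hc0 hWW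
      have e1 : E.h0 * (y * W) * E.h0⁻¹ = (E.h0 * y * E.h0⁻¹) * W := by
        calc E.h0 * (y * W) * E.h0⁻¹ = (E.h0 * y * E.h0⁻¹) * (E.h0 * W * E.h0⁻¹) := by group
          _ = _ := by rw [hc0]
      have k1 : (E.h0 * y * E.h0⁻¹) * W = W * (E.h0 * y * E.h0⁻¹) := by
        calc (E.h0 * y * E.h0⁻¹) * W = (E.h0 * y * E.h0⁻¹) * (E.h0 * W * E.h0⁻¹) := by rw [hc0]
          _ = (E.h0 * W * E.h0⁻¹) * (E.h0 * y * E.h0⁻¹) := by
              calc _ = E.h0 * (y * W) * E.h0⁻¹ := by group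
                _ = _ := by rw [hyW]; group
          _ = _ := by rw [hc0]
      have e2 : E.h0 * ((E.h0 * y * E.h0⁻¹) * W) * E.h0⁻¹ =
          (E.h0 * (E.h0 * y * E.h0⁻¹) * E.h0⁻¹) * W := by
        calc E.h0 * ((E.h0 * y * E.h0⁻¹) * W) * E.h0⁻¹ =
            (E.h0 * (E.h0 * y * E.h0⁻¹) * E.h0⁻¹) * (E.h0 * W * E.h0⁻¹) := by group
          _ = _ := by rw [hc0]
      have k2 : (E.h0 * (E.h0 * y * E.h0⁻¹) * E.h0⁻¹) * W =
          W * (E.h0 * (E.h0 * y * E.h0⁻¹) * E.h0⁻¹) := by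
        rw [← e2, k1]
        calc E.h0 * (W * (E.h0 * y * E.h0⁻¹)) * E.h0⁻¹ =
            (E.h0 * W * E.h0⁻¹) * (E.h0 * (E.h0 * y * E.h0⁻¹) * E.h0⁻¹) := by group
          _ = _ := by rw [hc0]
      rw [e1, e2]
      obtain ⟨a, ha⟩ : ∃ a, a = E.h0 * y * E.h0⁻¹ := ⟨_, rfl⟩
      rw [← ha] at hn k1 k2 ⊢
      obtain ⟨b, hb⟩ : ∃ b, b = E.h0 * a * E.h0⁻¹ := ⟨_, rfl⟩
      rw [← hb] at hn k2 ⊢
      have e3 : y * W * (a * W) * (b * W) = y * a * b * W := by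
        calc y * W * (a * W) * (b * W) = y * (W * a) * (W * b) * W := by group
          _ = y * a * (W * W) * b * W := by rw [← k1]; group
          _ = _ := by rw [hWW, mul_one]
      rw [e3]
      rcases hn with h5 | h5
      · right; rw [h5, one_mul]
      · left; rw [h5, hWW]
  ker := by
    intro u ht hw hq
    refine ⟨1, by rw [orderOf_one]; exact odd_one, by simp, by simp, by simp, by simp, ?_⟩
    obtain ⟨e, he, h1⟩ := E.cQ u ht hq
    have hWz : w (E.r 0) * E.r 0 = E.r 0 * w (E.r 0) := (P.wr 0 0).symm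
    rcases he with he | he
    · rw [he, one_mul] at h1
      rw [one_mul]
      exact h1
    · exfalso
      rcases h1 with h1 | h1
      · rw [h1, he] at hw
        exact P.t_ne hw
      · rw [h1, he] at hw
        apply P.t_ne
        have h2 : t * w (E.r 0) * E.r 0 = w (E.r 0) * t * E.r 0 := by
          rw [mul_assoc, hWz, ← mul_assoc, hw, mul_assoc]
        exact mul_right_cancel h2
  C := A ⊓ centralizer {E.r 0}
  h := E.h0
  hC := mem_inf.2 ⟨E.h0_mem, mem_centralizer_singleton_iff.2 E.h0_r⟩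
  Ct := fun c hc => (E.t_A c (mem_inf.1 hc).1).symm
  Cw := fun c hc => P.com 0 (mem_inf.1 hc).1 (mem_centralizer_singleton_iff.1 (mem_inf.1 hc).2)
  Cz := fun c hc => mem_centralizer_singleton_iff.1 (mem_inf.1 hc).2
  CQ := fun c hc q hq => E.Q_conj c (mem_inf.1 hc).1
    (mem_centralizer_singleton_iff.1 (mem_inf.1 hc).2) q hq
  Cg := fun c hc x h1 h2 h3 h4 => gf_eq P ((gf_spec P C h1 h2 h3 h4).conj P (mem_inf.1 hc).1
    (mem_centralizer_singleton_iff.1 (mem_inf.1 hc).2))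
  Ctr := by
    intro x h1 h2 h3 h4 y h1' h2' h3' h4'
    obtain ⟨a, ha, haz, h⟩ := trans_X E h1 h2 h3 h4 h1' h2' h3' h4'
    exact ⟨a, mem_inf.2 ⟨ha, mem_centralizer_singleton_iff.2 haz⟩, Or.inl h⟩
  hhh := E.toFlag.h0_cube
  hc := by
    intro c hc q hq
    have hcA := (mem_inf.1 hc).1
    have hcz := mem_centralizer_singleton_iff.1 (mem_inf.1 hc).2
    obtain ⟨r, hr, hr'⟩ : ∃ r ∈ E.Q, c * E.h0 = r * (E.h0 * c) :=
      ⟨_, E.h0_comm c hcA hcz, by group⟩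
    have h5 : E.h0 * (c * q * c⁻¹) * E.h0⁻¹ ∈ E.Q :=
      E.Q_conj _ E.h0_mem E.h0_r _ (E.Q_conj c hcA hcz q hq)
    have h6 : c * (E.h0 * q * E.h0⁻¹) * c⁻¹ = r * (E.h0 * (c * q * c⁻¹) * E.h0⁻¹) * r⁻¹ := by
      calc c * (E.h0 * q * E.h0⁻¹) * c⁻¹ = (c * E.h0) * q * (c * E.h0)⁻¹ := by group
        _ = _ := by rw [hr']; group
    rcases E.toFlag.Q_comm_or hr h5 with h7 | h7
    · left
      rw [h6, h7]; group
    · right
      rw [h6, h7, mul_assoc _ (E.r 0), ← E.toFlag.Q_r0 (inv_mem hr)]; group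
  hn := by
    intro q hq
    -- the norm is fixed modulo `r 0`
    have h1 : E.h0 * q * E.h0⁻¹ ∈ E.Q := E.toFlag.c0_Q hq
    have h2 : E.h0 * (E.h0 * q * E.h0⁻¹) * E.h0⁻¹ ∈ E.Q := E.toFlag.c0_Q h1
    have h3 : E.h0 * (E.h0 * (E.h0 * q * E.h0⁻¹) * E.h0⁻¹) * E.h0⁻¹ = q := E.toFlag.c0_ccc q
    obtain ⟨a, ha⟩ : ∃ a, a = E.h0 * q * E.h0⁻¹ := ⟨_, rfl⟩
    obtain ⟨b, hb⟩ : ∃ b, b = E.h0 * a * E.h0⁻¹ := ⟨_, rfl⟩
    rw [← ha] at h1 h2 h3 ⊢
    rw [← hb] at h2 h3 ⊢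
    apply E.h0_fix _ (mul_mem (mul_mem hq h1) h2)
    have h4 : E.h0 * (q * a * b) * E.h0⁻¹ = a * b * q := by
      calc E.h0 * (q * a * b) * E.h0⁻¹ = (E.h0 * q * E.h0⁻¹) * (E.h0 * a * E.h0⁻¹) *
            (E.h0 * b * E.h0⁻¹) := by group
        _ = _ := by rw [← ha, ← hb, h3]
    rw [h4]
    rcases E.toFlag.Q_comm_or (mul_mem h1 h2) hq with h5 | h5
    · left; rw [h5, mul_assoc]
    · right; rw [h5, mul_assoc q a b]
  hN := fun x h1 h2 h3 h4 => (gf_spec P C h1 h2 h3 h4).hn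
  fix := by
    intro x h1 h2 h3 h4 q hq h
    exact fix_X E h1 h2 h3 h4 hq (fun c hc hcz hcx =>
      h c (mem_inf.2 ⟨hc, mem_centralizer_singleton_iff.2 hcz⟩) hcx)

end

end Cfsg.Agent.UFiveTwo
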