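import Mathlib
import Cfsg.Agent.UFiveTwo.QHatHat
import Cfsg.Agent.UFiveTwo.QHatInst
import Cfsg.Agent.UFiveTwo.QHatDef

set_option autoImplicit false

/-!
# S1778, type `U5(2)`, section 6: the output structure `QHat`
-/

namespace Cfsg.Agent.UFiveTwo

open Subgroup

namespace Hat

variable {G : Type*} [Group G] {D : Hat G} [Finite D.Q]

/-- The squares in `Γ`. -/
theorem sq_Gm {ε : ZMod 2} (hε : ∀ m ∈ D.Q, ∀ n ∈ D.Q, D.B m n = ε * D.b m n) {u m : G}
    (hu : u ∈ D.Gm) (hm : D.Good u m) : u * u = D.wp (D.s m) * D.zp (ε * D.s m) := by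
  have key : D.Gm ≤ (({
      carrier := {u | u ∈ D.Gm ∧ ∃ m, D.Good u m ∧ u * u = D.wp (D.s m) * D.zp (ε * D.s m)}
      one_mem' := ⟨D.Gm.one_mem, 1, Good.of_Q D D.Q.one_mem, by simp⟩
      mul_mem' := by
        rintro u v ⟨hu, m, hm, h⟩ ⟨hv, n, hn, h'⟩
        obtain ⟨k, hk⟩ := hm.mul hn
        refine ⟨D.Gm.mul_mem hu hv, _, hk, ?_⟩
        have h1 := B_spec hv hu hn hm
        rw [hε n hn.mQ m hm.mQ, D.b_symm n m, mul_assoc] at h1
        rw [s_congr hm.mQ hn.mQ, mul_add, mul_add]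
        have hζ := D.wpzp_mem (D.b m n) (ε * D.b m n)
        calc u * v * (u * v) = u * (v * u) * v := by group
          _ = u * u * v * ((D.wp (D.b m n) * D.zp (ε * D.b m n)) * v) := by rw [h1]; group
          _ = (u * u) * (v * v) * (D.wp (D.b m n) * D.zp (ε * D.b m n)) := by
              rw [← Zhc (D.Gm_le_Qh hv) hζ]; group
          _ = D.wp (D.s m) * (D.zp (ε * D.s m) * D.wp (D.s n)) * (D.zp (ε * D.s n) *
                D.wp (D.b m n)) * D.zp (ε * D.b m n) := by rw [h, h']; group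
          _ = D.wp (D.s m) * D.wp (D.s n) * (D.zp (ε * D.s m) * D.wp (D.b m n)) *
                D.zp (ε * D.s n) * D.zp (ε * D.b m n) := by rw [D.zp_wp, D.zp_wp]; group
          _ = _ := by rw [D.zp_wp, D.wp_add, D.wp_add, D.zp_add, D.zp_add]; group
      inv_mem' := by
        rintro u ⟨hu, m, hm, h⟩
        obtain ⟨k, hk⟩ := hm.inv
        refine ⟨D.Gm.inv_mem hu, _, hk, ?_⟩
        have h1 : u⁻¹ * u⁻¹ = (u * u)⁻¹ := by group
        rw [h1, h, D.Zh_inv (D.wpzp_mem _ _), D.s_mul_zp (D.Q.inv_mem hm.mQ), D.s_inv hm.mQ] } :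
      Subgroup G)) := by
    conv_lhs => unfold Gm
    rw [closure_le]
    intro v hv
    refine ⟨subset_closure hv, ?_⟩
    rcases hv with ⟨x, hx, rfl⟩ | ⟨i, j, rfl⟩
    · exact ⟨x, Good.of_g D hx, by rw [hx.gg, hx.s]; simp⟩
    · refine ⟨_, Good.of_Zh D i j, ?_⟩
      rw [D.Zh_sq (D.wpzp_mem i j), s_zp]; simp
  obtain ⟨-, m', hm', h⟩ := key hu
  obtain rfl := hm.unique hm'
  exact h

omit [Finite D.Q] in
/-- `t m` or `t m w` determines `Good`. -/
theorem good_of_mv {u m : G} (hu : u ∈ D.Qh) (hm : m ∈ D.Q) (h : Mv D.t D.w u m) :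
    D.Good u m := by
  obtain ⟨n, hn⟩ := exists_good hu
  have h1 : ∃ i, u * D.t * u⁻¹ = D.t * (m * D.wp i) := by
    rcases h with h | h
    · exact ⟨0, by rw [h]; simp⟩
    · exact ⟨1, by rw [h]; simp⟩
  obtain ⟨i, hi⟩ := h1
  have h2 := hn.t
  rw [hi, mul_assoc] at h2
  have h3 := mul_left_cancel h2
  have h4 : n⁻¹ * m = D.wp (D.s n + i) := by
    calc n⁻¹ * m = n⁻¹ * (m * D.wp i) * D.wp i := by rw [mul_assoc, mul_assoc m, D.wp_sq, mul_one]
      _ = D.wp (D.s n) * D.wp i := by rw [h3]; group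
      _ = _ := (D.wp_add _ _).symm
  have h5 := D.wp_mem (h4 ▸ D.Q.mul_mem (D.Q.inv_mem hn.mQ) hm)
  rw [h5, wp_zero] at h4
  have h6 : n = m := inv_mul_eq_one.1 h4
  exact h6 ▸ hn

omit [Finite D.Q] in
theorem Good.mv {u m : G} (h : D.Good u m) : Mv D.t D.w u m := by
  have h1 := h.t
  rcases zmod2 (D.s m) with h2 | h2
  · left; rw [h1, h2, wp_zero, mul_one]
  · right; rw [h1, h2, wp_one, mul_assoc]

end Hat

open Hat

universe u

variable {X : Type u} [Group X] {A : Subgroup X} {t : X} {E : Env A t} {w : X → X}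

instance finite_Q (P : Pts E w) (C : CaseZero E w) : Finite (hatC P C).Q := by
  have h : Nat.card E.Q ≠ 0 := by rw [E.card_Q]; decide
  exact Nat.finite_of_card_ne_zero h

/-- **Output of section 6.** -/
theorem exists_QHat (P : Pts E w) (C : CaseZero E w) :
    QHat E w (hatC P C).Qh (hatC P C).Gm := by
  have hfin := finite_Q P C
  obtain ⟨ε, hε⟩ := (hatC P C).exists_eps
  have hcomm : ∀ m m' : X, (hatC P C).b m m' = 0 ↔ m * m' = m' * m := fun m m' =>
    (hatC P C).b_eq_zero
  have hzw : ∀ i : ZMod 2, ∀ j : ZMod 2, (hatC P C).wp i * (hatC P C).zp j = 1 ∨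
      (hatC P C).wp i * (hatC P C).zp j = E.r 0 ∨ (hatC P C).wp i * (hatC P C).zp j = w (E.r 0) ∨
      (hatC P C).wp i * (hatC P C).zp j = E.r 0 * w (E.r 0) := by
    intro i j
    have e1 : (hatC P C).z = E.r 0 := rfl
    have e2 : (hatC P C).w = w (E.r 0) := rfl
    rcases zmod2 i with rfl | rfl <;> rcases zmod2 j with rfl | rfl
    · left; simp
    · right; left; simp [e1]
    · right; right; left; simp [e2]
    · right; right; right
      simp only [wp_one, zp_one, e1, e2]
      exact (P.wr 0 0).symm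
  refine
    { Q_le := (hatC P C).Q_le_Qh
      Γ_le := (hatC P C).Gm_le_Qh
      gen := ?_
      r_mem := (hatC P C).Zh_le_Gm (hatC P C).z_Zh
      w_mem := (hatC P C).Zh_le_Gm (hatC P C).w_Zh
      inf := ?_
      D_conj := fun a ha haz g hg => (hatC P C).conj_Gm
        (mem_inf.2 ⟨ha, mem_centralizer_singleton_iff.2 haz⟩) hg
      r_comm := ?_
      w_comm := ?_
      ww_mem := ?_
      mv := ?_
      onto := ?_
      ker := ?_
      form0 := ?_
      form1 := ?_
      eps := ?_ }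
  · intro g hg
    obtain ⟨m, hm⟩ := exists_good hg
    obtain ⟨q, hq, h⟩ := exists_Gm_mul hg hm
    refine ⟨q, hq, (hatC P C).ga m * (hatC P C).wp ((hatC P C).b m q),
      mul_mem ((hatC P C).ga_Gm hm.mQ) ((hatC P C).Zh_le_Gm ((hatC P C).wp_Zh _)), ?_⟩
    rw [h, Gm_act ((hatC P C).ga_Gm hm.mQ) ((hatC P C).ga_good hm.mQ) hq, mul_assoc]
  · intro g hg hgQ
    obtain ⟨i, j, hij⟩ := mem_Zh_of_good (D := (hatC P C).toHat) (i := 0) hg
      (by rw [zp_zero]; exact Good.of_Q (hatC P C).toHat hgQ)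
    have h1 : (hatC P C).wp i = g * (hatC P C).zp j := by
      rw [hij, mul_assoc, (hatC P C).zp_sq, mul_one]
    have h2 := (hatC P C).wp_mem (h1 ▸ mul_mem hgQ ((hatC P C).zp_mem j))
    rw [h2, wp_zero, one_mul] at hij
    rcases zmod2 j with rfl | rfl
    · left; rw [hij, zp_zero]
    · right; rw [hij, zp_one]; rfl
  · intro g hg
    have h := zpc (D := (hatC P C).toHat) hg 1
    rw [zp_one] at h
    exact h
  · intro g hg
    have h := wpc (D := (hatC P C).toHat) hg 1
    rw [wp_one] at h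
    exact h
  · intro i j hi hj
    by_cases hij : i = j
    · subst hij
      rw [P.sq]; exact one_mem _
    · rw [← gf_rr P C hi hj hij]
      have hV : E.r i * E.r j ∈ E.V := mul_mem (E.r_V i) (E.r_V j)
      have hX : (hatC P C).IsX (E.r i * E.r j) := by
        refine ⟨E.rr_Q i j hi hj, E.V_sq hV, E.rr_ne_one hij, ?_⟩
        intro h
        have h6 : E.v (Pi.single i 1 + Pi.single j 1) = E.v (Pi.single 0 1) := by
          rw [E.v_add, E.v_single, E.v_single, E.v_single]; exact h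
        rw [E.v_eq_iff] at h6
        revert hi hj hij h6
        clear h hV
        revert i j
        decide +kernel
      exact hX.gGm
  · intro g hg
    obtain ⟨m, hm⟩ := exists_good ((hatC P C).Gm_le_Qh hg)
    exact ⟨m, hm.mQ, hm.mv⟩
  · intro m hm
    exact ⟨(hatC P C).ga m, (hatC P C).ga_Gm hm, ((hatC P C).ga_good hm).mv⟩
  · intro g hg h
    have h1 : ∃ i, (hatC P C).Good g ((hatC P C).zp i) := by
      rcases h with h | h
      · exact ⟨0, by
          rw [zp_zero]
          exact good_of_mv ((hatC P C).Gm_le_Qh hg) (one_mem _) h⟩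
      · exact ⟨1, by
          rw [zp_one]
          exact good_of_mv ((hatC P C).Gm_le_Qh hg) (hatC P C).zQ h⟩
    obtain ⟨i, hi⟩ := h1
    obtain ⟨a, c, hac⟩ := mem_Zh_of_good hg hi
    rw [hac]
    exact hzw a c
  · intro g hg m hm h q hq hc
    have h1 := Gm_act hg (good_of_mv ((hatC P C).Gm_le_Qh hg) hm h) hq
    rw [(hcomm m q).2 hc, wp_zero, mul_one] at h1
    exact h1
  · intro g hg m hm h q hq hc
    have h1 := Gm_act hg (good_of_mv ((hatC P C).Gm_le_Qh hg) hm h) hq
    have h2 : (hatC P C).b m q = 1 := (hatC P C).b_eq_one.2 hc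
    rw [h2, wp_one] at h1
    exact h1
  · refine ⟨w (E.r 0) * (hatC P C).zp ε, ?_, ?_, ?_⟩
    · rcases zmod2 ε with rfl | rfl
      · left; rw [zp_zero, mul_one]
      · right; rw [zp_one]; rfl
    · intro g hg g' hg' m hm m' hm' h h'
      have h1 := B_spec hg hg' (good_of_mv ((hatC P C).Gm_le_Qh hg) hm h)
        (good_of_mv ((hatC P C).Gm_le_Qh hg') hm' h')
      rw [hε m hm m' hm'] at h1
      constructor
      · intro hc
        rw [(hcomm m m').2 hc, wp_zero, mul_one, mul_zero, zp_zero, mul_one] at h1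
        exact h1
      · intro hc
        have h2 : (hatC P C).b m m' = 1 := (hatC P C).b_eq_one.2 hc
        rw [h2, wp_one, mul_one, mul_assoc] at h1
        exact h1
    · intro g hg m hm h
      have h1 := sq_Gm hε hg (good_of_mv ((hatC P C).Gm_le_Qh hg) hm h)
      constructor
      · intro hc
        have h2 : (hatC P C).s m = 0 := (hatC P C).s_eq_zero.2 hc
        rw [h2, wp_zero, mul_zero, zp_zero, mul_one] at h1
        exact h1
      · intro hc
        have h2 : (hatC P C).s m = 1 := by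
          rcases zmod2 ((hatC P C).s m) with h3 | h3
          · exact absurd ((hatC P C).s_eq_zero.1 h3) hc
          · exact h3
        rw [h2, wp_one, mul_one] at h1
        exact h1

end Cfsg.Agent.UFiveTwo
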