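import Mathlib
import Cfsg.Agent.UFiveTwo.QHatOut

set_option autoImplicit false

/-!
# S1778, type `U5(2)`, section 6: twisted subgroups of `Q̂` and the two worlds `ε = 0`, `ε = 1`

For a map `f` on `Q`, additive modulo `⟨z⟩`, `D.tw f = {γ(m) f(m) z ^ j}`.
* `ε = 1`: `A₁ = tw σ` and `A₄ = tw σ² = A₁ᵗ` are elementary abelian of order `2 |Q|`,
  `Q̂ = A₁ A₄`, `A₁ ∩ A₄ = Ẑ`.
-/

namespace Cfsg.Agent.UFiveTwo.Hat

open Subgroup

variable {G : Type*} [Group G] (D : Hat G)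

/-- Maps on `Q` that are additive modulo `⟨z⟩`. -/
structure IsLam (f : G → G) : Prop where
  Q : ∀ q ∈ D.Q, f q ∈ D.Q
  mul : ∀ q ∈ D.Q, ∀ r ∈ D.Q, ∃ j, f (q * r) = f q * f r * D.zp j
  z : ∃ j, f D.z = D.zp j

variable {D}

theorem IsLam.one {f : G → G} (h : D.IsLam f) : ∃ j, f 1 = D.zp j := by
  obtain ⟨j, hj⟩ := h.mul 1 D.Q.one_mem 1 D.Q.one_mem
  rw [mul_one, mul_assoc] at hj
  refine ⟨j, ?_⟩
  have h1 : f 1 * D.zp j = 1 := (mul_eq_left.1 hj.symm)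
  calc f 1 = f 1 * D.zp j * D.zp j := by rw [mul_assoc, D.zp_sq, mul_one]
    _ = _ := by rw [h1, one_mul]

theorem IsLam.zp {f : G → G} (h : D.IsLam f) (i : ZMod 2) : ∃ j, f (D.zp i) = D.zp j := by
  rcases zmod2 i with rfl | rfl
  · rw [zp_zero]; exact h.one
  · rw [zp_one]; exact h.z

theorem IsLam.mul_zp {f : G → G} (h : D.IsLam f) {q : G} (hq : q ∈ D.Q) (i : ZMod 2) :
    ∃ j, f (q * D.zp i) = f q * D.zp j := by
  obtain ⟨j, hj⟩ := h.mul q hq _ (D.zp_mem i)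
  obtain ⟨k, hk⟩ := h.zp i
  exact ⟨k + j, by rw [hj, hk, D.zp_add, mul_assoc]⟩

theorem IsLam.inv {f : G → G} (h : D.IsLam f) {q : G} (hq : q ∈ D.Q) :
    ∃ j, f q⁻¹ = (f q)⁻¹ * D.zp j := by
  obtain ⟨j, hj⟩ := h.mul q⁻¹ (D.Q.inv_mem hq) q hq
  obtain ⟨k, hk⟩ := h.one
  rw [inv_mul_cancel, hk] at hj
  refine ⟨k + j, ?_⟩
  calc f q⁻¹ = f q⁻¹ * f q * D.zp j * (D.zp j)⁻¹ * (f q)⁻¹ := by group
    _ = D.zp k * (D.zp j)⁻¹ * (f q)⁻¹ := by rw [← hj]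
    _ = D.zp (k + j) * (f q)⁻¹ := by
        rw [inv_eq_of_mul_eq_one_left (D.zp_sq j), ← D.zp_add]
    _ = _ := D.zp_c (D.Q.inv_mem (h.Q q hq)) _

variable [Finite D.Q]

variable (D) in
/-- The twisted subgroup `{γ(m) f(m) z ^ j}`. -/
def tw (f : G → G) (hf : D.IsLam f) : Subgroup G where
  carrier := {u | ∃ γ ∈ D.Gm, ∃ m, D.Good γ m ∧ ∃ j, u = γ * f m * D.zp j}
  one_mem' := by
    obtain ⟨j, hj⟩ := hf.one
    exact ⟨1, D.Gm.one_mem, 1, Good.of_Q D D.Q.one_mem, j, by rw [hj, one_mul, D.zp_sq]⟩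
  mul_mem' := by
    rintro u v ⟨γ, hγ, m, hm, j, rfl⟩ ⟨γ', hγ', m', hm', j', rfl⟩
    obtain ⟨k, hk⟩ := hm.mul hm'
    have h1 := hk.wpmul (D.b m' (f m))
    obtain ⟨a, ha⟩ := hf.mul m hm.mQ m' hm'.mQ
    obtain ⟨b, hb⟩ := hf.mul_zp (D.Q.mul_mem hm.mQ hm'.mQ) (k + D.b m' (f m))
    rw [mul_assoc (m * m'), ← D.zp_add] at h1
    refine ⟨_, D.Gm.mul_mem (D.Zh_le_Gm (D.wp_Zh _)) (D.Gm.mul_mem hγ hγ'), _, h1,
      a + b + j + j', ?_⟩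
    have h2 := Gm_act hγ' hm' (hf.Q m hm.mQ)
    have hzc : ∀ i, D.zp i * (γ' * f m') = γ' * f m' * D.zp i := fun i =>
      (zpc (D.Qh.mul_mem (D.Gm_le_Qh hγ') (D.Q_le_Qh (hf.Q m' hm'.mQ))) i).symm
    rw [hb, ha]
    calc γ * f m * D.zp j * (γ' * f m' * D.zp j')
        = γ * f m * (D.zp j * (γ' * f m')) * D.zp j' := by group
      _ = γ * (f m * γ' * (D.wp (D.b m' (f m)) * D.wp (D.b m' (f m)))) * f m' * D.zp j *
            D.zp j' := by rw [hzc, D.wp_sq]; group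
      _ = γ * (f m * γ' * D.wp (D.b m' (f m))) * D.wp (D.b m' (f m)) * f m' * D.zp j *
            D.zp j' := by group
      _ = (γ * γ') * (f m * D.wp (D.b m' (f m))) * f m' * D.zp j * D.zp j' := by
            rw [← h2]; group
      _ = ((γ * γ') * D.wp (D.b m' (f m))) * f m * f m' * D.zp j * D.zp j' := by
            rw [← D.wp_c (hf.Q m hm.mQ)]; group
      _ = D.wp (D.b m' (f m)) * (γ * γ') * (f m * f m' * ((D.zp a * D.zp b) *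
            (D.zp a * D.zp b))) * D.zp j * D.zp j' := by
            rw [wpc (D.Gm_le_Qh (D.Gm.mul_mem hγ hγ')), ← D.zp_add, D.zp_sq, mul_one]; group
      _ = D.wp (D.b m' (f m)) * (γ * γ') * (f m * f m' * D.zp a * D.zp b) *
            (D.zp a * D.zp b * D.zp j * D.zp j') := by group
      _ = _ := by rw [D.zp_add, D.zp_add, D.zp_add]
  inv_mem' := by
    rintro u ⟨γ, hγ, m, hm, j, rfl⟩
    obtain ⟨k, hk⟩ := hm.inv
    have hmk : m⁻¹ * D.zp k ∈ D.Q := hk.mQ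
    have h1 := hk.wpmul (D.b (m⁻¹ * D.zp k) (f m)⁻¹)
    obtain ⟨a, ha⟩ := hf.inv hm.mQ
    obtain ⟨b, hb⟩ := hf.mul_zp (D.Q.inv_mem hm.mQ) (k + D.b (m⁻¹ * D.zp k) (f m)⁻¹)
    rw [mul_assoc m⁻¹ (D.zp k), ← D.zp_add] at h1
    refine ⟨_, D.Gm.mul_mem (D.Zh_le_Gm (D.wp_Zh _)) (D.Gm.inv_mem hγ), _, h1, a + b + j, ?_⟩
    have hfm := D.Q.inv_mem (hf.Q m hm.mQ)
    have h2 := Gm_act (D.Gm.inv_mem hγ) hk hfm
    rw [hb, ha]
    obtain ⟨e, he⟩ : ∃ e, e = D.b (m⁻¹ * D.zp k) (f m)⁻¹ := ⟨_, rfl⟩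
    rw [← he] at h2 ⊢
    calc (γ * f m * D.zp j)⁻¹ = (D.zp j)⁻¹ * ((f m)⁻¹ * γ⁻¹ * (D.wp e * D.wp e)) := by
          rw [D.wp_sq]; group
      _ = (D.zp j)⁻¹ * ((f m)⁻¹ * γ⁻¹ * D.wp e) * D.wp e := by group
      _ = D.zp j * γ⁻¹ * ((f m)⁻¹ * D.wp e) := by
          rw [← h2, inv_eq_of_mul_eq_one_left (D.zp_sq j)]; group
      _ = D.zp j * (γ⁻¹ * D.wp e) * (f m)⁻¹ := by rw [← D.wp_c hfm]; group
      _ = (D.zp j * (D.wp e * γ⁻¹ * (f m)⁻¹)) := by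
          rw [wpc (D.Gm_le_Qh (D.Gm.inv_mem hγ))]; group
      _ = (D.wp e * γ⁻¹ * (f m)⁻¹) * D.zp j := by
          rw [zpc (D.Qh.mul_mem (D.Qh.mul_mem (D.wp_Qh e) (D.Gm_le_Qh (D.Gm.inv_mem hγ)))
            (D.Q_le_Qh hfm))]
      _ = D.wp e * γ⁻¹ * ((f m)⁻¹ * ((D.zp a * D.zp b) * (D.zp a * D.zp b))) * D.zp j := by
          rw [← D.zp_add, D.zp_sq, mul_one]
      _ = D.wp e * γ⁻¹ * ((f m)⁻¹ * D.zp a * D.zp b) * (D.zp a * D.zp b * D.zp j) := by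
          group
      _ = _ := by rw [D.zp_add, D.zp_add]

variable {f : G → G} {hf : D.IsLam f}

theorem mem_tw {u : G} : u ∈ D.tw f hf ↔
    ∃ γ ∈ D.Gm, ∃ m, D.Good γ m ∧ ∃ j, u = γ * f m * D.zp j := Iff.rfl

theorem tw_le : D.tw f hf ≤ D.Qh := by
  rintro u ⟨γ, hγ, m, hm, j, rfl⟩
  exact D.Qh.mul_mem (D.Qh.mul_mem (D.Gm_le_Qh hγ) (D.Q_le_Qh (hf.Q m hm.mQ))) (D.zp_Qh j)

theorem zp_tw (i : ZMod 2) : D.zp i ∈ D.tw f hf := by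
  obtain ⟨j, hj⟩ := hf.one
  exact ⟨1, D.Gm.one_mem, 1, Good.of_Q D D.Q.one_mem, j + i, by
    rw [hj, one_mul, D.zp_add, ← mul_assoc, D.zp_sq, one_mul]⟩

theorem Zh_le_tw : D.Zh ≤ D.tw f hf := by
  rintro u ⟨i, j, rfl⟩
  obtain ⟨k, hk⟩ := hf.zp i
  exact ⟨D.wp i * D.zp j, D.Zh_le_Gm (D.wpzp_mem i j), D.zp i, Good.of_Zh D i j, k, by
    rw [hk, mul_assoc, D.zp_sq, mul_one]⟩

theorem g_tw {x : G} (hx : D.IsX x) : D.g x * f x ∈ D.tw f hf :=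
  ⟨D.g x, hx.gGm, x, Good.of_g D hx, 0, by simp⟩

/-- Normal in `Q̂`. -/
theorem conj_tw {u v : G} (hu : u ∈ D.Qh) (hv : v ∈ D.tw f hf) : u * v * u⁻¹ ∈ D.tw f hf := by
  obtain ⟨ζ, hζ, h⟩ := comm_Qh hu (tw_le hv)
  have h1 : u * v * u⁻¹ = v * ζ := by
    rw [h, mul_assoc v, Zhc hu hζ]; group
  rw [h1]
  exact mul_mem hv (Zh_le_tw hζ)

/-- The commutators between two twisted subgroups. -/
theorem tw_comm {ε : ZMod 2} (hε : ∀ m ∈ D.Q, ∀ n ∈ D.Q, D.B m n = ε * D.b m n) {f' : G → G}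
    (hf : D.IsLam f) (hf' : D.IsLam f') {γ γ' m m' : G} (hγ : γ ∈ D.Gm) (hm : D.Good γ m)
    (hγ' : γ' ∈ D.Gm) (hm' : D.Good γ' m') (j j' : ZMod 2) :
    (γ * f m * D.zp j) * (γ' * f' m' * D.zp j') = (γ' * f' m' * D.zp j') * (γ * f m * D.zp j) *
      D.wp (D.b m m' + D.b m' (f m) + D.b m (f' m')) *
      D.zp (ε * D.b m m' + D.b (f m) (f' m')) := by
  have hz : ∀ i, ∀ v ∈ D.Qh, D.zp i * v = v * D.zp i := fun i v hv => (zpc hv i).symm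
  have hQ := hf.Q m hm.mQ
  have hQ' := hf'.Q m' hm'.mQ
  have hGQ : γ * f m ∈ D.Qh := D.Qh.mul_mem (D.Gm_le_Qh hγ) (D.Q_le_Qh hQ)
  have hGQ' : γ' * f' m' ∈ D.Qh := D.Qh.mul_mem (D.Gm_le_Qh hγ') (D.Q_le_Qh hQ')
  have h1 := B_spec hγ hγ' hm hm'
  rw [hε m hm.mQ m' hm'.mQ] at h1
  have h2 := Gm_act hγ' hm' hQ
  have h3 := Gm_act hγ hm hQ'
  have h4 := D.b_spec hQ hQ'
  obtain ⟨a, ha⟩ : ∃ a, a = D.b m m' := ⟨_, rfl⟩
  obtain ⟨b, hb⟩ : ∃ b, b = D.b m' (f m) := ⟨_, rfl⟩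
  obtain ⟨c, hc⟩ : ∃ c, c = D.b m (f' m') := ⟨_, rfl⟩
  obtain ⟨d, hd⟩ : ∃ d, d = D.b (f m) (f' m') := ⟨_, rfl⟩
  rw [← ha] at h1
  rw [← hb] at h2
  rw [← hc] at h3
  rw [← hd] at h4
  rw [← ha, ← hb, ← hc, ← hd]
  obtain ⟨q, hq⟩ : ∃ q, q = f m := ⟨_, rfl⟩
  obtain ⟨q', hq'⟩ : ∃ q', q' = f' m' := ⟨_, rfl⟩
  rw [← hq] at hQ hGQ h2 h4 ⊢
  rw [← hq'] at hQ' hGQ' h3 h4 ⊢
  have hγQ := D.Gm_le_Qh hγ
  have hγQ' := D.Gm_le_Qh hγ'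
  -- the core computation
  have core : (γ * q) * (γ' * q') = (γ' * q') * (γ * q) * (D.wp (a + b + c) * D.zp (ε * a + d)) := by
    have h2' : q * γ' = γ' * q * D.wp b := by
      rw [h2, mul_assoc, D.wp_sq, mul_one]
    have h3' : γ * q' * D.wp c = q' * γ := by
      rw [h3, mul_assoc, D.wp_sq, mul_one]
    have wq : ∀ i, ∀ v ∈ D.Qh, D.wp i * v = v * D.wp i := fun i v hv => (wpc hv i).symm
    have e1 : (γ' * q') * (γ * q) = γ' * γ * q' * q * D.wp c := by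
      calc (γ' * q') * (γ * q) = γ' * (q' * γ) * q := by group
        _ = γ' * γ * q' * (D.wp c * q) := by rw [← h3']; group
        _ = _ := by rw [D.wp_c hQ]; group
    rw [e1]
    calc (γ * q) * (γ' * q') = γ * (q * γ') * q' := by group
      _ = (γ * γ') * q * (D.wp b * q') := by rw [h2']; group
      _ = γ' * γ * (D.wp a * D.zp (ε * a)) * (q * q') * D.wp b := by
          rw [h1, D.wp_c hQ']; group
      _ = γ' * γ * ((D.wp a * D.zp (ε * a)) * (q' * q)) * (D.zp d * D.wp b) := by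
          rw [h4]; group
      _ = γ' * γ * ((q' * q) * (D.wp a * D.zp (ε * a))) * (D.wp b * D.zp d) := by
          rw [D.zp_wp d b, ← Zhc (D.Q_le_Qh (D.Q.mul_mem hQ' hQ)) (D.wpzp_mem _ _)]
      _ = γ' * γ * q' * q * (D.wp a * (D.zp (ε * a) * D.wp b) * D.zp d) := by group
      _ = γ' * γ * q' * q * (D.wp c * D.wp c) * (D.wp a * D.wp b * D.zp (ε * a) * D.zp d) := by
          rw [D.zp_wp, D.wp_sq]; group
      _ = γ' * γ * q' * q * D.wp c * ((D.wp c * (D.wp a * D.wp b)) * (D.zp (ε * a) * D.zp d)) := by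
          group
      _ = _ := by rw [← D.wp_add, ← D.wp_add, ← D.zp_add, add_comm c (a + b)]
  calc (γ * q * D.zp j) * (γ' * q' * D.zp j') = γ * q * (D.zp j * (γ' * q')) * D.zp j' := by group
    _ = ((γ * q) * (γ' * q')) * (D.zp j * D.zp j') := by rw [hz j _ hGQ']; group
    _ = (γ' * q') * (γ * q) * ((D.wp (a + b + c) * D.zp (ε * a + d)) * (D.zp j * D.zp j')) := by
        rw [core]; group
    _ = (γ' * q') * (γ * q) * ((D.zp j' * D.zp j) * (D.wp (a + b + c) * D.zp (ε * a + d))) := by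
        rw [D.zz_comm j j', Zhc (D.Zh_le_Qh (D.wpzp_mem _ _))
          (D.Zh.mul_mem (D.zp_Zh j') (D.zp_Zh j))]
    _ = (γ' * q') * ((γ * q) * D.zp j') * D.zp j * (D.wp (a + b + c) * D.zp (ε * a + d)) := by
        group
    _ = _ := by rw [← hz j' _ hGQ]; group

/-- The squares in a twisted subgroup. -/
theorem tw_sq {ε : ZMod 2} (hε : ∀ m ∈ D.Q, ∀ n ∈ D.Q, D.B m n = ε * D.b m n)
    (hf : D.IsLam f) {γ m : G} (hγ : γ ∈ D.Gm) (hm : D.Good γ m) (j : ZMod 2) :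
    (γ * f m * D.zp j) * (γ * f m * D.zp j) =
      D.wp (D.s m + D.b m (f m)) * D.zp (ε * D.s m + D.s (f m)) := by
  have hQ := hf.Q m hm.mQ
  have hGQ : γ * f m ∈ D.Qh := D.Qh.mul_mem (D.Gm_le_Qh hγ) (D.Q_le_Qh hQ)
  have h1 := sq_Gm hε hγ hm
  have h3 := Gm_act hγ hm hQ
  have h3' : f m * γ = γ * f m * D.wp (D.b m (f m)) := by rw [h3, mul_assoc, D.wp_sq, mul_one]
  calc (γ * f m * D.zp j) * (γ * f m * D.zp j) = γ * f m * (D.zp j * (γ * f m)) * D.zp j := by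
        group
    _ = γ * (f m * γ) * f m * (D.zp j * D.zp j) := by rw [← zpc hGQ]; group
    _ = (γ * γ) * f m * (D.wp (D.b m (f m)) * f m) := by rw [h3', D.zp_sq]; group
    _ = (γ * γ) * (f m * f m) * D.wp (D.b m (f m)) := by rw [D.wp_c hQ]; group
    _ = D.wp (D.s m) * D.zp (ε * D.s m) * (D.zp (D.s (f m)) * D.wp (D.b m (f m))) := by
        rw [h1, D.s_spec hQ]; group
    _ = D.wp (D.s m) * (D.zp (ε * D.s m) * D.wp (D.b m (f m))) * D.zp (D.s (f m)) := by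
        rw [D.zp_wp]; group
    _ = _ := by rw [D.zp_wp, D.wp_add, D.zp_add]; group

/-- Normal form for the elements of a twisted subgroup. -/
theorem tw_eq {u m : G} (hu : u ∈ D.tw f hf) (hm : D.Good u m) :
    ∃ j, u = D.ga m * f m * D.zp j := by
  obtain ⟨γ, hγ, m', hm', j, rfl⟩ := hu
  have h1 : D.Good (γ * f m' * D.zp j) m' := (hm'.mul_Q (hf.Q m' hm'.mQ)).mul_Q (D.zp_mem j)
  have h2 := hm.unique h1
  subst h2
  obtain ⟨k, hk⟩ := (D.ga_good hm.mQ).diff_z hm' (D.ga_Gm hm.mQ) hγ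
  refine ⟨k + j, ?_⟩
  rw [hk, D.zp_add, mul_assoc (D.ga m), D.zp_c (hf.Q m hm.mQ)]
  group

theorem card_tw : Nat.card (D.tw f hf) = Nat.card D.Q * 2 := by
  classical
  have h2 : Nat.card (ZMod 2) = 2 := by simp
  conv_rhs => rw [← h2]
  rw [← Nat.card_prod]
  symm
  have hgood : ∀ q : D.Q, ∀ i, D.Good (D.ga q * f q * D.zp i) q := fun q i =>
    ((D.ga_good q.2).mul_Q (hf.Q _ q.2)).mul_Q (D.zp_mem i)
  refine Nat.card_congr (Equiv.ofBijective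
    (fun p : D.Q × ZMod 2 => (⟨D.ga p.1 * f p.1 * D.zp p.2, ⟨D.ga p.1, D.ga_Gm p.1.2, p.1,
      D.ga_good p.1.2, p.2, rfl⟩⟩ : D.tw f hf)) ⟨?_, ?_⟩)
  · rintro ⟨m, i⟩ ⟨m', i'⟩ h
    have h0 : D.ga m * f m * D.zp i = D.ga m' * f m' * D.zp i' := congrArg Subtype.val h
    have h1 := hgood m i
    have h2 := hgood m' i'
    rw [h0] at h1
    have h3 : m = m' := Subtype.ext (h1.unique h2)
    subst h3
    have h4 : i = i' := D.zp_inj (mul_left_cancel h0)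
    rw [h4]
  · rintro ⟨u, hu⟩
    obtain ⟨m, hm⟩ := exists_good (tw_le hu)
    obtain ⟨j, hj⟩ := tw_eq hu hm
    exact ⟨⟨⟨m, hm.mQ⟩, j⟩, Subtype.ext hj.symm⟩

end Cfsg.Agent.UFiveTwo.Hat
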