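import Mathlib
import Cfsg.Agent.UFiveTwo.QHatTw

set_option autoImplicit false

/-!
# S1778, type `U5(2)`, section 6: the world `ε = 1`

`A₁ = {γ(m) σ(m) z ^ j}` and `A₄ = {γ(m) σ²(m) z ^ j} = t A₁ t` are elementary abelian of order
`2 |Q|`, normal in `Q̂`, invariant under `C`, `A₁ ⊓ A₄ = Ẑ`, `A₁ ⊔ A₄ = Q̂`.
-/

namespace Cfsg.Agent.UFiveTwo.HatC

open Subgroup Hat

variable {G : Type*} [Group G] (D : HatC G)

theorem isLam_σ : D.IsLam D.σ where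
  Q := fun _ hq => D.σ_Q hq
  mul := fun q _ r _ => ⟨0, by rw [D.σ_mul, zp_zero, mul_one]⟩
  z := ⟨1, by
    have h := D.σ_zp 1
    rw [zp_one] at h ⊢
    exact h⟩

theorem isLam_σσ : D.IsLam (fun q => D.σ (D.σ q)) where
  Q := fun _ hq => D.σ_Q (D.σ_Q hq)
  mul := fun q _ r _ => ⟨0, by rw [D.σ_mul, D.σ_mul, zp_zero, mul_one]⟩
  z := ⟨1, by
    have h := D.σ_zp 1
    rw [zp_one] at h ⊢
    show D.σ (D.σ D.z) = D.z
    rw [h, h]⟩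

/-- An element of `Q` fixed by `σ` modulo `⟨z⟩` is in `⟨z⟩`. -/
theorem eq_zp_of_σ {q : G} (hq : q ∈ D.Q) {j : ZMod 2} (h : D.σ q = q * D.zp j) :
    ∃ i, q = D.zp i := by
  obtain ⟨i, hi⟩ := D.norm_Q hq
  have h1 : D.σ (D.σ q) = q * D.zp j * D.zp j := by rw [h, D.σ_mul, h, D.σ_zp]
  rw [h1, h] at hi
  have h2 : q * (q * D.zp j) * (q * D.zp j * D.zp j) = (q * q) * q * D.zp j := by
    rw [mul_assoc q (D.zp j) (D.zp j), D.zp_sq, mul_one, mul_assoc q (q * D.zp j) q,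
      mul_assoc q (D.zp j) q, D.zp_c hq]
    group
  rw [h2, D.s_spec hq] at hi
  refine ⟨D.s q + (i + j), ?_⟩
  calc q = D.zp (D.s q) * (D.zp (D.s q) * q * D.zp j) * D.zp j := by
        rw [mul_assoc (D.zp (D.s q)) q, ← mul_assoc (D.zp (D.s q)) (D.zp (D.s q)), D.zp_sq, one_mul,
          mul_assoc, D.zp_sq, mul_one]
    _ = _ := by rw [hi, D.zp_add, D.zp_add, mul_assoc]

theorem b_eq_σ (m m' : G) : D.b m (D.σ m') = D.b (D.σ (D.σ m)) m' := by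
  rw [D.b_symm m, D.b_adj, D.b_symm]

theorem b_eq_σσ (m m' : G) : D.b m (D.σ (D.σ m')) = D.b (D.σ m) m' := (D.b_adj m m').symm

variable [Finite D.Q]

/-- The subgroup `A₁`. -/
def A1 : Subgroup G := D.tw D.σ D.isLam_σ

/-- The subgroup `A₄`. -/
def A4 : Subgroup G := D.tw (fun q => D.σ (D.σ q)) D.isLam_σσ

theorem A1_le : D.A1 ≤ D.Qh := tw_le

theorem A4_le : D.A4 ≤ D.Qh := tw_le

theorem Zh_le_A1 : D.Zh ≤ D.A1 := Zh_le_tw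

theorem Zh_le_A4 : D.Zh ≤ D.A4 := Zh_le_tw

theorem card_A1 : Nat.card D.A1 = Nat.card D.Q * 2 := card_tw

theorem card_A4 : Nat.card D.A4 = Nat.card D.Q * 2 := card_tw

theorem g_A1 {x : G} (hx : D.IsX x) : D.g x * D.σ x ∈ D.A1 := g_tw hx

theorem g_A4 {x : G} (hx : D.IsX x) : D.g x * D.σ (D.σ x) ∈ D.A4 :=
  g_tw (hf := D.isLam_σσ) hx

theorem conj_A1 {u v : G} (hu : u ∈ D.Qh) (hv : v ∈ D.A1) : u * v * u⁻¹ ∈ D.A1 := conj_tw hu hv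

theorem conj_A4 {u v : G} (hu : u ∈ D.Qh) (hv : v ∈ D.A4) : u * v * u⁻¹ ∈ D.A4 := conj_tw hu hv

/-- `A₁` is invariant under `C`. -/
theorem C_A1 {c v : G} (hc : c ∈ D.C) (hv : v ∈ D.A1) : c * v * c⁻¹ ∈ D.A1 := by
  obtain ⟨γ, hγ, m, hm, j, rfl⟩ := hv
  obtain ⟨k, hk⟩ := D.zp_or (D.hc c hc m hm.mQ)
  refine ⟨c * γ * c⁻¹, D.conj_Gm hc hγ, c * m * c⁻¹, D.good_conj hc hm, k + j, ?_⟩
  calc c * (γ * D.σ m * D.zp j) * c⁻¹ = (c * γ * c⁻¹) * (c * (D.h * m * D.h⁻¹) * c⁻¹) *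
        (c * D.zp j * c⁻¹) := by rw [σ_def]; group
    _ = _ := by rw [hk, D.conj_zp hc, D.zp_add, σ_def]; group

/-- `A₄` is invariant under `C`. -/
theorem C_A4 {c v : G} (hc : c ∈ D.C) (hv : v ∈ D.A4) : c * v * c⁻¹ ∈ D.A4 := by
  obtain ⟨γ, hγ, m, hm, j, rfl⟩ := hv
  obtain ⟨k, hk⟩ := D.zp_or (D.hc c hc m hm.mQ)
  obtain ⟨l, hl⟩ := D.zp_or (D.hc c hc _ (D.σ_Q hm.mQ))
  refine ⟨c * γ * c⁻¹, D.conj_Gm hc hγ, c * m * c⁻¹, D.good_conj hc hm, k + l + j, ?_⟩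
  have h1 : c * D.σ (D.σ m) * c⁻¹ = D.σ (D.σ (c * m * c⁻¹)) * D.zp (k + l) := by
    calc c * D.σ (D.σ m) * c⁻¹ = c * (D.h * D.σ m * D.h⁻¹) * c⁻¹ := by rw [σ_def]
      _ = D.h * (c * D.σ m * c⁻¹) * D.h⁻¹ * D.zp l := hl
      _ = D.σ (c * (D.h * m * D.h⁻¹) * c⁻¹) * D.zp l := rfl
      _ = D.σ (D.σ (c * m * c⁻¹) * D.zp k) * D.zp l := by rw [hk]; rfl
      _ = _ := by rw [D.σ_mul, D.σ_zp, D.zp_add, mul_assoc]
  calc c * (γ * D.σ (D.σ m) * D.zp j) * c⁻¹ = (c * γ * c⁻¹) * (c * D.σ (D.σ m) * c⁻¹) *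
        (c * D.zp j * c⁻¹) := by group
    _ = (c * γ * c⁻¹) * D.σ (D.σ (c * m * c⁻¹)) * (D.zp (k + l) * D.zp j) := by
        rw [h1, D.conj_zp hc]; group
    _ = _ := by rw [← D.zp_add]

/-- `t` interchanges `A₁` and `A₄`. -/
theorem t_A1 {v : G} (hv : v ∈ D.A1) : D.t * v * D.t ∈ D.A4 := by
  obtain ⟨γ, hγ, m, hm, j, rfl⟩ := hv
  have h1 := Gm_t hm
  obtain ⟨i, hi⟩ := D.norm_Q hm.mQ
  have hQ1 := D.σ_Q hm.mQ
  have hQ2 := D.σ_Q hQ1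
  -- `m σm = zp σσm⁻¹`
  have h2 : D.t * (γ * D.σ m * D.zp j) * D.t = m * D.wp (D.s m) * γ * D.σ m * D.zp j := by
    calc D.t * (γ * D.σ m * D.zp j) * D.t = D.t * γ * (D.σ m * (D.zp j * D.t)) := by group
      _ = D.t * γ * (D.σ m * D.t) * D.zp j := by rw [D.zp_t]; group
      _ = D.t * (γ * D.t) * D.σ m * D.zp j := by rw [← D.tQ _ hQ1]; group
      _ = (D.t * D.t) * m * D.wp (D.s m) * γ * D.σ m * D.zp j := by rw [h1]; group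
      _ = _ := by rw [D.tt, one_mul]
  have h3 : γ * m = m * γ := by
    have h := Gm_act hγ hm hm.mQ
    rwa [b_self, wp_zero, mul_one] at h
  have h4 : m * D.wp (D.s m) * γ * D.σ m * D.zp j =
      (γ * D.wp (D.s m)) * (m * D.σ m) * D.zp j := by
    calc m * D.wp (D.s m) * γ * D.σ m * D.zp j = m * (D.wp (D.s m) * γ) * D.σ m * D.zp j := by
          group
      _ = (m * γ) * D.wp (D.s m) * D.σ m * D.zp j := by rw [← wpc (D.Gm_le_Qh hγ)]; group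
      _ = γ * (m * D.wp (D.s m)) * D.σ m * D.zp j := by rw [← h3]; group
      _ = _ := by rw [← D.wp_c hm.mQ]; group
  -- `m σm = σσm z^k`
  obtain ⟨k, hk⟩ : ∃ k, m * D.σ m = D.σ (D.σ m) * D.zp k := by
    refine ⟨i + D.s m, ?_⟩
    have h5 : D.σ (D.σ m) * D.σ (D.σ m) = D.zp (D.s m) := by
      rw [D.s_spec hQ2, D.s_σ, D.s_σ]
    calc m * D.σ m = m * D.σ m * (D.σ (D.σ m) * D.σ (D.σ m)) * D.zp (D.s m) := by
          rw [h5, mul_assoc, D.zp_sq, mul_one]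
      _ = (m * D.σ m * D.σ (D.σ m)) * D.σ (D.σ m) * D.zp (D.s m) := by group
      _ = D.σ (D.σ m) * (D.zp i * D.zp (D.s m)) := by rw [hi, D.zp_c hQ2]; group
      _ = _ := by rw [D.zp_add]
  -- the new `m`
  have hg : D.Good (γ * D.wp (D.s m)) (m * D.zp (D.s m)) := by
    have h := hm.wpmul (D.s m)
    rwa [← wpc (D.Gm_le_Qh hγ)] at h
  refine ⟨γ * D.wp (D.s m), D.Gm.mul_mem hγ (D.Zh_le_Gm (D.wp_Zh _)), _, hg,
    D.s m + (k + j), ?_⟩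
  show D.t * (γ * D.σ m * D.zp j) * D.t =
    γ * D.wp (D.s m) * D.σ (D.σ (m * D.zp (D.s m))) * D.zp (D.s m + (k + j))
  rw [h2, h4, hk, D.σ_mul, D.σ_mul, D.σ_zp, D.σ_zp]
  calc γ * D.wp (D.s m) * (D.σ (D.σ m) * D.zp k) * D.zp j =
      γ * D.wp (D.s m) * D.σ (D.σ m) * ((D.zp (D.s m) * D.zp (D.s m)) * (D.zp k * D.zp j)) := by
        rw [D.zp_sq]; group
    _ = γ * D.wp (D.s m) * (D.σ (D.σ m) * D.zp (D.s m)) * (D.zp (D.s m) * (D.zp k * D.zp j)) := by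
        group
    _ = _ := by rw [← D.zp_add k j, ← D.zp_add]

theorem t_A4 {v : G} (hv : v ∈ D.A4) : D.t * v * D.t ∈ D.A1 := by
  -- by counting: `t A₁ t ≤ A₄` with equal orders
  have ht : D.t⁻¹ = D.t := inv_eq_of_mul_eq_one_left D.tt
  have hle : D.A1.map (MulAut.conj D.t).toMonoidHom ≤ D.A4 := by
    rintro _ ⟨u, hu, rfl⟩
    show D.t * u * D.t⁻¹ ∈ D.A4
    rw [ht]; exact D.t_A1 hu
  haveI : Finite D.A4 := by
    apply Nat.finite_of_card_ne_zero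
    rw [D.card_A4]
    exact Nat.mul_ne_zero Nat.card_pos.ne' (by decide)
  have heq : D.A1.map (MulAut.conj D.t).toMonoidHom = D.A4 := by
    apply Subgroup.eq_of_le_of_card_ge hle
    rw [D.card_A4, ← D.card_A1]
    exact (Nat.card_congr (D.A1.equivMapOfInjective _ (MulAut.conj D.t).injective).toEquiv).le
  rw [← heq] at hv
  obtain ⟨u, hu, rfl⟩ := hv
  have h1 : D.t * ((MulAut.conj D.t).toMonoidHom u) * D.t = u := by
    show D.t * (D.t * u * D.t⁻¹) * D.t = u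
    rw [ht]
    calc D.t * (D.t * u * D.t) * D.t = (D.t * D.t) * u * (D.t * D.t) := by group
      _ = u := by rw [D.tt, one_mul, mul_one]
  rw [h1]; exact hu

section one

variable {D} (hε : ∀ m ∈ D.Q, ∀ n ∈ D.Q, D.B m n = D.b m n)

include hε

theorem eps_one : ∀ m ∈ D.Q, ∀ n ∈ D.Q, D.B m n = 1 * D.b m n := fun m hm n hn => by
  rw [one_mul, hε m hm n hn]

theorem A1_comm {u v : G} (hu : u ∈ D.A1) (hv : v ∈ D.A1) : u * v = v * u := by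
  obtain ⟨γ, hγ, m, hm, j, rfl⟩ := hu
  obtain ⟨γ', hγ', m', hm', j', rfl⟩ := hv
  rw [tw_comm (eps_one hε) D.isLam_σ D.isLam_σ hγ hm hγ' hm' j j']
  have h1 : D.b m m' + D.b m' (D.σ m) + D.b m (D.σ m') = 0 := by
    rw [D.b_symm m', D.b_eq_σ]
    exact D.b_norm hm.mQ hm'.mQ
  have h2 : 1 * D.b m m' + D.b (D.σ m) (D.σ m') = 0 := by
    rw [D.σ_b, one_mul]
    rcases zmod2 (D.b m m') with h | h
    · rw [h]; rfl
    · rw [h]; exact one_add_one'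
  rw [h1, h2, wp_zero, zp_zero, mul_one, mul_one]

theorem A4_comm {u v : G} (hu : u ∈ D.A4) (hv : v ∈ D.A4) : u * v = v * u := by
  obtain ⟨γ, hγ, m, hm, j, rfl⟩ := hu
  obtain ⟨γ', hγ', m', hm', j', rfl⟩ := hv
  rw [tw_comm (eps_one hε) D.isLam_σσ D.isLam_σσ hγ hm hγ' hm' j j']
  have h1 : D.b m m' + D.b m' (D.σ (D.σ m)) + D.b m (D.σ (D.σ m')) = 0 := by
    rw [D.b_symm m', D.b_eq_σσ]
    have h := D.b_norm hm.mQ hm'.mQ
    rw [← h]; ring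
  have h2 : 1 * D.b m m' + D.b (D.σ (D.σ m)) (D.σ (D.σ m')) = 0 := by
    rw [D.σ_b, D.σ_b, one_mul]
    rcases zmod2 (D.b m m') with h | h
    · rw [h]; rfl
    · rw [h]; exact one_add_one'
  rw [h1, h2, wp_zero, zp_zero, mul_one, mul_one]

theorem A1_sq {u : G} (hu : u ∈ D.A1) : u * u = 1 := by
  obtain ⟨γ, hγ, m, hm, j, rfl⟩ := hu
  rw [tw_sq (eps_one hε) D.isLam_σ hγ hm j, D.b_σ_self hm.mQ, D.s_σ, one_mul, D.wp_add,
    D.zp_add, D.wp_sq, D.zp_sq, mul_one]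

theorem A4_sq {u : G} (hu : u ∈ D.A4) : u * u = 1 := by
  have h1 := A1_sq hε (D.t_A4 hu)
  have h2 : D.t * u * D.t * (D.t * u * D.t) = D.t * (u * u) * D.t := by
    calc D.t * u * D.t * (D.t * u * D.t) = D.t * u * (D.t * D.t) * u * D.t := by group
      _ = _ := by rw [D.tt]; group
  rw [h2] at h1
  calc u * u = (D.t * D.t) * (u * u) * (D.t * D.t) := by rw [D.tt, one_mul, mul_one]
    _ = D.t * (D.t * (u * u) * D.t) * D.t := by group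
    _ = 1 := by rw [h1, mul_one, D.tt]

end one

/-- `A₁ ⊓ A₄ = Ẑ` -/
theorem A1_inf_A4 : D.A1 ⊓ D.A4 = D.Zh := by
  apply le_antisymm
  · intro u hu
    obtain ⟨h1, h2⟩ := mem_inf.1 hu
    obtain ⟨m, hm⟩ := exists_good (D.A1_le h1)
    obtain ⟨i, hi⟩ := tw_eq h1 hm
    obtain ⟨j, hj⟩ := tw_eq h2 hm
    have hQ1 := D.σ_Q hm.mQ
    have h3 : D.σ (D.σ m) = D.σ m * D.zp (i + j) := by
      rw [hi, mul_assoc, mul_assoc] at hj
      have h4 := mul_left_cancel hj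
      rw [D.zp_add, ← mul_assoc, h4, mul_assoc, D.zp_sq, mul_one]
    obtain ⟨k, hk⟩ := D.eq_zp_of_σ hQ1 h3
    have hmk : m = D.zp k := by
      have h5 : D.σ m = D.σ (D.zp k) := by rw [hk, D.σ_zp]
      have h6 : D.σ (D.σ (D.σ m)) = D.σ (D.σ (D.σ (D.zp k))) := by rw [h5]
      rwa [D.σσσ, D.σσσ] at h6
    subst hmk
    rw [hi, D.σ_zp]
    exact D.Zh.mul_mem (D.Zh.mul_mem (mem_Zh_of_good (D.ga_Gm (D.zp_mem k))
      (D.ga_good (D.zp_mem k))) (D.zp_Zh k)) (D.zp_Zh i)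
  · exact le_inf D.Zh_le_A1 D.Zh_le_A4

/-- `A₁ ⊔ A₄ = Q̂` -/
theorem A1_sup_A4 : D.A1 ⊔ D.A4 = D.Qh := by
  apply le_antisymm (sup_le D.A1_le D.A4_le)
  have hz : ∀ i, D.zp i ∈ D.A1 ⊔ D.A4 := fun i => mem_sup_left (D.Zh_le_A1 (D.zp_Zh i))
  have hQ : D.Q ≤ D.A1 ⊔ D.A4 := by
    intro m hm
    have h1 : D.ga m * D.σ m ∈ D.A1 ⊔ D.A4 := mem_sup_left
      ⟨D.ga m, D.ga_Gm hm, m, D.ga_good hm, 0, by rw [zp_zero, mul_one]⟩
    have h2 : D.ga m * D.σ (D.σ m) ∈ D.A1 ⊔ D.A4 := mem_sup_right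
      ⟨D.ga m, D.ga_Gm hm, m, D.ga_good hm, 0, by rw [zp_zero, mul_one]⟩
    have h3 : (D.σ m)⁻¹ * D.σ (D.σ m) ∈ D.A1 ⊔ D.A4 := by
      have h4 := mul_mem (inv_mem h1) h2
      have h5 : (D.ga m * D.σ m)⁻¹ * (D.ga m * D.σ (D.σ m)) = (D.σ m)⁻¹ * D.σ (D.σ m) := by group
      rwa [h5] at h4
    obtain ⟨i, hi⟩ := D.norm_Q hm
    have hQ1 := D.σ_Q hm
    have h6 : D.σ m * D.σ (D.σ m) ∈ D.A1 ⊔ D.A4 := by
      have h7 : D.σ m * D.σ (D.σ m) = D.zp (D.s m) * ((D.σ m)⁻¹ * D.σ (D.σ m)) := by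
        rw [← D.s_σ, ← D.s_spec hQ1]; group
      rw [h7]
      exact mul_mem (hz _) h3
    have h8 : m⁻¹ = D.σ m * D.σ (D.σ m) * D.zp i := by
      calc m⁻¹ = m⁻¹ * (D.zp i * D.zp i) := by rw [D.zp_sq, mul_one]
        _ = _ := by nth_rewrite 1 [← hi]; group
    have h9 : m⁻¹ ∈ D.A1 ⊔ D.A4 := by
      rw [h8]; exact mul_mem h6 (hz i)
    exact (inv_mem_iff).1 h9
  intro u hu
  obtain ⟨m, hm⟩ := exists_good hu
  obtain ⟨q, hq, h⟩ := exists_Gm_mul hu hm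
  have h1 : D.ga m * D.σ m ∈ D.A1 ⊔ D.A4 := mem_sup_left
    ⟨D.ga m, D.ga_Gm hm.mQ, m, D.ga_good hm.mQ, 0, by rw [zp_zero, mul_one]⟩
  have h2 : u = (D.ga m * D.σ m) * ((D.σ m)⁻¹ * q) := by rw [h]; group
  rw [h2]
  exact mul_mem h1 (hQ (D.Q.mul_mem (D.Q.inv_mem (D.σ_Q hm.mQ)) hq))

end Cfsg.Agent.UFiveTwo.HatC
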