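import Cfsg.Agent.UFiveTwo.BigCardS
import Cfsg.Agent.UFiveTwo.QHatOne

/-!
# S1778, type `U₅(2)`, section 9 (`eps = 1`), (I): the group `A₁` at the point `r 0`
-/

set_option autoImplicit false

namespace Cfsg.Agent.UFiveTwo.Big

open Subgroup Cfsg.Agent.UFiveTwo.Line

universe u

variable {X : Type u} [Group X] {A : Subgroup X} {t : X} {E : Env A t} {w : X → X} {Qh Γ : Subgroup X}

/-- The world `eps = 1`. -/
structure One (E : Env A t) (w : X → X) (Qh Γ A1 : Subgroup X) : Prop extends Ctx E w Qh Γ where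
  A1_le : A1 ≤ Qh
  Zh_A1 : Zh E w ≤ A1
  comm : ∀ u ∈ A1, ∀ v ∈ A1, u * v = v * u
  sq : ∀ u ∈ A1, u * u = 1
  conj : ∀ a ∈ A, a * E.r 0 = E.r 0 * a → ∀ u ∈ A1, a * u * a⁻¹ ∈ A1
  mkA : ∀ c ∈ Γ, ∀ m ∈ E.Q, Ov E w c m → c * E.c0 m ∈ A1
  form : ∀ u ∈ A1, ∃ c ∈ Γ, ∃ m ∈ E.Q, Ov E w c m ∧ u = c * E.c0 m

/-- `eps = 1` or `eps = 0`. -/
theorem exists_one (P : Pts E w) (C : CaseZero E w)
    (hε : ∀ m ∈ E.Q, ∀ n ∈ E.Q, (hatC P C).B m n = (hatC P C).b m n) :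
    One E w (hatC P C).Qh (hatC P C).Gm (hatC P C).A1 := by
  have hfin := finite_Q P C
  have H : Ctx E w (hatC P C).Qh (hatC P C).Gm := { pts := P, zero := C, q := exists_QHat P C }
  have hwp : ∀ i : ZMod 2, (hatC P C).wp i ∈ Zh E w := by
    intro i
    rcases Hat.zmod2 i with rfl | rfl
    · rw [Hat.wp_zero]; exact one_mem _
    · rw [Hat.wp_one]; exact w_Zh
  have hzp : ∀ i : ZMod 2, (hatC P C).zp i ∈ Zh E w := by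
    intro i
    rcases Hat.zmod2 i with rfl | rfl
    · rw [Hat.zp_zero]; exact one_mem _
    · rw [Hat.zp_one]; exact r_Zh
  have hov : ∀ u m, (hatC P C).Good u m → Ov E w u m := by
    intro u m h
    refine ⟨_, hwp ((hatC P C).s m), ?_⟩
    have h1 : u * t * u⁻¹ = t * m * (hatC P C).wp ((hatC P C).s m) := h.t
    rw [h1, mul_assoc]
  refine
    { toCtx := H
      A1_le := (hatC P C).A1_le
      Zh_A1 := Zh_le ((hatC P C).Zh_le_A1 (hatC P C).z_Zh) ((hatC P C).Zh_le_A1 (hatC P C).w_Zh)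
      comm := fun u hu v hv => HatC.A1_comm hε hu hv
      sq := fun u hu => HatC.A1_sq hε hu
      conj := fun a ha har u hu => (hatC P C).C_A1 (mem_inf.2 ⟨ha, mem_centralizer_singleton_iff.2 har⟩) hu
      mkA := ?_
      form := ?_ }
  · intro c hc m hm h
    obtain ⟨m', hm'⟩ := Hat.exists_good ((hatC P C).Gm_le_Qh hc)
    have hm'Q : m' ∈ E.Q := hm'.mQ
    have h1 := H.ov_unique hm hm'Q h (hov _ _ hm')
    rcases h1 with rfl | rfl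
    · exact ⟨c, hc, m, hm', 0, by rw [Hat.zp_zero, mul_one]; rfl⟩
    · refine ⟨c, hc, m', hm', 1, ?_⟩
      rw [Hat.zp_one, E.c0_mul, E.c0_r0, ← mul_assoc]; rfl
  · rintro u ⟨γ, hγ, m, hm, j, rfl⟩
    have hmQ : m ∈ E.Q := hm.mQ
    refine ⟨γ * (hatC P C).zp j, mul_mem hγ ((hatC P C).Zh_le_Gm ((hatC P C).zp_Zh j)), m, hmQ, ?_, ?_⟩
    · have h1 := H.ov_mul hγ (one_mem _) (hov _ _ hm) (H.ov_zh (hzp j))
      rwa [mul_one] at h1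
    · have h2 : (hatC P C).zp j * E.c0 m = E.c0 m * (hatC P C).zp j :=
        (hatC P C).zp_c (E.c0_Q hmQ) j
      have h3 : γ * (hatC P C).zp j * E.c0 m = γ * E.c0 m * (hatC P C).zp j := by
        rw [mul_assoc, h2, ← mul_assoc]
      exact h3.symm

variable {A1 : Subgroup X}

namespace Ctx

variable (H : Ctx E w Qh Γ)

include H

theorem Q_Q_Zh {q q' : X} (hq : q ∈ E.Q) (hq' : q' ∈ E.Q) : ∃ ζ ∈ Zh E w, q * q' * q⁻¹ = q' * ζ := by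
  rcases E.Q_comm q hq q' hq' with h | h
  · exact ⟨1, one_mem _, by rw [mul_one, mul_inv_eq_iff_eq_mul.mp (mul_inv_eq_one.mp h)]; group⟩
  · refine ⟨_, r_Zh, ?_⟩
    have h1 := mul_inv_eq_iff_eq_mul.mp h
    rw [h1, E.Q_r q' hq']

/-- `g q g⁻¹ ∈ q Z^` for `g ∈ Qh` -/
theorem Qh_Q {g q : X} (hg : g ∈ Qh) (hq : q ∈ E.Q) : ∃ ζ ∈ Zh E w, g * q * g⁻¹ = q * ζ := by
  obtain ⟨q', hq', c, hc, rfl⟩ := H.q.gen g hg
  obtain ⟨ζ, hζ, h1⟩ := H.Γ_Q hc hq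
  obtain ⟨ζ', hζ', h2⟩ := H.Q_Q_Zh hq' hq
  refine ⟨ζ' * ζ, mul_mem hζ' hζ, ?_⟩
  have h3 : q' * ζ * q'⁻¹ = ζ := conj_eq (H.Q_Zh hq' hζ)
  calc q' * c * q * (q' * c)⁻¹ = q' * (c * q * c⁻¹) * q'⁻¹ := by group
    _ = (q' * q * q'⁻¹) * (q' * ζ * q'⁻¹) := by rw [h1]; group
    _ = q * (ζ' * ζ) := by rw [h2, h3]; group

theorem qov_mul {g g' m m' : X} (hg : g ∈ Qh) (hm' : m' ∈ E.Q) (h : Ov E w g m) (h' : Ov E w g' m') :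
    Ov E w (g * g') (m * m') := by
  obtain ⟨ζ, hζ, h⟩ := h
  obtain ⟨ζ', hζ', h'⟩ := h'
  obtain ⟨ζ₂, hζ₂, h2⟩ := H.Qh_Q hg hm'
  refine ⟨ζ * ζ₂ * ζ', mul_mem (mul_mem hζ hζ₂) hζ', ?_⟩
  have e1 : g * ζ' * g⁻¹ = ζ' := conj_eq (H.Qh_Zh hg hζ')
  calc g * g' * t * (g * g')⁻¹ = g * (g' * t * g'⁻¹) * g⁻¹ := by group
    _ = (g * t * g⁻¹) * (g * m' * g⁻¹) * (g * ζ' * g⁻¹) := by rw [h']; group
    _ = t * (m * (ζ * m') * ζ₂ * ζ') := by rw [h, h2, e1]; group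
    _ = t * (m * m' * (ζ * ζ₂ * ζ')) := by rw [← H.Q_Zh hm' hζ]; group

theorem qov_inv {g m : X} (hg : g ∈ Qh) (hm : m ∈ E.Q) (h : Ov E w g m) : Ov E w g⁻¹ m⁻¹ := by
  obtain ⟨ζ, hζ, h⟩ := h
  obtain ⟨ζ₂, hζ₂, h2⟩ := H.Qh_Q (inv_mem hg) (inv_mem hm)
  refine ⟨ζ₂ * ζ⁻¹, mul_mem hζ₂ (inv_mem hζ), ?_⟩
  have e1 : g⁻¹ * ζ⁻¹ * g⁻¹⁻¹ = ζ⁻¹ := conj_eq (H.Qh_Zh (inv_mem hg) (inv_mem hζ))
  have e3 : ζ⁻¹ * m⁻¹ = m⁻¹ * ζ⁻¹ := (H.Q_Zh (inv_mem hm) (inv_mem hζ)).symm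
  calc g⁻¹ * t * g⁻¹⁻¹ = g⁻¹ * (t * (m * ζ) * ζ⁻¹ * m⁻¹) * g⁻¹⁻¹ := by group
    _ = g⁻¹ * ((g * t * g⁻¹) * (ζ⁻¹ * m⁻¹)) * g⁻¹⁻¹ := by rw [← h]; group
    _ = t * (g⁻¹ * m⁻¹ * g⁻¹⁻¹) * (g⁻¹ * ζ⁻¹ * g⁻¹⁻¹) := by rw [e3]; group
    _ = t * (m⁻¹ * (ζ₂ * ζ⁻¹)) := by rw [h2, e1]; group

theorem ov_Q {q : X} (hq : q ∈ E.Q) : Ov E w q 1 :=
  ⟨1, one_mem _, by rw [conj_eq (E.t_A q (E.Q_le hq)).symm, mul_one, mul_one]⟩

theorem ov_one : Ov E w 1 1 := ⟨1, one_mem _, by group⟩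

/-- `m` may be changed by `Z^ ∩ Q` -/
theorem ov_r0 {g m : X} (h : Ov E w g m) : Ov E w g (m * E.r 0) := by
  obtain ⟨ζ, hζ, h⟩ := h
  refine ⟨E.r 0 * ζ, mul_mem r_Zh hζ, ?_⟩
  rw [h, mul_assoc m, ← mul_assoc (E.r 0), E.r_sq, one_mul]

theorem t_Zh {ζ : X} (hζ : ζ ∈ Zh E w) : t * ζ * t ∈ Zh E w := by
  rcases H.toC0.mem_Zh hζ with rfl | rfl | rfl | rfl
  · rw [mul_one, E.t_sq]; exact one_mem _
  · rw [H.t_r, mul_assoc, E.t_sq, mul_one]; exact r_Zh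
  · rw [H.t_W_t]; exact mul_mem w_Zh r_Zh
  · have e : t * (E.r 0 * w (E.r 0)) * t = E.r 0 * (t * w (E.r 0) * t) := by
      rw [← mul_assoc, H.t_r]; group
    rw [e, H.t_W_t]; exact mul_mem r_Zh (mul_mem w_Zh r_Zh)

/-- commutators of `Qh` lie in `Z^` -/
theorem Qh_comm {g g' : X} (hg : g ∈ Qh) (hg' : g' ∈ Qh) : ∃ ζ ∈ Zh E w, g * g' * g⁻¹ = g' * ζ := by
  obtain ⟨q', hq', c', hc', rfl⟩ := H.q.gen g' hg'
  obtain ⟨q, hq, c, hc, rfl⟩ := H.q.gen g hg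
  obtain ⟨ζ, hζ, h1⟩ := H.Qh_Q hg hq'
  obtain ⟨ζ₂, hζ₂, h2⟩ := H.Γ_comm hc hc'
  obtain ⟨ζ₃, hζ₃, h3⟩ := H.Γ_Q (inv_mem hc') hq
  rw [inv_inv] at h3
  -- `q c' q⁻¹ = c' (c'⁻¹ q c') q⁻¹ = c' q ζ₃ q⁻¹ = c' ζ₃`
  have h4 : q * c' * q⁻¹ = c' * ζ₃ := by
    calc q * c' * q⁻¹ = c' * (c'⁻¹ * q * c') * q⁻¹ := by group
      _ = c' * (q * ζ₃ * q⁻¹) := by rw [h3]; group
      _ = c' * ζ₃ := by rw [conj_eq (H.Q_Zh hq hζ₃)]
  have h5 : q * ζ₂ * q⁻¹ = ζ₂ := conj_eq (H.Q_Zh hq hζ₂)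
  refine ⟨ζ * ζ₃ * ζ₂, mul_mem (mul_mem hζ hζ₃) hζ₂, ?_⟩
  calc q * c * (q' * c') * (q * c)⁻¹ = ((q * c) * q' * (q * c)⁻¹) * (q * (c * c' * c⁻¹) * q⁻¹) := by group
    _ = q' * ζ * (q * c' * q⁻¹) * (q * ζ₂ * q⁻¹) := by rw [h1, h2]; group
    _ = q' * (ζ * c') * ζ₃ * ζ₂ := by rw [h4, h5]; group
    _ = q' * c' * (ζ * ζ₃ * ζ₂) := by rw [← H.Γ_Zh hc' hζ]; group

theorem exists_qov {g : X} (hg : g ∈ Qh) : ∃ m ∈ E.Q, Ov E w g m := by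
  obtain ⟨q', hq', c, hc, rfl⟩ := H.q.gen g hg
  obtain ⟨m, hm, h⟩ := H.exists_ov hc
  refine ⟨1 * m, mul_mem (one_mem _) hm, H.qov_mul (H.q.Q_le hq') hm (H.ov_Q hq') h⟩

/-- `g` over `m`: conjugation with `D` -/
theorem t_Qh {g : X} (hg : g ∈ Qh) : t * g * t ∈ Qh := by
  obtain ⟨m, hm, ζ, hζ, h⟩ := H.exists_qov hg
  have e : t * g * t = m * ζ * g := by
    calc t * g * t = t * (g * t * g⁻¹) * g := by group
      _ = (t * t) * (m * ζ) * g := by rw [h]; group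
      _ = m * ζ * g := by rw [E.t_sq, one_mul]
  rw [e]
  exact mul_mem (mul_mem (H.q.Q_le hm) (H.Zh_Qh hζ)) hg

theorem Zh_sq {ζ : X} (hζ : ζ ∈ Zh E w) : ζ * ζ = 1 := H.Vs_sq (Zh_le_Vs hζ)

theorem Zh_inv {ζ : X} (hζ : ζ ∈ Zh E w) : ζ⁻¹ = ζ := inv_eq_of_mul_eq_one_left (H.Zh_sq hζ)

end Ctx

namespace One

variable (H : One E w Qh Γ A1)

include H

theorem inv {u : X} (hu : u ∈ A1) : u⁻¹ = u := inv_eq_of_mul_eq_one_left (H.sq u hu)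

/-- elements of `A₁` lie over elements of `Q` -/
theorem exists_A1 {m : X} (hm : m ∈ E.Q) : ∃ u ∈ A1, Ov E w u m := by
  obtain ⟨c, hc, h⟩ := H.exists_ov' hm
  refine ⟨_, H.mkA c hc m hm h, ?_⟩
  have := H.qov_mul (H.q.Γ_le hc) (one_mem _) h (H.ov_Q (E.c0_Q hm))
  rwa [mul_one] at this

theorem form_ov {u : X} (hu : u ∈ A1) : ∃ c ∈ Γ, ∃ m ∈ E.Q, Ov E w c m ∧ Ov E w u m ∧ u = c * E.c0 m := by
  obtain ⟨c, hc, m, hm, h, rfl⟩ := H.form u hu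
  refine ⟨c, hc, m, hm, h, ?_, rfl⟩
  have := H.qov_mul (H.q.Γ_le hc) (one_mem _) h (H.ov_Q (E.c0_Q hm))
  rwa [mul_one] at this

theorem ov_A1 {u : X} (hu : u ∈ A1) : ∃ m ∈ E.Q, Ov E w u m := by
  obtain ⟨c, hc, m, hm, h, h', -⟩ := H.form_ov hu
  exact ⟨m, hm, h'⟩

/-- elements of `A₁` over `V ∩ Q` lie in `V*` -/
theorem mem_Vs_A1 {u v : X} (hu : u ∈ A1) (hv : v ∈ E.V) (hvQ : v ∈ E.Q) (h : Ov E w u v) : u ∈ Vs E w := by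
  obtain ⟨c, hc, m, hm, hov, hov', rfl⟩ := H.form_ov hu
  have hmV : m ∈ E.V := by
    rcases H.ov_unique hm hvQ hov' h with rfl | rfl
    · exact hv
    · exact mul_mem hv (E.r_V 0)
  exact mul_mem (H.mem_Vs_of_ov hc hmV hm hov) (V_le_Vs (E.c0_VQ hmV hm))

/-- elements of `A₁` over `U ∩ Q` lie in `U*` -/
theorem mem_Us_A1 {u v : X} (hu : u ∈ A1) (hv : v ∈ E.U) (hvQ : v ∈ E.Q) (h : Ov E w u v) : u ∈ Us H.toC0 := by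
  obtain ⟨c, hc, m, hm, hov, hov', rfl⟩ := H.form_ov hu
  have hmV : m ∈ E.U := by
    rcases H.ov_unique hm hvQ hov' h with rfl | rfl
    · exact hv
    · exact mul_mem hv (E.r_U 0)
  exact mul_mem (H.Y_Us hc hm hmV hov) (H.U_le_Us (E.c0_U hmV))

/-- elements of `A₁` over `1` lie in `Z^` -/
theorem mem_Zh_A1 {u : X} (hu : u ∈ A1) (h : Ov E w u 1) : u ∈ Zh E w := by
  obtain ⟨c, hc, m, hm, hov, hov', rfl⟩ := H.form_ov hu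
  rcases H.ov_unique hm (one_mem _) hov' h with rfl | rfl
  · have e : E.c0 1 = 1 := by unfold Flag.c0; group
    rw [e, mul_one]; exact H.ov_ker hc hov
  · rw [one_mul] at hov ⊢
    rw [E.c0_r0]
    exact mul_mem (H.ov_ker' hc hov) r_Zh

theorem mem_Zh_A1' {u : X} (hu : u ∈ A1) (h : Ov E w u (E.r 0)) : u ∈ Zh E w := by
  apply H.mem_Zh_A1 hu
  obtain ⟨ζ, hζ, h⟩ := h
  exact ⟨E.r 0 * ζ, mul_mem r_Zh hζ, by rw [one_mul]; exact h⟩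

/-- commutation of `A₁` with `Q` -/
theorem ovcomm {u m : X} (hu : u ∈ A1) (hm : m ∈ E.Q) (h : Ov E w u m) {n : X} (hn : n ∈ E.Q)
    (hun : u * n = n * u) : m * n = n * m ∧ E.c0 m * n = n * E.c0 m := by
  obtain ⟨c, hc, m', hm', hov, hov', rfl⟩ := H.form_ov hu
  have hcm := E.c0_Q hm'
  have hnr := E.Q_r n hn
  have key : m' * n = n * m' ∧ E.c0 m' * n = n * E.c0 m' := by
    have hw : w (E.r 0) ∉ E.Q := fun h => H.wt_ne (E.t_A _ (E.Q_le h)).symm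
    by_cases h1 : m' * n = n * m'
    · have h2 := H.ov_comm hc hm' hov hn h1
      refine ⟨h1, ?_⟩
      have h3 : c * (E.c0 m' * n) = c * (n * E.c0 m') := by
        rw [← mul_assoc, hun, ← mul_assoc, ← h2, mul_assoc]
      exact mul_left_cancel h3
    · exfalso
      have h2 := H.ov_not_comm hc hm' hov hn h1
      have h3 : c * (E.c0 m' * n) = c * (n * w (E.r 0) * E.c0 m') := by
        calc c * (E.c0 m' * n) = n * (c * E.c0 m') := by rw [← mul_assoc, hun]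
          _ = n * (c * (w (E.r 0) * w (E.r 0))) * E.c0 m' := by rw [H.W_sq]; group
          _ = (n * c * w (E.r 0)) * w (E.r 0) * E.c0 m' := by group
          _ = c * (n * w (E.r 0) * E.c0 m') := by rw [← h2]; group
      have h4 := mul_left_cancel h3
      apply hw
      have h5 : w (E.r 0) = n⁻¹ * (E.c0 m' * n) * (E.c0 m')⁻¹ := by rw [h4]; group
      rw [h5]
      exact mul_mem (mul_mem (inv_mem hn) (mul_mem hcm hn)) (inv_mem hcm)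
  rcases H.ov_unique hm' hm hov' h with rfl | rfl
  · exact key
  · rw [E.c0_mul, E.c0_r0] at key
    have hr : E.r 0 * n = n * E.r 0 := hnr.symm
    obtain ⟨k1, k2⟩ := key
    rw [mul_assoc, hr, ← mul_assoc, ← mul_assoc] at k1 k2
    exact ⟨mul_right_cancel k1, mul_right_cancel k2⟩

/-- `A₁` is normal in `Qh` -/
theorem A1_Qh {g u : X} (hg : g ∈ Qh) (hu : u ∈ A1) : g * u * g⁻¹ ∈ A1 := by
  obtain ⟨ζ, hζ, h⟩ := H.Qh_comm hg (H.A1_le hu)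
  rw [h]; exact mul_mem hu (H.Zh_A1 hζ)

/-- `u (t u t) = m ζ` -/
theorem mul_t {u m : X} (hu : u ∈ A1) (hm : m ∈ E.Q) (h : Ov E w u m) : ∃ ζ ∈ Zh E w, u * (t * u * t) = m * ζ := by
  obtain ⟨ζ, hζ, h⟩ := h
  refine ⟨t * ζ * t, H.t_Zh hζ, ?_⟩
  rw [H.inv hu] at h
  have hmt : t * m = m * t := E.t_A m (E.Q_le hm)
  calc u * (t * u * t) = (u * t * u) * t := by group
    _ = t * m * ζ * t := by rw [h]; group
    _ = m * (t * ζ * t) := by rw [hmt]; group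

end One

end Cfsg.Agent.UFiveTwo.Big
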