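import Cfsg.Agent.UFiveTwo.BTwo

/-!
# Sections 3 and 4: the output `Pts` and the two cases
-/

set_option autoImplicit false

namespace Cfsg.Agent.UFiveTwo

open Subgroup Equiv

universe u

set_option maxRecDepth 100000 in
/-- fixed points on `V` of a 3-cycle and of `(0 1)(2 3)`. -/
theorem dec_fix : ∀ s : Fin 5 → ZMod 2,
    (s + (fun x => s ((swap 2 3 * swap 3 4 : Perm (Fin 5)).symm x)) = 0 ∨
      s + (fun x => s ((swap 2 3 * swap 3 4 : Perm (Fin 5)).symm x)) = 1) →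
    (s + (fun x => s ((swap 0 1 * swap 2 3 : Perm (Fin 5)).symm x)) = 0 ∨
      s + (fun x => s ((swap 0 1 * swap 2 3 : Perm (Fin 5)).symm x)) = 1) →
    (s + 0 = 0 ∨ s + 0 = 1) ∨ (s + (Pi.single 0 1 + Pi.single 1 1) = 0 ∨ s + (Pi.single 0 1 + Pi.single 1 1) = 1) := by
  decide +kernel

theorem prod_perm {G : Type u} [Group G] (f : Fin 5 → G) (h : ∀ i j, f i * f j = f j * f i) (σ : Perm (Fin 5)) :
    f (σ 0) * f (σ 1) * f (σ 2) * f (σ 3) * f (σ 4) = f 0 * f 1 * f 2 * f 3 * f 4 := by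
  have hc : IsMulCommutative (closure (Set.range f)) := isMulCommutative_closure (by
    rintro _ ⟨i, rfl⟩ _ ⟨j, rfl⟩
    exact h i j)
  let _ : CommGroup (closure (Set.range f)) := { (inferInstance : Group (closure (Set.range f))) with
    mul_comm := fun a b => hc.is_comm.comm a b }
  let g : Fin 5 → closure (Set.range f) := fun i => ⟨f i, subset_closure ⟨i, rfl⟩⟩
  have h1 : g (σ 0) * g (σ 1) * g (σ 2) * g (σ 3) * g (σ 4) = g 0 * g 1 * g 2 * g 3 * g 4 := by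
    rw [← Fin.prod_univ_five (fun i => g (σ i)), ← Fin.prod_univ_five g]
    exact Equiv.prod_comp σ g
  exact congrArg Subtype.val h1

variable {X : Type u} [Group X] [Finite X] {A : Subgroup X} {t : X}

namespace Env

variable (E : Env A t)

include E

theorem w0_Q {b : X} (hb : b ∈ E.B0) (hk : ∀ κ, IsKlein κ → b * E.l κ = E.l κ * b) {q : X} (hq : q ∈ E.Q) :
    b * q = q * b := by
  obtain ⟨u, hu, σ, hσ, rfl⟩ := E.Q_gen q hq
  rw [← mul_assoc, E.B0_U hb (mem_inf.mp hu).1, mul_assoc, hk σ hσ, ← mul_assoc]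

theorem e_cases {e x : X} (he : e = 1 ∨ e = t) (hx : x = e ∨ x = e * E.r 0) : x * x = 1 ∧
    ∀ a ∈ A, a * E.r 0 = E.r 0 * a → a * x = x * a := by
  have h1 : e * E.r 0 = E.r 0 * e := E.e_V he (E.r_V 0)
  have h2 : ∀ a ∈ A, a * e = e * a := by
    intro a ha
    rcases he with rfl | rfl
    · rw [one_mul, mul_one]
    · exact (E.t_A a ha).symm
  rcases hx with rfl | rfl
  · exact ⟨E.e_sq he, fun a ha _ => h2 a ha⟩
  · refine ⟨?_, fun a ha h => ?_⟩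
    · calc e * E.r 0 * (e * E.r 0) = e * (E.r 0 * e) * E.r 0 := by group
        _ = (e * e) * (E.r 0 * E.r 0) := by rw [← h1]; group
        _ = 1 := by rw [E.e_sq he, E.r_sq, mul_one]
    · rw [← mul_assoc, h2 a ha, mul_assoc, h, ← mul_assoc]

theorem w0_odd {b : X} (hb : b ∈ E.B0) (hbb : b * b = 1) (hbt : b * t * b⁻¹ = t * E.r 0)
    (hQ : ∀ q ∈ E.Q, b * q = q * b) {a : X} (ha : a ∈ A) (har : a * E.r 0 = E.r 0 * a) (ho : Odd (orderOf a)) :
    b * a = a * b := by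
  have hb1 : b⁻¹ = b := inv_eq_of_mul_eq_one_left hbb
  have hat : a * t * a⁻¹ = t := by rw [← E.t_A a ha, mul_inv_cancel_right]
  have hbt' : b⁻¹ * t * b = t * E.r 0 := E.inv_t (E.B0_N1 hb) (E.r_V 0) hbt
  -- `a' = b a b⁻¹` commutes with `t`
  have h1 : b * a * b⁻¹ * t * (b * a * b⁻¹)⁻¹ = t := by
    have hbr : b * E.r 0 * b⁻¹ = E.r 0 := by rw [E.B0_r hb, mul_inv_cancel_right]
    have har' : a * E.r 0 * a⁻¹ = E.r 0 := by rw [har, mul_inv_cancel_right]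
    calc b * a * b⁻¹ * t * (b * a * b⁻¹)⁻¹ = b * (a * (b⁻¹ * t * b) * a⁻¹) * b⁻¹ := by group
      _ = b * (a * (t * E.r 0) * a⁻¹) * b⁻¹ := by rw [hbt']
      _ = b * ((a * t * a⁻¹) * (a * E.r 0 * a⁻¹)) * b⁻¹ := by group
      _ = (b * t * b⁻¹) * (b * E.r 0 * b⁻¹) := by rw [hat, har']; group
      _ = t * (E.r 0 * E.r 0) := by rw [hbt, hbr, mul_assoc]
      _ = t := by rw [E.r_sq, mul_one]
  have h2 : a⁻¹ * (b * a * b⁻¹) * t = t * (a⁻¹ * (b * a * b⁻¹)) := by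
    have h3 : b * a * b⁻¹ * t = t * (b * a * b⁻¹) := by rwa [mul_inv_eq_iff_eq_mul] at h1
    have h4 : a⁻¹ * t = t * a⁻¹ := (E.t_A a⁻¹ (inv_mem ha)).symm
    rw [mul_assoc, h3, ← mul_assoc, h4, mul_assoc]
  have h3 : ∀ q ∈ E.Q, a⁻¹ * (b * a * b⁻¹) * q = q * (a⁻¹ * (b * a * b⁻¹)) := by
    intro q hq
    have hbq : ∀ q ∈ E.Q, b * q * b⁻¹ = q := fun q hq => by rw [hQ q hq, mul_inv_cancel_right]
    have hbq' : ∀ q ∈ E.Q, b⁻¹ * q * b = q := fun q hq => by rw [hb1, hQ q hq, mul_assoc, hbb, mul_one]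
    have h5 : a⁻¹ * (b * a * b⁻¹) * q * (a⁻¹ * (b * a * b⁻¹))⁻¹ = q := by
      calc a⁻¹ * (b * a * b⁻¹) * q * (a⁻¹ * (b * a * b⁻¹))⁻¹
          = a⁻¹ * (b * (a * (b⁻¹ * q * b) * a⁻¹) * b⁻¹) * a := by group
        _ = a⁻¹ * (b * (a * q * a⁻¹) * b⁻¹) * a := by rw [hbq' q hq]
        _ = a⁻¹ * (a * q * a⁻¹) * a := by rw [hbq _ (E.Q_conj a ha har q hq)]
        _ = q := by group
    rwa [mul_inv_eq_iff_eq_mul] at h5
  obtain ⟨e, he, h4⟩ := E.cQ _ h2 h3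
  obtain ⟨h5, h6⟩ := E.e_cases he h4
  set x := a⁻¹ * (b * a * b⁻¹) with hx
  have h7 : b * a * b⁻¹ = a * x := by rw [hx]; group
  have h8 : Commute a x := h6 a ha har
  have h9 : (b * a * b⁻¹) ^ orderOf a = 1 := by
    rw [conj_pow, pow_orderOf_eq_one, mul_one, mul_inv_cancel]
  rw [h7, h8.mul_pow, pow_orderOf_eq_one, one_mul] at h9
  obtain ⟨k, hk⟩ := ho
  rw [hk, pow_succ, pow_mul, pow_two, h5, one_pow, one_mul] at h9
  rw [h9, mul_one, mul_inv_eq_iff_eq_mul] at h7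
  exact h7

theorem exists_w0' : ∃ b ∈ E.B0, b * b = 1 ∧ b * t * b⁻¹ = t * E.r 0 ∧
    ∀ a ∈ A, a * E.r 0 = E.r 0 * a → b * a = a * b := by
  obtain ⟨b, hb, hbb, hbt, hk⟩ := E.exists_w0
  refine ⟨b, hb, hbb, hbt, fun a ha har => ?_⟩
  have h1 : closure {x : X | x ∈ A ⊓ centralizer {E.r 0} ∧ Odd (orderOf x)} ≤ centralizer {b} := by
    rw [closure_le]
    rintro x ⟨hx, ho⟩
    have h2 := mem_inf.mp hx
    exact mem_centralizer_singleton_iff.mpr (E.w0_odd hb hbb hbt (fun q hq => E.w0_Q hb hk hq) h2.1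
      (mem_centralizer_singleton_iff.mp h2.2) ho).symm
  have h3 := h1 (E.D_gen (mem_inf.mpr ⟨ha, mem_centralizer_singleton_iff.mpr har⟩))
  exact (mem_centralizer_singleton_iff.mp h3).symm

/-- The involution over `s`: `a * b * a⁻¹` for `s = a * r 0 * a⁻¹`. -/
theorem exists_w : ∃ (b : X) (w : X → X), b ∈ E.B0 ∧ b * b = 1 ∧ b * t * b⁻¹ = t * E.r 0 ∧
    (∀ a ∈ A, a * E.r 0 = E.r 0 * a → b * a = a * b) ∧ ∀ a ∈ A, w (a * E.r 0 * a⁻¹) = a * b * a⁻¹ := by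
  classical
  obtain ⟨b, hb, hbb, hbt, hD⟩ := E.exists_w0'
  refine ⟨b, fun s => if h : ∃ a ∈ A, s = a * E.r 0 * a⁻¹ then h.choose * b * h.choose⁻¹ else 1, hb, hbb, hbt,
    hD, fun a ha => ?_⟩
  have h : ∃ a' ∈ A, a * E.r 0 * a⁻¹ = a' * E.r 0 * a'⁻¹ := ⟨a, ha, rfl⟩
  beta_reduce
  rw [dif_pos h]
  obtain ⟨hc, hc'⟩ := h.choose_spec
  set c := h.choose
  have h1 : a⁻¹ * c * E.r 0 = E.r 0 * (a⁻¹ * c) := by
    calc a⁻¹ * c * E.r 0 = a⁻¹ * (c * E.r 0 * c⁻¹) * c := by group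
      _ = a⁻¹ * (a * E.r 0 * a⁻¹) * c := by rw [hc']
      _ = _ := by group
  have h2 := hD _ (mul_mem (inv_mem ha) hc) h1
  calc c * b * c⁻¹ = a * (a⁻¹ * c * b) * c⁻¹ := by group
    _ = a * (b * (a⁻¹ * c)) * c⁻¹ := by rw [h2]
    _ = _ := by group

theorem pts_of {b : X} {w : X → X} (hbb : b * b = 1) (hbt : b * t * b⁻¹ = t * E.r 0)
    (hw : ∀ a ∈ A, w (a * E.r 0 * a⁻¹) = a * b * a⁻¹) : Pts E w := by
  have hb1 : b⁻¹ = b := inv_eq_of_mul_eq_one_left hbb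
  have hsq : ∀ a : X, a * b * a⁻¹ * (a * b * a⁻¹) = 1 := by
    intro a
    calc a * b * a⁻¹ * (a * b * a⁻¹) = a * (b * b) * a⁻¹ := by group
      _ = 1 := by rw [hbb, mul_one, mul_inv_cancel]
  have hconj : ∀ a ∈ A, ∀ c ∈ A, c * w (a * E.r 0 * a⁻¹) * c⁻¹ = w (c * (a * E.r 0 * a⁻¹) * c⁻¹) := by
    intro a ha c hc
    have e1 : c * (a * E.r 0 * a⁻¹) * c⁻¹ = (c * a) * E.r 0 * (c * a)⁻¹ := by group
    rw [e1, hw a ha, hw _ (mul_mem hc ha)]
    group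
  refine ⟨fun a ha => by rw [hw a ha]; exact hsq a, fun a ha => ?_, fun a ha c hc h => ?_, hconj⟩
  · have h1 := E.conj_t ha hbt
    rw [hw a ha]
    have h2 : (a * b * a⁻¹)⁻¹ = a * b * a⁻¹ := inv_eq_of_mul_eq_one_left (hsq a)
    rwa [h2] at h1
  · have h1 := hconj a ha c hc
    rw [h, mul_inv_cancel_right, mul_inv_eq_iff_eq_mul] at h1
    exact h1

/-- The two cases. -/
theorem cases_of {b : X} {w : X → X} (hb : b ∈ E.B0) (P : Pts E w)
    (hw : ∀ a ∈ A, w (a * E.r 0 * a⁻¹) = a * b * a⁻¹) : CaseZero E w ∨ CaseOne E w := by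
  have hr : ∀ i, ∃ σ : alternatingGroup (Fin 5), E.r i = E.l σ * E.r 0 * (E.l σ)⁻¹ ∧
      w (E.r i) = E.l σ * b * (E.l σ)⁻¹ := by
    intro i
    obtain ⟨σ, hσ⟩ := exists_trans_one 0 i
    have h1 := E.l_r σ 0
    rw [hσ] at h1
    exact ⟨σ, h1.symm, by rw [← h1]; exact hw _ (E.l_mem σ)⟩
  have wB : ∀ i, w (E.r i) ∈ E.B0 := by
    intro i
    obtain ⟨σ, -, h⟩ := hr i
    rw [h]
    exact E.l_B0 hb σ
  have wS : ∀ i, w (E.r i) * w (E.r i) = 1 := by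
    intro i
    obtain ⟨σ, h, -⟩ := hr i
    rw [h]
    exact P.w_sq _ (E.l_mem σ)
  have wI : ∀ i, (w (E.r i))⁻¹ = w (E.r i) := fun i => inv_eq_of_mul_eq_one_left (wS i)
  have wT : ∀ i, w (E.r i) * t * (w (E.r i))⁻¹ = t * E.r i := by
    intro i
    rw [wI]
    obtain ⟨σ, h, -⟩ := hr i
    rw [h]
    exact P.w_t _ (E.l_mem σ)
  have lw : ∀ (σ : alternatingGroup (Fin 5)) i, E.l σ * w (E.r i) * (E.l σ)⁻¹ = w (E.r ((σ : Perm (Fin 5)) i)) := by
    intro σ i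
    obtain ⟨τ, h, -⟩ := hr i
    rw [← E.l_r, h]
    exact P.w_conj _ (E.l_mem τ) _ (E.l_mem σ)
  have wV : ∀ i, ∀ v ∈ E.V, w (E.r i) * v = v * w (E.r i) := fun i v hv => E.B0_V (wB i) hv
  -- `c₀₁`
  have hc : w (E.r 0) * w (E.r 1) * (w (E.r 0) * w (E.r 1)) ∈ E.V := E.B0_sq (mul_mem (wB 0) (wB 1))
  obtain ⟨s, hs⟩ := E.exists_v hc
  have hl : ∀ (σ : alternatingGroup (Fin 5)) i j,
      E.l σ * (w (E.r i) * w (E.r j) * (w (E.r i) * w (E.r j))) * (E.l σ)⁻¹ =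
      w (E.r ((σ : Perm (Fin 5)) i)) * w (E.r ((σ : Perm (Fin 5)) j)) *
        (w (E.r ((σ : Perm (Fin 5)) i)) * w (E.r ((σ : Perm (Fin 5)) j))) := by
    intro σ i j
    rw [← lw, ← lw]
    group
  have h3 : E.v s = E.v (fun x => s ((swap 2 3 * swap 3 4 : Perm (Fin 5)).symm x)) := by
    have h4 := hl (tw 2 3 3 4 (by decide)) 0 1
    rw [hs, E.l_v] at h4
    rw [← hs]
    exact h4.symm
  have h3' : E.v s = E.v (fun x => s ((swap 0 1 * swap 2 3 : Perm (Fin 5)).symm x)) := by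
    have h4 := hl (tw 0 1 2 3 (by decide)) 0 1
    rw [hs, E.l_v] at h4
    have h5 : w (E.r 1) * w (E.r 0) * (w (E.r 1) * w (E.r 0)) = E.v s := by
      rw [← E.V_inv (E.v_mem s), ← hs]
      simp only [mul_inv_rev, wI, mul_assoc]
    rw [← h5]
    exact h4.symm
  have hcase := dec_fix s (E.v_eq_iff.mp h3) (E.v_eq_iff.mp h3')
  have h01 : w (E.r 0) * w (E.r 1) * (w (E.r 0) * w (E.r 1)) = 1 ∨
      w (E.r 0) * w (E.r 1) * (w (E.r 0) * w (E.r 1)) = E.r 0 * E.r 1 := by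
    rcases hcase with h | h
    · left
      rw [hs, ← E.v_zero]
      exact E.v_eq_iff.mpr h
    · right
      rw [hs, ← E.v_single 0, ← E.v_single 1, ← E.v_add]
      exact E.v_eq_iff.mpr h
  -- the product
  have hPB : w (E.r 0) * w (E.r 1) * w (E.r 2) * w (E.r 3) * w (E.r 4) ∈ E.B0 :=
    mul_mem (mul_mem (mul_mem (mul_mem (wB 0) (wB 1)) (wB 2)) (wB 3)) (wB 4)
  have hPt : w (E.r 0) * w (E.r 1) * w (E.r 2) * w (E.r 3) * w (E.r 4) * t =
      t * (w (E.r 0) * w (E.r 1) * w (E.r 2) * w (E.r 3) * w (E.r 4)) := by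
    have h1 := E.mul_t (E.B0_N1 (wB 0)) (E.r_V 1) (wT 0) (wT 1)
    have h2 := E.mul_t (E.B0_N1 (mul_mem (wB 0) (wB 1))) (E.r_V 2) h1 (wT 2)
    have h3 := E.mul_t (E.B0_N1 (mul_mem (mul_mem (wB 0) (wB 1)) (wB 2))) (E.r_V 3) h2 (wT 3)
    have h4 := E.mul_t (E.B0_N1 (mul_mem (mul_mem (mul_mem (wB 0) (wB 1)) (wB 2)) (wB 3))) (E.r_V 4) h3 (wT 4)
    rw [E.r_prod, mul_one, mul_inv_eq_iff_eq_mul] at h4
    exact h4
  obtain ⟨e, he, v0, hv0, hP⟩ := E.B0_comm hPB hPt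
  have hcij : ∀ i j, i ≠ j → ∃ σ : alternatingGroup (Fin 5), (σ : Perm (Fin 5)) 0 = i ∧ (σ : Perm (Fin 5)) 1 = j :=
    fun i j hij => exists_trans (by decide) hij
  rcases h01 with h01 | h01
  · -- case 0
    left
    have hcomm : ∀ i j, w (E.r i) * w (E.r j) = w (E.r j) * w (E.r i) := by
      intro i j
      by_cases hij : i = j
      · rw [hij]
      · obtain ⟨σ, h5, h6⟩ := hcij i j hij
        have h7 := hl σ 0 1
        rw [h01, mul_one, mul_inv_cancel, h5, h6] at h7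
        have h8 := eq_inv_of_mul_eq_one_left h7.symm
        rw [mul_inv_rev, wI, wI] at h8
        exact h8
    refine ⟨hcomm, ?_⟩
    rcases he with rfl | rfl
    · rw [one_mul] at hP
      by_contra hne
      rw [hP] at hne
      obtain ⟨σ, hσ⟩ := E.exists_moved hv0 hne
      apply hσ
      rw [← hP]
      have h9 := prod_perm (fun i => w (E.r i)) hcomm (σ : Perm (Fin 5))
      rw [← lw, ← lw, ← lw, ← lw, ← lw] at h9
      refine Eq.trans ?_ h9
      group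
    · exfalso
      have h10 : ∀ i, Commute (w (E.r 0)) (w (E.r i)) := fun i => hcomm 0 i
      have h11 : Commute (w (E.r 0)) (w (E.r 0) * w (E.r 1) * w (E.r 2) * w (E.r 3) * w (E.r 4)) :=
        ((((h10 0).mul_right (h10 1)).mul_right (h10 2)).mul_right (h10 3)).mul_right (h10 4)
      rw [hP] at h11
      have h12 : Commute (w (E.r 0)) e := by
        have h13 : Commute (w (E.r 0)) v0 := wV 0 v0 hv0
        have h14 := h11.mul_right h13.inv_right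
        rwa [mul_inv_cancel_right] at h14
      have h15 := wT 0
      rw [h12.eq, mul_inv_cancel_right] at h15
      exact E.r_ne (mul_left_cancel (h15.symm.trans (mul_one e).symm))
  · -- case 1
    right
    have hcomm : ∀ i j, i ≠ j → w (E.r i) * w (E.r j) = w (E.r j) * w (E.r i) * (E.r i * E.r j) := by
      intro i j hij
      obtain ⟨σ, h5, h6⟩ := hcij i j hij
      have h7 := hl σ 0 1
      have h8 : E.l σ * (E.r 0 * E.r 1) * (E.l σ)⁻¹ = E.r i * E.r j := by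
        rw [← h5, ← h6, ← E.l_r σ 0, ← E.l_r σ 1]
        group
      rw [h01, h8, h5, h6] at h7
      have h9 : E.r i * E.r j * (w (E.r j) * w (E.r i)) = w (E.r i) * w (E.r j) := by
        rw [h7]
        calc w (E.r i) * w (E.r j) * (w (E.r i) * w (E.r j)) * (w (E.r j) * w (E.r i))
            = w (E.r i) * w (E.r j) * w (E.r i) * (w (E.r j) * w (E.r j)) * w (E.r i) := by group
          _ = w (E.r i) * w (E.r j) * (w (E.r i) * w (E.r i)) := by rw [wS j]; group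
          _ = _ := by rw [wS i, mul_one]
      rw [← h9]
      exact (E.B0_V (mul_mem (wB j) (wB i)) (mul_mem (E.r_V i) (E.r_V j))).symm
    refine ⟨hcomm, v0, hv0, ?_⟩
    rcases he with rfl | rfl
    · exfalso
      rw [one_mul] at hP
      have hz : ∀ i, E.r i * E.r 0 ∈ E.V := fun i => mul_mem (E.r_V i) (E.r_V 0)
      have h10 := hcomm 1 0 (by decide)
      have h20 := hcomm 2 0 (by decide)
      have h30 := hcomm 3 0 (by decide)
      have h40 := hcomm 4 0 (by decide)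
      have h5 : w (E.r 1) * w (E.r 2) * w (E.r 3) * w (E.r 4) * w (E.r 0) =
          w (E.r 0) * w (E.r 1) * w (E.r 2) * w (E.r 3) * w (E.r 4) *
            ((E.r 1 * E.r 0) * (E.r 2 * E.r 0) * (E.r 3 * E.r 0) * (E.r 4 * E.r 0)) := by
        calc w (E.r 1) * w (E.r 2) * w (E.r 3) * w (E.r 4) * w (E.r 0)
            = w (E.r 1) * w (E.r 2) * w (E.r 3) * (w (E.r 4) * w (E.r 0)) := by group
          _ = w (E.r 1) * w (E.r 2) * (w (E.r 3) * w (E.r 0)) * w (E.r 4) * (E.r 4 * E.r 0) := by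
              rw [h40]; group
          _ = w (E.r 1) * w (E.r 2) * w (E.r 0) * w (E.r 3) * ((E.r 3 * E.r 0) * w (E.r 4)) *
              (E.r 4 * E.r 0) := by rw [h30]; group
          _ = w (E.r 1) * (w (E.r 2) * w (E.r 0)) * w (E.r 3) * w (E.r 4) *
              ((E.r 3 * E.r 0) * (E.r 4 * E.r 0)) := by rw [← wV 4 _ (hz 3)]; group
          _ = w (E.r 1) * w (E.r 0) * w (E.r 2) * ((E.r 2 * E.r 0) * (w (E.r 3) * w (E.r 4))) *
              ((E.r 3 * E.r 0) * (E.r 4 * E.r 0)) := by rw [h20]; group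
          _ = (w (E.r 1) * w (E.r 0)) * w (E.r 2) * w (E.r 3) * w (E.r 4) *
              ((E.r 2 * E.r 0) * (E.r 3 * E.r 0) * (E.r 4 * E.r 0)) := by
              rw [← E.B0_V (mul_mem (wB 3) (wB 4)) (hz 2)]; group
          _ = w (E.r 0) * w (E.r 1) * ((E.r 1 * E.r 0) * (w (E.r 2) * w (E.r 3) * w (E.r 4))) *
              ((E.r 2 * E.r 0) * (E.r 3 * E.r 0) * (E.r 4 * E.r 0)) := by rw [h10]; group
          _ = _ := by
              rw [← E.B0_V (mul_mem (mul_mem (wB 2) (wB 3)) (wB 4)) (hz 1)]; group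
      have h6 : (E.r 1 * E.r 0) * (E.r 2 * E.r 0) * (E.r 3 * E.r 0) * (E.r 4 * E.r 0) = E.r 0 := by
        simp only [← E.v_single, ← E.v_add]
        rw [E.v_eq_iff]
        decide +kernel
      rw [h6, hP] at h5
      have h7 : w (E.r 0) * v0 = v0 * E.r 0 * w (E.r 0) := by
        calc w (E.r 0) * v0 = v0 * w (E.r 0) := wV 0 _ hv0
          _ = w (E.r 0) * w (E.r 1) * w (E.r 2) * w (E.r 3) * w (E.r 4) * w (E.r 0) := by rw [hP]
          _ = w (E.r 0) * (w (E.r 1) * w (E.r 2) * w (E.r 3) * w (E.r 4) * w (E.r 0)) := by group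
          _ = w (E.r 0) * (v0 * E.r 0) := by rw [h5]
          _ = _ := wV 0 _ (mul_mem hv0 (E.r_V 0))
      rw [wV 0 _ hv0] at h7
      have h8 := mul_right_cancel h7
      exact E.r_ne (mul_left_cancel (h8.symm.trans (mul_one v0).symm))
    · rw [hP, mul_assoc, E.V_sq hv0, mul_one]

end Env

/-- Output of sections 3 and 4. -/
theorem exists_pts (E : Env A t) : ∃ w : X → X, Pts E w ∧ (CaseZero E w ∨ CaseOne E w) := by
  obtain ⟨b, w, hb, hbb, hbt, -, hw⟩ := E.exists_w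
  have P := E.pts_of hbb hbt hw
  exact ⟨w, P, E.cases_of hb P hw⟩

end Cfsg.Agent.UFiveTwo
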