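import Cfsg.Agent.UFiveTwo.ZeroPData
import Cfsg.Agent.UFiveTwo.OneDef
import Cfsg.Agent.UFiveTwo.PThree
import Cfsg.Agent.UFiveTwo.NoC1Final
import Cfsg.Agent.UFiveTwo.AutOut
import Cfsg.Agent.StdEven.Red
import Cfsg.Agent.StdEven.CoreQuot
import Cfsg.Agent.UFiveTwo.OneB
import Cfsg.Agent.S0283

/-!
# S1778, type `U₅(2)`: assembly

`StartStmt`: output of sections 1, 2 (`Start.start`); `SplitStmt`: the end of the split case (`ε = 0`); `FieldStmt`: the
end of the field case (`ε = 1`).  `core_of` : these three statements imply `Core TypeU52`.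
-/

set_option autoImplicit false

namespace Cfsg.Agent.UFiveTwo.Assembly

open Cfsg Subgroup Cfsg.Agent.StdEven Cfsg.Agent.StdEven.CoreQuot Cfsg.Agent.StdL2.Setup Cfsg.Agent.StdEven.Red
open Cfsg.Agent.UFiveTwo.Zero Cfsg.Agent.UFiveTwo.Big Cfsg.Agent.WreathFusion

universe u

/-- Data in `X = N_G(O) / O`, output of sections 1 and 2. -/
structure Start {G : Type u} [Group G] [Finite G] (L A T : Subgroup G) (t : G) (h : Hyp A t T)
    (E : Env (im A t A) h.tX) : Prop where
  conf : Conf L A t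
  aut : FlagAut (im A t A) E.toFlag
  out : FlagOut (im A t A) E.toFlag
  geo : FlagGeo (im A t A) E.toFlag
  syl : im A t (T ⊓ A) = E.U ⊔ E.Q
  iso : ∃ (K : Type) (_ : Field K) (_ : Fintype K), Fintype.card K = 4 ∧
    Nonempty (↥(im A t A) ≃* Cfsg.PSU 5 K 2)
  sch : Cfsg.Agent.Schreier.Basic.Sch ↥A

/-- sections 1, 2 -/
def StartStmt : Prop :=
  ∀ (G : Type u) [Group G] [Finite G] (L A : Subgroup G) (t : G), Conf L A t → Odd (Nat.card (center ↥A)) →
    TypeU52 (↥A ⧸ center ↥A) → ∃ (T : Subgroup G) (h : Hyp A t T) (E : Env (im A t A) h.tX), Start L A T t h E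

/-- the end of the split case -/
def SplitStmt : Prop :=
  ∀ (G : Type u) [Group G] [Finite G] (L A T : Subgroup G) (t : G) (h : Hyp A t T) (E : Env (im A t A) h.tX),
    Start L A T t h E → ∀ w, Pts E w → CaseZero E w → ∀ S1, SplitS (im A t A) h.tX (A1 E w) (E.U ⊔ E.Q) S1 →
    PData (S1 ⊔ SplitS.S2 h.tX S1) S1 (SplitS.S2 h.tX S1) (A1 E w) (SplitS.S2 h.tX (A1 E w)) → False

/-- the end of the field case -/
def FieldStmt : Prop :=
  ∀ (G : Type u) [Group G] [Finite G] (L A T : Subgroup G) (t : G) (h : Hyp A t T) (E : Env (im A t A) h.tX),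
    Start L A T t h E → ∀ w (P : Pts E w) (C : CaseZero E w),
    One E w (hatC P C).Qh (hatC P C).Gm (hatC P C).A1 → Concl L t

theorem isSimpleGroup_psu (K : Type) [Field K] [Fintype K] (hK : Fintype.card K = 4) :
    IsSimpleGroup (Cfsg.PSU 5 K 2) :=
  S0283.result (q := 2) (by rw [hK]; norm_num) 5 (by norm_num) (by norm_num)

/-- **Assembly.** -/
theorem core_of (hstart : StartStmt.{u}) (hsplit : SplitStmt.{u}) (hfield : FieldStmt.{u}) :
    Core.{u} (fun Q _ => TypeU52 Q) := by
  intro G _ _ L A t C hZ hty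
  obtain ⟨T, h, E, S⟩ := hstart G L A t C hZ hty
  obtain ⟨w, P, hc⟩ := exists_pts E
  rcases hc with hc | hc
  · obtain ⟨ε, hε⟩ := (hatC P hc).exists_eps
    rcases Hat.zmod2 ε with rfl | rfl
    · exfalso
      obtain ⟨K, i1, i2, hK, ⟨e⟩⟩ := S.iso
      have hs : IsSimpleGroup ↥(im A t A) := by
        have := isSimpleGroup_psu K hK
        exact (MulEquiv.isSimpleGroup_congr e).mpr this
      obtain ⟨S1, h1, h2⟩ := exists_pdata P hc (fun m hm n hn => by rw [hε m hm n hn, zero_mul]) S.geo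
      exact hsplit G L A T t h E S w P hc S1 h1 h2
    · exact hfield G L A T t h E S w P hc (exists_one P hc fun m hm n hn => by
        have := hε m hm n hn
        rw [one_mul] at this
        exact this)
  · exact (NoC1.false_of_caseOne P hc).elim

end Cfsg.Agent.UFiveTwo.Assembly
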