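import Cfsg.Agent.UFiveTwo.BZero

/-!
# `B₀`: moves `t` onto `tV`, centralizes `U`, squares in `V`
-/

set_option autoImplicit false

namespace Cfsg.Agent.UFiveTwo

open Subgroup

universe u

variable {X : Type u} [Group X] [Finite X] {A : Subgroup X} {t : X}

namespace Env

variable (E : Env A t)

include E

theorem B0_N1 {g : X} (hg : g ∈ E.B0) : g ∈ E.N1 := (E.mem_B0.mp hg).1

theorem B0_pow {g : X} (hg : g ∈ E.B0) : g ^ 4 = 1 := (E.mem_B0.mp hg).2

theorem B0_h {g : X} (hg : g ∈ E.B0) : g * E.h = E.h * g := (E.B0_N1 hg).1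

theorem B0_r {g : X} (hg : g ∈ E.B0) (i : Fin 5) : g * E.r i = E.r i * g := (E.B0_N1 hg).2.1 i

theorem B0_V {g v : X} (hg : g ∈ E.B0) (hv : v ∈ E.V) : g * v = v * g := E.comm_V (E.B0_r hg) hv

theorem B0_t {g : X} (hg : g ∈ E.B0) : ∃ v ∈ E.V, g * t * g⁻¹ = t * v := (E.B0_N1 hg).2.2

theorem l_B0 {g : X} (hg : g ∈ E.B0) (σ) : E.l σ * g * (E.l σ)⁻¹ ∈ E.B0 := by
  rw [E.mem_B0] at hg ⊢
  refine ⟨E.l_N1 hg.1 σ, ?_⟩
  rw [conj_pow, hg.2, mul_one, mul_inv_cancel]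

theorem pow_four_of_sq {g : X} (h : g * g = 1) : g ^ 4 = 1 := by
  have : g ^ 4 = (g * g) * (g * g) := by simp only [pow_succ, pow_zero, one_mul, mul_assoc]
  rw [this, h, mul_one]

theorem t_B0 : t ∈ E.B0 := E.mem_B0.mpr ⟨E.t_N1, E.pow_four_of_sq E.t_sq⟩

theorem V_B0 : E.V ≤ E.B0 := fun _ hv => E.mem_B0.mpr ⟨E.V_N1 hv, E.pow_four_of_sq (E.V_sq hv)⟩

theorem mul_t {g g' v v' : X} (hg : g ∈ E.N1) (hv' : v' ∈ E.V) (h : g * t * g⁻¹ = t * v)
    (h' : g' * t * g'⁻¹ = t * v') : g * g' * t * (g * g')⁻¹ = t * (v * v') := by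
  have h4 : g * v' * g⁻¹ = v' := by rw [E.comm_V hg.2.1 hv', mul_inv_cancel_right]
  calc g * g' * t * (g * g')⁻¹ = g * (g' * t * g'⁻¹) * g⁻¹ := by group
    _ = g * (t * v') * g⁻¹ := by rw [h']
    _ = (g * t * g⁻¹) * (g * v' * g⁻¹) := by group
    _ = t * (v * v') := by rw [h, h4, mul_assoc]

theorem inv_t {g v : X} (hg : g ∈ E.N1) (hv : v ∈ E.V) (h : g * t * g⁻¹ = t * v) : g⁻¹ * t * g = t * v := by
  obtain ⟨v', hv', h'⟩ := (inv_mem hg).2.2
  have h1 := E.mul_t hg hv' h h'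
  rw [mul_inv_cancel, one_mul, inv_one, mul_one] at h1
  have h2 : v * v' = 1 := mul_left_cancel (a := t) (by rw [← h1, mul_one])
  have h3 : v' = v := by rw [← E.V_inv hv]; exact eq_inv_of_mul_eq_one_right h2
  rw [h3, inv_inv] at h'
  exact h'

theorem exists_B0_of {v : X} (hv : v ∈ E.V) : ∃ b ∈ E.B0, b * t * b⁻¹ = t * v := by
  let N : Subgroup X :=
    { carrier := {v | v ∈ E.V ∧ ∃ b ∈ E.B0, b * t * b⁻¹ = t * v}
      one_mem' := ⟨one_mem _, 1, one_mem _, by group⟩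
      mul_mem' := by
        rintro v v' ⟨hv, b, hb, h⟩ ⟨hv', b', hb', h'⟩
        exact ⟨mul_mem hv hv', b * b', mul_mem hb hb', E.mul_t (E.B0_N1 hb) hv' h h'⟩
      inv_mem' := by
        rintro v ⟨hv, b, hb, h⟩
        exact ⟨inv_mem hv, b, hb, by rw [E.V_inv hv]; exact h⟩ }
  have hN : ∀ x, x ∈ N ↔ x ∈ E.V ∧ ∃ b ∈ E.B0, b * t * b⁻¹ = t * x := fun _ => Iff.rfl
  have hl : ∀ σ, ∀ x ∈ N, E.l σ * x * (E.l σ)⁻¹ ∈ N := by
    intro σ x hx
    obtain ⟨hx, b, hb, h⟩ := hx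
    obtain ⟨s, rfl⟩ := E.exists_v hx
    refine ⟨by rw [E.l_v]; exact E.v_mem _, E.l σ * b * (E.l σ)⁻¹, E.l_B0 hb σ, ?_⟩
    have hlt : (E.l σ)⁻¹ * t * E.l σ = t := by
      rw [mul_assoc, E.t_l, inv_mul_cancel_left]
    calc E.l σ * b * (E.l σ)⁻¹ * t * (E.l σ * b * (E.l σ)⁻¹)⁻¹
        = E.l σ * b * ((E.l σ)⁻¹ * t * E.l σ) * b⁻¹ * (E.l σ)⁻¹ := by group
      _ = E.l σ * (b * t * b⁻¹) * (E.l σ)⁻¹ := by rw [hlt]; group
      _ = (E.l σ * t) * E.v s * (E.l σ)⁻¹ := by rw [h]; group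
      _ = _ := by rw [← E.t_l]; group
  obtain ⟨g, hgh, hgr, v0, hv0, hv1, hgt⟩ := E.mover
  have hgN : g ∈ E.N1 := ⟨hgh, hgr, v0, hv0, hgt⟩
  obtain ⟨j, hj⟩ := E.N1_pow_four hgN
  have hv0N : v0 ∈ N := by
    refine ⟨hv0, g ^ 9, E.mem_B0.mpr ⟨pow_mem hgN 9, ?_⟩, ?_⟩
    · rw [← pow_mul]
      have : 9 * 4 = 4 * 9 := rfl
      rw [this, pow_mul, hj, ← pow_mul, mul_comm, pow_mul]
      have : E.h ^ 9 = 1 := by
        have : (9 : ℕ) = 3 * 3 := rfl
        rw [this, pow_mul, E.h_pow, one_pow]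
      rw [this, one_pow]
    · have h8 : g ^ 9 = E.h ^ (j * 2) * g := by
        have : g ^ 9 = (g ^ 4) ^ 2 * g := by group
        rw [this, hj, ← pow_mul]
      have hht : Commute (E.h ^ (j * 2)) t := Commute.pow_left E.t_h.symm _
      have hhv : Commute (E.h ^ (j * 2)) v0 := Commute.pow_left (E.h_V hv0) _
      have hh : E.h ^ (j * 2) * (t * v0) = t * v0 * E.h ^ (j * 2) := (hht.mul_right hhv).eq
      rw [h8]
      calc E.h ^ (j * 2) * g * t * (E.h ^ (j * 2) * g)⁻¹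
          = E.h ^ (j * 2) * (g * t * g⁻¹) * (E.h ^ (j * 2))⁻¹ := by group
        _ = E.h ^ (j * 2) * (t * v0) * (E.h ^ (j * 2))⁻¹ := by rw [hgt]
        _ = t * v0 := by rw [hh, mul_inv_cancel_right]
  exact ((hN v).mp (E.V_le_of_ne hl hv0N hv0 hv1 hv)).2

theorem B0_comm {b : X} (hb : b ∈ E.B0) (ht : b * t = t * b) : ∃ e, (e = 1 ∨ e = t) ∧ ∃ v ∈ E.V, b = e * v := by
  obtain ⟨e, he, v, hv, j, h1⟩ := E.N1_comm (E.B0_N1 hb) ht
  refine ⟨e, he, v, hv, ?_⟩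
  have hc1 : Commute (e * v) (E.h ^ j) := by
    refine Commute.pow_right ?_ j
    refine Commute.mul_left ?_ (E.h_V hv).symm
    rcases he with rfl | rfl
    · exact Commute.one_left _
    · exact E.t_h
  have h2 : (e * v) ^ 4 = 1 := by
    apply E.pow_four_of_sq
    calc e * v * (e * v) = e * (v * e) * v := by group
      _ = (e * e) * (v * v) := by rw [← E.e_V he hv]; group
      _ = 1 := by rw [E.e_sq he, E.V_sq hv, mul_one]
  have h3 := E.B0_pow hb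
  rw [h1, hc1.mul_pow, h2, one_mul, ← pow_mul, mul_comm j 4] at h3
  rw [h1, E.h_pow_eq_one h3, mul_one]

/-- `B₀` normalizes `U` modulo `⟨t⟩`. -/
theorem B0_U_aux {b u : X} (hb : b ∈ E.B0) (hu : u ∈ E.U) : ∃ e, (e = 1 ∨ e = t) ∧ ∃ u' ∈ E.U,
    b * u * b⁻¹ = e * u' := by
  obtain ⟨v, hv, hbt⟩ := E.B0_t hb
  have h1 : ∀ i, b * u * b⁻¹ * E.r i = E.r i * (b * u * b⁻¹) := by
    intro i
    have h2 : b⁻¹ * E.r i = E.r i * b⁻¹ := E.B0_r (inv_mem hb) i
    calc b * u * b⁻¹ * E.r i = b * u * (b⁻¹ * E.r i) := by group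
      _ = b * (u * E.r i) * b⁻¹ := by rw [h2]; group
      _ = (b * E.r i) * u * b⁻¹ := by rw [E.U_r u hu]; group
      _ = _ := by rw [E.B0_r hb]; group
  have h2 : b * u * b⁻¹ * t = t * (b * u * b⁻¹) := by
    have h3 : b * u * b⁻¹ * v = v * (b * u * b⁻¹) := E.comm_V h1 hv
    have h4 : b * u * b⁻¹ * (t * v) = t * v * (b * u * b⁻¹) := by
      rw [← hbt]
      calc b * u * b⁻¹ * (b * t * b⁻¹) = b * (u * t) * b⁻¹ := by group
        _ = b * (t * u) * b⁻¹ := by rw [E.t_U hu]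
        _ = _ := by group
    have h5 : b * u * b⁻¹ * t * v = t * (b * u * b⁻¹) * v := by
      rw [mul_assoc (b * u * b⁻¹), h4, mul_assoc t, ← h3]
      simp only [mul_assoc]
    exact mul_right_cancel h5
  obtain ⟨e, he, u', hu', j, h3⟩ := E.cV _ h2 h1
  refine ⟨e, he, u', hu', ?_⟩
  -- `h ^ j ∈ U` has order dividing a power of two
  have hbU : (b * u * b⁻¹) ^ 4 = 1 := by
    have : u ^ 4 = 1 := by
      rcases E.U_sq u hu with h4 | ⟨i, h4⟩
      · exact E.pow_four_of_sq h4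
      · have : u ^ 4 = (u * u) * (u * u) := by simp only [pow_succ, pow_zero, one_mul, mul_assoc]
        rw [this, h4, E.r_sq]
    rw [conj_pow, this, mul_one, mul_inv_cancel]
  have he' : Commute e (u' * E.h ^ j) := by
    rcases he with rfl | rfl
    · exact Commute.one_left _
    · exact E.t_A _ (mul_mem (E.U_le hu') (pow_mem E.h_mem j))
  have h4 : (u' * E.h ^ j) ^ 4 = 1 := by
    rw [h3, mul_assoc, he'.mul_pow, E.pow_four_of_sq (E.e_sq he), one_mul] at hbU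
    exact hbU
  have hUh : ∀ k : ℕ, ∀ x ∈ E.U, E.h ^ k * x * (E.h ^ k)⁻¹ ∈ E.U := by
    intro k
    induction k with
    | zero => intro x hx; rw [pow_zero, one_mul, inv_one, mul_one]; exact hx
    | succ k ih =>
      intro x hx
      have e1 : E.h ^ (k + 1) * x * (E.h ^ (k + 1))⁻¹ = E.h * (E.h ^ k * x * (E.h ^ k)⁻¹) * E.h⁻¹ := by
        rw [pow_succ']; group
      rw [e1]
      exact E.U_h _ (ih x hx)
  set y := E.h ^ j with hy
  have hy1 : ∀ x ∈ E.U, y * x * y⁻¹ ∈ E.U := hUh j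
  have h5 : y ^ 4 ∈ E.U := by
    have e1 : (u' * y) ^ 4 = u' * (y * u' * y⁻¹) * (y * (y * u' * y⁻¹) * y⁻¹) *
        (y * (y * (y * u' * y⁻¹) * y⁻¹) * y⁻¹) * y ^ 4 := by
      simp only [pow_succ, pow_zero, one_mul]
      group
    rw [e1] at h4
    have h6 := eq_inv_of_mul_eq_one_right h4
    rw [h6]
    exact inv_mem (mul_mem (mul_mem (mul_mem hu' (hy1 _ hu')) (hy1 _ (hy1 _ hu'))) (hy1 _ (hy1 _ (hy1 _ hu'))))
  have h6 : y ^ 4 = y := by
    rw [hy, ← pow_mul, mul_comm]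
    have : 4 * j = 3 * j + j := by ring
    rw [this, pow_add, pow_mul, E.h_pow, one_pow, one_mul]
  rw [h6] at h5
  have h7 : y ^ 4 = 1 := by
    rcases E.U_sq y h5 with h8 | ⟨i, h8⟩
    · exact E.pow_four_of_sq h8
    · have : y ^ 4 = (y * y) * (y * y) := by simp only [pow_succ, pow_zero, one_mul, mul_assoc]
      rw [this, h8, E.r_sq]
  rw [h6] at h7
  rw [h3, h7, mul_one]

/-- `B₀` centralizes `U`. -/
theorem B0_U {b u : X} (hb : b ∈ E.B0) (hu : u ∈ E.U) : b * u = u * b := by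
  -- first: `b` normalizes `U`
  have hbh : b * E.h * b⁻¹ = E.h := by rw [E.B0_h hb, mul_inv_cancel_right]
  have h1 : ∀ u ∈ E.U, b * u * b⁻¹ ∈ E.U := by
    intro u hu
    obtain ⟨u', hu', v, hv, h2⟩ := E.U_comm u hu
    obtain ⟨e, he, u1, hu1, h3⟩ := E.B0_U_aux hb hu'
    have hbv : b * v * b⁻¹ = v := by rw [E.B0_V hb hv, mul_inv_cancel_right]
    have he1 : e⁻¹ = e := inv_eq_of_mul_eq_one_left (E.e_sq he)
    have he2 : e * E.h = E.h * e := by
      rcases he with rfl | rfl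
      · rw [one_mul, mul_one]
      · exact E.t_h
    have e1 : b * u * b⁻¹ = u1⁻¹ * (E.h * u1 * E.h⁻¹) * v := by
      calc b * u * b⁻¹ = (b * u' * b⁻¹)⁻¹ * ((b * E.h * b⁻¹) * (b * u' * b⁻¹) * (b * E.h * b⁻¹)⁻¹) *
            (b * v * b⁻¹) := by rw [h2]; group
        _ = (e * u1)⁻¹ * (E.h * (e * u1) * E.h⁻¹) * v := by rw [hbh, hbv, h3]
        _ = u1⁻¹ * e⁻¹ * (E.h * e) * u1 * E.h⁻¹ * v := by group
        _ = _ := by rw [← he2]; group
    rw [e1]
    exact mul_mem (mul_mem (inv_mem hu1) (E.U_h _ hu1)) (E.V_le_U hv)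
  -- second: `b` acts trivially modulo `V`
  have h2 : ∀ u ∈ E.U, ∃ v ∈ E.V, b * u * b⁻¹ = u * v := by
    intro u hu
    by_cases hu2 : u * u = 1
    · refine ⟨1, one_mem _, ?_⟩
      rw [E.B0_V hb (E.U_one u hu hu2), mul_inv_cancel_right, mul_one]
    · have huV : u * u ∈ E.V := by
        rcases E.U_sq u hu with h | ⟨i, h⟩
        · exact absurd h hu2
        · rw [h]; exact E.r_V i
      have h3 : b * u * b⁻¹ * (b * u * b⁻¹) = u * u := by
        calc b * u * b⁻¹ * (b * u * b⁻¹) = b * (u * u) * b⁻¹ := by group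
          _ = u * u := by rw [E.B0_V hb huV, mul_inv_cancel_right]
      obtain ⟨k, v, hv, h4⟩ := E.U_line u hu _ (h1 u hu) h3.symm hu2
      set y := E.h ^ k with hy
      have hby : Commute b y := Commute.pow_right (E.B0_h hb) k
      have hbv : Commute b v := E.B0_V hb hv
      have hyv : Commute y v := Commute.pow_left (E.h_V hv) k
      -- iterate
      have h5 : ∀ n : ℕ, b ^ n * u * (b ^ n)⁻¹ = y ^ n * u * (y ^ n)⁻¹ * v ^ n := by
        intro n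
        induction n with
        | zero => simp
        | succ n ih =>
          have hb1 : Commute b (y ^ n) := hby.pow_right n
          have hb2 : Commute b (v ^ n) := hbv.pow_right n
          have hy2 : Commute (y ^ n) v := hyv.pow_left n
          calc b ^ (n + 1) * u * (b ^ (n + 1))⁻¹ = b * (b ^ n * u * (b ^ n)⁻¹) * b⁻¹ := by
                rw [pow_succ']; group
            _ = b * y ^ n * u * (y ^ n)⁻¹ * (v ^ n * b⁻¹) := by rw [ih]; group
            _ = (b * y ^ n) * u * (b * y ^ n)⁻¹ * v ^ n := by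
                rw [← (hb2.inv_left).eq]; group
            _ = (y ^ n * b) * u * (y ^ n * b)⁻¹ * v ^ n := by rw [hb1.eq]
            _ = y ^ n * (b * u * b⁻¹) * (y ^ n)⁻¹ * v ^ n := by group
            _ = y ^ n * (y * u * y⁻¹) * (v * (y ^ n)⁻¹) * v ^ n := by rw [h4]; group
            _ = y ^ n * (y * u * y⁻¹) * ((y ^ n)⁻¹ * v) * v ^ n := by rw [(hy2.inv_left).eq]
            _ = _ := by rw [pow_succ y n, pow_succ' v n]; group
      have h6 := h5 4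
      have hv4 : v ^ 4 = 1 := E.pow_four_of_sq (E.V_sq hv)
      have hy4 : y ^ 4 = y := by
        rw [hy, ← pow_mul, mul_comm]
        have : 4 * k = 3 * k + k := by ring
        rw [this, pow_add, pow_mul, E.h_pow, one_pow, one_mul]
      rw [E.B0_pow hb, one_mul, inv_one, mul_one, hv4, mul_one, hy4] at h6
      refine ⟨v, hv, ?_⟩
      rw [h4, ← h6]
  -- third
  obtain ⟨u', hu', v, hv, h3⟩ := E.U_comm u hu
  obtain ⟨v', hv', h4⟩ := h2 u' hu'
  have hbv : b * v * b⁻¹ = v := by rw [E.B0_V hb hv, mul_inv_cancel_right]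
  have hhv : v'⁻¹ * E.h * v' = E.h := by rw [mul_assoc, E.h_V hv', inv_mul_cancel_left]
  have hhu : E.h * u' * E.h⁻¹ * v = v * (E.h * u' * E.h⁻¹) := E.U_V (E.U_h _ hu') hv
  have h5 : b * u * b⁻¹ = u := by
    have hw : v'⁻¹ * (u'⁻¹ * (E.h * u' * E.h⁻¹)) = (u'⁻¹ * (E.h * u' * E.h⁻¹)) * v'⁻¹ :=
      (E.U_V (mul_mem (inv_mem hu') (E.U_h _ hu')) (inv_mem hv')).symm
    calc b * u * b⁻¹ = (b * u' * b⁻¹)⁻¹ * ((b * E.h * b⁻¹) * (b * u' * b⁻¹) * (b * E.h * b⁻¹)⁻¹) *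
          (b * v * b⁻¹) := by rw [h3]; group
      _ = (u' * v')⁻¹ * (E.h * (u' * v') * E.h⁻¹) * v := by rw [hbh, hbv, h4]
      _ = v'⁻¹ * u'⁻¹ * (E.h * u' * (v' * E.h⁻¹)) * v := by group
      _ = (v'⁻¹ * (u'⁻¹ * (E.h * u' * E.h⁻¹))) * v' * v := by
          have : v' * E.h⁻¹ = E.h⁻¹ * v' := by
            rw [eq_inv_mul_iff_mul_eq, ← mul_assoc, E.h_V hv', mul_inv_cancel_right]
          rw [this]; group
      _ = u'⁻¹ * (E.h * u' * E.h⁻¹) * v := by rw [hw]; group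
      _ = u := h3.symm
  rwa [mul_inv_eq_iff_eq_mul] at h5

/-- Squares of elements of `B₀` lie in `V`. -/
theorem B0_sq {b : X} (hb : b ∈ E.B0) : b * b ∈ E.V := by
  obtain ⟨v, hv, h1⟩ := E.B0_t hb
  have h2 := E.mul_t (E.B0_N1 hb) hv h1 h1
  rw [E.V_sq hv, mul_one, mul_inv_eq_iff_eq_mul] at h2
  obtain ⟨e, he, v', hv', h3⟩ := E.B0_comm (mul_mem hb hb) h2
  rcases he with rfl | rfl
  · rw [h3, one_mul]; exact hv'
  · exfalso
    -- `b` commutes with `b² = t v'`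
    have h4 : b * (e * v') * b⁻¹ = e * v' := by rw [← h3]; group
    have hbv : b * v' * b⁻¹ = v' := by rw [E.B0_V hb hv', mul_inv_cancel_right]
    have h5 : b * (e * v') * b⁻¹ = e * v * v' := by
      calc b * (e * v') * b⁻¹ = (b * e * b⁻¹) * (b * v' * b⁻¹) := by group
        _ = _ := by rw [h1, hbv]
    rw [h5] at h4
    have h6 : v = 1 := by
      have := mul_right_cancel h4
      exact mul_left_cancel (this.trans (mul_one e).symm)
    rw [h6, mul_one, mul_inv_eq_iff_eq_mul] at h1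
    obtain ⟨e', he', v1, hv1, h7⟩ := E.B0_comm hb h1
    have h8 : b * b = 1 := by
      rw [h7]
      calc e' * v1 * (e' * v1) = e' * (v1 * e') * v1 := by group
        _ = (e' * e') * (v1 * v1) := by rw [← E.e_V he' hv1]; group
        _ = 1 := by rw [E.e_sq he', E.V_sq hv1, mul_one]
    rw [h8] at h3
    apply E.t_nA
    have h9 : e = v'⁻¹ := eq_inv_of_mul_eq_one_left h3.symm
    rw [h9]
    exact inv_mem (E.V_le hv')

theorem t_nV {v : X} (hv : v ∈ E.V) : t ≠ v := fun h => E.t_nA (h ▸ E.V_le hv)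

/-- Two elements of `B₀` moving `t` in the same way. -/
theorem B0_eq {b b' v : X} (hb : b ∈ E.B0) (hb' : b' ∈ E.B0) (hv : v ∈ E.V) (h : b * t * b⁻¹ = t * v)
    (h' : b' * t * b'⁻¹ = t * v) : ∃ e, (e = 1 ∨ e = t) ∧ ∃ v' ∈ E.V, b' = e * v' * b := by
  have h1 : b' * b⁻¹ * t * (b' * b⁻¹)⁻¹ = t * (v * v) :=
    E.mul_t (E.B0_N1 hb') hv h' (by rw [inv_inv]; exact E.inv_t (E.B0_N1 hb) hv h)
  rw [E.V_sq hv, mul_one, mul_inv_eq_iff_eq_mul] at h1
  obtain ⟨e, he, v', hv', h2⟩ := E.B0_comm (mul_mem hb' (inv_mem hb)) h1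
  exact ⟨e, he, v', hv', by rw [← h2, inv_mul_cancel_right]⟩

theorem tb_sq {b v : X} (h : b * t * b⁻¹ = t * v) : t * b * (t * b) = v * (b * b) := by
  calc t * b * (t * b) = t * (b * t * b⁻¹) * (b * b) := by group
    _ = (t * t) * v * (b * b) := by rw [h]; group
    _ = _ := by rw [E.t_sq, one_mul]

theorem vb_sq {b v : X} (hb : b ∈ E.B0) (hv : v ∈ E.V) : v * b * (v * b) = b * b := by
  calc v * b * (v * b) = v * (b * v) * b := by group
    _ = (v * v) * (b * b) := by rw [E.B0_V hb hv]; group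
    _ = b * b := by rw [E.V_sq hv, one_mul]

end Env

end Cfsg.Agent.UFiveTwo
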