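import Cfsg.Agent.UFiveTwo.VFacts
import Mathlib.GroupTheory.Sylow

/-!
# The group `B₀` (order `2⁹`): 2-elements centralizing `h` and `V` and moving `t` inside `tV`
-/

set_option autoImplicit false

namespace Cfsg.Agent.UFiveTwo

open Subgroup

universe u

variable {X : Type u} [Group X] {A : Subgroup X} {t : X}

namespace Env

variable (E : Env A t)

include E

theorem t_inv : t⁻¹ = t := inv_eq_of_mul_eq_one_left E.t_sq

theorem t_V {v : X} (hv : v ∈ E.V) : t * v = v * t := E.t_A v (E.V_le hv)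

theorem t_U {u : X} (hu : u ∈ E.U) : t * u = u * t := E.t_A u (E.U_le hu)

theorem t_h : t * E.h = E.h * t := E.t_A _ E.h_mem

theorem t_l (σ) : t * E.l σ = E.l σ * t := E.t_A _ (E.l_mem σ)

/-- `N₁`: elements commuting with `h` and `V` and moving `t` inside `tV`. -/
def N1 : Subgroup X where
  carrier := {g | g * E.h = E.h * g ∧ (∀ i, g * E.r i = E.r i * g) ∧ ∃ v ∈ E.V, g * t * g⁻¹ = t * v}
  one_mem' := ⟨by rw [one_mul, mul_one], fun i => by rw [one_mul, mul_one],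
    1, one_mem _, by rw [one_mul, inv_one, mul_one]⟩
  mul_mem' := by
    rintro g g' ⟨h1, h2, v, hv, h3⟩ ⟨h1', h2', v', hv', h3'⟩
    refine ⟨by rw [mul_assoc, h1', ← mul_assoc, h1, mul_assoc], fun i => by
      rw [mul_assoc, h2', ← mul_assoc, h2, mul_assoc], v * v', mul_mem hv hv', ?_⟩
    have h4 : g * v' * g⁻¹ = v' := by rw [E.comm_V h2 hv', mul_inv_cancel_right]
    calc g * g' * t * (g * g')⁻¹ = g * (g' * t * g'⁻¹) * g⁻¹ := by group
      _ = (g * t * g⁻¹) * (g * v' * g⁻¹) := by rw [h3']; group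
      _ = t * (v * v') := by rw [h3, h4, mul_assoc]
  inv_mem' := by
    rintro g ⟨h1, h2, v, hv, h3⟩
    have h1' : g⁻¹ * E.h = E.h * g⁻¹ := by
      rw [inv_mul_eq_iff_eq_mul, ← mul_assoc, h1, mul_inv_cancel_right]
    have h2' : ∀ i, g⁻¹ * E.r i = E.r i * g⁻¹ := fun i => by
      rw [inv_mul_eq_iff_eq_mul, ← mul_assoc, h2, mul_inv_cancel_right]
    refine ⟨h1', h2', v, hv, ?_⟩
    have h4 : g⁻¹ * v * g = v := by
      rw [E.comm_V h2' hv, inv_mul_cancel_right]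
    have h5 : t = (g⁻¹ * t * g) * (g⁻¹ * v * g) := by
      calc t = g⁻¹ * (g * t * g⁻¹) * g := by group
        _ = _ := by rw [h3]; group
    rw [h4] at h5
    rw [inv_inv]
    calc g⁻¹ * t * g = (g⁻¹ * t * g) * v * v := by rw [mul_assoc (g⁻¹ * t * g), E.V_sq hv, mul_one]
      _ = t * v := by rw [← h5]

theorem mem_N1 {g : X} : g ∈ E.N1 ↔ g * E.h = E.h * g ∧ (∀ i, g * E.r i = E.r i * g) ∧
    ∃ v ∈ E.V, g * t * g⁻¹ = t * v := Iff.rfl

theorem h_pow_eq_one {j : ℕ} (h : E.h ^ (4 * j) = 1) : E.h ^ j = 1 := by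
  have h1 : E.h ^ (4 * j) = E.h ^ j := by
    have : 4 * j = 3 * j + j := by ring
    rw [this, pow_add, pow_mul, E.h_pow, one_pow, one_mul]
  rw [← h1, h]

/-- An element commuting with `t` of `N₁` is `e * v * h ^ j`. -/
theorem N1_comm {g : X} (hg : g ∈ E.N1) (ht : g * t = t * g) : ∃ e, (e = 1 ∨ e = t) ∧ ∃ v ∈ E.V, ∃ j : ℕ,
    g = e * v * E.h ^ j := by
  obtain ⟨e, he, u, hu, j, rfl⟩ := E.cV g ht hg.2.1
  refine ⟨e, he, u, ?_, j, rfl⟩
  apply E.U_fix u hu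
  have h1 := hg.1
  have he' : E.h * e = e * E.h := by
    rcases he with rfl | rfl
    · rw [one_mul, mul_one]
    · exact E.t_h.symm
  have h2 : e * (u * E.h) * E.h ^ j = e * (E.h * u) * E.h ^ j := by
    calc e * (u * E.h) * E.h ^ j = e * u * (E.h * E.h ^ j) := by group
      _ = e * u * E.h ^ j * E.h := by rw [← pow_succ', pow_succ]; group
      _ = E.h * (e * u * E.h ^ j) := h1
      _ = (E.h * e) * u * E.h ^ j := by group
      _ = e * (E.h * u) * E.h ^ j := by rw [he']; group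
  exact (mul_left_cancel (mul_right_cancel h2)).symm

theorem e_sq {e : X} (he : e = 1 ∨ e = t) : e * e = 1 := by
  rcases he with rfl | rfl
  · exact mul_one 1
  · exact E.t_sq

theorem e_V {e : X} (he : e = 1 ∨ e = t) {v : X} (hv : v ∈ E.V) : e * v = v * e := by
  rcases he with rfl | rfl
  · rw [one_mul, mul_one]
  · exact E.t_V hv

/-- `g ^ 4 ∈ ⟨h⟩` for `g ∈ N₁`. -/
theorem N1_pow_four {g : X} (hg : g ∈ E.N1) : ∃ j : ℕ, g ^ 4 = E.h ^ j := by
  obtain ⟨h1, h2, v, hv, h3⟩ := hg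
  have h4 : g * g * t = t * (g * g) := by
    have h5 : g * v * g⁻¹ = v := by rw [E.comm_V h2 hv, mul_inv_cancel_right]
    have h6 : g * g * t * (g * g)⁻¹ = t := by
      calc g * g * t * (g * g)⁻¹ = g * (g * t * g⁻¹) * g⁻¹ := by group
        _ = g * (t * v) * g⁻¹ := by rw [h3]
        _ = (g * t * g⁻¹) * (g * v * g⁻¹) := by group
        _ = t * (v * v) := by rw [h3, h5, mul_assoc]
        _ = t := by rw [E.V_sq hv, mul_one]
    rwa [mul_inv_eq_iff_eq_mul] at h6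
  obtain ⟨e, he, v', hv', j, h7⟩ := E.N1_comm (mul_mem ⟨h1, h2, v, hv, h3⟩ ⟨h1, h2, v, hv, h3⟩) h4
  refine ⟨j + j, ?_⟩
  have h8 : E.h ^ j * v' = v' * E.h ^ j := by
    have : Commute (E.h ^ j) v' := Commute.pow_left (E.h_V hv') j
    exact this
  have h9 : E.h ^ j * e = e * E.h ^ j := by
    have : Commute (E.h ^ j) e := Commute.pow_left (by
      rcases he with rfl | rfl
      · exact Commute.one_right _
      · exact E.t_h.symm) j
    exact this
  calc g ^ 4 = (g * g) * (g * g) := by rw [pow_succ, pow_succ, pow_two]; group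
    _ = (e * v' * E.h ^ j) * (e * v' * E.h ^ j) := by rw [h7]
    _ = e * v' * (E.h ^ j * e) * v' * E.h ^ j := by group
    _ = e * (v' * e) * (E.h ^ j * v') * E.h ^ j := by rw [h9]; group
    _ = (e * e) * (v' * v') * (E.h ^ j * E.h ^ j) := by rw [h8, ← E.e_V he hv']; group
    _ = E.h ^ (j + j) := by rw [E.e_sq he, E.V_sq hv', pow_add]; group

theorem h_N1 : E.h ∈ E.N1 := ⟨rfl, E.h_r, 1, one_mem _, by
  rw [← E.t_h]; group⟩

theorem t_N1 : t ∈ E.N1 := ⟨E.t_h, fun i => E.t_V (E.r_V i), 1, one_mem _, by group⟩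

theorem V_N1 : E.V ≤ E.N1 := fun v hv => ⟨(E.h_V hv).symm, fun i => E.comm_VV hv (E.r_V i), 1, one_mem _, by
  rw [← E.t_V hv]; group⟩

theorem l_N1 {g : X} (hg : g ∈ E.N1) (σ) : E.l σ * g * (E.l σ)⁻¹ ∈ E.N1 := by
  obtain ⟨h1, h2, v, hv, h3⟩ := hg
  have hlh : (E.l σ)⁻¹ * E.h = E.h * (E.l σ)⁻¹ := by
    rw [inv_mul_eq_iff_eq_mul, ← mul_assoc, ← E.h_l, mul_inv_cancel_right]
  have hlt : (E.l σ)⁻¹ * t = t * (E.l σ)⁻¹ := by
    rw [inv_mul_eq_iff_eq_mul, ← mul_assoc, ← E.t_l, mul_inv_cancel_right]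
  refine ⟨?_, fun i => ?_, E.l σ * v * (E.l σ)⁻¹, ?_, ?_⟩
  · calc E.l σ * g * (E.l σ)⁻¹ * E.h = E.l σ * g * ((E.l σ)⁻¹ * E.h) := by group
      _ = E.l σ * (g * E.h) * (E.l σ)⁻¹ := by rw [hlh]; group
      _ = (E.l σ * E.h) * g * (E.l σ)⁻¹ := by rw [h1]; group
      _ = _ := by rw [← E.h_l]; group
  · obtain ⟨j, hj⟩ : ∃ j, (σ : Equiv.Perm (Fin 5)) j = i := ⟨_, Equiv.apply_symm_apply _ i⟩
    have h4 := E.l_r σ j
    rw [hj] at h4
    rw [← h4]
    calc E.l σ * g * (E.l σ)⁻¹ * (E.l σ * E.r j * (E.l σ)⁻¹) = E.l σ * (g * E.r j) * (E.l σ)⁻¹ := by group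
      _ = _ := by rw [h2]; group
  · obtain ⟨s, rfl⟩ := E.exists_v hv
    rw [E.l_v]
    exact E.v_mem _
  · calc E.l σ * g * (E.l σ)⁻¹ * t * (E.l σ * g * (E.l σ)⁻¹)⁻¹
        = E.l σ * g * ((E.l σ)⁻¹ * t) * E.l σ * g⁻¹ * (E.l σ)⁻¹ := by group
      _ = E.l σ * (g * t * g⁻¹) * (E.l σ)⁻¹ := by rw [hlt]; group
      _ = (E.l σ * t) * v * (E.l σ)⁻¹ := by rw [h3]; group
      _ = _ := by rw [← E.t_l]; group

variable [Finite X]

theorem exists_B0 : ∃ B : Subgroup X, ∀ g, g ∈ B ↔ g ∈ E.N1 ∧ g ^ 4 = 1 := by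
  classical
  obtain ⟨P⟩ : Nonempty (Sylow 2 E.N1) := inferInstance
  set H : Subgroup E.N1 := zpowers (⟨E.h, E.h_N1⟩ : E.N1) with hH
  have hc : ∀ x : E.N1, x * ⟨E.h, E.h_N1⟩ = ⟨E.h, E.h_N1⟩ * x := fun x => Subtype.ext x.2.1
  have hHn : H.Normal := by
    refine ⟨fun x hx g => ?_⟩
    obtain ⟨n, rfl⟩ := mem_zpowers_iff.mp hx
    have h1 : Commute g (⟨E.h, E.h_N1⟩ : E.N1) := hc g
    rw [(h1.zpow_right n).eq, mul_inv_cancel_right]
    exact hx
  have hq : IsPGroup 2 (E.N1 ⧸ H) := by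
    intro x
    induction x using QuotientGroup.induction_on with
    | H g =>
      refine ⟨2, ?_⟩
      obtain ⟨j, hj⟩ := E.N1_pow_four g.2
      rw [← QuotientGroup.mk_pow, QuotientGroup.eq_one_iff]
      refine mem_zpowers_iff.mpr ⟨j, Subtype.ext ?_⟩
      rw [zpow_natCast]
      exact hj.symm
  have hidx : (H ⊔ (P : Subgroup E.N1)).index = 1 := by
    have h1 : (H ⊔ (P : Subgroup E.N1)).index ∣ H.index := index_dvd_of_le le_sup_left
    have h2 : (H ⊔ (P : Subgroup E.N1)).index ∣ (P : Subgroup E.N1).index := index_dvd_of_le le_sup_right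
    have h3 : ∃ n, H.index = 2 ^ n := by
      rw [index_eq_card]
      exact (IsPGroup.iff_card).mp hq
    obtain ⟨n, hn⟩ := h3
    have h4 : ¬ 2 ∣ (P : Subgroup E.N1).index := P.not_dvd_index
    rw [hn] at h1
    obtain ⟨m, -, hm⟩ := (Nat.dvd_prime_pow Nat.prime_two).mp h1
    rcases Nat.eq_zero_or_pos m with h5 | h5
    · rw [hm, h5, pow_zero]
    · exact absurd ((dvd_pow_self 2 h5.ne').trans (hm ▸ h2)) h4
  rw [index_eq_one] at hidx
  refine ⟨(P : Subgroup E.N1).map E.N1.subtype, fun g => ⟨?_, ?_⟩⟩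
  · rintro ⟨p, hp, rfl⟩
    refine ⟨p.2, ?_⟩
    obtain ⟨j, hj⟩ := E.N1_pow_four p.2
    obtain ⟨k, hk⟩ := P.isPGroup' ⟨p, hp⟩
    have hk' : (p : X) ^ 2 ^ k = 1 := by
      have := congrArg (fun x : (P : Subgroup E.N1) => ((x : E.N1) : X)) hk
      simpa using this
    change (p : X) ^ 4 = 1
    -- order of `p ^ 4` divides 3 and a power of 2
    have h3 : ((p : X) ^ 4) ^ 3 = 1 := by
      rw [hj, ← pow_mul, mul_comm, pow_mul, E.h_pow, one_pow]
    have h2 : ((p : X) ^ 4) ^ 2 ^ k = 1 := by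
      rw [← pow_mul, mul_comm, pow_mul, hk', one_pow]
    have hco : Nat.Coprime 3 (2 ^ k) := Nat.Coprime.pow_right k (by decide)
    exact orderOf_eq_one_iff.mp (Nat.eq_one_of_dvd_coprimes hco (orderOf_dvd_of_pow_eq_one h3)
      (orderOf_dvd_of_pow_eq_one h2))
  · rintro ⟨hg, hg4⟩
    have h1 : (⟨g, hg⟩ : E.N1) ∈ H ⊔ (P : Subgroup E.N1) := by rw [hidx]; exact mem_top _
    rw [← SetLike.mem_coe, normal_mul H (P : Subgroup E.N1)] at h1
    obtain ⟨x, hx, p, hp, hxp⟩ := Set.mem_mul.mp h1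
    obtain ⟨n, rfl⟩ := mem_zpowers_iff.mp hx
    have hcomm : Commute ((⟨E.h, E.h_N1⟩ : E.N1) ^ n) p := (Commute.zpow_right (hc p) n).symm
    have h2 : ((⟨E.h, E.h_N1⟩ : E.N1) ^ n) ^ 4 * p ^ 4 = 1 := by
      rw [← hcomm.mul_pow, hxp]
      exact Subtype.ext hg4
    obtain ⟨k, hk⟩ := P.isPGroup' ⟨p, hp⟩
    have hk' : p ^ 2 ^ k = 1 := by
      have := congrArg (fun x : (P : Subgroup E.N1) => (x : E.N1)) hk
      simpa using this
    set y : E.N1 := (⟨E.h, E.h_N1⟩ : E.N1) ^ n with hy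
    have hy3 : y ^ 3 = 1 := by
      rw [hy, ← zpow_natCast, ← zpow_mul, mul_comm, zpow_mul, zpow_natCast]
      have : (⟨E.h, E.h_N1⟩ : E.N1) ^ 3 = 1 := Subtype.ext E.h_pow
      rw [this, one_zpow]
    have hy2 : y ^ (4 * 2 ^ k) = 1 := by
      have h3 : y ^ 4 = (p ^ 4)⁻¹ := eq_inv_of_mul_eq_one_left h2
      rw [pow_mul, h3, inv_pow, ← pow_mul, mul_comm 4, pow_mul, hk', one_pow, inv_one]
    have hco : Nat.Coprime 3 (4 * 2 ^ k) :=
      Nat.Coprime.mul_right (by decide) (Nat.Coprime.pow_right k (by decide))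
    have hy1 : y = 1 := orderOf_eq_one_iff.mp (Nat.eq_one_of_dvd_coprimes hco (orderOf_dvd_of_pow_eq_one hy3)
      (orderOf_dvd_of_pow_eq_one hy2))
    refine ⟨p, hp, ?_⟩
    have h4 : p = ⟨g, hg⟩ := by
      rw [← hxp]
      change p = y * p
      rw [hy1, one_mul]
    rw [h4]
    rfl

/-- `B₀`. -/
noncomputable def B0 : Subgroup X := E.exists_B0.choose

theorem mem_B0 {g : X} : g ∈ E.B0 ↔ g ∈ E.N1 ∧ g ^ 4 = 1 := E.exists_B0.choose_spec g

end Env

end Cfsg.Agent.UFiveTwo
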