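import Cfsg.Agent.UFiveTwo.BigN

/-!
# S1778, type `U₅(2)`, section 7 (IV): `Y*` centralizes `V*`, `Qh` normalizes `V*`
-/

set_option autoImplicit false

namespace Cfsg.Agent.UFiveTwo.Big

open Subgroup Cfsg.Agent.UFiveTwo.Line

universe u

variable {X : Type u} [Group X] {A : Subgroup X} {t : X} {E : Env A t} {w : X → X} {Qh Γ : Subgroup X}

namespace Ctx

variable (H : Ctx E w Qh Γ)

include H

/-- (a) `Γ`-elements over `U ∩ Q` centralize `V*`. -/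
theorem Y_cent {c m : X} (hc : c ∈ Γ) (hm : m ∈ E.Q) (hmU : m ∈ E.U) (h : Ov E w c m) {s : X} (hs : s ∈ Vs E w) :
    c * s = s * c := by
  have hhr : E.h * E.r 0 = E.r 0 * E.h := E.h_r 0
  -- `c₁ = h c h⁻¹`, `c₂ = h² c h⁻²`
  set c₁ := E.h * c * E.h⁻¹ with hc₁
  set m₁ := E.h * m * E.h⁻¹ with hm₁
  set c₂ := E.h * c₁ * E.h⁻¹ with hc₂
  set m₂ := E.h * m₁ * E.h⁻¹ with hm₂
  have c₁Γ : c₁ ∈ Γ := H.q.D_conj _ E.h_mem hhr c hc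
  have c₂Γ : c₂ ∈ Γ := H.q.D_conj _ E.h_mem hhr c₁ c₁Γ
  have m₁Q : m₁ ∈ E.Q := E.Q_conj _ E.h_mem hhr m hm
  have m₂Q : m₂ ∈ E.Q := E.Q_conj _ E.h_mem hhr m₁ m₁Q
  have m₁U : m₁ ∈ E.U := E.U_h m hmU
  have m₂U : m₂ ∈ E.U := E.U_h m₁ m₁U
  have ov₁ : Ov E w c₁ m₁ := H.ov_conj E.h_mem hhr h
  have ov₂ : Ov E w c₂ m₂ := H.ov_conj E.h_mem hhr ov₁
  -- `c₁` and `c₂` act in the same way
  have same : ∀ s ∈ Vs E w, c₂ * s * c₂⁻¹ = c₁ * s * c₁⁻¹ := by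
    intro s hs
    have h1 : E.h⁻¹ * s * E.h = s := by rw [mul_assoc, ← H.h_Vs hs, inv_mul_cancel_left]
    calc c₂ * s * c₂⁻¹ = E.h * (c₁ * (E.h⁻¹ * s * E.h) * c₁⁻¹) * E.h⁻¹ := by rw [hc₂]; group
      _ = E.h * (c₁ * s * c₁⁻¹) * E.h⁻¹ := by rw [h1]
      _ = c₁ * s * c₁⁻¹ := conj_eq (H.h_Vs (H.Y_norm c₁Γ m₁Q m₁U ov₁ hs))
  -- `d = c₁⁻¹ c₂` centralizes `V*`
  have hd : ∀ s ∈ Vs E w, (c₁⁻¹ * c₂) * s = s * (c₁⁻¹ * c₂) := by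
    intro s hs
    apply comm_of_conj
    calc c₁⁻¹ * c₂ * s * (c₁⁻¹ * c₂)⁻¹ = c₁⁻¹ * (c₂ * s * c₂⁻¹) * c₁ := by group
      _ = s := by rw [same s hs]; group
  -- `c⁻¹ d` lies over `m⁻¹ m₁⁻¹ m₂ ∈ V`
  have hov := H.ov_mul (inv_mem hc) (mul_mem (inv_mem m₁Q) m₂Q) (H.ov_inv hc hm h)
    (H.ov_mul (inv_mem c₁Γ) m₂Q (H.ov_inv c₁Γ m₁Q ov₁) ov₂)
  have hV : m⁻¹ * (m₁⁻¹ * m₂) ∈ E.V := by
    have h1 := U_norm E hmU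
    have e2 : E.h ^ 2 * m * (E.h ^ 2)⁻¹ = m₂ := by rw [hm₂, hm₁, pow_two]; group
    rw [← hm₁, e2] at h1
    -- `m⁻¹ m₁⁻¹ m₂ = m⁻² (m m₁⁻² m⁻¹) (m m₁ m₂)`
    have e3 : m⁻¹ * (m₁⁻¹ * m₂) = (m * m)⁻¹ * (m * (m₁ * m₁)⁻¹ * m⁻¹) * (m * m₁ * m₂) := by group
    rw [e3]
    refine mul_mem (mul_mem (inv_mem (U_sq_V E hmU)) ?_) h1
    rw [conj_eq (E.U_V hmU (inv_mem (U_sq_V E m₁U)))]
    exact inv_mem (U_sq_V E m₁U)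
  have hsV := H.mem_Vs_of_ov (mul_mem (inv_mem hc) (mul_mem (inv_mem c₁Γ) c₂Γ)) hV
    (mul_mem (inv_mem hm) (mul_mem (inv_mem m₁Q) m₂Q)) hov
  -- `c = d * (c⁻¹ d)⁻¹`
  have e : c = (c₁⁻¹ * c₂) * (c⁻¹ * (c₁⁻¹ * c₂))⁻¹ := by group
  have h2 := H.Vs_comm (inv_mem hsV) hs
  rw [e, mul_assoc, h2, ← mul_assoc, hd s hs, mul_assoc]

/-- elements of `Q` act on the base line: -/
theorem Q_line {m : X} (hm : m ∈ E.Q) : ∃ σ : alternatingGroup (Fin 5), (σ : Equiv.Perm (Fin 5)) 0 = 0 ∧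
    (∀ i, m * E.r i * m⁻¹ = E.r ((σ : Equiv.Perm (Fin 5)) i)) ∧
    (∀ i, m * w (E.r i) * m⁻¹ = w (E.r ((σ : Equiv.Perm (Fin 5)) i))) := by
  obtain ⟨u, hu, σ, hσ, rfl⟩ := E.Q_gen m hm
  have h1 : ∀ i, (u * E.l σ) * E.r i * (u * E.l σ)⁻¹ = E.r ((σ : Equiv.Perm (Fin 5)) i) := by
    intro i
    calc (u * E.l σ) * E.r i * (u * E.l σ)⁻¹ = u * (E.l σ * E.r i * (E.l σ)⁻¹) * u⁻¹ := by group
      _ = E.r ((σ : Equiv.Perm (Fin 5)) i) := by rw [E.l_r, conj_eq (E.U_r u hu.1 _)]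
  exact ⟨σ, hσ.1, h1, fun i => by rw [H.W_conj i (E.Q_le hm), h1]⟩

/-- commutators in `Qh` of elements of `Γ` -/
theorem Γ_comm {c c' : X} (hc : c ∈ Γ) (hc' : c' ∈ Γ) : ∃ ζ ∈ Zh E w, c * c' * c⁻¹ = c' * ζ := by
  obtain ⟨z', hz', h1, -⟩ := H.q.eps
  obtain ⟨m, hm, h⟩ := H.q.mv c hc
  obtain ⟨m', hm', h'⟩ := H.q.mv c' hc'
  have hz : z' ∈ Zh E w := by
    rcases hz' with rfl | rfl
    · exact w_Zh
    · exact mul_mem w_Zh r_Zh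
  obtain ⟨h2, h3⟩ := h1 c hc c' hc' m hm m' hm' h h'
  by_cases hmm : m * m' = m' * m
  · exact ⟨1, one_mem _, by rw [h2 hmm]; group⟩
  · refine ⟨z', hz, ?_⟩
    rw [h3 hmm, mul_assoc (c' * c), ← H.Γ_Zh (inv_mem hc) hz]; group

theorem Γ_sq {c : X} (hc : c ∈ Γ) : c * c ∈ Zh E w := by
  obtain ⟨z', hz', -, h2⟩ := H.q.eps
  obtain ⟨m, hm, h⟩ := H.q.mv c hc
  have hz : z' ∈ Zh E w := by
    rcases hz' with rfl | rfl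
    · exact w_Zh
    · exact mul_mem w_Zh r_Zh
  obtain ⟨h3, h4⟩ := h2 c hc m hm h
  by_cases hmm : m * m = 1
  · rw [h3 hmm]; exact one_mem _
  · rw [h4 hmm]; exact hz

/-- `[c, r_k] ∈ V*` -/
theorem Γ_r {c : X} (hc : c ∈ Γ) (k : Fin 5) : c * E.r k * c⁻¹ ∈ Vs E w := by
  obtain ⟨m, hm, h⟩ := H.exists_ov hc
  obtain ⟨h1, h2⟩ := H.comm_r hc hm h k
  obtain ⟨σ, hσ, h3, -⟩ := H.Q_line hm
  have hV : (E.r k)⁻¹ * m * E.r k * m⁻¹ ∈ E.V := by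
    have e : (E.r k)⁻¹ * m * E.r k * m⁻¹ = (E.r k)⁻¹ * (m * E.r k * m⁻¹) := by group
    rw [e, h3]; exact mul_mem (inv_mem (E.r_V k)) (E.r_V _)
  have hQ : (E.r k)⁻¹ * m * E.r k * m⁻¹ ∈ E.Q := by
    have := mul_mem (U_Q E hm (inv_mem (E.r_U k))) (inv_mem hm)
    rwa [inv_inv] at this
  have h4 := mul_mem (r_Vs (E := E) (w := w) k) (H.mem_Vs_of_ov h2 hV hQ h1)
  have e : E.r k * ((E.r k)⁻¹ * c * E.r k * c⁻¹) = c * E.r k * c⁻¹ := by group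
  rwa [e] at h4

/-- (c) `Γ` normalizes `V*`. -/
theorem Γ_W {c : X} (hc : c ∈ Γ) (i : Fin 5) : c * w (E.r i) * c⁻¹ ∈ Vs E w := by
  by_cases hi : i = 0
  · subst hi
    rw [conj_eq (H.q.w_comm c (H.q.Γ_le hc))]; exact W_Vs 0
  obtain ⟨m, hm, h⟩ := H.exists_ov hc
  obtain ⟨ζ, hζ, hct⟩ := H.ov_inv' hc hm h
  obtain ⟨σ, hσ, hr, hW⟩ := H.Q_line (inv_mem hm)
  set k := (σ : Equiv.Perm (Fin 5)) i with hk
  have hk0 : k ≠ 0 := by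
    intro h0
    apply hi
    rw [hk, ← hσ] at h0
    exact (σ : Equiv.Perm (Fin 5)).injective h0
  -- the sum `s = r_k' ..`
  obtain ⟨σ', hσ', hr', hW'⟩ := H.Q_line hm
  set k' := (σ' : Equiv.Perm (Fin 5)) i with hk'
  have hk0' : k' ≠ 0 := by
    intro h0
    apply hi
    rw [hk', ← hσ'] at h0
    exact (σ' : Equiv.Perm (Fin 5)).injective h0
  -- `c (r_k' w_k' w_i) c⁻¹ ∈ V*`
  have hs : c * (E.r k' * (w (E.r k') * w (E.r i))) * c⁻¹ ∈ Vs E w := by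
    obtain ⟨ζ', hζ', h5⟩ := H.Γ_comm hc (H.q.ww_mem k' i hk0' hi)
    have e : c * (E.r k' * (w (E.r k') * w (E.r i))) * c⁻¹ =
        (c * E.r k' * c⁻¹) * (c * (w (E.r k') * w (E.r i)) * c⁻¹) := by group
    rw [e, h5]
    exact mul_mem (H.Γ_r hc k') (mul_mem (mul_mem (W_Vs _) (W_Vs _)) (Zh_le_Vs hζ'))
  refine H.toC0.mem_Vs_of (g := c * w (E.r i) * c⁻¹) ?_ ?_ hs ?_
  · intro u hu
    obtain ⟨h1, h2⟩ := H.comm_U hc hm h hu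
    have hQ : u⁻¹ * m⁻¹ * u * m ∈ E.Q := by
      have := mul_mem (U_Q E (inv_mem hm) (inv_mem hu)) hm
      rwa [inv_inv] at this
    have hU : u⁻¹ * m⁻¹ * u * m ∈ E.U := by
      have h3 := Q_U E (inv_mem hm) hu
      rw [inv_inv] at h3
      have e : u⁻¹ * m⁻¹ * u * m = u⁻¹ * (m⁻¹ * u * m) := by group
      rw [e]; exact mul_mem (inv_mem hu) h3
    have h4 := H.Y_cent h2 hQ hU h1 (W_Vs i)
    have h5 : w (E.r i) * (c⁻¹ * u * c) = (c⁻¹ * u * c) * w (E.r i) := by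
      have e : c⁻¹ * u * c = u * (u⁻¹ * c⁻¹ * u * c) := by group
      rw [e]
      generalize u⁻¹ * c⁻¹ * u * c = y at h4 ⊢
      rw [← mul_assoc, ← H.U_W i hu, mul_assoc, ← h4, mul_assoc]
    calc c * w (E.r i) * c⁻¹ * u = c * (w (E.r i) * (c⁻¹ * u * c)) * c⁻¹ := by group
      _ = u * (c * w (E.r i) * c⁻¹) := by rw [h5]; group
  · have h6 := H.q.w_comm c (H.q.Γ_le hc)
    have h7 := comm_inv h6
    calc c * w (E.r i) * c⁻¹ * w (E.r 0) = c * (w (E.r i) * w (E.r 0)) * c⁻¹ := by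
          rw [mul_assoc _ c⁻¹, h7]; group
      _ = (c * w (E.r 0)) * w (E.r i) * c⁻¹ := by rw [H.zero.comm]; group
      _ = w (E.r 0) * (c * w (E.r i) * c⁻¹) := by rw [h6]; group
  · have hWi := H.W_inv i
    have hζW : w (E.r i) * ζ = ζ * w (E.r i) := H.Vs_comm (W_Vs i) (Zh_le_Vs hζ)
    -- `w_i m⁻¹ w_i⁻¹ = m⁻¹ (m w_i m⁻¹) w_i⁻¹ = m⁻¹ w_k' w_i`
    have h8 : w (E.r i) * m⁻¹ * (w (E.r i))⁻¹ = m⁻¹ * (w (E.r k') * w (E.r i)) := by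
      rw [hWi, hk', ← hW' i]; group
    have h9 : E.r i * m⁻¹ = m⁻¹ * E.r k' := by
      rw [hk', ← hr' i]; group
    have h10 : w (E.r k') * w (E.r i) * ζ = ζ * (w (E.r k') * w (E.r i)) :=
      H.Vs_comm (mul_mem (W_Vs _) (W_Vs _)) (Zh_le_Vs hζ)
    have h11 : E.r k' * ζ = ζ * E.r k' := H.Vs_comm (r_Vs _) (Zh_le_Vs hζ)
    calc c * w (E.r i) * c⁻¹ * t * (c * w (E.r i) * c⁻¹)⁻¹
        = c * (w (E.r i) * (c⁻¹ * t * c) * (w (E.r i))⁻¹) * c⁻¹ := by group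
      _ = c * ((w (E.r i) * t * (w (E.r i))⁻¹) * (w (E.r i) * m⁻¹ * (w (E.r i))⁻¹) *
            (w (E.r i) * ζ * (w (E.r i))⁻¹)) * c⁻¹ := by rw [hct]; group
      _ = c * (t * (E.r i * m⁻¹) * (w (E.r k') * w (E.r i) * ζ)) * c⁻¹ := by
          rw [H.W_t, h8, conj_eq hζW]; group
      _ = c * (t * m⁻¹ * (E.r k' * ζ) * (w (E.r k') * w (E.r i))) * c⁻¹ := by
          rw [h9, h10]; group
      _ = c * ((t * (m⁻¹ * ζ)) * (E.r k' * (w (E.r k') * w (E.r i)))) * c⁻¹ := by rw [h11]; group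
      _ = t * (c * (E.r k' * (w (E.r k') * w (E.r i))) * c⁻¹) := by rw [← hct]; group

theorem Γ_Vs {c s : X} (hc : c ∈ Γ) (hs : s ∈ Vs E w) : c * s * c⁻¹ ∈ Vs E w :=
  conj_Vs (H.Γ_r hc) (H.Γ_W hc) hs

/-- `Qh` normalizes `V*`. -/
theorem Qh_Vs {g s : X} (hg : g ∈ Qh) (hs : s ∈ Vs E w) : g * s * g⁻¹ ∈ Vs E w := by
  obtain ⟨q, hq, c, hc, rfl⟩ := H.q.gen g hg
  have e : q * c * s * (q * c)⁻¹ = q * (c * s * c⁻¹) * q⁻¹ := by group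
  rw [e]
  exact H.Q_Vs hq (H.Γ_Vs hc hs)

end Ctx

end Cfsg.Agent.UFiveTwo.Big
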