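import Cfsg.Agent.UFiveTwo.BigS

/-!
# S1778, type `U₅(2)`, section 7 (VIII): orders: `|V*| = 2⁸`, `|U*| = 2¹⁶`, `|S₀| = 2²⁰`
-/

set_option autoImplicit false

namespace Cfsg.Agent.UFiveTwo.Big

open Subgroup Cfsg.Agent.UFiveTwo.Line

universe u

/-- Counting with a multiplicative relation. -/
theorem card_rel {X : Type u} [Group X] {L K M N : Subgroup X} (hK : K ≤ L) (hN : N ≤ M)
    (nor : ∀ m ∈ M, ∀ n ∈ N, m * n * m⁻¹ ∈ N) (R : X → X → Prop)
    (tot : ∀ x ∈ L, ∃ m ∈ M, R x m) (onto : ∀ m ∈ M, ∃ x ∈ L, R x m)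
    (mul : ∀ x ∈ L, ∀ y ∈ L, ∀ m ∈ M, ∀ m' ∈ M, R x m → R y m' → R (x * y) (m * m'))
    (uniq : ∀ x ∈ L, ∀ m ∈ M, ∀ m' ∈ M, R x m → R x m' → m⁻¹ * m' ∈ N)
    (ker : ∀ x ∈ L, ∀ m ∈ M, R x m → (x ∈ K ↔ m ∈ N)) :
    Nat.card L * Nat.card N = Nat.card K * Nat.card M := by
  classical
  haveI : (N.subgroupOf M).Normal := ⟨fun n hn g => by
    rw [mem_subgroupOf] at hn ⊢
    exact nor g g.2 n hn⟩
  choose f hf hR using tot
  let φ : L →* (M ⧸ N.subgroupOf M) := MonoidHom.mk' (fun x => QuotientGroup.mk ⟨f x x.2, hf x x.2⟩) (by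
    intro x y
    rw [← QuotientGroup.mk_mul, QuotientGroup.eq, mem_subgroupOf]
    exact uniq (x * y : L) (x * y : L).2 _ (hf _ _) _ (mul_mem (hf _ _) (hf _ _)) (hR _ _)
      (mul _ x.2 _ y.2 _ (hf _ _) _ (hf _ _) (hR _ _) (hR _ _)))
  have hker : φ.ker = K.subgroupOf L := by
    ext x
    rw [MonoidHom.mem_ker, mem_subgroupOf, ker x x.2 _ (hf x x.2) (hR x x.2)]
    change (QuotientGroup.mk _ : M ⧸ N.subgroupOf M) = 1 ↔ _
    rw [QuotientGroup.eq_one_iff, mem_subgroupOf]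
  have hsurj : Function.Surjective φ := by
    intro q
    obtain ⟨m, rfl⟩ := QuotientGroup.mk_surjective q
    obtain ⟨x, hx, h⟩ := onto m m.2
    refine ⟨⟨x, hx⟩, ?_⟩
    change (QuotientGroup.mk _ : M ⧸ N.subgroupOf M) = _
    rw [QuotientGroup.eq, mem_subgroupOf]
    exact uniq x hx _ (hf x hx) _ m.2 (hR x hx) h
  have h1 : φ.ker.index = Nat.card (M ⧸ N.subgroupOf M) := by
    rw [Subgroup.index_ker, MonoidHom.range_eq_top.mpr hsurj]
    exact Nat.card_congr Subgroup.topEquiv.toEquiv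
  have h2 := Subgroup.card_mul_index (K.subgroupOf L)
  have h3 := Subgroup.card_mul_index (N.subgroupOf M)
  have h4 : Nat.card (K.subgroupOf L) = Nat.card K := Nat.card_congr (subgroupOfEquivOfLe hK).toEquiv
  have h5 : Nat.card (N.subgroupOf M) = Nat.card N := Nat.card_congr (subgroupOfEquivOfLe hN).toEquiv
  rw [hker] at h1
  rw [h4, h1] at h2
  rw [h5, Subgroup.index] at h3
  rw [← h2, ← h3]
  ring

variable {X : Type u} [Group X] {A : Subgroup X} {t : X} {E : Env A t} {w : X → X} {Qh Γ : Subgroup X}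

theorem U_Vs_V (H : C0 E w) {u : X} (hu : u ∈ E.U) (hs : u ∈ Vs E w) : u ∈ E.V :=
  H.mem_V_of_comm hs (E.t_A u (E.U_le hu))

theorem card_V (H : C0 E w) : Nat.card E.V = 2 ^ 4 := H.R5r.card_closure

/-- `|V*| = 2⁸` -/
theorem card_Vs (H : C0 E w) : Nat.card (Vs E w) = 2 ^ 8 := by
  have h := card_rel (L := Vs E w) (K := E.V) (M := E.V) (N := ⊥) V_le_Vs bot_le
    (fun m _ n hn => by rw [mem_bot.mp hn]; simp) (fun s v => t * s * t = s * v)
    (fun s hs => by obtain ⟨v, hv, h, -⟩ := H.t_Vs hs; exact ⟨v, hv, h⟩)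
    (fun v hv => by
      obtain ⟨s, hs, h⟩ := H.exists_Vs hv
      refine ⟨s, hs, ?_⟩
      have hsv := H.Vs_comm hs (V_le_Vs hv)
      have h2 : s * t = t * v * s := by rw [← h]; group
      calc t * s * t = t * (s * t) := by group
        _ = (t * t) * (v * s) := by rw [h2]; group
        _ = s * v := by rw [E.t_sq, one_mul, hsv])
    (fun x hx y hy m hm m' hm' h h' => by
      have hy' := H.Vs_comm (V_le_Vs hm) hy
      calc t * (x * y) * t = t * x * (1 * y) * t := by group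
        _ = (t * x * t) * (t * y * t) := by rw [← E.t_sq]; group
        _ = x * (m * y) * m' := by rw [h, h']; group
        _ = x * y * (m * m') := by rw [hy']; group)
    (fun x _ m _ m' _ h h' => by rw [mem_bot, mul_left_cancel (h.symm.trans h'), inv_mul_cancel])
    (fun x hx m _ h => by
      rw [mem_bot]
      constructor
      · intro hxV
        rw [H.t_V hxV, mul_assoc, E.t_sq, mul_one, left_eq_mul] at h
        exact h
      · rintro rfl
        apply H.mem_V_of_comm hx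
        calc t * x = t * x * t * t := by rw [mul_assoc (t * x), E.t_sq, mul_one]
          _ = x * t := by rw [h, mul_one])
  rw [Subgroup.card_bot, mul_one, card_V H] at h
  rw [h]; norm_num

/-- The group `U V*`. -/
def UV (H : C0 E w) : Subgroup X where
  carrier := {x | ∃ u ∈ E.U, ∃ s ∈ Vs E w, x = u * s}
  one_mem' := ⟨1, one_mem _, 1, one_mem _, (mul_one 1).symm⟩
  mul_mem' := by
    rintro _ _ ⟨u, hu, s, hs, rfl⟩ ⟨u', hu', s', hs', rfl⟩
    refine ⟨u * u', mul_mem hu hu', s * s', mul_mem hs hs', ?_⟩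
    calc u * s * (u' * s') = u * (s * u') * s' := by group
      _ = _ := by rw [← H.U_Vs hu' hs]; group
  inv_mem' := by
    rintro _ ⟨u, hu, s, hs, rfl⟩
    refine ⟨u⁻¹, inv_mem hu, s⁻¹, inv_mem hs, ?_⟩
    rw [mul_inv_rev, H.U_Vs (inv_mem hu) (inv_mem hs)]

theorem mem_UV (H : C0 E w) {x : X} : x ∈ UV H ↔ ∃ u ∈ E.U, ∃ s ∈ Vs E w, x = u * s := Iff.rfl

theorem Vs_le_UV (H : C0 E w) : Vs E w ≤ UV H := fun s hs => ⟨1, one_mem _, s, hs, (one_mul s).symm⟩

theorem UV_le_Us (H : C0 E w) : UV H ≤ Us H := by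
  rintro _ ⟨u, hu, s, hs, rfl⟩
  exact mul_mem (H.U_le_Us hu) (H.Vs_le_Us hs)

/-- `|U V*| = 2¹²` -/
theorem card_UV (H : C0 E w) : Nat.card (UV H) = 2 ^ 12 := by
  have h := card_rel (L := UV H) (K := Vs E w) (M := E.U) (N := E.V) (Vs_le_UV H) E.V_le_U
    (fun m hm n hn => by rw [conj_eq (E.U_V hm hn)]; exact hn) (fun x u => ∃ s ∈ Vs E w, x = u * s)
    (fun x hx => hx) (fun u hu => ⟨u, ⟨u, hu, 1, one_mem _, (mul_one u).symm⟩, 1, one_mem _, (mul_one u).symm⟩)
    (by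
      rintro _ - _ - u hu u' hu' ⟨s, hs, rfl⟩ ⟨s', hs', rfl⟩
      refine ⟨s * s', mul_mem hs hs', ?_⟩
      calc u * s * (u' * s') = u * (s * u') * s' := by group
        _ = _ := by rw [← H.U_Vs hu' hs]; group)
    (by
      rintro _ - u hu u' hu' ⟨s, hs, rfl⟩ ⟨s', hs', h'⟩
      apply U_Vs_V H (mul_mem (inv_mem hu) hu')
      have : u⁻¹ * u' = s * s'⁻¹ := by
        calc u⁻¹ * u' = u⁻¹ * (u' * s') * s'⁻¹ := by group
          _ = s * s'⁻¹ := by rw [← h']; group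
      rw [this]; exact mul_mem hs (inv_mem hs'))
    (by
      rintro _ - u hu ⟨s, hs, rfl⟩
      constructor
      · intro h1
        apply U_Vs_V H hu
        have := mul_mem h1 (inv_mem hs)
        rwa [mul_inv_cancel_right] at this
      · intro h1
        exact mul_mem (V_le_Vs h1) hs)
  rw [card_V H, card_Vs H, E.card_U] at h
  omega

/-- `|U*| = 2¹⁶` -/
theorem Ctx.card_Us (H : Ctx E w Qh Γ) : Nat.card (Us H.toC0) = 2 ^ 16 := by
  have h := card_rel (L := Us H.toC0) (K := UV H.toC0) (M := E.U) (N := E.V) (UV_le_Us H.toC0) E.V_le_U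
    (fun m hm n hn => by rw [conj_eq (E.U_V hm hn)]; exact hn) (Ps E w)
    (fun x hx => hx.2) (fun u hu => by
      obtain ⟨n, hn, h⟩ := H.exists_Us hu
      exact ⟨n, hn, h⟩)
    (fun x hx y hy m hm m' hm' h h' => H.ps_mul hx.1 hm' h h')
    (by
      rintro x - u hu u' hu' ⟨s, hs, h⟩ ⟨s', hs', h'⟩
      apply U_Vs_V H.toC0 (mul_mem (inv_mem hu) hu')
      have h1 : u * s = u' * s' := mul_left_cancel (h.symm.trans h')
      have : u⁻¹ * u' = s * s'⁻¹ := by
        calc u⁻¹ * u' = u⁻¹ * (u' * s') * s'⁻¹ := by group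
          _ = s * s'⁻¹ := by rw [← h1]; group
      rw [this]; exact mul_mem hs (inv_mem hs'))
    (by
      rintro x hx u hu h
      constructor
      · rintro ⟨u', hu', s', hs', rfl⟩
        have h1 := H.ps_mul (H.ac_U hu') (one_mem _) (H.ps_U hu') (H.ps_Vs hs')
        obtain ⟨s₁, hs₁, h1⟩ := h1
        obtain ⟨s₂, hs₂, h2⟩ := h
        have h3 : 1 * 1 * s₁ = u * s₂ := mul_left_cancel (h1.symm.trans h2)
        apply U_Vs_V H.toC0 hu
        have : u = s₁ * s₂⁻¹ := by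
          calc u = u * s₂ * s₂⁻¹ := by group
            _ = _ := by rw [← h3]; group
        rw [this]; exact mul_mem hs₁ (inv_mem hs₂)
      · intro h1
        obtain ⟨u', hu', s', hs', h2⟩ := H.mem_UVs hx.1 (V_le_Vs h1) h
        exact ⟨u', hu', s', hs', h2⟩)
  rw [card_V H.toC0, card_UV H.toC0, E.card_U] at h
  omega

end Cfsg.Agent.UFiveTwo.Big
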