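import Cfsg.Agent.UFiveTwo.BigV
import Cfsg.Agent.UFiveTwo.QHatDef

/-!
# S1778, type `U₅(2)`, section 7 (II): the elements of `Γ`, "over" elements of `Q`
-/

set_option autoImplicit false

namespace Cfsg.Agent.UFiveTwo.Big

open Subgroup Cfsg.Agent.UFiveTwo.Line

universe u

variable {X : Type u} [Group X] {A : Subgroup X} {t : X} {E : Env A t} {w : X → X}

/-- `Z^ = {1, z, w₀, z w₀}`. -/
def Zh (E : Env A t) (w : X → X) : Subgroup X := closure {E.r 0, w (E.r 0)}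

theorem r_Zh : E.r 0 ∈ Zh E w := subset_closure (Or.inl rfl)

theorem w_Zh : w (E.r 0) ∈ Zh E w := subset_closure (Or.inr rfl)

theorem Zh_le {N : Subgroup X} (h1 : E.r 0 ∈ N) (h2 : w (E.r 0) ∈ N) : Zh E w ≤ N := by
  rw [Zh, closure_le]
  rintro _ (rfl | rfl)
  · exact h1
  · exact h2

theorem Zh_le_Vs : Zh E w ≤ Vs E w := Zh_le (r_Vs 0) (W_Vs 0)

theorem comm_Zh {g : X} (h1 : g * E.r 0 = E.r 0 * g) (h2 : g * w (E.r 0) = w (E.r 0) * g) {ζ : X} (hζ : ζ ∈ Zh E w) :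
    g * ζ = ζ * g := by
  have : Zh E w ≤ centralizer {g} :=
    Zh_le (mem_centralizer_singleton_iff.mpr h1.symm) (mem_centralizer_singleton_iff.mpr h2.symm)
  exact (mem_centralizer_singleton_iff.mp (this hζ)).symm

namespace C0

variable (H : C0 E w)

include H

theorem mem_Zh {ζ : X} (hζ : ζ ∈ Zh E w) : ζ = 1 ∨ ζ = E.r 0 ∨ ζ = w (E.r 0) ∨ ζ = E.r 0 * w (E.r 0) := by
  have h1 := E.r_sq 0
  have h2 := H.W_sq 0
  have h3 := H.r_W 0 0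
  have r2 : ∀ v, E.r 0 * (E.r 0 * v) = v := fun v => by rw [← mul_assoc, h1, one_mul]
  have w2 : ∀ v, w (E.r 0) * (w (E.r 0) * v) = v := fun v => by rw [← mul_assoc, h2, one_mul]
  have wr : w (E.r 0) * E.r 0 = E.r 0 * w (E.r 0) := h3.symm
  have wr2 : ∀ v, w (E.r 0) * (E.r 0 * v) = E.r 0 * (w (E.r 0) * v) := fun v => by rw [← mul_assoc, wr, mul_assoc]
  induction hζ using closure_induction with
  | mem x hx =>
    rcases hx with rfl | rfl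
    · exact Or.inr (Or.inl rfl)
    · exact Or.inr (Or.inr (Or.inl rfl))
  | one => exact Or.inl rfl
  | mul x y _ _ hx hy =>
    rcases hx with rfl | rfl | rfl | rfl <;> rcases hy with rfl | rfl | rfl | rfl <;>
      simp only [mul_assoc, wr, wr2, r2, w2, h1, h2, one_mul, mul_one, true_or, or_true]
  | inv x _ hx =>
    have h5 : (E.r 0)⁻¹ = E.r 0 := inv_eq_of_mul_eq_one_left h1
    have h6 : (w (E.r 0))⁻¹ = w (E.r 0) := inv_eq_of_mul_eq_one_left h2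
    rcases hx with rfl | rfl | rfl | rfl <;>
      simp only [mul_inv_rev, inv_one, h5, h6, wr, true_or, or_true]

theorem wt_ne : w (E.r 0) * t ≠ t * w (E.r 0) := by
  intro h
  have h1 := H.W_t 0
  rw [h, mul_inv_cancel_right, left_eq_mul] at h1
  exact E.r_ne h1

/-- Elements of `Z^` commuting with `t`. -/
theorem Zh_comm_t {ζ : X} (hζ : ζ ∈ Zh E w) (h : ζ * t = t * ζ) : ζ = 1 ∨ ζ = E.r 0 := by
  rcases H.mem_Zh hζ with rfl | rfl | rfl | rfl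
  · exact Or.inl rfl
  · exact Or.inr rfl
  · exact absurd h H.wt_ne
  · exfalso
    apply H.wt_ne
    have h1 : E.r 0 * (w (E.r 0) * t) = E.r 0 * (t * w (E.r 0)) := by
      calc E.r 0 * (w (E.r 0) * t) = E.r 0 * w (E.r 0) * t := by group
        _ = t * (E.r 0 * w (E.r 0)) := h
        _ = E.r 0 * (t * w (E.r 0)) := by rw [← mul_assoc, H.t_r]; group
    exact mul_left_cancel h1

/-- `Q ∩ Z^ = {1, z}`. -/
theorem Zh_Q {ζ : X} (hζ : ζ ∈ Zh E w) (h : ζ ∈ E.Q) : ζ = 1 ∨ ζ = E.r 0 :=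
  H.Zh_comm_t hζ (E.t_A _ (E.Q_le h)).symm

/-- Involutions of `tZ^` are `t`, `tz`. -/
theorem Zh_sq_t {ζ : X} (hζ : ζ ∈ Zh E w) (h : t * ζ * (t * ζ) = 1) : ζ = 1 ∨ ζ = E.r 0 := by
  apply H.Zh_comm_t hζ
  have h1 := H.mem_V_of_sq (Zh_le_Vs hζ) h
  exact (H.t_V h1).symm

end C0

/-- `g` lies over `m`: `g t g⁻¹ ∈ t m Z^`. -/
def Ov (E : Env A t) (w : X → X) (g m : X) : Prop := ∃ ζ ∈ Zh E w, g * t * g⁻¹ = t * (m * ζ)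

/-- The context: case `c = 0`, with `Qh`, `Γ`. -/
structure Ctx (E : Env A t) (w : X → X) (Qh Γ : Subgroup X) : Prop extends C0 E w where
  q : QHat E w Qh Γ

variable {Qh Γ : Subgroup X}

namespace Ctx

variable (H : Ctx E w Qh Γ)

include H

theorem Zh_Γ : Zh E w ≤ Γ := Zh_le H.q.r_mem H.q.w_mem

theorem Zh_Qh : Zh E w ≤ Qh := H.Zh_Γ.trans H.q.Γ_le

theorem Qh_Zh {g ζ : X} (hg : g ∈ Qh) (hζ : ζ ∈ Zh E w) : g * ζ = ζ * g :=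
  comm_Zh (H.q.r_comm g hg) (H.q.w_comm g hg) hζ

theorem Γ_Zh {g ζ : X} (hg : g ∈ Γ) (hζ : ζ ∈ Zh E w) : g * ζ = ζ * g := H.Qh_Zh (H.q.Γ_le hg) hζ

theorem Q_Zh {g ζ : X} (hg : g ∈ E.Q) (hζ : ζ ∈ Zh E w) : g * ζ = ζ * g := H.Qh_Zh (H.q.Q_le hg) hζ

theorem D_Zh {a ζ : X} (ha : a ∈ A) (har : a * E.r 0 = E.r 0 * a) (hζ : ζ ∈ Zh E w) : a * ζ = ζ * a :=
  comm_Zh har (H.toC0.D_W ha har) hζ

theorem U_Zh {u ζ : X} (hu : u ∈ E.U) (hζ : ζ ∈ Zh E w) : u * ζ = ζ * u := H.toC0.U_Vs hu (Zh_le_Vs hζ)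

theorem ov_of_mv {g m : X} (h : Mv t (w (E.r 0)) g m) : Ov E w g m := by
  rcases h with h | h
  · exact ⟨1, one_mem _, by rw [mul_one]; exact h⟩
  · exact ⟨_, w_Zh, h⟩

theorem exists_ov {g : X} (hg : g ∈ Γ) : ∃ m ∈ E.Q, Ov E w g m := by
  obtain ⟨m, hm, h⟩ := H.q.mv g hg
  exact ⟨m, hm, H.ov_of_mv h⟩

theorem exists_ov' {m : X} (hm : m ∈ E.Q) : ∃ g ∈ Γ, Ov E w g m := by
  obtain ⟨g, hg, h⟩ := H.q.onto m hm
  exact ⟨g, hg, H.ov_of_mv h⟩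

/-- `m` is unique up to `z` -/
theorem ov_unique {g m m' : X} (hm : m ∈ E.Q) (hm' : m' ∈ E.Q) (h : Ov E w g m) (h' : Ov E w g m') :
    m = m' ∨ m = m' * E.r 0 := by
  obtain ⟨ζ, hζ, h⟩ := h
  obtain ⟨ζ', hζ', h'⟩ := h'
  have h1 : m * ζ = m' * ζ' := mul_left_cancel (h.symm.trans h')
  have h2 : m'⁻¹ * m = ζ' * ζ⁻¹ := by
    calc m'⁻¹ * m = m'⁻¹ * (m * ζ) * ζ⁻¹ := by group
      _ = ζ' * ζ⁻¹ := by rw [h1]; group
  have h3 : m'⁻¹ * m ∈ Zh E w := by rw [h2]; exact mul_mem hζ' (inv_mem hζ)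
  rcases H.toC0.Zh_Q h3 (mul_mem (inv_mem hm') hm) with h4 | h4
  · left; exact (inv_mul_eq_one.mp h4).symm
  · right; rw [← h4]; group

/-- commutation with an element of `Q` -/
theorem ov_comm {g m : X} (hg : g ∈ Γ) (hm : m ∈ E.Q) (h : Ov E w g m) {q : X} (hq : q ∈ E.Q) (hmq : m * q = q * m) :
    g * q = q * g := by
  obtain ⟨m', hm', h'⟩ := H.q.mv g hg
  apply H.q.form0 g hg m' hm' h' q hq
  rcases H.ov_unique hm' hm (H.ov_of_mv h') h with rfl | rfl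
  · exact hmq
  · rw [mul_assoc, ← E.Q_r q hq, ← mul_assoc, hmq, mul_assoc]

theorem ov_not_comm {g m : X} (hg : g ∈ Γ) (hm : m ∈ E.Q) (h : Ov E w g m) {q : X} (hq : q ∈ E.Q)
    (hmq : m * q ≠ q * m) : g * q = q * g * w (E.r 0) := by
  obtain ⟨m', hm', h'⟩ := H.q.mv g hg
  apply H.q.form1 g hg m' hm' h' q hq
  intro hc
  apply hmq
  rcases H.ov_unique hm hm' h (H.ov_of_mv h') with rfl | rfl
  · exact hc
  · rw [mul_assoc, ← E.Q_r q hq, ← mul_assoc, hc, mul_assoc]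

/-- `g q g⁻¹ ∈ q Z^` -/
theorem Γ_Q {g q : X} (hg : g ∈ Γ) (hq : q ∈ E.Q) : ∃ ζ ∈ Zh E w, g * q * g⁻¹ = q * ζ := by
  obtain ⟨m, hm, h⟩ := H.exists_ov hg
  by_cases hc : m * q = q * m
  · exact ⟨1, one_mem _, by rw [H.ov_comm hg hm h hq hc]; group⟩
  · refine ⟨_, w_Zh, ?_⟩
    rw [H.ov_not_comm hg hm h hq hc, mul_assoc (q * g), ← H.Γ_Zh (inv_mem hg) w_Zh]; group

theorem ov_mul {g g' m m' : X} (hg : g ∈ Γ) (hm' : m' ∈ E.Q) (h : Ov E w g m) (h' : Ov E w g' m') :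
    Ov E w (g * g') (m * m') := by
  obtain ⟨ζ, hζ, h⟩ := h
  obtain ⟨ζ', hζ', h'⟩ := h'
  obtain ⟨ζ₂, hζ₂, h2⟩ := H.Γ_Q hg hm'
  refine ⟨ζ * ζ₂ * ζ', mul_mem (mul_mem hζ hζ₂) hζ', ?_⟩
  have e1 : g * ζ' * g⁻¹ = ζ' := conj_eq (H.Γ_Zh hg hζ')
  calc g * g' * t * (g * g')⁻¹ = g * (g' * t * g'⁻¹) * g⁻¹ := by group
    _ = (g * t * g⁻¹) * (g * m' * g⁻¹) * (g * ζ' * g⁻¹) := by rw [h']; group
    _ = t * (m * (ζ * m') * ζ₂ * ζ') := by rw [h, h2, e1]; group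
    _ = t * (m * m' * (ζ * ζ₂ * ζ')) := by rw [← H.Q_Zh hm' hζ]; group

theorem ov_inv {g m : X} (hg : g ∈ Γ) (hm : m ∈ E.Q) (h : Ov E w g m) : Ov E w g⁻¹ m⁻¹ := by
  obtain ⟨ζ, hζ, h⟩ := h
  obtain ⟨ζ₂, hζ₂, h2⟩ := H.Γ_Q (inv_mem hg) (inv_mem hm)
  refine ⟨ζ₂ * ζ⁻¹, mul_mem hζ₂ (inv_mem hζ), ?_⟩
  have e1 : g⁻¹ * ζ⁻¹ * g⁻¹⁻¹ = ζ⁻¹ := conj_eq (H.Γ_Zh (inv_mem hg) (inv_mem hζ))
  have e3 : ζ⁻¹ * m⁻¹ = m⁻¹ * ζ⁻¹ := (H.Q_Zh (inv_mem hm) (inv_mem hζ)).symm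
  calc g⁻¹ * t * g⁻¹⁻¹ = g⁻¹ * (t * (m * ζ) * ζ⁻¹ * m⁻¹) * g⁻¹⁻¹ := by group
    _ = g⁻¹ * ((g * t * g⁻¹) * (ζ⁻¹ * m⁻¹)) * g⁻¹⁻¹ := by rw [← h]; group
    _ = t * (g⁻¹ * m⁻¹ * g⁻¹⁻¹) * (g⁻¹ * ζ⁻¹ * g⁻¹⁻¹) := by rw [e3]; group
    _ = t * (m⁻¹ * (ζ₂ * ζ⁻¹)) := by rw [h2, e1]; group

theorem ov_conj {g m a : X} (ha : a ∈ A) (har : a * E.r 0 = E.r 0 * a) (h : Ov E w g m) :
    Ov E w (a * g * a⁻¹) (a * m * a⁻¹) := by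
  obtain ⟨ζ, hζ, h⟩ := h
  refine ⟨ζ, hζ, ?_⟩
  have e1 : a⁻¹ * t * a = t := by rw [mul_assoc, E.t_A a ha, inv_mul_cancel_left]
  have e2 : a * ζ * a⁻¹ = ζ := conj_eq (H.D_Zh ha har hζ)
  have e3 : a * t * a⁻¹ = t := by rw [← E.t_A a ha, mul_inv_cancel_right]
  calc a * g * a⁻¹ * t * (a * g * a⁻¹)⁻¹ = a * (g * (a⁻¹ * t * a) * g⁻¹) * a⁻¹ := by group
    _ = (a * t * a⁻¹) * (a * m * a⁻¹) * (a * ζ * a⁻¹) := by rw [e1, h]; group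
    _ = t * (a * m * a⁻¹ * ζ) := by rw [e2, e3]; group

theorem ov_ker {g : X} (hg : g ∈ Γ) (h : Ov E w g 1) : g ∈ Zh E w := by
  obtain ⟨ζ, hζ, h⟩ := h
  rw [one_mul] at h
  have h1 : t * ζ * (t * ζ) = 1 := by
    rw [← h]
    calc g * t * g⁻¹ * (g * t * g⁻¹) = g * (t * t) * g⁻¹ := by group
      _ = 1 := by rw [E.t_sq]; group
  have h2 : g = 1 ∨ g = E.r 0 ∨ g = w (E.r 0) ∨ g = E.r 0 * w (E.r 0) := by
    apply H.q.ker g hg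
    rcases H.toC0.Zh_sq_t hζ h1 with rfl | rfl
    · left; left; exact h
    · right; left; exact h
  rcases h2 with rfl | rfl | rfl | rfl
  · exact one_mem _
  · exact r_Zh
  · exact w_Zh
  · exact mul_mem r_Zh w_Zh

theorem ov_ker' {g : X} (hg : g ∈ Γ) (h : Ov E w g (E.r 0)) : g ∈ Zh E w := by
  apply H.ov_ker hg
  obtain ⟨ζ, hζ, h⟩ := h
  exact ⟨E.r 0 * ζ, mul_mem r_Zh hζ, by rw [one_mul]; exact h⟩

/-- Two elements over the same `m` differ by `Z^`. -/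
theorem ov_eq {g g' m : X} (hg : g ∈ Γ) (hg' : g' ∈ Γ) (hm : m ∈ E.Q) (h : Ov E w g m) (h' : Ov E w g' m) :
    g⁻¹ * g' ∈ Zh E w := by
  apply H.ov_ker (mul_mem (inv_mem hg) hg')
  have := H.ov_mul (inv_mem hg) hm (H.ov_inv hg hm h) h'
  rwa [inv_mul_cancel] at this

theorem ov_zh {ζ : X} (hζ : ζ ∈ Zh E w) : Ov E w ζ 1 := by
  rcases H.toC0.mem_Zh hζ with rfl | rfl | rfl | rfl
  · exact ⟨1, one_mem _, by group⟩
  · exact ⟨1, one_mem _, by rw [← H.toC0.t_r]; group⟩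
  · exact ⟨_, r_Zh, by rw [H.toC0.W_t]; group⟩
  · refine ⟨_, r_Zh, ?_⟩
    calc E.r 0 * w (E.r 0) * t * (E.r 0 * w (E.r 0))⁻¹ = E.r 0 * (w (E.r 0) * t * (w (E.r 0))⁻¹) * (E.r 0)⁻¹ := by group
      _ = t * (1 * E.r 0) := by rw [H.toC0.W_t, ← mul_assoc, ← H.toC0.t_r]; group

end Ctx

end Cfsg.Agent.UFiveTwo.Big
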