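import Cfsg.Agent.UFiveTwo.BigG

/-!
# S1778, type `U₅(2)`, section 7 (III): `Y*` centralizes `V*`, `Qh` normalizes `V*`
-/

set_option autoImplicit false

namespace Cfsg.Agent.UFiveTwo.Big

open Subgroup Cfsg.Agent.UFiveTwo.Line

universe u

variable {X : Type u} [Group X] {A : Subgroup X} {t : X} {E : Env A t} {w : X → X}

section UFacts

variable (E)

theorem U_sq_V {u : X} (hu : u ∈ E.U) : u * u ∈ E.V := by
  rcases E.U_sq u hu with h | ⟨i, h⟩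
  · rw [h]; exact one_mem _
  · rw [h]; exact E.r_V i

/-- `U / V` is abelian. -/
theorem U_comm_V {u u' : X} (hu : u ∈ E.U) (hu' : u' ∈ E.U) : ∃ v ∈ E.V, u * u' = u' * u * v := by
  have h1 := U_sq_V E (mul_mem hu hu')
  have h2 := U_sq_V E hu
  have h3 := U_sq_V E hu'
  refine ⟨u⁻¹ * u'⁻¹ * (u * u'), ?_, by group⟩
  -- `u⁻¹ u'⁻¹ u u' = u⁻² (u u'⁻¹)^2 .. `; use squares
  have e : u⁻¹ * u'⁻¹ * (u * u') = (u * u)⁻¹ * (u * (u' * u')⁻¹ * u⁻¹) * (u * u' * (u * u')) := by group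
  rw [e]
  refine mul_mem (mul_mem (inv_mem h2) ?_) h1
  have : u * (u' * u')⁻¹ * u⁻¹ = (u' * u')⁻¹ := conj_eq (E.U_V hu (inv_mem h3))
  rw [this]; exact inv_mem h3

/-- an `h`-fixed element of `U / V` is trivial -/
theorem U_fix_V {u : X} (hu : u ∈ E.U) {v : X} (hv : v ∈ E.V) (h : E.h * u * E.h⁻¹ = u * v) : u ∈ E.V := by
  apply E.U_fix u hu
  have hvh : E.h * v * E.h⁻¹ = v := conj_eq (E.h_V hv)
  have h2 : E.h ^ 2 * u * (E.h ^ 2)⁻¹ = u * (v * v) := by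
    calc E.h ^ 2 * u * (E.h ^ 2)⁻¹ = E.h * (E.h * u * E.h⁻¹) * E.h⁻¹ := by rw [pow_two]; group
      _ = E.h * (u * v) * E.h⁻¹ := by rw [h]
      _ = (E.h * u * E.h⁻¹) * (E.h * v * E.h⁻¹) := by group
      _ = u * (v * v) := by rw [hvh, h]; group
  rw [E.V_sq hv, mul_one] at h2
  have h3 : E.h ^ 3 * u * (E.h ^ 3)⁻¹ = E.h * u * E.h⁻¹ := by
    calc E.h ^ 3 * u * (E.h ^ 3)⁻¹ = E.h * (E.h ^ 2 * u * (E.h ^ 2)⁻¹) * E.h⁻¹ := by
          rw [pow_succ, pow_two]; group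
      _ = E.h * u * E.h⁻¹ := by rw [h2]
  rw [E.h_pow, one_mul, inv_one, mul_one] at h3
  exact comm_of_conj h3.symm

/-- `u · u^h · u^{h²} ∈ V`. -/
theorem U_norm {u : X} (hu : u ∈ E.U) :
    u * (E.h * u * E.h⁻¹) * (E.h ^ 2 * u * (E.h ^ 2)⁻¹) ∈ E.V := by
  have hu1 := E.U_h u hu
  have hu2 : E.h ^ 2 * u * (E.h ^ 2)⁻¹ ∈ E.U := by
    have := E.U_h _ hu1
    have e : E.h * (E.h * u * E.h⁻¹) * E.h⁻¹ = E.h ^ 2 * u * (E.h ^ 2)⁻¹ := by rw [pow_two]; group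
    rwa [e] at this
  set a := E.h * u * E.h⁻¹ with ha
  set b := E.h ^ 2 * u * (E.h ^ 2)⁻¹ with hb
  have hN : u * a * b ∈ E.U := mul_mem (mul_mem hu hu1) hu2
  obtain ⟨v, hv, h1⟩ := U_comm_V E (mul_mem hu1 hu2) hu
  -- `h (u a b) h⁻¹ = a b u = u a b v`
  apply U_fix_V E hN hv
  have e1 : E.h * a * E.h⁻¹ = b := by rw [ha, hb, pow_two]; group
  have e2 : E.h * b * E.h⁻¹ = u := by
    have : E.h * b * E.h⁻¹ = E.h ^ 3 * u * (E.h ^ 3)⁻¹ := by rw [hb]; group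
    rw [this, E.h_pow]; group
  calc E.h * (u * a * b) * E.h⁻¹ = (E.h * u * E.h⁻¹) * (E.h * a * E.h⁻¹) * (E.h * b * E.h⁻¹) := by group
    _ = a * b * u := by rw [e1, e2]
    _ = u * a * b * v := by rw [h1]; group

/-- `Q` normalizes `U`. -/
theorem Q_U {q u : X} (hq : q ∈ E.Q) (hu : u ∈ E.U) : q * u * q⁻¹ ∈ E.U := by
  obtain ⟨u', hu', σ, -, rfl⟩ := E.Q_gen q hq
  have e : u' * E.l σ * u * (u' * E.l σ)⁻¹ = u' * (E.l σ * u * (E.l σ)⁻¹) * u'⁻¹ := by group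
  rw [e]
  exact mul_mem (mul_mem hu'.1 (E.U_l u hu σ)) (inv_mem hu'.1)

/-- `U` normalizes `Q`. -/
theorem U_Q {q u : X} (hq : q ∈ E.Q) (hu : u ∈ E.U) : u * q * u⁻¹ ∈ E.Q :=
  E.Q_conj u (E.U_le hu) (E.U_r u hu 0) q hq

/-- `V ∩ Q = {1, r 0} ∪ {r i r j}`. -/
theorem V_Q (H : C0 E w) {v : X} (hv : v ∈ E.V) (hq : v ∈ E.Q) :
    v = 1 ∨ v = E.r 0 ∨ ∃ i j, i ≠ 0 ∧ j ≠ 0 ∧ v = E.r i * E.r j := by
  rcases H.R5r.mem_closure.mp hv with rfl | ⟨i, rfl⟩ | ⟨i, j, hij, rfl⟩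
  · exact Or.inl rfl
  · by_cases hi : i = 0
    · subst hi; exact Or.inr (Or.inl rfl)
    · exact absurd hq (E.r_nQ i hi)
  · by_cases hi : i = 0
    · subst hi
      exfalso
      have := mul_mem (inv_mem E.r_Q) hq
      rw [inv_mul_cancel_left] at this
      exact E.r_nQ j (Ne.symm hij) this
    · by_cases hj : j = 0
      · subst hj
        exfalso
        have := mul_mem hq (inv_mem E.r_Q)
        rw [mul_inv_cancel_right] at this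
        exact E.r_nQ i hi this
      · exact Or.inr (Or.inr ⟨i, j, hi, hj, rfl⟩)

end UFacts

namespace C0

variable (H : C0 E w)

include H

/-- Key lemma: an element centralizing `U` and `w₀` and moving `t` inside `tV*` lies in `V*`. -/
theorem mem_Vs_of {g : X} (hU : ∀ u ∈ E.U, g * u = u * g) (hw : g * w (E.r 0) = w (E.r 0) * g) {s : X}
    (hs : s ∈ Vs E w) (h : g * t * g⁻¹ = t * s) : g ∈ Vs E w := by
  have h1 : t * s * (t * s) = 1 := by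
    rw [← h]
    calc g * t * g⁻¹ * (g * t * g⁻¹) = g * (t * t) * g⁻¹ := by group
      _ = 1 := by rw [E.t_sq]; group
  obtain ⟨x, hx, h2⟩ := H.exists_Vs (H.mem_V_of_sq hs h1)
  have h3 : (x⁻¹ * g) * t = t * (x⁻¹ * g) := by
    apply comm_of_conj
    calc x⁻¹ * g * t * (x⁻¹ * g)⁻¹ = x⁻¹ * (g * t * g⁻¹) * x := by group
      _ = x⁻¹ * (x * t * x⁻¹) * x := by rw [h, h2]
      _ = t := by group
  obtain ⟨e, he, v, hv, h4⟩ := E.cU _ h3 (fun u hu => by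
    rw [mul_assoc, hU u hu, ← mul_assoc, ← H.U_Vs hu (inv_mem hx), mul_assoc])
  have h5 : g = x * (e * v) := by rw [← h4]; group
  have hv' : v ∈ Vs E w := V_le_Vs hv
  rcases he with rfl | rfl
  · rw [h5, one_mul]; exact mul_mem hx hv'
  · exfalso
    apply H.wt_ne
    have h6 : e = x⁻¹ * g * v⁻¹ := by rw [h4]; group
    have h7 : w (E.r 0) * (x⁻¹ * g * v⁻¹) = (x⁻¹ * g * v⁻¹) * w (E.r 0) := by
      have k1 := H.Vs_comm (W_Vs (E := E) (w := w) 0) (inv_mem hx)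
      have k2 := H.Vs_comm (W_Vs (E := E) (w := w) 0) (inv_mem hv')
      calc w (E.r 0) * (x⁻¹ * g * v⁻¹) = (w (E.r 0) * x⁻¹) * g * v⁻¹ := by group
        _ = x⁻¹ * (w (E.r 0) * g) * v⁻¹ := by rw [k1]; group
        _ = x⁻¹ * g * (w (E.r 0) * v⁻¹) := by rw [← hw]; group
        _ = _ := by rw [k2]; group
    rw [← h6] at h7
    exact h7

/-- `Q` normalizes `V*`. -/
theorem Q_Vs {q s : X} (hq : q ∈ E.Q) (hs : s ∈ Vs E w) : q * s * q⁻¹ ∈ Vs E w := by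
  obtain ⟨u', hu', σ, -, rfl⟩ := E.Q_gen q hq
  have e : u' * E.l σ * s * (u' * E.l σ)⁻¹ = u' * (E.l σ * s * (E.l σ)⁻¹) * u'⁻¹ := by group
  rw [e, conj_eq (H.U_Vs hu'.1 (H.l_Vs σ hs))]
  exact H.l_Vs σ hs

end C0

variable {Qh Γ : Subgroup X}

namespace Ctx

variable (H : Ctx E w Qh Γ)

include H

theorem WW_ov {i j : Fin 5} : Ov E w (w (E.r i) * w (E.r j)) (E.r i * E.r j) := by
  refine ⟨1, one_mem _, ?_⟩
  calc w (E.r i) * w (E.r j) * t * (w (E.r i) * w (E.r j))⁻¹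
      = w (E.r i) * (w (E.r j) * t * (w (E.r j))⁻¹) * (w (E.r i))⁻¹ := by group
    _ = (w (E.r i) * t) * (E.r j * (w (E.r i))⁻¹) := by rw [H.W_t]; group
    _ = (w (E.r i) * t * (w (E.r i))⁻¹) * E.r j := by rw [H.W_inv, H.r_W]; group
    _ = t * (E.r i * E.r j * 1) := by rw [H.W_t]; group

/-- (G1) elements of `Γ` over `V ∩ Q` lie in `V*`. -/
theorem mem_Vs_of_ov {g v : X} (hg : g ∈ Γ) (hv : v ∈ E.V) (hq : v ∈ E.Q) (h : Ov E w g v) : g ∈ Vs E w := by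
  rcases V_Q E H.toC0 hv hq with rfl | rfl | ⟨i, j, hi, hj, rfl⟩
  · exact Zh_le_Vs (H.ov_ker hg h)
  · exact Zh_le_Vs (H.ov_ker' hg h)
  · have h1 := H.ov_eq (H.q.ww_mem i j hi hj) hg hq H.WW_ov h
    have h2 := mul_mem (mul_mem (W_Vs (E := E) (w := w) i) (W_Vs j)) (Zh_le_Vs h1)
    rwa [mul_inv_cancel_left] at h2

/-- `c⁻¹ t c = t m⁻¹ ζ` -/
theorem ov_inv' {c m : X} (hc : c ∈ Γ) (hm : m ∈ E.Q) (h : Ov E w c m) : ∃ ζ ∈ Zh E w, c⁻¹ * t * c = t * (m⁻¹ * ζ) := by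
  obtain ⟨ζ, hζ, h⟩ := H.ov_inv hc hm h
  exact ⟨ζ, hζ, by rw [← h, inv_inv]⟩

/-- commutators of `Γ` with `r i`, when `m` moves `r i` by an element of `V` -/
theorem comm_r {c m : X} (hc : c ∈ Γ) (hm : m ∈ E.Q) (h : Ov E w c m) (i : Fin 5) :
    Ov E w ((E.r i)⁻¹ * c * E.r i * c⁻¹) ((E.r i)⁻¹ * m * E.r i * m⁻¹) ∧ (E.r i)⁻¹ * c * E.r i * c⁻¹ ∈ Γ := by
  have hr : (E.r i)⁻¹ ∈ A := inv_mem (E.r_mem i)
  have hr' : (E.r i)⁻¹ * E.r 0 = E.r 0 * (E.r i)⁻¹ := comm_inv (E.r_comm i 0)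
  have h1 := H.q.D_conj _ hr hr' c hc
  have h2 := H.ov_conj hr hr' h
  have h3 := H.ov_inv hc hm h
  rw [inv_inv] at h1 h2
  exact ⟨H.ov_mul h1 (inv_mem hm) h2 h3, mul_mem h1 (inv_mem hc)⟩

/-- commutators of `Γ` with `U` -/
theorem comm_U {c m u : X} (hc : c ∈ Γ) (hm : m ∈ E.Q) (h : Ov E w c m) (hu : u ∈ E.U) :
    Ov E w (u⁻¹ * c⁻¹ * u * c) (u⁻¹ * m⁻¹ * u * m) ∧ u⁻¹ * c⁻¹ * u * c ∈ Γ := by
  have hr : u⁻¹ ∈ A := inv_mem (E.U_le hu)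
  have hr' : u⁻¹ * E.r 0 = E.r 0 * u⁻¹ := comm_inv (E.U_r u hu 0)
  have h1 := H.q.D_conj _ hr hr' _ (inv_mem hc)
  have h2 := H.ov_conj hr hr' (H.ov_inv hc hm h)
  rw [inv_inv] at h1 h2
  exact ⟨H.ov_mul h1 hm h2 h, mul_mem h1 hc⟩

/-- (a), first part: `Γ`-elements over `U ∩ Q` normalize `V*`. -/
theorem Y_norm {c m : X} (hc : c ∈ Γ) (hm : m ∈ E.Q) (hmU : m ∈ E.U) (h : Ov E w c m) {s : X} (hs : s ∈ Vs E w) :
    c * s * c⁻¹ ∈ Vs E w := by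
  -- `c r_i c⁻¹ ∈ V*`
  have hr : ∀ i, c * E.r i * c⁻¹ ∈ Vs E w := by
    intro i
    obtain ⟨h1, h2⟩ := H.comm_r hc hm h i
    have h3 : (E.r i)⁻¹ * m * E.r i * m⁻¹ = 1 := by
      rw [mul_assoc (E.r i)⁻¹, E.U_r m hmU i]; group
    rw [h3] at h1
    have h4 := mul_mem (r_Vs (E := E) (w := w) i) (Zh_le_Vs (H.ov_ker h2 h1))
    have e : E.r i * ((E.r i)⁻¹ * c * E.r i * c⁻¹) = c * E.r i * c⁻¹ := by group
    rwa [e] at h4
  refine conj_Vs hr (fun i => ?_) hs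
  -- `g = c w_i c⁻¹`
  obtain ⟨ζ, hζ, hct⟩ := H.ov_inv' hc hm h
  have hmt : m⁻¹ ∈ E.U := inv_mem hmU
  apply H.toC0.mem_Vs_of (g := c * w (E.r i) * c⁻¹) _ _ (hr i)
  · -- the action on `t`
    calc c * w (E.r i) * c⁻¹ * t * (c * w (E.r i) * c⁻¹)⁻¹
        = c * (w (E.r i) * (c⁻¹ * t * c) * (w (E.r i))⁻¹) * c⁻¹ := by group
      _ = c * ((w (E.r i) * t * (w (E.r i))⁻¹) * (w (E.r i) * m⁻¹ * (w (E.r i))⁻¹) *
            (w (E.r i) * ζ * (w (E.r i))⁻¹)) * c⁻¹ := by rw [hct]; group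
      _ = c * (t * (E.r i * m⁻¹) * ζ) * c⁻¹ := by
          rw [H.W_t, conj_eq (H.U_W i hmt).symm, conj_eq (H.Vs_comm (W_Vs i) (Zh_le_Vs hζ))]; group
      _ = c * (t * m⁻¹ * (E.r i * ζ)) * c⁻¹ := by rw [← E.U_r _ hmt i]; group
      _ = c * (t * (m⁻¹ * ζ) * E.r i) * c⁻¹ := by rw [H.Vs_comm (r_Vs i) (Zh_le_Vs hζ)]; group
      _ = t * (c * E.r i * c⁻¹) := by rw [← hct]; group
  · intro u hu
    obtain ⟨h1, h2⟩ := H.comm_U hc hm h hu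
    obtain ⟨v, hv, h3⟩ := U_comm_V E (inv_mem hu) hmt
    have hvQ : u⁻¹ * m⁻¹ * u * m ∈ E.Q := by
      have := mul_mem (U_Q E (inv_mem hm) (inv_mem hu)) hm
      rwa [inv_inv] at this
    have hvV : u⁻¹ * m⁻¹ * u * m ∈ E.V := by
      have e : u⁻¹ * m⁻¹ * u * m = v := by
        rw [h3]
        calc m⁻¹ * u⁻¹ * v * u * m = m⁻¹ * (u⁻¹ * v * u) * m := by group
          _ = m⁻¹ * v * m := by
              have : u⁻¹ * v * u = v := by rw [E.U_V (inv_mem hu) hv]; group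
              rw [this]
          _ = v := by rw [E.U_V hmt hv]; group
      rw [e]; exact hv
    have h4 := H.mem_Vs_of_ov h2 hvV hvQ h1
    -- `c⁻¹ u c = u * s`
    have h5 : w (E.r i) * (c⁻¹ * u * c) = (c⁻¹ * u * c) * w (E.r i) := by
      have e : c⁻¹ * u * c = u * (u⁻¹ * c⁻¹ * u * c) := by group
      rw [e]
      generalize u⁻¹ * c⁻¹ * u * c = y at h4 ⊢
      rw [← mul_assoc, ← H.U_W i hu, mul_assoc, H.Vs_comm (W_Vs i) h4, mul_assoc]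
    calc c * w (E.r i) * c⁻¹ * u = c * (w (E.r i) * (c⁻¹ * u * c)) * c⁻¹ := by group
      _ = u * (c * w (E.r i) * c⁻¹) := by rw [h5]; group
  · have h6 := H.q.w_comm c (H.q.Γ_le hc)
    have h7 := comm_inv h6
    calc c * w (E.r i) * c⁻¹ * w (E.r 0) = c * (w (E.r i) * w (E.r 0)) * c⁻¹ := by
          rw [mul_assoc _ c⁻¹, h7]; group
      _ = (c * w (E.r 0)) * w (E.r i) * c⁻¹ := by rw [H.zero.comm]; group
      _ = w (E.r 0) * (c * w (E.r i) * c⁻¹) := by rw [h6]; group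

end Ctx

end Cfsg.Agent.UFiveTwo.Big
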