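import Cfsg.Agent.UFiveTwo.BigW

/-!
# S1778, type `U₅(2)`, section 7 (VII): the group `S₀ = U* Qh` of order `2²⁰`
-/

set_option autoImplicit false

namespace Cfsg.Agent.UFiveTwo.Big

open Subgroup Cfsg.Agent.UFiveTwo.Line

universe u

variable {X : Type u} [Group X] {A : Subgroup X} {t : X} {E : Env A t} {w : X → X} {Qh Γ : Subgroup X}

namespace Ctx

/-- The group `S₀ = U* Qh`. -/
def S0 (H : Ctx E w Qh Γ) : Subgroup X where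
  carrier := {x | ∃ n ∈ Us H.toC0, ∃ g ∈ Qh, x = n * g}
  one_mem' := ⟨1, one_mem _, 1, one_mem _, (mul_one 1).symm⟩
  mul_mem' := by
    rintro _ _ ⟨n, hn, g, hg, rfl⟩ ⟨n', hn', g', hg', rfl⟩
    refine ⟨n * (g * n' * g⁻¹), mul_mem hn (H.Qh_Us hg hn'), g * g', mul_mem hg hg', by group⟩
  inv_mem' := by
    rintro _ ⟨n, hn, g, hg, rfl⟩
    refine ⟨g⁻¹ * n⁻¹ * g, ?_, g⁻¹, inv_mem hg, by group⟩
    have := H.Qh_Us (inv_mem hg) (inv_mem hn)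
    rwa [inv_inv] at this

variable (H : Ctx E w Qh Γ)

include H

theorem mem_S0 {x : X} : x ∈ H.S0 ↔ ∃ n ∈ Us H.toC0, ∃ g ∈ Qh, x = n * g := Iff.rfl

theorem Us_le_S0 : Us H.toC0 ≤ H.S0 := fun n hn => ⟨n, hn, 1, one_mem _, (mul_one n).symm⟩

theorem Qh_le_S0 : Qh ≤ H.S0 := fun g hg => ⟨1, one_mem _, g, hg, (one_mul g).symm⟩

theorem Γ_le_S0 : Γ ≤ H.S0 := H.q.Γ_le.trans H.Qh_le_S0

theorem Q_le_S0 : E.Q ≤ H.S0 := H.q.Q_le.trans H.Qh_le_S0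

theorem U_le_S0 : E.U ≤ H.S0 := H.U_le_Us.trans H.Us_le_S0

theorem Vs_le_S0 : Vs E w ≤ H.S0 := H.Vs_le_Us.trans H.Us_le_S0

/-- `U*` is normal in `S₀`. -/
theorem S0_Us {x n : X} (hx : x ∈ H.S0) (hn : n ∈ Us H.toC0) : x * n * x⁻¹ ∈ Us H.toC0 := by
  obtain ⟨n', hn', g, hg, rfl⟩ := hx
  have e : n' * g * n * (n' * g)⁻¹ = n' * (g * n * g⁻¹) * n'⁻¹ := by group
  rw [e]
  exact mul_mem (mul_mem hn' (H.Qh_Us hg hn)) (inv_mem hn')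

/-- `V*` is normal in `S₀`. -/
theorem S0_Vs {x s : X} (hx : x ∈ H.S0) (hs : s ∈ Vs E w) : x * s * x⁻¹ ∈ Vs E w := by
  obtain ⟨n', hn', g, hg, rfl⟩ := hx
  have e : n' * g * s * (n' * g)⁻¹ = n' * (g * s * g⁻¹) * n'⁻¹ := by group
  have h1 := H.Qh_Vs hg hs
  rw [e, conj_eq (hn'.1.cent _ h1)]
  exact h1

/-- normal form of elements of `S₀` -/
theorem S0_form {x : X} (hx : x ∈ H.S0) : ∃ n ∈ Us H.toC0, ∃ q ∈ E.Q, ∃ c ∈ Γ, ∃ m ∈ E.Q, Ov E w c m ∧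
    x = n * q * c := by
  obtain ⟨n, hn, g, hg, rfl⟩ := hx
  obtain ⟨q, hq, c, hc, rfl⟩ := H.q.gen g hg
  obtain ⟨m, hm, hov⟩ := H.exists_ov hc
  exact ⟨n, hn, q, hq, c, hc, m, hm, hov, by group⟩

/-- `Q ∩ U* ≤ U`. -/
theorem Q_Us_U {m : X} (hm : m ∈ E.Q) (h : m ∈ Us H.toC0) : m ∈ E.U := by
  obtain ⟨u, hu, σ, hσ, rfl⟩ := E.Q_gen m hm
  have h1 : ∀ i, (σ : Equiv.Perm (Fin 5)) i = i := by
    intro i
    apply E.r_inj
    rw [← E.l_r]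
    have h2 := conj_eq (h.1.cent _ (r_Vs i))
    calc E.l σ * E.r i * (E.l σ)⁻¹ = u⁻¹ * (u * E.l σ * E.r i * (u * E.l σ)⁻¹) * u := by group
      _ = E.r i := by rw [h2, mul_assoc, ← E.U_r u hu.1 i, inv_mul_cancel_left]
  have h3 : σ = 1 := by
    apply Subtype.ext
    apply Equiv.ext
    intro i
    exact h1 i
  rw [h3, map_one, mul_one]
  exact hu.1

theorem q_Us {q n : X} (hq : q ∈ E.Q) (hn : n ∈ Us H.toC0) : q⁻¹ * n * q ∈ Us H.toC0 := by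
  have := H.Q_Us (inv_mem hq) hn
  rwa [inv_inv] at this

theorem Q_sq_Zh {q : X} (hq : q ∈ E.Q) : q * q ∈ Zh E w := by
  rcases E.Q_sq q hq with h | h
  · rw [h]; exact one_mem _
  · rw [h]; exact r_Zh

theorem Zh_le_Us : Zh E w ≤ Us H.toC0 := Zh_le_Vs.trans H.Vs_le_Us

/-- `t c t = m ζ c` -/
theorem t_c_t {c m : X} (h : Ov E w c m) : ∃ ζ ∈ Zh E w, t * c * t = m * ζ * c := by
  obtain ⟨ζ, hζ, h⟩ := h
  refine ⟨ζ, hζ, ?_⟩
  calc t * c * t = t * (c * t * c⁻¹) * c := by group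
    _ = (t * t) * (m * ζ) * c := by rw [h]; group
    _ = m * ζ * c := by rw [E.t_sq, one_mul]

/-- If `x t x⁻¹ t ∈ U*` for `x = n q c ∈ S₀`, then `m ∈ U`. -/
theorem m_mem_U {n q c m : X} (hn : n ∈ Us H.toC0) (hq : q ∈ E.Q) (hc : c ∈ Γ) (hm : m ∈ E.Q) (hov : Ov E w c m)
    (h : t * (n * q * c) * t * (n * q * c) ∈ Us H.toC0) : m ∈ E.U := by
  apply H.Q_Us_U hm
  obtain ⟨ζ, hζ, hct⟩ := H.t_c_t hov
  have hn1 := H.t_Us hn
  have hqt : t * q = q * t := E.t_A q (E.Q_le hq)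
  obtain ⟨ζ₁, hζ₁, h1⟩ := H.Γ_Q hc hq
  have h2 := H.Γ_sq hc
  have hn2 := H.Γ_Us hc hn
  -- `t x t x = (t n t) q m ζ (c n c⁻¹) (q ζ₁) c²`
  have e1 : t * (n * q * c) * t * (n * q * c) =
      (t * n * t) * ((q * m) * (ζ * (c * n * c⁻¹)) * (q * m)⁻¹) * (q * m * q) * (ζ₁ * (c * c)) := by
    calc t * (n * q * c) * t * (n * q * c) = t * n * (1 * q) * c * t * (n * q * c) := by group
      _ = t * n * ((t * t) * q) * c * t * (n * q * c) := by rw [E.t_sq]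
      _ = (t * n * t) * (t * q) * c * t * (n * q * c) := by group
      _ = (t * n * t) * q * (t * c * t) * (n * q * c) := by rw [hqt]; group
      _ = (t * n * t) * q * m * ζ * (c * n * c⁻¹) * (c * q * c⁻¹) * (c * c) := by rw [hct]; group
      _ = _ := by rw [h1]; group
  rw [e1] at h
  have h3 : (q * m) * (ζ * (c * n * c⁻¹)) * (q * m)⁻¹ ∈ Us H.toC0 :=
    H.Q_Us (mul_mem hq hm) (mul_mem (H.Zh_le_Us hζ) hn2)
  have h4 : ζ₁ * (c * c) ∈ Us H.toC0 := mul_mem (H.Zh_le_Us hζ₁) (H.Zh_le_Us h2)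
  have h5 : q * m * q ∈ Us H.toC0 := by
    have h6 := mul_mem (mul_mem (inv_mem (mul_mem hn1 h3)) h) (inv_mem h4)
    have e : (t * n * t * (q * m * (ζ * (c * n * c⁻¹)) * (q * m)⁻¹))⁻¹ *
      (t * n * t * (q * m * (ζ * (c * n * c⁻¹)) * (q * m)⁻¹) * (q * m * q) * (ζ₁ * (c * c))) * (ζ₁ * (c * c))⁻¹ =
      q * m * q := by group
    rwa [e] at h6
  -- `q m q = (q m q⁻¹ m⁻¹) m q²`
  have h6 : q * m * q⁻¹ * m⁻¹ ∈ Us H.toC0 := by
    rcases E.Q_comm q hq m hm with h | h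
    · rw [h]; exact one_mem _
    · rw [h]; exact H.Zh_le_Us r_Zh
  have h7 := mul_mem (mul_mem (inv_mem h6) h5) (inv_mem (H.Zh_le_Us (H.Q_sq_Zh hq)))
  have e : (q * m * q⁻¹ * m⁻¹)⁻¹ * (q * m * q) * (q * q)⁻¹ = m := by
    group
  rwa [e] at h7

/-- **Involutions of `tS₀` are `S₀`-conjugate to `t`.** -/
theorem exists_conj_S0 {x : X} (hx : x ∈ H.S0) (h : t * x * (t * x) = 1) : ∃ y ∈ H.S0, y * t * y⁻¹ = t * x := by
  obtain ⟨n, hn, q, hq, c, hc, m, hm, hov, rfl⟩ := H.S0_form hx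
  have hmU : m ∈ E.U := by
    apply H.m_mem_U hn hq hc hm hov
    have e : t * (n * q * c) * t * (n * q * c) = t * (n * q * c) * (t * (n * q * c)) := by group
    rw [e, h]; exact one_mem _
  have hcU := H.Y_Us hc hm hmU hov
  -- `x = n₃ q`
  have hx3 : n * q * c = n * (q * c * q⁻¹) * q := by group
  rw [hx3] at h ⊢
  have hn3 : n * (q * c * q⁻¹) ∈ Us H.toC0 := mul_mem hn (H.Q_Us hq hcU)
  generalize n * (q * c * q⁻¹) = n₃ at h hn3 ⊢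
  obtain ⟨d, hd, hdo⟩ := H.exists_ov' (inv_mem hq)
  obtain ⟨ζ₂, hζ₂, hd1⟩ := hdo
  obtain ⟨ζ', hζ', hd2⟩ := H.Γ_Q hd hq
  have hn4 := H.Γ_Us hd hn3
  -- `d (t n₃ q) d⁻¹ = t (q⁻¹ (ζ₂ n₄) q) ζ'`
  have e1 : d * (t * (n₃ * q)) * d⁻¹ = t * (q⁻¹ * (ζ₂ * (d * n₃ * d⁻¹)) * q * ζ') := by
    calc d * (t * (n₃ * q)) * d⁻¹ = (d * t * d⁻¹) * (d * n₃ * d⁻¹) * (d * q * d⁻¹) := by group
      _ = t * (q⁻¹ * (ζ₂ * (d * n₃ * d⁻¹)) * q * ζ') := by rw [hd1, hd2]; group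
  have hn5 : q⁻¹ * (ζ₂ * (d * n₃ * d⁻¹)) * q * ζ' ∈ Us H.toC0 :=
    mul_mem (H.q_Us hq (mul_mem (H.Zh_le_Us hζ₂) hn4)) (H.Zh_le_Us hζ')
  generalize q⁻¹ * (ζ₂ * (d * n₃ * d⁻¹)) * q * ζ' = n₅ at e1 hn5
  have hinv : t * n₅ * (t * n₅) = 1 := by
    rw [← e1]
    calc d * (t * (n₃ * q)) * d⁻¹ * (d * (t * (n₃ * q)) * d⁻¹) = d * (t * (n₃ * q) * (t * (n₃ * q))) * d⁻¹ := by group
      _ = 1 := by rw [h]; group
  obtain ⟨y, hy, h2⟩ := H.exists_conj_Us hn5 hinv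
  refine ⟨d⁻¹ * y, mul_mem (inv_mem (H.Γ_le_S0 hd)) (H.Us_le_S0 hy), ?_⟩
  calc d⁻¹ * y * t * (d⁻¹ * y)⁻¹ = d⁻¹ * (y * t * y⁻¹) * d := by group
    _ = t * (n₃ * q) := by rw [h2, ← e1]; group

/-- **`C_{S₀}(t) = U Q`.** -/
theorem S0_comm {x : X} (hx : x ∈ H.S0) (h : x * t = t * x) : ∃ u ∈ E.U, ∃ q ∈ E.Q, x = u * q := by
  obtain ⟨n, hn, q, hq, c, hc, m, hm, hov, rfl⟩ := H.S0_form hx
  have hmU : m ∈ E.U := by
    -- `t x t = x`, `x⁻¹ (t x t) = 1`; use `x² ∈ ..`: compute directly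
    apply H.Q_Us_U hm
    obtain ⟨ζ, hζ, hct⟩ := H.t_c_t hov
    have hqt : t * q = q * t := E.t_A q (E.Q_le hq)
    have e1 : t * (n * q * c) * t = (t * n * t) * q * m * ζ * c := by
      calc t * (n * q * c) * t = t * n * (1 * q) * c * t := by group
        _ = t * n * ((t * t) * q) * c * t := by rw [E.t_sq]
        _ = (t * n * t) * (t * q) * c * t := by group
        _ = (t * n * t) * q * (t * c * t) := by rw [hqt]; group
        _ = _ := by rw [hct]; group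
    have e2 : t * (n * q * c) * t = n * q * c := by
      rw [← h, mul_assoc, E.t_sq, mul_one]
    have e3 : m = (q⁻¹ * ((t * n * t)⁻¹ * n) * q) * ζ⁻¹ := by
      have e4 : (t * n * t) * q * m * ζ * c = n * q * c := e1.symm.trans e2
      have e5 : (t * n * t) * q * m * ζ = n * q := mul_right_cancel e4
      calc m = q⁻¹ * (t * n * t)⁻¹ * ((t * n * t) * q * m * ζ) * ζ⁻¹ := by group
        _ = q⁻¹ * (t * n * t)⁻¹ * (n * q) * ζ⁻¹ := by rw [e5]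
        _ = _ := by group
    rw [e3]
    exact mul_mem (H.q_Us hq (mul_mem (inv_mem (H.t_Us hn)) hn)) (inv_mem (H.Zh_le_Us hζ))
  have hcU := H.Y_Us hc hm hmU hov
  have hx3 : n * q * c = n * (q * c * q⁻¹) * q := by group
  rw [hx3] at h ⊢
  have hn3 : n * (q * c * q⁻¹) ∈ Us H.toC0 := mul_mem hn (H.Q_Us hq hcU)
  refine ⟨_, H.mem_U_of_comm hn3 ?_, q, hq, rfl⟩
  have hqt : t * q = q * t := E.t_A q (E.Q_le hq)
  have h1 : n * (q * c * q⁻¹) * t * q = t * (n * (q * c * q⁻¹)) * q := by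
    calc n * (q * c * q⁻¹) * t * q = n * (q * c * q⁻¹) * q * t := by rw [mul_assoc, hqt, ← mul_assoc]
      _ = t * (n * (q * c * q⁻¹)) * q := by rw [h]; group
  exact mul_right_cancel h1

/-- `t ∉ S₀`. -/
theorem t_not_mem : t ∉ H.S0 := by
  intro h
  obtain ⟨u, hu, q, hq, h1⟩ := H.S0_comm h rfl
  apply E.t_nA
  rw [h1]
  exact mul_mem (E.U_le hu) (E.Q_le hq)

/-- `t` normalizes `S₀`. -/
theorem t_S0 {x : X} (hx : x ∈ H.S0) : t * x * t ∈ H.S0 := by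
  obtain ⟨n, hn, q, hq, c, hc, m, hm, hov, rfl⟩ := H.S0_form hx
  obtain ⟨ζ, hζ, hct⟩ := H.t_c_t hov
  have hqt : t * q = q * t := E.t_A q (E.Q_le hq)
  have e1 : t * (n * q * c) * t = (t * n * t) * (q * (m * ζ * c)) := by
    calc t * (n * q * c) * t = t * n * (1 * q) * c * t := by group
      _ = t * n * ((t * t) * q) * c * t := by rw [E.t_sq]
      _ = (t * n * t) * (t * q) * c * t := by group
      _ = (t * n * t) * q * (t * c * t) := by rw [hqt]; group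
      _ = _ := by rw [hct]; group
  rw [e1]
  exact mul_mem (H.Us_le_S0 (H.t_Us hn)) (mul_mem (H.Q_le_S0 hq) (mul_mem (mul_mem (H.Q_le_S0 hm)
    (H.Γ_le_S0 (H.Zh_Γ hζ))) (H.Γ_le_S0 hc)))

/-- squares of `Qh` -/
theorem Qh_sq {g : X} (hg : g ∈ Qh) : g * g ∈ Zh E w := by
  obtain ⟨q, hq, c, hc, rfl⟩ := H.q.gen g hg
  obtain ⟨ζ, hζ, h1⟩ := H.Γ_Q hc hq
  have e : q * c * (q * c) = (q * (c * q * c⁻¹)) * (c * c) := by group
  rw [e, h1]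
  have e2 : q * (q * ζ) * (c * c) = (q * q) * (ζ * (c * c)) := by group
  rw [e2]
  exact mul_mem (H.Q_sq_Zh hq) (mul_mem hζ (H.Γ_sq hc))

/-- squares of `S₀` lie in `U*` -/
theorem S0_sq {x : X} (hx : x ∈ H.S0) : x * x ∈ Us H.toC0 := by
  obtain ⟨n, hn, g, hg, rfl⟩ := hx
  have e : n * g * (n * g) = n * (g * n * g⁻¹) * (g * g) := by group
  rw [e]
  exact mul_mem (mul_mem hn (H.Qh_Us hg hn)) (H.Zh_le_Us (H.Qh_sq hg))

theorem S0_pow {x : X} (hx : x ∈ H.S0) : x ^ 8 = 1 := by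
  have h1 := H.Us_sq (H.S0_sq hx)
  have h2 := H.Vs_sq h1
  have e : x ^ 8 = x * x * (x * x) * (x * x * (x * x)) := by
    simp only [pow_succ, pow_zero, one_mul, mul_assoc]
  rw [e]
  exact h2

/-- `S₀` is a 2-group. -/
theorem isPGroup_S0 : IsPGroup 2 H.S0 := by
  intro x
  exact ⟨3, Subtype.ext (H.S0_pow x.2)⟩

end Ctx

end Cfsg.Agent.UFiveTwo.Big
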