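import Cfsg.Agent.UFiveTwo.BigC

/-!
# S1778, type `U₅(2)`, section 7 (V): the group `U*` (order `2¹⁶`)
-/

set_option autoImplicit false

namespace Cfsg.Agent.UFiveTwo.Big

open Subgroup Cfsg.Agent.UFiveTwo.Line

universe u

variable {X : Type u} [Group X] {A : Subgroup X} {t : X} {E : Env A t} {w : X → X} {Qh Γ : Subgroup X}

/-- `n t n⁻¹ ∈ t u V*` -/
def Ps (E : Env A t) (w : X → X) (n u : X) : Prop := ∃ s ∈ Vs E w, n * t * n⁻¹ = t * (u * s)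

/-- `n ∈ C(V*)`, `[n, U] ≤ V*`. -/
structure Ac (E : Env A t) (w : X → X) (n : X) : Prop where
  cent : ∀ s ∈ Vs E w, n * s = s * n
  act : ∀ u ∈ E.U, ∃ s ∈ Vs E w, n * u * n⁻¹ = u * s

namespace C0

variable (H : C0 E w)

include H

theorem ac_one : Ac E w 1 := ⟨fun s _ => by group, fun u _ => ⟨1, one_mem _, by group⟩⟩

theorem ac_mul {n n' : X} (h : Ac E w n) (h' : Ac E w n') : Ac E w (n * n') := by
  refine ⟨fun s hs => by rw [mul_assoc, h'.cent s hs, ← mul_assoc, h.cent s hs, mul_assoc], fun u hu => ?_⟩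
  obtain ⟨s, hs, h1⟩ := h.act u hu
  obtain ⟨s', hs', h2⟩ := h'.act u hu
  refine ⟨s * s', mul_mem hs hs', ?_⟩
  calc n * n' * u * (n * n')⁻¹ = n * (n' * u * n'⁻¹) * n⁻¹ := by group
    _ = (n * u * n⁻¹) * (n * s' * n⁻¹) := by rw [h2]; group
    _ = u * (s * s') := by rw [h1, conj_eq (h.cent s' hs')]; group

theorem ac_inv {n : X} (h : Ac E w n) : Ac E w n⁻¹ := by
  refine ⟨fun s hs => comm_inv (h.cent s hs), fun u hu => ?_⟩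
  obtain ⟨s, hs, h1⟩ := h.act u hu
  refine ⟨s⁻¹, inv_mem hs, ?_⟩
  have h2 : n⁻¹ * s * n = s := by rw [mul_assoc, ← h.cent s hs, inv_mul_cancel_left]
  calc n⁻¹ * u * n⁻¹⁻¹ = n⁻¹ * (u * s) * n * (n⁻¹ * s * n)⁻¹ := by group
    _ = u * s⁻¹ := by rw [← h1, h2]; group

theorem ps_mul {n n' u u' : X} (hn : Ac E w n) (hu' : u' ∈ E.U) (h : Ps E w n u) (h' : Ps E w n' u') :
    Ps E w (n * n') (u * u') := by
  obtain ⟨s, hs, h⟩ := h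
  obtain ⟨s', hs', h'⟩ := h'
  obtain ⟨s₂, hs₂, h2⟩ := hn.act u' hu'
  refine ⟨s * s₂ * s', mul_mem (mul_mem hs hs₂) hs', ?_⟩
  calc n * n' * t * (n * n')⁻¹ = n * (n' * t * n'⁻¹) * n⁻¹ := by group
    _ = (n * t * n⁻¹) * (n * u' * n⁻¹) * (n * s' * n⁻¹) := by rw [h']; group
    _ = t * (u * (s * u') * (s₂ * s')) := by rw [h, h2, conj_eq (hn.cent s' hs')]; group
    _ = t * (u * u' * (s * s₂ * s')) := by rw [← H.U_Vs hu' hs]; group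

theorem ps_inv {n u : X} (hn : Ac E w n) (hu : u ∈ E.U) (h : Ps E w n u) : Ps E w n⁻¹ u⁻¹ := by
  obtain ⟨s, hs, h⟩ := h
  obtain ⟨s₂, hs₂, h2⟩ := (H.ac_inv hn).act u⁻¹ (inv_mem hu)
  refine ⟨s₂ * s⁻¹, mul_mem hs₂ (inv_mem hs), ?_⟩
  have h3 : n⁻¹ * s⁻¹ * n⁻¹⁻¹ = s⁻¹ := conj_eq ((H.ac_inv hn).cent _ (inv_mem hs))
  have h4 : s⁻¹ * u⁻¹ = u⁻¹ * s⁻¹ := (H.U_Vs (inv_mem hu) (inv_mem hs)).symm
  calc n⁻¹ * t * n⁻¹⁻¹ = n⁻¹ * ((t * (u * s)) * (s⁻¹ * u⁻¹)) * n⁻¹⁻¹ := by group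
    _ = n⁻¹ * (n * t * n⁻¹) * n⁻¹⁻¹ * (n⁻¹ * (s⁻¹ * u⁻¹) * n⁻¹⁻¹) := by rw [← h]; group
    _ = t * ((n⁻¹ * u⁻¹ * n⁻¹⁻¹) * (n⁻¹ * s⁻¹ * n⁻¹⁻¹)) := by rw [h4]; group
    _ = t * (u⁻¹ * (s₂ * s⁻¹)) := by rw [h2, h3]; group

theorem ac_U {u : X} (hu : u ∈ E.U) : Ac E w u := by
  refine ⟨fun s hs => H.U_Vs hu hs, fun u' hu' => ?_⟩
  obtain ⟨v, hv, h⟩ := U_comm_V E hu hu'
  refine ⟨v, V_le_Vs hv, ?_⟩
  calc u * u' * u⁻¹ = u' * (u * v) * u⁻¹ := by rw [h]; group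
    _ = u' * v := by rw [E.U_V hu hv]; group

theorem ps_U {u : X} (hu : u ∈ E.U) : Ps E w u 1 :=
  ⟨1, one_mem _, by rw [conj_eq (E.t_A u (E.U_le hu)).symm, mul_one, mul_one]⟩

theorem ac_Vs {s : X} (hs : s ∈ Vs E w) : Ac E w s :=
  ⟨fun s' hs' => H.Vs_comm hs hs', fun u hu => ⟨1, one_mem _, by rw [conj_eq (H.U_Vs hu hs).symm, mul_one]⟩⟩

theorem ps_Vs {s : X} (hs : s ∈ Vs E w) : Ps E w s 1 := by
  obtain ⟨v, hv, h, -⟩ := H.t_Vs (inv_mem hs)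
  refine ⟨s * s⁻¹ * v, mul_mem (mul_mem hs (inv_mem hs)) (V_le_Vs hv), ?_⟩
  have e : t * s⁻¹ = s⁻¹ * v * t := by rw [← h, mul_assoc, E.t_sq, mul_one]
  calc s * t * s⁻¹ = s * (t * s⁻¹) := by group
    _ = s * s⁻¹ * v * t := by rw [e]; group
    _ = v * t := by group
    _ = t * v := (H.t_V hv).symm
    _ = _ := by group

end C0

/-- The group `U*`. -/
def Us (H : C0 E w) : Subgroup X where
  carrier := {n | Ac E w n ∧ ∃ u ∈ E.U, Ps E w n u}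
  one_mem' := ⟨H.ac_one, 1, one_mem _, 1, one_mem _, by group⟩
  mul_mem' := by
    rintro a b ⟨ha, u, hu, h⟩ ⟨hb, u', hu', h'⟩
    exact ⟨H.ac_mul ha hb, u * u', mul_mem hu hu', H.ps_mul ha hu' h h'⟩
  inv_mem' := by
    rintro a ⟨ha, u, hu, h⟩
    exact ⟨H.ac_inv ha, u⁻¹, inv_mem hu, H.ps_inv ha hu h⟩

namespace C0

variable (H : C0 E w)

include H

theorem mem_Us {n : X} : n ∈ Us H ↔ Ac E w n ∧ ∃ u ∈ E.U, Ps E w n u := Iff.rfl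

theorem U_le_Us : E.U ≤ Us H := fun _ hu => ⟨H.ac_U hu, 1, one_mem _, H.ps_U hu⟩

theorem Vs_le_Us : Vs E w ≤ Us H := fun _ hs => ⟨H.ac_Vs hs, 1, one_mem _, H.ps_Vs hs⟩

/-- `Ps n v` with `v ∈ V`: `n ∈ U V*`. -/
theorem mem_UVs {n v : X} (hn : Ac E w n) (hv : v ∈ Vs E w) (h : Ps E w n v) : ∃ u ∈ E.U, ∃ s ∈ Vs E w, n = u * s := by
  obtain ⟨s, hs, h⟩ := h
  have h1 : t * (v * s) * (t * (v * s)) = 1 := by
    rw [← h]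
    calc n * t * n⁻¹ * (n * t * n⁻¹) = n * (t * t) * n⁻¹ := by group
      _ = 1 := by rw [E.t_sq]; group
  obtain ⟨x, hx, h2⟩ := H.exists_Vs (H.mem_V_of_sq (mul_mem hv hs) h1)
  have hxn := H.ac_mul (H.ac_inv (H.ac_Vs hx)) hn
  have h3 : (x⁻¹ * n) * t = t * (x⁻¹ * n) := by
    apply comm_of_conj
    calc x⁻¹ * n * t * (x⁻¹ * n)⁻¹ = x⁻¹ * (n * t * n⁻¹) * x := by group
      _ = x⁻¹ * (x * t * x⁻¹) * x := by rw [h, h2]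
      _ = t := by group
  obtain ⟨e, he, u, hu, h4⟩ := E.cUV _ h3 (fun u hu => by
    obtain ⟨s', hs', h5⟩ := hxn.act u hu
    refine ⟨s', H.mem_V_of_comm hs' ?_, h5⟩
    have h6 : s' = u⁻¹ * (x⁻¹ * n * u * (x⁻¹ * n)⁻¹) := by rw [h5]; group
    have tu := E.t_A u (E.U_le hu)
    have c1 : t * (x⁻¹ * n) = (x⁻¹ * n) * t := h3.symm
    have c2 : t * (x⁻¹ * n)⁻¹ = (x⁻¹ * n)⁻¹ * t := (comm_inv h3).symm
    have c3 : t * u⁻¹ = u⁻¹ * t := (comm_inv tu.symm).symm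
    rw [h6]
    calc t * (u⁻¹ * (x⁻¹ * n * u * (x⁻¹ * n)⁻¹)) = (t * u⁻¹) * (x⁻¹ * n) * u * (x⁻¹ * n)⁻¹ := by group
      _ = u⁻¹ * (t * (x⁻¹ * n)) * u * (x⁻¹ * n)⁻¹ := by rw [c3]; group
      _ = u⁻¹ * (x⁻¹ * n) * (t * u) * (x⁻¹ * n)⁻¹ := by rw [c1]; group
      _ = u⁻¹ * (x⁻¹ * n) * u * (t * (x⁻¹ * n)⁻¹) := by rw [tu]; group
      _ = _ := by rw [c2]; group)
  have h5 : n = x * (e * u) := by rw [← h4]; group
  rcases he with rfl | rfl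
  · exact ⟨u, hu, x, hx, by rw [h5, one_mul, H.U_Vs hu hx]⟩
  · exfalso
    apply H.wt_ne
    have h6 : e = x⁻¹ * n * u⁻¹ := by rw [h4]; group
    have hW : w (E.r 0) ∈ Vs E w := W_Vs 0
    have h7 := (H.ac_mul hxn (H.ac_U (inv_mem hu))).cent _ hW
    rw [← h6] at h7
    exact h7.symm

/-- Involutions of `tU*` lie in `tUV*`. -/
theorem mem_UVs_of_sq {n : X} (hn : n ∈ Us H) (h : t * n * (t * n) = 1) : ∃ u ∈ E.U, ∃ s ∈ Vs E w, n = u * s := by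
  obtain ⟨ha, u, hu, s, hs, h1⟩ := hn
  -- `n² ∈ V*`
  have hn2 : n * n ∈ Vs E w := by
    have hac := H.ac_mul ha ha
    have hps := H.ps_mul ha hu ⟨s, hs, h1⟩ ⟨s, hs, h1⟩
    obtain ⟨s', hs', h3⟩ := hps
    refine H.mem_Vs_of (g := n * n) (fun u' hu' => ?_) (hac.cent _ (W_Vs 0)) (s := u * u * s')
      (mul_mem (V_le_Vs (U_sq_V E hu)) hs') h3
    obtain ⟨s₁, hs₁, h4⟩ := ha.act u' hu'
    apply comm_of_conj
    calc n * n * u' * (n * n)⁻¹ = n * (n * u' * n⁻¹) * n⁻¹ := by group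
      _ = n * (u' * s₁) * n⁻¹ := by rw [h4]
      _ = (n * u' * n⁻¹) * (n * s₁ * n⁻¹) := by group
      _ = u' * (s₁ * s₁) := by rw [h4, conj_eq (ha.cent _ hs₁)]; group
      _ = u' := by rw [H.Vs_sq hs₁, mul_one]
  -- `u s n² = 1`
  have h5 : u * s * (n * n) = 1 := by
    have h6 : n * t = t * (u * s) * n := by rw [← h1]; group
    calc u * s * (n * n) = t * t * (u * s) * n * n := by rw [E.t_sq]; group
      _ = t * (t * (u * s) * n) * n := by group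
      _ = t * n * (t * n) := by rw [← h6]; group
      _ = 1 := h
  have h7 : u = (s * (n * n))⁻¹ := by rw [eq_inv_iff_mul_eq_one, ← mul_assoc]; exact h5
  have h8 : u ∈ Vs E w := by rw [h7]; exact inv_mem (mul_mem hs hn2)
  exact H.mem_UVs ha h8 ⟨s, hs, h1⟩

/-- `[U*, U*] ≤ V*`. -/
theorem Us_comm {n n' : X} (hn : n ∈ Us H) (hn' : n' ∈ Us H) : ∃ s ∈ Vs E w, n * n' * n⁻¹ = n' * s := by
  obtain ⟨ha, u, hu, hp⟩ := hn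
  obtain ⟨ha', u', hu', hp'⟩ := hn'
  have a1 := H.ac_inv ha
  have a2 := H.ac_inv ha'
  have a3 := H.ac_mul a1 a2
  have hps := H.ps_mul (H.ac_mul a3 ha) hu' (H.ps_mul a3 hu (H.ps_mul a1 (inv_mem hu') (H.ps_inv ha hu hp)
    (H.ps_inv ha' hu' hp')) hp) hp'
  have hac := H.ac_mul (H.ac_mul a3 ha) ha'
  obtain ⟨v, hv, h1⟩ := U_comm_V E hu hu'
  have hV : u⁻¹ * u'⁻¹ * u * u' ∈ Vs E w := by
    have e : u⁻¹ * u'⁻¹ * u * u' = v := by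
      calc u⁻¹ * u'⁻¹ * u * u' = (u' * u)⁻¹ * (u * u') := by group
        _ = v := by rw [h1]; group
    rw [e]; exact V_le_Vs hv
  obtain ⟨s, hs, h2⟩ := hps
  have key : n⁻¹ * n'⁻¹ * n * n' ∈ Vs E w := by
    refine H.mem_Vs_of (g := n⁻¹ * n'⁻¹ * n * n') (fun x hx => ?_) (hac.cent _ (W_Vs 0)) (mul_mem hV hs) h2
    -- the commutator centralizes `U`
    obtain ⟨s₁, hs₁, e1⟩ := ha.act x hx
    obtain ⟨s₂, hs₂, e2⟩ := ha'.act x hx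
    have k1 : n * (n' * x * n'⁻¹) * n⁻¹ = x * (s₁ * s₂) := by
      rw [e2]
      calc n * (x * s₂) * n⁻¹ = (n * x * n⁻¹) * (n * s₂ * n⁻¹) := by group
        _ = _ := by rw [e1, conj_eq (ha.cent _ hs₂)]; group
    have k2 : n' * (n * x * n⁻¹) * n'⁻¹ = x * (s₂ * s₁) := by
      rw [e1]
      calc n' * (x * s₁) * n'⁻¹ = (n' * x * n'⁻¹) * (n' * s₁ * n'⁻¹) := by group
        _ = _ := by rw [e2, conj_eq (ha'.cent _ hs₁)]; group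
    have k3 : n * (n' * x * n'⁻¹) * n⁻¹ = n' * (n * x * n⁻¹) * n'⁻¹ := by
      rw [k1, k2, H.Vs_comm hs₁ hs₂]
    apply comm_of_conj
    calc n⁻¹ * n'⁻¹ * n * n' * x * (n⁻¹ * n'⁻¹ * n * n')⁻¹
        = n⁻¹ * n'⁻¹ * (n * (n' * x * n'⁻¹) * n⁻¹) * n' * n := by group
      _ = x := by rw [k3]; group
  refine ⟨n⁻¹ * n'⁻¹ * n * n', key, ?_⟩
  have h5 := conj_eq (ha.cent _ key)
  calc n * n' * n⁻¹ = n' * (n * (n⁻¹ * n'⁻¹ * n * n') * n⁻¹) := by group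
    _ = n' * (n⁻¹ * n'⁻¹ * n * n') := by rw [h5]

/-- `l σ` normalizes `U*`. -/
theorem l_Us (σ : alternatingGroup (Fin 5)) {n : X} (hn : n ∈ Us H) : E.l σ * n * (E.l σ)⁻¹ ∈ Us H := by
  obtain ⟨ha, u, hu, s, hs, h⟩ := hn
  have hl : ∀ s ∈ Vs E w, (E.l σ)⁻¹ * s * E.l σ ∈ Vs E w := by
    intro s hs
    have := H.l_Vs σ⁻¹ hs
    rwa [map_inv, inv_inv] at this
  have hlU : ∀ u ∈ E.U, (E.l σ)⁻¹ * u * E.l σ ∈ E.U := by
    intro u hu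
    have := E.U_l u hu σ⁻¹
    rwa [map_inv, inv_inv] at this
  have ht : (E.l σ)⁻¹ * t * E.l σ = t := by rw [mul_assoc, E.t_A _ (E.l_mem σ), inv_mul_cancel_left]
  have ht' : E.l σ * t * (E.l σ)⁻¹ = t := conj_eq (E.t_A _ (E.l_mem σ)).symm
  refine ⟨⟨fun s' hs' => ?_, fun u' hu' => ?_⟩, E.l σ * u * (E.l σ)⁻¹, E.U_l u hu σ,
    E.l σ * s * (E.l σ)⁻¹, H.l_Vs σ hs, ?_⟩
  · apply comm_of_conj
    calc E.l σ * n * (E.l σ)⁻¹ * s' * (E.l σ * n * (E.l σ)⁻¹)⁻¹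
        = E.l σ * (n * ((E.l σ)⁻¹ * s' * E.l σ) * n⁻¹) * (E.l σ)⁻¹ := by group
      _ = s' := by rw [conj_eq (ha.cent _ (hl s' hs'))]; group
  · obtain ⟨s₁, hs₁, h1⟩ := ha.act _ (hlU u' hu')
    refine ⟨E.l σ * s₁ * (E.l σ)⁻¹, H.l_Vs σ hs₁, ?_⟩
    calc E.l σ * n * (E.l σ)⁻¹ * u' * (E.l σ * n * (E.l σ)⁻¹)⁻¹
        = E.l σ * (n * ((E.l σ)⁻¹ * u' * E.l σ) * n⁻¹) * (E.l σ)⁻¹ := by group
      _ = u' * (E.l σ * s₁ * (E.l σ)⁻¹) := by rw [h1]; group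
  · calc E.l σ * n * (E.l σ)⁻¹ * t * (E.l σ * n * (E.l σ)⁻¹)⁻¹
        = E.l σ * (n * ((E.l σ)⁻¹ * t * E.l σ) * n⁻¹) * (E.l σ)⁻¹ := by group
      _ = (E.l σ * t * (E.l σ)⁻¹) * ((E.l σ * u * (E.l σ)⁻¹) * (E.l σ * s * (E.l σ)⁻¹)) := by rw [ht, h]; group
      _ = t * ((E.l σ * u * (E.l σ)⁻¹) * (E.l σ * s * (E.l σ)⁻¹)) := by rw [ht']

/-- `Q` normalizes `U*`. -/
theorem Q_Us {q n : X} (hq : q ∈ E.Q) (hn : n ∈ Us H) : q * n * q⁻¹ ∈ Us H := by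
  obtain ⟨u', hu', σ, -, rfl⟩ := E.Q_gen q hq
  have e : u' * E.l σ * n * (u' * E.l σ)⁻¹ = u' * (E.l σ * n * (E.l σ)⁻¹) * u'⁻¹ := by group
  rw [e]
  exact mul_mem (mul_mem (H.U_le_Us hu'.1) (H.l_Us σ hn)) (inv_mem (H.U_le_Us hu'.1))

/-- `t` normalizes `U*`. -/
theorem t_Us {n : X} (hn : n ∈ Us H) : t * n * t ∈ Us H := by
  have hn' := hn
  obtain ⟨ha, u, hu, s, hs, h⟩ := hn
  -- `t n t = (t (n t n⁻¹)) n = u s n`
  have e : t * n * t = (u * s) * n := by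
    calc t * n * t = t * (n * t * n⁻¹) * n := by group
      _ = (t * t) * (u * s) * n := by rw [h]; group
      _ = (u * s) * n := by rw [E.t_sq, one_mul]
  rw [e]
  exact mul_mem (mul_mem (H.U_le_Us hu) (H.Vs_le_Us hs)) hn'

/-- `C_{U*}(t) = U`. -/
theorem mem_U_of_comm {n : X} (hn : n ∈ Us H) (h : n * t = t * n) : n ∈ E.U := by
  obtain ⟨u, hu, s, hs, rfl⟩ := H.mem_UVs hn.1 (one_mem _) ⟨1, one_mem _, by rw [conj_eq h, mul_one, mul_one]⟩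
  apply mul_mem hu
  apply E.V_le_U
  apply H.mem_V_of_comm hs
  have h1 : u * (s * t) = u * (t * s) := by
    calc u * (s * t) = u * s * t := by group
      _ = t * (u * s) := h
      _ = u * (t * s) := by rw [← mul_assoc, E.t_A u (E.U_le hu), mul_assoc]
  exact (mul_left_cancel h1).symm

end C0

variable (H : Ctx E w Qh Γ)

namespace Ctx

include H

/-- `Γ`-elements over `U ∩ Q` lie in `U*`. -/
theorem Y_Us {c m : X} (hc : c ∈ Γ) (hm : m ∈ E.Q) (hmU : m ∈ E.U) (h : Ov E w c m) : c ∈ Us H.toC0 := by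
  refine ⟨⟨fun s hs => H.Y_cent hc hm hmU h hs, fun u hu => ?_⟩, m, hmU, ?_⟩
  · obtain ⟨h1, h2⟩ := H.comm_U (inv_mem hc) (inv_mem hm) (H.ov_inv hc hm h) hu
    rw [inv_inv] at h1 h2
    rw [inv_inv] at h1
    have hQ : u⁻¹ * m * u * m⁻¹ ∈ E.Q := by
      have := mul_mem (U_Q E hm (inv_mem hu)) (inv_mem hm)
      rwa [inv_inv] at this
    have hV : u⁻¹ * m * u * m⁻¹ ∈ E.V := by
      obtain ⟨v, hv, h3⟩ := U_comm_V E hmU hu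
      have e : u⁻¹ * m * u * m⁻¹ = m * v * m⁻¹ := by
        calc u⁻¹ * m * u * m⁻¹ = u⁻¹ * (m * u) * m⁻¹ := by group
          _ = m * v * m⁻¹ := by rw [h3]; group
      rw [e, conj_eq (E.U_V hmU hv)]; exact hv
    exact ⟨_, H.mem_Vs_of_ov h2 hV hQ h1, by group⟩
  · obtain ⟨ζ, hζ, h⟩ := h
    exact ⟨ζ, Zh_le_Vs hζ, h⟩

end Ctx

end Cfsg.Agent.UFiveTwo.Big
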