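import Cfsg.Agent.UFiveTwo.Pts
import Cfsg.Agent.UFiveTwo.Line
import Mathlib.Tactic

/-!
# S1778, type `U₅(2)`, section 7 (I): the elementary group `V* = ⟨w_i, r_i⟩` of order `2⁸`
-/

set_option autoImplicit false

namespace Cfsg.Agent.UFiveTwo.Big

open Subgroup Cfsg.Agent.UFiveTwo.Line

universe u

variable {X : Type u} [Group X] {A : Subgroup X} {t : X} {E : Env A t} {w : X → X}

/-- The case `c = 0`. -/
structure C0 (E : Env A t) (w : X → X) : Prop where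
  pts : Pts E w
  zero : CaseZero E w

theorem comm_inv {a b : X} (h : a * b = b * a) : a⁻¹ * b = b * a⁻¹ := by
  rw [eq_mul_inv_iff_mul_eq, mul_assoc, ← h, inv_mul_cancel_left]

theorem conj_eq {a b : X} (h : a * b = b * a) : a * b * a⁻¹ = b := by rw [h, mul_inv_cancel_right]

theorem comm_of_conj {a b : X} (h : a * b * a⁻¹ = b) : a * b = b * a := by
  rwa [mul_inv_eq_iff_eq_mul] at h

namespace C0

variable (H : C0 E w)

include H

theorem form (i : Fin 5) : ∃ σ, (σ : alternatingGroup (Fin 5)).1 0 = i ∧ E.r i = E.l σ * E.r 0 * (E.l σ)⁻¹ := by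
  obtain ⟨σ, hσ⟩ := exists_trans_one 0 i
  exact ⟨σ, hσ, by rw [E.l_r, hσ]⟩

theorem W_sq (i : Fin 5) : w (E.r i) * w (E.r i) = 1 := by
  obtain ⟨σ, -, h⟩ := H.form i
  rw [h]; exact H.pts.w_sq _ (E.l_mem σ)

theorem W_inv (i : Fin 5) : (w (E.r i))⁻¹ = w (E.r i) := inv_eq_of_mul_eq_one_left (H.W_sq i)

theorem W_t_W (i : Fin 5) : w (E.r i) * t * w (E.r i) = t * E.r i := by
  obtain ⟨σ, -, h⟩ := H.form i
  rw [h]; exact H.pts.w_t _ (E.l_mem σ)

theorem W_A (i : Fin 5) {b : X} (hb : b ∈ A) (h : b * E.r i = E.r i * b) : b * w (E.r i) = w (E.r i) * b := by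
  obtain ⟨σ, -, h'⟩ := H.form i
  rw [h'] at h ⊢
  exact H.pts.w_comm _ (E.l_mem σ) b hb h

theorem W_conj (i : Fin 5) {b : X} (hb : b ∈ A) : b * w (E.r i) * b⁻¹ = w (b * E.r i * b⁻¹) := by
  obtain ⟨σ, -, h'⟩ := H.form i
  rw [h']
  exact H.pts.w_conj _ (E.l_mem σ) b hb

theorem l_W (σ : alternatingGroup (Fin 5)) (i : Fin 5) :
    E.l σ * w (E.r i) * (E.l σ)⁻¹ = w (E.r ((σ : Equiv.Perm (Fin 5)) i)) := by
  rw [H.W_conj i (E.l_mem σ), E.l_r]

theorem r_W (i j : Fin 5) : E.r j * w (E.r i) = w (E.r i) * E.r j := H.W_A i (E.r_mem j) (E.r_comm j i)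

theorem U_W (i : Fin 5) {u : X} (hu : u ∈ E.U) : u * w (E.r i) = w (E.r i) * u := H.W_A i (E.U_le hu) (E.U_r u hu i)

theorem h_W (i : Fin 5) : E.h * w (E.r i) = w (E.r i) * E.h := H.W_A i E.h_mem (E.h_r i)

theorem D_W {a : X} (ha : a ∈ A) (h : a * E.r 0 = E.r 0 * a) : a * w (E.r 0) = w (E.r 0) * a := H.W_A 0 ha h

theorem t_r (i : Fin 5) : t * E.r i = E.r i * t := E.t_A _ (E.r_mem i)

theorem t_W (i : Fin 5) : t * w (E.r i) = w (E.r i) * (t * E.r i) := by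
  rw [← H.W_t_W i, mul_assoc, ← mul_assoc (w (E.r i)), H.W_sq, one_mul]

theorem t_W_t (i : Fin 5) : t * w (E.r i) * t = w (E.r i) * E.r i := by
  rw [H.t_W, mul_assoc, mul_assoc t, ← H.t_r i, ← mul_assoc t, E.t_sq, one_mul]

theorem W_t (i : Fin 5) : w (E.r i) * t * (w (E.r i))⁻¹ = t * E.r i := by rw [H.W_inv, H.W_t_W]

theorem W_ne (i : Fin 5) : w (E.r i) ≠ 1 := by
  intro h
  have h1 := H.W_t_W i
  rw [h, one_mul, mul_one] at h1
  exact E.r_ne' i (by rwa [left_eq_mul] at h1)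

theorem R5r : R5 E.r where
  sq := E.r_sq
  comm := E.r_comm
  prod := E.r_prod
  ne := E.r_ne
  alt := fun σ hσ => ⟨E.l ⟨σ, Equiv.Perm.mem_alternatingGroup.mpr hσ⟩, fun i => E.l_r _ i⟩

theorem R5W : R5 (fun i => w (E.r i)) where
  sq := H.W_sq
  comm := H.zero.comm
  prod := H.zero.prod
  ne := H.W_ne 0
  alt := fun σ hσ => ⟨E.l ⟨σ, Equiv.Perm.mem_alternatingGroup.mpr hσ⟩, fun i => H.l_W _ i⟩

end C0

/-- The group `V* = ⟨r_i, w_i⟩`. -/
def Vs (E : Env A t) (w : X → X) : Subgroup X := closure (Set.range E.r ∪ Set.range (fun i => w (E.r i)))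

theorem r_Vs (i : Fin 5) : E.r i ∈ Vs E w := subset_closure (Or.inl ⟨i, rfl⟩)

theorem W_Vs (i : Fin 5) : w (E.r i) ∈ Vs E w := subset_closure (Or.inr ⟨i, rfl⟩)

theorem V_le_Vs : E.V ≤ Vs E w := closure_mono Set.subset_union_left

theorem VW_le_Vs : closure (Set.range (fun i => w (E.r i))) ≤ Vs E w := closure_mono Set.subset_union_right

/-- An element commuting with the generators commutes with `V*`. -/
theorem comm_Vs {g : X} (h1 : ∀ i, g * E.r i = E.r i * g) (h2 : ∀ i, g * w (E.r i) = w (E.r i) * g) {s : X}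
    (hs : s ∈ Vs E w) : g * s = s * g := by
  have : Vs E w ≤ centralizer {g} := by
    rw [Vs, closure_le]
    rintro _ (⟨i, rfl⟩ | ⟨i, rfl⟩)
    · exact mem_centralizer_singleton_iff.mpr (h1 i).symm
    · exact mem_centralizer_singleton_iff.mpr (h2 i).symm
  exact (mem_centralizer_singleton_iff.mp (this hs)).symm

/-- An element conjugating the generators into a subgroup `N` conjugates `V*` into `N`. -/
theorem conj_Vs {g : X} {N : Subgroup X} (h1 : ∀ i, g * E.r i * g⁻¹ ∈ N) (h2 : ∀ i, g * w (E.r i) * g⁻¹ ∈ N) {s : X}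
    (hs : s ∈ Vs E w) : g * s * g⁻¹ ∈ N := by
  have : Vs E w ≤ N.comap (MulAut.conj g).toMonoidHom := by
    rw [Vs, closure_le]
    rintro _ (⟨i, rfl⟩ | ⟨i, rfl⟩)
    · exact h1 i
    · exact h2 i
  exact this hs

namespace C0

variable (H : C0 E w)

include H

theorem Vs_comm {s s' : X} (hs : s ∈ Vs E w) (hs' : s' ∈ Vs E w) : s * s' = s' * s :=
  comm_Vs (fun i => (comm_Vs (fun j => E.r_comm i j) (fun j => H.r_W j i) hs).symm)
    (fun i => (comm_Vs (fun j => (H.r_W i j).symm) (fun j => H.zero.comm i j) hs).symm) hs'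

theorem U_Vs {u s : X} (hu : u ∈ E.U) (hs : s ∈ Vs E w) : u * s = s * u :=
  comm_Vs (fun i => E.U_r u hu i) (fun i => H.U_W i hu) hs

theorem h_Vs {s : X} (hs : s ∈ Vs E w) : E.h * s = s * E.h := comm_Vs E.h_r H.h_W hs

theorem l_Vs (σ : alternatingGroup (Fin 5)) {s : X} (hs : s ∈ Vs E w) : E.l σ * s * (E.l σ)⁻¹ ∈ Vs E w :=
  conj_Vs (fun i => by rw [E.l_r]; exact r_Vs _) (fun i => by rw [H.l_W]; exact W_Vs _) hs

theorem mem_Vs {s : X} : s ∈ Vs E w ↔ ∃ v ∈ E.V, ∃ u ∈ closure (Set.range (fun i => w (E.r i))), s = v * u := by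
  constructor
  · intro hs
    induction hs using closure_induction with
    | mem x hx =>
      rcases hx with ⟨i, rfl⟩ | ⟨i, rfl⟩
      · exact ⟨_, E.r_V i, 1, one_mem _, (mul_one _).symm⟩
      · exact ⟨1, one_mem _, _, subset_closure ⟨i, rfl⟩, (one_mul _).symm⟩
    | one => exact ⟨1, one_mem _, 1, one_mem _, (mul_one _).symm⟩
    | mul x y _ _ hx hy =>
      obtain ⟨v, hv, u, hu, rfl⟩ := hx
      obtain ⟨v', hv', u', hu', rfl⟩ := hy
      refine ⟨v * v', mul_mem hv hv', u * u', mul_mem hu hu', ?_⟩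
      have := H.Vs_comm (VW_le_Vs hu) (V_le_Vs hv')
      calc v * u * (v' * u') = v * (u * v') * u' := by group
        _ = v * v' * (u * u') := by rw [this]; group
    | inv x _ hx =>
      obtain ⟨v, hv, u, hu, rfl⟩ := hx
      refine ⟨v⁻¹, inv_mem hv, u⁻¹, inv_mem hu, ?_⟩
      have := H.Vs_comm (VW_le_Vs (inv_mem hu)) (V_le_Vs (inv_mem hv))
      rw [mul_inv_rev, this]
  · rintro ⟨v, hv, u, hu, rfl⟩
    exact mul_mem (V_le_Vs hv) (VW_le_Vs hu)

theorem Vs_sq {s : X} (hs : s ∈ Vs E w) : s * s = 1 := by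
  obtain ⟨v, hv, u, hu, rfl⟩ := H.mem_Vs.mp hs
  have h1 := H.Vs_comm (VW_le_Vs hu) (V_le_Vs hv)
  calc v * u * (v * u) = v * (u * v) * u := by group
    _ = (v * v) * (u * u) := by rw [h1]; group
    _ = 1 := by rw [E.V_sq hv, H.R5W.sq_mem hu, mul_one]

theorem Vs_inv {s : X} (hs : s ∈ Vs E w) : s⁻¹ = s := inv_eq_of_mul_eq_one_left (H.Vs_sq hs)

theorem t_V {v : X} (hv : v ∈ E.V) : t * v = v * t := E.t_A v (E.V_le hv)

/-- `t u t = u * v` for `u ∈ ⟨w_i⟩`, with `v` explicit -/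
theorem t_VW {u : X} (hu : u ∈ closure (Set.range (fun i => w (E.r i)))) : ∃ v ∈ E.V, t * u * t = u * v ∧ (v = 1 → u = 1) := by
  rcases H.R5W.mem_closure.mp hu with rfl | ⟨i, rfl⟩ | ⟨i, j, hij, rfl⟩
  · exact ⟨1, one_mem _, by rw [mul_one, E.t_sq, mul_one], fun _ => rfl⟩
  · exact ⟨E.r i, E.r_V i, H.t_W_t i, fun h => absurd h (E.r_ne' i)⟩
  · refine ⟨E.r i * E.r j, mul_mem (E.r_V i) (E.r_V j), ?_, fun h => absurd h (E.rr_ne_one hij)⟩
    calc t * (w (E.r i) * w (E.r j)) * t = (t * w (E.r i) * t) * (t * w (E.r j) * t) := by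
          calc t * (w (E.r i) * w (E.r j)) * t = t * w (E.r i) * (1 * w (E.r j) * t) := by group
            _ = t * w (E.r i) * ((t * t) * w (E.r j) * t) := by rw [E.t_sq]
            _ = _ := by group
      _ = w (E.r i) * (E.r i * w (E.r j)) * E.r j := by rw [H.t_W_t, H.t_W_t]; group
      _ = w (E.r i) * w (E.r j) * (E.r i * E.r j) := by rw [H.r_W]; group

theorem t_Vs {s : X} (hs : s ∈ Vs E w) : ∃ v ∈ E.V, t * s * t = s * v ∧ (v = 1 → s ∈ E.V) := by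
  obtain ⟨v, hv, u, hu, rfl⟩ := H.mem_Vs.mp hs
  obtain ⟨v', hv', h1, h2⟩ := H.t_VW hu
  refine ⟨v', hv', ?_, fun h => by rw [h2 h, mul_one]; exact hv⟩
  calc t * (v * u) * t = v * (t * u * t) := by rw [← mul_assoc, H.t_V hv]; group
    _ = v * u * v' := by rw [h1]; group

theorem t_conj_Vs {s : X} (hs : s ∈ Vs E w) : t * s * t ∈ Vs E w := by
  obtain ⟨v, hv, h1, -⟩ := H.t_Vs hs
  rw [h1]; exact mul_mem hs (V_le_Vs hv)

/-- `C_{V*}(t) = V`. -/
theorem mem_V_of_comm {s : X} (hs : s ∈ Vs E w) (h : t * s = s * t) : s ∈ E.V := by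
  obtain ⟨v, hv, h1, h2⟩ := H.t_Vs hs
  apply h2
  rw [h, mul_assoc, E.t_sq, mul_one, left_eq_mul] at h1
  exact h1

/-- Involutions of `tV*` lie in `tV`. -/
theorem mem_V_of_sq {s : X} (hs : s ∈ Vs E w) (h : t * s * (t * s) = 1) : s ∈ E.V := by
  apply H.mem_V_of_comm hs
  have h1 : t * s * t = s⁻¹ := by
    rw [eq_inv_iff_mul_eq_one, ← mul_assoc] at *
    simpa only [mul_assoc] using h
  rw [H.Vs_inv hs] at h1
  calc t * s = t * s * (t * t) := by rw [E.t_sq, mul_one]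
    _ = (t * s * t) * t := by group
    _ = s * t := by rw [h1]

/-- `t` is `V*`-conjugate to every element of `tV`. -/
theorem exists_Vs {v : X} (hv : v ∈ E.V) : ∃ s ∈ Vs E w, s * t * s⁻¹ = t * v := by
  rcases H.R5r.mem_closure.mp hv with rfl | ⟨i, rfl⟩ | ⟨i, j, hij, rfl⟩
  · exact ⟨1, one_mem _, by group⟩
  · exact ⟨_, W_Vs i, H.W_t i⟩
  · refine ⟨w (E.r i) * w (E.r j), mul_mem (W_Vs i) (W_Vs j), ?_⟩
    calc w (E.r i) * w (E.r j) * t * (w (E.r i) * w (E.r j))⁻¹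
        = w (E.r i) * (w (E.r j) * t * (w (E.r j))⁻¹) * (w (E.r i))⁻¹ := by group
      _ = (w (E.r i) * t) * (E.r j * (w (E.r i))⁻¹) := by rw [H.W_t]; group
      _ = (w (E.r i) * t * (w (E.r i))⁻¹) * E.r j := by rw [H.W_inv, H.r_W]; group
      _ = t * (E.r i * E.r j) := by rw [H.W_t]; group

end C0

end Cfsg.Agent.UFiveTwo.Big
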