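import Cfsg.Agent.UFiveTwo.BigU

/-!
# S1778, type `U₅(2)`, section 7 (VI): involutions of `tU*`, `Qh` normalizes `U*`
-/

set_option autoImplicit false

namespace Cfsg.Agent.UFiveTwo.Big

open Subgroup Cfsg.Agent.UFiveTwo.Line

universe u

variable {X : Type u} [Group X] {A : Subgroup X} {t : X} {E : Env A t} {w : X → X} {Qh Γ : Subgroup X}

theorem ps_conj {a n u : X} (haA : a ∈ A) (hV : ∀ s ∈ Vs E w, a * s * a⁻¹ ∈ Vs E w) (h : Ps E w n u) :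
    Ps E w (a * n * a⁻¹) (a * u * a⁻¹) := by
  obtain ⟨s, hs, h⟩ := h
  refine ⟨a * s * a⁻¹, hV s hs, ?_⟩
  have e1 : a⁻¹ * t * a = t := by rw [mul_assoc, E.t_A a haA, inv_mul_cancel_left]
  have e2 : a * t * a⁻¹ = t := conj_eq (E.t_A a haA).symm
  calc a * n * a⁻¹ * t * (a * n * a⁻¹)⁻¹ = a * (n * (a⁻¹ * t * a) * n⁻¹) * a⁻¹ := by group
    _ = (a * t * a⁻¹) * ((a * u * a⁻¹) * (a * s * a⁻¹)) := by rw [e1, h]; group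
    _ = _ := by rw [e2]

theorem ps_of_ov {c m : X} (h : Ov E w c m) : Ps E w c m := by
  obtain ⟨ζ, hζ, h⟩ := h
  exact ⟨ζ, Zh_le_Vs hζ, h⟩

/-- an element of `U ∩ Q` outside `V` -/
theorem exists_UQ (H : C0 E w) : ∃ u ∈ E.U, u ∈ E.Q ∧ u * u = E.r 0 := by
  by_contra hno
  push Not at hno
  have h1 : E.U ⊓ E.Q ≤ E.V := by
    rintro u ⟨hu, hq⟩
    rcases E.Q_sq u hq with h | h
    · exact E.U_one u hu h
    · exact absurd h (hno u hu hq)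
  have h2 := E.card_UQ
  have h3 : Nat.card E.V = 16 := H.R5r.card_closure
  have : Finite E.V := Nat.finite_of_card_ne_zero (by rw [h3]; norm_num)
  have h4 := Subgroup.card_le_of_le h1
  rw [h2, h3] at h4
  norm_num at h4

namespace C0

variable (H : C0 E w)

include H

/-- `h` normalizes `U*`. -/
theorem h_Us {n : X} (hn : n ∈ Us H) : E.h * n * E.h⁻¹ ∈ Us H := by
  obtain ⟨ha, u, hu, hp⟩ := hn
  have hV : ∀ s ∈ Vs E w, E.h * s * E.h⁻¹ = s := fun s hs => conj_eq (H.h_Vs hs)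
  have hV' : ∀ s ∈ Vs E w, E.h⁻¹ * s * E.h = s := fun s hs => by rw [mul_assoc, ← H.h_Vs hs, inv_mul_cancel_left]
  refine ⟨⟨fun s hs => ?_, fun u' hu' => ?_⟩, E.h * u * E.h⁻¹, E.U_h u hu,
    ps_conj E.h_mem (fun s hs => by rw [hV s hs]; exact hs) hp⟩
  · apply comm_of_conj
    calc E.h * n * E.h⁻¹ * s * (E.h * n * E.h⁻¹)⁻¹ = E.h * (n * (E.h⁻¹ * s * E.h) * n⁻¹) * E.h⁻¹ := by group
      _ = s := by rw [hV' s hs, conj_eq (ha.cent s hs), hV s hs]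
  · have hU2 : E.h⁻¹ * u' * E.h ∈ E.U := by
      have h1 := E.U_h _ (E.U_h _ hu')
      have e : E.h * (E.h * u' * E.h⁻¹) * E.h⁻¹ = E.h⁻¹ * u' * E.h := by
        have h3 := E.h_pow
        have h4 : E.h * E.h = E.h⁻¹ := by
          rw [eq_inv_iff_mul_eq_one, ← h3, pow_succ, pow_two]
        calc E.h * (E.h * u' * E.h⁻¹) * E.h⁻¹ = (E.h * E.h) * u' * (E.h * E.h)⁻¹ := by group
          _ = _ := by rw [h4, inv_inv]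
      rwa [e] at h1
    obtain ⟨s, hs, h1⟩ := ha.act _ hU2
    refine ⟨s, hs, ?_⟩
    calc E.h * n * E.h⁻¹ * u' * (E.h * n * E.h⁻¹)⁻¹ = E.h * (n * (E.h⁻¹ * u' * E.h) * n⁻¹) * E.h⁻¹ := by group
      _ = u' * (E.h * s * E.h⁻¹) := by rw [h1]; group
      _ = u' * s := by rw [hV s hs]

theorem h_pow_Us (k : ℕ) {n : X} (hn : n ∈ Us H) : E.h ^ k * n * (E.h ^ k)⁻¹ ∈ Us H := by
  induction k with
  | zero => simpa using hn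
  | succ k ih =>
    have e : E.h ^ (k + 1) * n * (E.h ^ (k + 1))⁻¹ = E.h * (E.h ^ k * n * (E.h ^ k)⁻¹) * E.h⁻¹ := by
      rw [pow_succ']; group
    rw [e]; exact H.h_Us ih

/-- squares of `U*` lie in `V*` -/
theorem Us_sq {n : X} (hn : n ∈ Us H) : n * n ∈ Vs E w := by
  obtain ⟨ha, u, hu, s, hs, h1⟩ := hn
  have hac := H.ac_mul ha ha
  obtain ⟨s', hs', h3⟩ := H.ps_mul ha hu ⟨s, hs, h1⟩ ⟨s, hs, h1⟩
  refine H.mem_Vs_of (g := n * n) (fun u' hu' => ?_) (hac.cent _ (W_Vs 0)) (s := u * u * s')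
    (mul_mem (V_le_Vs (U_sq_V E hu)) hs') h3
  obtain ⟨s₁, hs₁, h4⟩ := ha.act u' hu'
  apply comm_of_conj
  calc n * n * u' * (n * n)⁻¹ = n * (n * u' * n⁻¹) * n⁻¹ := by group
    _ = n * (u' * s₁) * n⁻¹ := by rw [h4]
    _ = (n * u' * n⁻¹) * (n * s₁ * n⁻¹) := by group
    _ = u' * (s₁ * s₁) := by rw [h4, conj_eq (ha.cent _ hs₁)]; group
    _ = u' := by rw [H.Vs_sq hs₁, mul_one]

end C0

namespace Ctx

variable (H : Ctx E w Qh Γ)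

include H

/-- every element of `U` is hit -/
theorem exists_Us {u : X} (hu : u ∈ E.U) : ∃ n ∈ Us H.toC0, Ps E w n u := by
  by_cases hV : u ∈ E.V
  · obtain ⟨s, hs, h⟩ := H.exists_Vs hV
    exact ⟨s, H.Vs_le_Us hs, 1, one_mem _, by rw [h, mul_one]⟩
  rcases E.U_sq u hu with h | ⟨i, h⟩
  · exact absurd (E.U_one u hu h) hV
  obtain ⟨u₀, hu₀, hq₀, h₀⟩ := exists_UQ H.toC0
  obtain ⟨σ, hσ⟩ := exists_trans_one 0 i
  set u₁ := E.l σ * u₀ * (E.l σ)⁻¹ with hu₁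
  have h1 : u₁ * u₁ = u * u := by
    rw [h, hu₁]
    calc E.l σ * u₀ * (E.l σ)⁻¹ * (E.l σ * u₀ * (E.l σ)⁻¹) = E.l σ * (u₀ * u₀) * (E.l σ)⁻¹ := by group
      _ = E.r i := by rw [h₀, E.l_r, hσ]
  have h2 : u₁ * u₁ ≠ 1 := by rw [h1, h]; exact E.r_ne' i
  have hu₁U : u₁ ∈ E.U := E.U_l u₀ hu₀ σ
  obtain ⟨k, v, hv, h3⟩ := E.U_line u₁ hu₁U u hu h1 h2
  obtain ⟨c, hc, hov⟩ := H.exists_ov' hq₀
  have hcU := H.Y_Us hc hq₀ hu₀ hov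
  have hp1 : Ps E w (E.l σ * c * (E.l σ)⁻¹) u₁ := ps_conj (E.l_mem σ) (fun s hs => H.l_Vs σ hs) (ps_of_ov hov)
  have hkA : E.h ^ k ∈ A := pow_mem E.h_mem k
  have hkV : ∀ s ∈ Vs E w, E.h ^ k * s * (E.h ^ k)⁻¹ ∈ Vs E w := by
    intro s hs
    have : Commute (E.h ^ k) s := Commute.pow_left (H.h_Vs hs) k
    rw [conj_eq this.eq]; exact hs
  have hp2 := ps_conj hkA hkV hp1
  have hn2 := H.h_pow_Us k (H.l_Us σ hcU)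
  obtain ⟨s, hs, hs2⟩ := H.exists_Vs (E := E) (w := w) (v := v) hv
  have hp3 : Ps E w s v := ⟨1, one_mem _, by rw [hs2, mul_one]⟩
  have hvU : v ∈ E.U := E.V_le_U hv
  refine ⟨E.h ^ k * (E.l σ * c * (E.l σ)⁻¹) * (E.h ^ k)⁻¹ * s, mul_mem hn2 (H.Vs_le_Us hs), ?_⟩
  have h4 := H.ps_mul hn2.1 hvU hp2 hp3
  rw [h3]
  exact h4

/-- Involutions of `tU*` are `U*`-conjugate to `t`. -/
theorem exists_conj_Us {n : X} (hn : n ∈ Us H.toC0) (h : t * n * (t * n) = 1) : ∃ y ∈ Us H.toC0, y * t * y⁻¹ = t * n := by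
  obtain ⟨u, hu, s, hs, rfl⟩ := H.mem_UVs_of_sq hn h
  obtain ⟨y, hy, s', hs', h1⟩ := H.exists_Us hu
  -- `t u s = y (t s'⁻¹ s) y⁻¹`
  have hss : s'⁻¹ * s ∈ Vs E w := mul_mem (inv_mem hs') hs
  have h2 : y * (t * (s'⁻¹ * s)) * y⁻¹ = t * (u * s) := by
    calc y * (t * (s'⁻¹ * s)) * y⁻¹ = (y * t * y⁻¹) * (y * (s'⁻¹ * s) * y⁻¹) := by group
      _ = t * (u * s) := by rw [h1, conj_eq (hy.1.cent _ hss)]; group
  have h3 : t * (s'⁻¹ * s) * (t * (s'⁻¹ * s)) = 1 := by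
    have e : t * (s'⁻¹ * s) = y⁻¹ * (t * (u * s)) * y := by rw [← h2]; group
    rw [e]
    calc y⁻¹ * (t * (u * s)) * y * (y⁻¹ * (t * (u * s)) * y) = y⁻¹ * (t * (u * s) * (t * (u * s))) * y := by group
      _ = 1 := by rw [h]; group
  obtain ⟨x, hx, h4⟩ := H.exists_Vs (H.mem_V_of_sq hss h3)
  refine ⟨y * x, mul_mem hy (H.Vs_le_Us hx), ?_⟩
  calc y * x * t * (y * x)⁻¹ = y * (x * t * x⁻¹) * y⁻¹ := by group
    _ = t * (u * s) := by rw [h4, h2]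

/-- `Γ` normalizes `U*`. -/
theorem Γ_Us {c n : X} (hc : c ∈ Γ) (hn : n ∈ Us H.toC0) : c * n * c⁻¹ ∈ Us H.toC0 := by
  obtain ⟨m, hm, hov⟩ := H.exists_ov hc
  have hn0 := hn
  obtain ⟨ha, u₁, hu₁, s₁, hs₁, h1⟩ := hn
  have hci := inv_mem hc
  have hcV : ∀ s ∈ Vs E w, c⁻¹ * s * c ∈ Vs E w := by
    intro s hs
    have := H.Γ_Vs hci hs
    rwa [inv_inv] at this
  -- `c⁻¹ u c = u y₀`
  have y₀U : ∀ u ∈ E.U, u⁻¹ * c⁻¹ * u * c ∈ Us H.toC0 := by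
    intro u hu
    obtain ⟨k1, k2⟩ := H.comm_U hc hm hov hu
    have hQ : u⁻¹ * m⁻¹ * u * m ∈ E.Q := by
      have := mul_mem (U_Q E (inv_mem hm) (inv_mem hu)) hm
      rwa [inv_inv] at this
    have hU : u⁻¹ * m⁻¹ * u * m ∈ E.U := by
      have h3 := Q_U E (inv_mem hm) hu
      rw [inv_inv] at h3
      have e : u⁻¹ * m⁻¹ * u * m = u⁻¹ * (m⁻¹ * u * m) := by group
      rw [e]; exact mul_mem (inv_mem hu) h3
    exact H.Y_Us k2 hQ hU k1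
  have cUc : ∀ u ∈ E.U, c⁻¹ * u * c ∈ Us H.toC0 := by
    intro u hu
    have e : c⁻¹ * u * c = u * (u⁻¹ * c⁻¹ * u * c) := by group
    rw [e]; exact mul_mem (H.U_le_Us hu) (y₀U u hu)
  have ha' : Ac E w (c * n * c⁻¹) := by
    refine ⟨fun s hs => ?_, fun u hu => ?_⟩
    · apply comm_of_conj
      calc c * n * c⁻¹ * s * (c * n * c⁻¹)⁻¹ = c * (n * (c⁻¹ * s * c) * n⁻¹) * c⁻¹ := by group
        _ = s := by rw [conj_eq (ha.cent _ (hcV s hs))]; group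
    · obtain ⟨s, hs, h2⟩ := H.Us_comm hn0 (cUc u hu)
      refine ⟨c * s * c⁻¹, H.Γ_Vs hc hs, ?_⟩
      calc c * n * c⁻¹ * u * (c * n * c⁻¹)⁻¹ = c * (n * (c⁻¹ * u * c) * n⁻¹) * c⁻¹ := by group
        _ = u * (c * s * c⁻¹) := by rw [h2]; group
  -- the action on `t`
  obtain ⟨ζ, hζ, hct⟩ := H.ov_inv' hc hm hov
  have hζn : n * ζ = ζ * n := ha.cent _ (Zh_le_Vs hζ)
  have hmi := inv_mem hm
  set x := m * (u₁ * s₁) * m⁻¹ * (m * n * m⁻¹) * n⁻¹ with hx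
  have hxU : x ∈ Us H.toC0 :=
    mul_mem (mul_mem (H.Q_Us hm (mul_mem (H.U_le_Us hu₁) (H.Vs_le_Us hs₁))) (H.Q_Us hm hn0)) (inv_mem hn0)
  have hζx : ζ⁻¹ * x * ζ = x := by
    have := hxU.1.cent _ (Zh_le_Vs hζ)
    rw [mul_assoc, this, inv_mul_cancel_left]
  have hact : c * n * c⁻¹ * t * (c * n * c⁻¹)⁻¹ = t * (c * x * c⁻¹) := by
    have k1 : n * (t * (m⁻¹ * ζ)) * n⁻¹ = t * (m⁻¹ * ζ) * x := by
      calc n * (t * (m⁻¹ * ζ)) * n⁻¹ = (n * t * n⁻¹) * (n * m⁻¹) * (ζ * n⁻¹) := by group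
        _ = (n * t * n⁻¹) * (n * m⁻¹) * (n⁻¹ * ζ) := by rw [← comm_inv hζn]
        _ = t * m⁻¹ * x * ζ := by rw [h1, hx]; group
        _ = t * m⁻¹ * ζ * (ζ⁻¹ * x * ζ) := by group
        _ = t * (m⁻¹ * ζ) * x := by rw [hζx]; group
    calc c * n * c⁻¹ * t * (c * n * c⁻¹)⁻¹ = c * (n * (c⁻¹ * t * c) * n⁻¹) * c⁻¹ := by group
      _ = c * (t * (m⁻¹ * ζ) * x) * c⁻¹ := by rw [hct, k1]
      _ = (c * (t * (m⁻¹ * ζ)) * c⁻¹) * (c * x * c⁻¹) := by group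
      _ = t * (c * x * c⁻¹) := by rw [← hct]; group
  -- `x ∈ Y U V*`
  have hμU : m * u₁ * m⁻¹ * u₁⁻¹ ∈ E.U := mul_mem (Q_U E hm hu₁) (inv_mem hu₁)
  have hμQ : m * u₁ * m⁻¹ * u₁⁻¹ ∈ E.Q := by
    have e : m * u₁ * m⁻¹ * u₁⁻¹ = m * (u₁ * m⁻¹ * u₁⁻¹) := by group
    rw [e]; exact mul_mem hm (U_Q E hmi hu₁)
  obtain ⟨y, hy, hyo⟩ := H.exists_ov' hμQ
  have hyU := H.Y_Us hy hμQ hμU hyo
  have hpsx : Ps E w x (m * u₁ * m⁻¹ * u₁⁻¹) := by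
    have p1 : Ps E w (m * (u₁ * s₁) * m⁻¹) 1 := by
      have e : m * (u₁ * s₁) * m⁻¹ = (m * u₁ * m⁻¹) * (m * s₁ * m⁻¹) := by group
      rw [e]
      have := H.ps_mul (H.ac_U (Q_U E hm hu₁)) (one_mem _) (H.ps_U (Q_U E hm hu₁)) (H.ps_Vs (H.Q_Vs hm hs₁))
      rwa [mul_one] at this
    have p2 : Ps E w (m * n * m⁻¹) (m * u₁ * m⁻¹) :=
      ps_conj (E.Q_le hm) (fun s hs => H.Q_Vs hm hs) ⟨s₁, hs₁, h1⟩
    have p3 := H.ps_mul (H.Q_Us hm (mul_mem (H.U_le_Us hu₁) (H.Vs_le_Us hs₁))).1 (Q_U E hm hu₁) p1 p2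
    have p4 := H.ps_mul (H.ac_mul (H.Q_Us hm (mul_mem (H.U_le_Us hu₁) (H.Vs_le_Us hs₁))).1 (H.Q_Us hm hn0).1)
      (inv_mem hu₁) p3 (H.ps_inv ha hu₁ ⟨s₁, hs₁, h1⟩)
    rwa [one_mul] at p4
  have hyx : y⁻¹ * x ∈ Us H.toC0 := mul_mem (inv_mem hyU) hxU
  have hpyx : Ps E w (y⁻¹ * x) 1 := by
    have := H.ps_mul (H.ac_inv hyU.1) hμU (H.ps_inv hyU.1 hμU (ps_of_ov hyo)) hpsx
    rwa [inv_mul_cancel] at this
  obtain ⟨u₂, hu₂, s₂, hs₂, h2⟩ := H.mem_UVs hyx.1 (one_mem _) hpyx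
  have hxe : x = y * (u₂ * s₂) := by rw [← h2]; group
  -- `c x c⁻¹ ∈ U*`
  have hcx : c * x * c⁻¹ ∈ Us H.toC0 := by
    obtain ⟨ζ', hζ', h3⟩ := H.Γ_comm hc hy
    have e : c * x * c⁻¹ = (c * y * c⁻¹) * (c * u₂ * c⁻¹) * (c * s₂ * c⁻¹) := by rw [hxe]; group
    rw [e, h3]
    refine mul_mem (mul_mem (mul_mem hyU (H.Vs_le_Us (Zh_le_Vs hζ'))) ?_) (H.Vs_le_Us (H.Γ_Vs hc hs₂))
    -- `c u c⁻¹ = u (u⁻¹ c u c⁻¹)`
    obtain ⟨k1, k2⟩ := H.comm_U hci hmi (H.ov_inv hc hm hov) hu₂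
    rw [inv_inv] at k1 k2
    rw [inv_inv] at k1
    have hQ : u₂⁻¹ * m * u₂ * m⁻¹ ∈ E.Q := by
      have := mul_mem (U_Q E hm (inv_mem hu₂)) (inv_mem hm)
      rwa [inv_inv] at this
    have hU : u₂⁻¹ * m * u₂ * m⁻¹ ∈ E.U := by
      have e : u₂⁻¹ * m * u₂ * m⁻¹ = u₂⁻¹ * (m * u₂ * m⁻¹) := by group
      rw [e]; exact mul_mem (inv_mem hu₂) (Q_U E hm hu₂)
    have k3 := mul_mem (H.U_le_Us hu₂) (H.Y_Us k2 hQ hU k1)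
    have e : u₂ * (u₂⁻¹ * c * u₂ * c⁻¹) = c * u₂ * c⁻¹ := by group
    rwa [e] at k3
  -- an involution of `tU*`
  have hinv : t * (c * x * c⁻¹) * (t * (c * x * c⁻¹)) = 1 := by
    rw [← hact]
    calc c * n * c⁻¹ * t * (c * n * c⁻¹)⁻¹ * (c * n * c⁻¹ * t * (c * n * c⁻¹)⁻¹)
        = c * n * c⁻¹ * (t * t) * (c * n * c⁻¹)⁻¹ := by group
      _ = 1 := by rw [E.t_sq]; group
  obtain ⟨u₃, hu₃, s₃, hs₃, h4⟩ := H.mem_UVs_of_sq hcx hinv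
  exact ⟨ha', u₃, hu₃, s₃, hs₃, by rw [hact, h4]⟩

/-- `Qh` normalizes `U*`. -/
theorem Qh_Us {g n : X} (hg : g ∈ Qh) (hn : n ∈ Us H.toC0) : g * n * g⁻¹ ∈ Us H.toC0 := by
  obtain ⟨q, hq, c, hc, rfl⟩ := H.q.gen g hg
  have e : q * c * n * (q * c)⁻¹ = q * (c * n * c⁻¹) * q⁻¹ := by group
  rw [e]
  exact H.Q_Us hq (H.Γ_Us hc hn)

end Ctx

end Cfsg.Agent.UFiveTwo.Big
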