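import Cfsg.Agent.UFiveTwo.OneB

/-!
# S1778, type `U₅(2)`, section 9 (`eps = 1`), (V): `U* = B₁ B₂`, `S₀` normalizes `B₁` and `B₂ = B₁ᵗ`
-/

set_option autoImplicit false

namespace Cfsg.Agent.UFiveTwo.Big

open Subgroup Cfsg.Agent.UFiveTwo.Line

universe u

theorem dec_moving : ∀ i : Fin 5, i ≠ 0 → ∃ κ : Equiv.Perm (Fin 5), Equiv.Perm.sign κ = 1 ∧ κ 0 = 0 ∧ κ * κ = 1 ∧
    κ i ≠ i := by decide +kernel

variable {X : Type u} [Group X] {A : Subgroup X} {t : X} {E : Env A t} {w : X → X} {Qh Γ A1 : Subgroup X}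

theorem mem_B1 {H : One E w Qh Γ A1} {n : X} : n ∈ B1 H ↔ Al H n := Iff.rfl

/-- squares in `U ∩ Q` -/
theorem UQ_sq {q : X} (hqU : q ∈ E.U) (hqQ : q ∈ E.Q) (hqV : q ∉ E.V) : q * q = E.r 0 := by
  rcases E.Q_sq q hqQ with h1 | h1
  · exact absurd (E.U_one q hqU h1) hqV
  · exact h1

theorem comm_UQ {p q : X} (hpU : p ∈ E.U) (hpQ : p ∈ E.Q) (hpV : p ∉ E.V) (hqU : q ∈ E.U) (hqQ : q ∈ E.Q)
    (hqV : q ∉ E.V) (h : p * q = q * p) : EqM E.V p q := by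
  have h1 := UQ_sq hpU hpQ hpV
  have h2 := UQ_sq hqU hqQ hqV
  have h3 : p * q * (p * q) = 1 := by
    calc p * q * (p * q) = p * (q * p) * q := by group
      _ = (p * p) * (q * q) := by rw [← h]; group
      _ = 1 := by rw [h1, h2, E.r_sq]
  have h4 := E.U_one _ (mul_mem hpU hqU) h3
  have h5 : p⁻¹ * q = (p * p)⁻¹ * (p * q) := by group
  unfold EqM
  rw [h5, h1]
  exact mul_mem (inv_mem (E.r_V 0)) h4

namespace One

variable (H : One E w Qh Γ A1)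

include H

theorem Vs_le_B1 : Vs E w ≤ B1 H := fun _ hs => H.al_Vs hs

theorem B1_le_Us : B1 H ≤ Us H.toC0 := fun _ hn => H.al_Us hn

theorem B1_sq {n : X} (hn : n ∈ B1 H) : n * n = 1 := H.al_sq hn

theorem B1_inv {n : X} (hn : n ∈ B1 H) : n⁻¹ = n := inv_eq_of_mul_eq_one_left (H.B1_sq hn)

theorem B1_comm {n n' : X} (hn : n ∈ B1 H) (hn' : n' ∈ B1 H) : n * n' = n' * n := by
  have h1 := H.B1_inv (mul_mem hn hn')
  rw [mul_inv_rev, H.B1_inv hn, H.B1_inv hn'] at h1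
  exact h1.symm

theorem A1_B1 {a : X} (ha : a ∈ A1) (haU : a ∈ Us H.toC0) : a ∈ B1 H :=
  ⟨1, a, ha, haU, 1, one_mem _, by rw [map_one]; group⟩

/-- elements of `B₁` over elements of `V` lie in `V*` -/
theorem B1_Vs {x y : X} (hx : x ∈ B1 H) (hy : y ∈ E.U) (hpx : Ps E w x y) (hyV : y ∈ E.V) : x ∈ Vs E w := by
  have h1 : EqM (Vs E w) 1 x := by
    refine H.al_unique (H.al_Vs (one_mem _)) hx (one_mem _) hy ⟨1, one_mem _, by group⟩ hpx ?_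
    unfold EqM; rw [inv_one, one_mul]; exact hyV
  unfold EqM at h1
  rwa [inv_one, one_mul] at h1

theorem not_V {x y : X} (hxV : x ∉ Vs E w) (hx : x ∈ B1 H) (hy : y ∈ E.U) (hpx : Ps E w x y) : y ∉ E.V :=
  fun h => hxV (H.B1_Vs hx hy hpx h)

theorem not_Vs {x y : X} (hy : y ∈ E.U) (hpx : Ps E w x y) (hyV : y ∉ E.V) : x ∉ Vs E w := by
  intro h
  apply hyV
  have h1 := ps_unique H.toC0 (one_mem _) hy (H.ps_Vs h) hpx
  unfold EqM at h1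
  rwa [inv_one, one_mul] at h1

/-- `b (t b t) = u s` -/
theorem B1_mul_t {b u : X} (hb : b ∈ B1 H) (hp : Ps E w b u) : ∃ s ∈ Vs E w, b * (t * b * t) = u * s := by
  obtain ⟨u', hu', hp'⟩ := (H.B1_le_Us hb).2
  obtain ⟨s, hs, h⟩ := hp
  obtain ⟨s', hs', h'⟩ := hp'
  rw [H.B1_inv hb] at h h'
  -- `u = u' (s' s⁻¹)`
  have h2 : u * s = u' * s' := mul_left_cancel (h.symm.trans h')
  have h3 : u = u' * (s' * s⁻¹) := by
    calc u = u * s * s⁻¹ := by group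
      _ = _ := by rw [h2]; group
  have hss : s' * s⁻¹ ∈ Vs E w := mul_mem hs' (inv_mem hs)
  refine ⟨(s' * s⁻¹)⁻¹ * (t * s' * t), mul_mem (inv_mem hss) (H.t_conj_Vs hs'), ?_⟩
  have htu : t * u' = u' * t := E.t_A u' (E.U_le hu')
  calc b * (t * b * t) = (b * t * b) * t := by group
    _ = (t * u') * s' * t := by rw [h']; group
    _ = u' * (t * s' * t) := by rw [htu]; group
    _ = u' * (s' * s⁻¹) * ((s' * s⁻¹)⁻¹ * (t * s' * t)) := by group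
    _ = _ := by rw [← h3]

theorem tt_conj (g : X) : t * (t * g * t) * t = g := by
  calc t * (t * g * t) * t = (t * t) * g * (t * t) := by group
    _ = g := by rw [E.t_sq, one_mul, mul_one]

theorem t_mul (a b : X) : t * (a * b) * t = (t * a * t) * (t * b * t) := by
  calc t * (a * b) * t = t * a * 1 * b * t := by group
    _ = _ := by rw [← E.t_sq]; group

/-- `U* = B₁ B₁ᵗ` -/
theorem Us_form {n : X} (hn : n ∈ Us H.toC0) : ∃ b ∈ B1 H, ∃ b' ∈ B1 H, n = b * (t * b' * t) := by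
  obtain ⟨ha, u, hu, hp⟩ := hn
  obtain ⟨b, hb, hbp⟩ := H.al_exists hu
  have hbU := H.al_Us hb
  have h1 := H.ps_mul (H.ac_inv hbU.1) hu (H.ps_inv hbU.1 hu hbp) hp
  rw [inv_mul_cancel] at h1
  obtain ⟨u', hu', s', hs', h2⟩ := H.mem_UVs (H.ac_mul (H.ac_inv hbU.1) ha) (one_mem _) h1
  obtain ⟨b', hb', hbp'⟩ := H.al_exists hu'
  obtain ⟨s₃, hs₃, h3⟩ := H.B1_mul_t hb' hbp'
  have hx : s₃⁻¹ * s' ∈ Vs E w := mul_mem (inv_mem hs₃) hs'
  refine ⟨b * b', mul_mem (show b ∈ B1 H from hb) (show b' ∈ B1 H from hb'), b' * (t * (s₃⁻¹ * s') * t),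
    mul_mem (show b' ∈ B1 H from hb') (H.Vs_le_B1 (H.t_conj_Vs hx)), ?_⟩
  rw [H.t_mul, H.tt_conj]
  have h4 : n = b * (u' * s') := by rw [← h2]; group
  rw [h4]
  have h5 : u' = b' * (t * b' * t) * s₃⁻¹ := by rw [h3]; group
  calc b * (u' * s') = b * (b' * (t * b' * t) * s₃⁻¹ * s') := by rw [← h5]
    _ = _ := by group

/-- nondegeneracy at the point `r 0` -/
theorem nd0 {a a' : X} (ha : a ∈ A1) (haU : a ∈ Us H.toC0) (haV : a ∉ Vs E w) (ha' : a' ∈ A1)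
    (haU' : a' ∈ Us H.toC0) (haV' : a' ∉ Vs E w) (h : a' * (t * a * t) = (t * a * t) * a') : False := by
  obtain ⟨m, ⟨hmU, hmQ⟩, hov⟩ := H.ov_A1_Us ha haU
  obtain ⟨m', ⟨hmU', hmQ'⟩, hov'⟩ := H.ov_A1_Us ha' haU'
  have hmV : m ∉ E.V := fun h => haV (H.mem_Vs_A1 ha h hmQ hov)
  have hmV' : m' ∉ E.V := fun h => haV' (H.mem_Vs_A1 ha' h hmQ' hov')
  obtain ⟨ζ, hζ, h1⟩ := H.mul_t ha hmQ hov
  -- `a'` commutes with `m`
  have h2 : a' * m = m * a' := by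
    have e1 : m = a * (t * a * t) * ζ⁻¹ := by rw [h1]; group
    have c1 := H.comm a' ha' a ha
    have c2 := H.comm a' ha' _ (inv_mem (H.Zh_A1 hζ))
    rw [e1]
    calc a' * (a * (t * a * t) * ζ⁻¹) = (a' * a) * (t * a * t) * ζ⁻¹ := by group
      _ = a * (a' * (t * a * t)) * ζ⁻¹ := by rw [c1]; group
      _ = a * (t * a * t) * (a' * ζ⁻¹) := by rw [h]; group
      _ = _ := by rw [c2]; group
  obtain ⟨h3, h4⟩ := H.ovcomm ha' hmQ' hov' hmQ h2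
  have hcU := E.c0_U hmU'
  have hcQ := E.c0_Q hmQ'
  have hcV : E.c0 m' ∉ E.V := by
    intro h5
    apply hmV'
    have h6 := E.c0_VQ (E.c0_VQ h5 hcQ) (E.c0_Q hcQ)
    rwa [E.c0_ccc] at h6
  have h5 := comm_UQ hmU' hmQ' hmV' hmU hmQ hmV h3
  have h6 := comm_UQ hcU hcQ hcV hmU hmQ hmV h4
  -- `c0 m' = m' v`
  have h7 : m'⁻¹ * E.c0 m' ∈ E.V := h5.trans h6.symm
  obtain ⟨v, hv, hcv⟩ : ∃ v ∈ E.V, E.c0 m' = m' * v := ⟨_, h7, by group⟩
  have hvQ : v ∈ E.Q := by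
    have : v = m'⁻¹ * E.c0 m' := by rw [hcv]; group
    rw [this]; exact mul_mem (inv_mem hmQ') hcQ
  have hcvV := E.c0_VQ hv hvQ
  have hn := (hatC H.pts H.zero).hn m' hmQ'
  have hn' : m' * E.c0 m' * E.c0 (E.c0 m') = 1 ∨ m' * E.c0 m' * E.c0 (E.c0 m') = E.r 0 := hn
  apply hmV'
  have e1 : m' * E.c0 m' * E.c0 (E.c0 m') = m' * (E.r 0 * (v * (v * E.c0 v))) := by
    rw [hcv, E.c0_mul, hcv]
    have c1 := E.U_V hmU' hv
    calc m' * (m' * v) * (m' * v * E.c0 v) = m' * m' * (v * m') * (v * E.c0 v) := by group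
      _ = m' * (m' * m') * (v * (v * E.c0 v)) := by rw [← c1]; group
      _ = _ := by rw [UQ_sq hmU' hmQ' hmV']; group
  have hV2 : E.r 0 * (v * (v * E.c0 v)) ∈ E.V := mul_mem (E.r_V 0) (mul_mem hv (mul_mem hv hcvV))
  rw [e1] at hn'
  rcases hn' with h8 | h8
  · have : m' = (E.r 0 * (v * (v * E.c0 v)))⁻¹ := eq_inv_of_mul_eq_one_left h8
    rw [this]; exact inv_mem hV2
  · have : m' = E.r 0 * (E.r 0 * (v * (v * E.c0 v)))⁻¹ := eq_mul_inv_of_mul_eq h8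
    rw [this]; exact mul_mem (E.r_V 0) (inv_mem hV2)

/-- nondegeneracy, second argument at `r 0` -/
theorem nd1 {a x : X} (ha : a ∈ A1) (haU : a ∈ Us H.toC0) (haV : a ∉ Vs E w) (hx : x ∈ B1 H)
    (hxV : x ∉ Vs E w) (h : x * (t * a * t) = (t * a * t) * x) : False := by
  have htaU : t * a * t ∈ Us H.toC0 := H.t_Us haU
  -- reduction
  have red : ∀ x' ∈ B1 H, x' ∉ Vs E w → x' * (t * a * t) = (t * a * t) * x' → ∀ a' ∈ A1, a' ∈ Us H.toC0 →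
      EqM (Vs E w) x' a' → False := by
    intro x' hx' hxV' h' a' ha' haU' he
    refine H.nd0 ha haU haV ha' haU' (fun h1 => ?_) ?_
    · apply hxV'
      have := mul_mem h1 (inv_mem he)
      have e : a' * (x'⁻¹ * a')⁻¹ = x' := by group
      rwa [e] at this
    · have h1 := htaU.1.cent _ he
      calc a' * (t * a * t) = x' * ((x'⁻¹ * a') * (t * a * t)) := by group
        _ = x' * (t * a * t) * (x'⁻¹ * a') := by rw [← h1]; group
        _ = (t * a * t) * a' := by rw [h']; group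
  have hx0 := hx
  obtain ⟨σ, a', ha', haU', s, hs, hxe⟩ := hx
  have hn1 := H.l_Us σ haU'
  by_cases hσ : (σ : Equiv.Perm (Fin 5)) 0 = 0
  · have hσr : E.l σ * E.r 0 = E.r 0 * E.l σ := by
      apply comm_of_conj
      rw [E.l_r, hσ]
    refine red x hx0 hxV h _ (H.conj _ (E.l_mem σ) hσr a' ha') hn1 ?_
    rw [hxe]
    exact (EqM.mul_right hs).symm
  · obtain ⟨κ, hκs, hκ0, hκκ, hκi⟩ := dec_moving _ hσ
    set κ' : alternatingGroup (Fin 5) := ⟨κ, Equiv.Perm.mem_alternatingGroup.mpr hκs⟩ with hκ'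
    have hkQ : E.l κ' ∈ E.Q := E.l_Q κ' ⟨hκ0, hκκ⟩
    -- `lκ (t a t) lκ⁻¹ = (t a t) ζ'`
    obtain ⟨ζ, hζ, h1⟩ := H.Qh_comm (H.q.Q_le hkQ) (H.A1_le ha)
    have htk : t * E.l κ' = E.l κ' * t := E.t_A _ (E.l_mem κ')
    have h2 : E.l κ' * (t * a * t) * (E.l κ')⁻¹ = (t * a * t) * (t * ζ * t) := by
      have htk' : (E.l κ')⁻¹ * t = t * (E.l κ')⁻¹ := comm_inv htk.symm
      calc E.l κ' * (t * a * t) * (E.l κ')⁻¹ = (E.l κ' * t) * a * (t * (E.l κ')⁻¹) := by group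
        _ = t * (E.l κ' * a * (E.l κ')⁻¹) * t := by rw [← htk, ← htk']; group
        _ = _ := by rw [h1, H.t_mul]
    have htζ : t * ζ * t ∈ Vs E w := H.t_conj_Vs (Zh_le_Vs hζ)
    set y := E.l κ' * x * (E.l κ')⁻¹ with hy
    have hyB : y ∈ B1 H := H.al_l κ' hx0
    have hyU := H.B1_le_Us hyB
    have h3 : y * (t * a * t) = (t * a * t) * y := by
      have h4 : y * ((t * a * t) * (t * ζ * t)) = ((t * a * t) * (t * ζ * t)) * y := by
        rw [← h2, hy]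
        calc E.l κ' * x * (E.l κ')⁻¹ * (E.l κ' * (t * a * t) * (E.l κ')⁻¹) =
            E.l κ' * (x * (t * a * t)) * (E.l κ')⁻¹ := by group
          _ = _ := by rw [h]; group
      have h5 := hyU.1.cent _ htζ
      have h6 : y * (t * a * t) * (t * ζ * t) = (t * a * t) * y * (t * ζ * t) := by
        calc y * (t * a * t) * (t * ζ * t) = ((t * a * t) * (t * ζ * t)) * y := by rw [← h4]; group
          _ = (t * a * t) * (y * (t * ζ * t)) := by rw [h5]; group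
          _ = _ := by group
      exact mul_right_cancel h6
    have hx'B : x⁻¹ * y ∈ B1 H := mul_mem (inv_mem hx0) hyB
    have hx'c : x⁻¹ * y * (t * a * t) = (t * a * t) * (x⁻¹ * y) := by
      have h4 := comm_inv h
      rw [mul_assoc, h3, ← mul_assoc, h4, mul_assoc]
    -- `x` lies over `u = lσ m' lσ⁻¹`
    obtain ⟨m', ⟨hmU', hmQ'⟩, hov'⟩ := H.ov_A1_Us ha' haU'
    set u := E.l σ * m' * (E.l σ)⁻¹ with hu
    have huU : u ∈ E.U := E.U_l m' hmU' σ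
    have hpx : Ps E w x u := by
      rw [hxe]; exact ps_mul_Vs H.toC0 hn1 hs (ps_conj_l H.toC0 σ (ps_of_ov hov'))
    have huV := H.not_V hxV hx0 huU hpx
    have hmV' : m' ∉ E.V := fun h => huV (V_l E σ m' h)
    have huu : u * u = E.r ((σ : Equiv.Perm (Fin 5)) 0) := by
      rw [← E.l_r, ← UQ_sq hmU' hmQ' hmV', hu]; group
    have hpy : Ps E w y (E.l κ' * u * (E.l κ')⁻¹) := ps_conj_l H.toC0 κ' hpx
    have hxU := H.B1_le_Us hx0
    have hyu : E.l κ' * u * (E.l κ')⁻¹ ∈ E.U := E.U_l u huU κ'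
    have hpe : Ps E w (x⁻¹ * y) (u⁻¹ * (E.l κ' * u * (E.l κ')⁻¹)) :=
      H.ps_mul (H.ac_inv hxU.1) hyu (H.ps_inv hxU.1 huU hpx) hpy
    have heU : u⁻¹ * (E.l κ' * u * (E.l κ')⁻¹) ∈ E.U := mul_mem (inv_mem huU) hyu
    have heQ : u⁻¹ * (E.l κ' * u * (E.l κ')⁻¹) ∈ E.Q := by
      have h4 := U_Q E hkQ (inv_mem huU)
      rw [inv_inv] at h4
      have e : u⁻¹ * (E.l κ' * u * (E.l κ')⁻¹) = (u⁻¹ * E.l κ' * u) * (E.l κ')⁻¹ := by group
      rw [e]; exact mul_mem h4 (inv_mem hkQ)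
    have heV : u⁻¹ * (E.l κ' * u * (E.l κ')⁻¹) ∉ E.V := by
      intro h4
      obtain ⟨v, hv, h5⟩ : ∃ v ∈ E.V, E.l κ' * u * (E.l κ')⁻¹ = u * v := ⟨_, h4, by group⟩
      have h6 : E.r (κ ((σ : Equiv.Perm (Fin 5)) 0)) = E.r ((σ : Equiv.Perm (Fin 5)) 0) := by
        have e1 : E.l κ' * E.r ((σ : Equiv.Perm (Fin 5)) 0) * (E.l κ')⁻¹ = E.r (κ ((σ : Equiv.Perm (Fin 5)) 0)) :=
          E.l_r κ' _
        rw [← e1, ← huu]
        calc E.l κ' * (u * u) * (E.l κ')⁻¹ = (E.l κ' * u * (E.l κ')⁻¹) * (E.l κ' * u * (E.l κ')⁻¹) := by group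
          _ = u * (v * u) * v := by rw [h5]; group
          _ = (u * u) * (v * v) := by rw [← E.U_V huU hv]; group
          _ = u * u := by rw [E.V_sq hv, mul_one]
      exact hκi (E.r_inj h6)
    have hx'V := H.not_Vs heU hpe heV
    obtain ⟨a₃, ha₃, hov₃⟩ := H.exists_A1 heQ
    have haU₃ := H.mem_Us_A1 ha₃ heU heQ hov₃
    exact red _ hx'B hx'V hx'c a₃ ha₃ haU₃
      (H.al_unique hx'B (H.A1_B1 ha₃ haU₃) heU heU hpe (ps_of_ov hov₃) (EqM.refl _ _))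

/-- **Nondegeneracy**: `[x, yᵗ] ≠ 1` for `x, y ∈ B₁ - V*`. -/
theorem nd {x y : X} (hx : x ∈ B1 H) (hxV : x ∉ Vs E w) (hy : y ∈ B1 H) (hyV : y ∉ Vs E w)
    (h : x * (t * y * t) = (t * y * t) * x) : False := by
  obtain ⟨σ, a, ha, haU, s, hs, rfl⟩ := hy
  have haV : a ∉ Vs E w := fun h1 => hyV (mul_mem (H.l_Vs σ h1) hs)
  have hxU := H.B1_le_Us hx
  have hlx := H.al_l σ⁻¹ hx
  rw [map_inv, inv_inv] at hlx
  have hlt : t * E.l σ = E.l σ * t := E.t_A _ (E.l_mem σ)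
  have hlt' : (E.l σ)⁻¹ * t = t * (E.l σ)⁻¹ := comm_inv hlt.symm
  refine H.nd1 ha haU haV (x := (E.l σ)⁻¹ * x * E.l σ) hlx (fun h1 => hxV ?_) ?_
  · have h2 := H.l_Vs σ h1
    have e : E.l σ * ((E.l σ)⁻¹ * x * E.l σ) * (E.l σ)⁻¹ = x := by group
    rwa [e] at h2
  · -- `t (lσ a lσ⁻¹ s) t = lσ (t a t) lσ⁻¹ (t s t)`
    have h1 : t * (E.l σ * a * (E.l σ)⁻¹ * s) * t = (E.l σ * (t * a * t) * (E.l σ)⁻¹) * (t * s * t) := by
      rw [H.t_mul]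
      have e : t * (E.l σ * a * (E.l σ)⁻¹) * t = E.l σ * (t * a * t) * (E.l σ)⁻¹ := by
        calc t * (E.l σ * a * (E.l σ)⁻¹) * t = (t * E.l σ) * a * ((E.l σ)⁻¹ * t) := by group
          _ = _ := by rw [hlt, hlt']; group
      rw [e]
    rw [h1] at h
    have h2 := hxU.1.cent _ (H.t_conj_Vs hs)
    have h3 : x * (E.l σ * (t * a * t) * (E.l σ)⁻¹) = (E.l σ * (t * a * t) * (E.l σ)⁻¹) * x := by
      have h4 : x * (E.l σ * (t * a * t) * (E.l σ)⁻¹) * (t * s * t) =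
          (E.l σ * (t * a * t) * (E.l σ)⁻¹) * x * (t * s * t) := by
        rw [mul_assoc x, h, mul_assoc _ x, h2]; group
      exact mul_right_cancel h4
    calc (E.l σ)⁻¹ * x * E.l σ * (t * a * t) = (E.l σ)⁻¹ * (x * (E.l σ * (t * a * t) * (E.l σ)⁻¹)) * E.l σ := by
          group
      _ = _ := by rw [h3]; group

/-- involutions of `U*` -/
theorem invol_Us {n : X} (hn : n ∈ Us H.toC0) (h : n * n = 1) : n ∈ B1 H ∨ t * n * t ∈ B1 H := by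
  obtain ⟨b, hb, b', hb', rfl⟩ := H.Us_form hn
  have hb2 : (t * b' * t) * (t * b' * t) = 1 := by
    rw [← H.t_mul, H.B1_sq hb', mul_one, E.t_sq]
  have hc : b * (t * b' * t) = (t * b' * t) * b := by
    have h1 : (b * (t * b' * t))⁻¹ = b * (t * b' * t) := inv_eq_of_mul_eq_one_left h
    rw [mul_inv_rev, H.B1_inv hb, inv_eq_of_mul_eq_one_left hb2] at h1
    exact h1.symm
  by_cases h1 : b ∈ Vs E w
  · right
    rw [H.t_mul, H.tt_conj]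
    exact mul_mem (H.Vs_le_B1 (H.t_conj_Vs h1)) hb'
  · by_cases h2 : b' ∈ Vs E w
    · left
      exact mul_mem hb (H.Vs_le_B1 (H.t_conj_Vs h2))
    · exact absurd hc (fun h3 => H.nd hb h1 hb' h2 h3)

/-- an element normalizing `U*`, `V*` and mapping one element of `B₁ - V*` into `B₁` normalizes `B₁` -/
theorem conj_B1 {g x₀ : X} (hgU : ∀ n ∈ Us H.toC0, g * n * g⁻¹ ∈ Us H.toC0) (hgV : ∀ s ∈ Vs E w, g⁻¹ * s * g ∈ Vs E w)
    (hx₀ : x₀ ∈ B1 H) (hx₀V : x₀ ∉ Vs E w) (hgx : g * x₀ * g⁻¹ ∈ B1 H) {b : X} (hb : b ∈ B1 H) :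
    g * b * g⁻¹ ∈ B1 H := by
  have h1 : (g * b * g⁻¹) * (g * b * g⁻¹) = 1 := by
    calc (g * b * g⁻¹) * (g * b * g⁻¹) = g * (b * b) * g⁻¹ := by group
      _ = 1 := by rw [H.B1_sq hb]; group
  rcases H.invol_Us (hgU b (H.B1_le_Us hb)) h1 with h2 | h2
  · exact h2
  · by_cases h3 : t * (g * b * g⁻¹) * t ∈ Vs E w
    · have h4 := H.t_conj_Vs h3
      rw [H.tt_conj] at h4
      exact H.Vs_le_B1 h4
    · exfalso
      refine H.nd hgx (fun h4 => hx₀V ?_) h2 h3 ?_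
      · have := hgV _ h4
        have e : g⁻¹ * (g * x₀ * g⁻¹) * g = x₀ := by group
        rwa [e] at this
      · rw [H.tt_conj]
        calc g * x₀ * g⁻¹ * (g * b * g⁻¹) = g * (x₀ * b) * g⁻¹ := by group
          _ = _ := by rw [H.B1_comm hx₀ hb]; group

theorem exists_A1_Us : ∃ a ∈ A1, a ∈ Us H.toC0 ∧ a ∉ Vs E w := by
  obtain ⟨q, hqU, hqQ, hqr⟩ := exists_UQ H.toC0
  obtain ⟨a, ha, hov⟩ := H.exists_A1 hqQ
  have haU := H.mem_Us_A1 ha hqU hqQ hov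
  refine ⟨a, ha, haU, H.not_Vs hqU (ps_of_ov hov) (fun h => ?_)⟩
  rw [E.V_sq h] at hqr
  exact E.r_ne hqr.symm

/-- `Qh` normalizes `B₁` -/
theorem Qh_B1 {g b : X} (hg : g ∈ Qh) (hb : b ∈ B1 H) : g * b * g⁻¹ ∈ B1 H := by
  obtain ⟨a, ha, haU, haV⟩ := H.exists_A1_Us
  refine H.conj_B1 (fun n hn => H.Qh_Us hg hn) (fun s hs => ?_) (H.A1_B1 ha haU) haV ?_ hb
  · have := H.Qh_Vs (inv_mem hg) hs
    rwa [inv_inv] at this
  · obtain ⟨ζ, hζ, h⟩ := H.Qh_comm hg (H.A1_le ha)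
    rw [h]
    exact mul_mem (H.A1_B1 ha haU) (H.Vs_le_B1 (Zh_le_Vs hζ))

/-- `Qh` normalizes `B₁ᵗ` -/
theorem Qh_B2 {g b : X} (hg : g ∈ Qh) (hb : b ∈ B1 H) : t * (g * (t * b * t) * g⁻¹) * t ∈ B1 H := by
  have h1 := H.Qh_B1 (H.t_Qh hg) hb
  have ti : t⁻¹ = t := inv_eq_of_mul_eq_one_left E.t_sq
  have e : t * (g * (t * b * t) * g⁻¹) * t = t * g * t * b * (t * g * t)⁻¹ := by
    rw [mul_inv_rev, mul_inv_rev, ti]; group
  rw [e]; exact h1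

theorem Us_B1 {g b : X} (hg : g ∈ Us H.toC0) (hb : b ∈ B1 H) : g * b * g⁻¹ ∈ B1 H := by
  obtain ⟨s, hs, h⟩ := H.Us_comm hg (H.B1_le_Us hb)
  rw [h]; exact mul_mem hb (H.Vs_le_B1 hs)

theorem S0_B1 {g b : X} (hg : g ∈ H.S0) (hb : b ∈ B1 H) : g * b * g⁻¹ ∈ B1 H := by
  obtain ⟨n, hn, q, hq, rfl⟩ := hg
  have e : n * q * b * (n * q)⁻¹ = n * (q * b * q⁻¹) * n⁻¹ := by group
  rw [e]; exact H.Us_B1 hn (H.Qh_B1 hq hb)

/-- `B₁ ∩ B₁ᵗ = V*` -/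
theorem B1_inf {n : X} (hn : n ∈ B1 H) (hn' : t * n * t ∈ B1 H) : n ∈ Vs E w := by
  by_contra hV
  have hV' : t * n * t ∉ Vs E w := by
    intro h
    apply hV
    have := H.t_conj_Vs h
    rwa [H.tt_conj] at this
  refine H.nd hn hV hn' hV' ?_
  rw [H.tt_conj]

/-- action of `A₁` on `B₁ / V*` and `B₂ / V*` -/
theorem act_A1 {x m b u : X} (hx : x ∈ A1) (hm : m ∈ E.Q) (hov : Ov E w x m) (hb : b ∈ B1 H) (hu : u ∈ E.U)
    (hp : Ps E w b u) : EqM (Vs E w) (x * (t * b * t) * x⁻¹) (t * b * t) ∧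
      (u⁻¹ * x * u * x⁻¹ ∈ A1 ∧ Ov E w (u⁻¹ * x * u * x⁻¹) (u⁻¹ * m * u * m⁻¹) ∧
        u⁻¹ * m * u * m⁻¹ ∈ E.U ⊓ E.Q) ∧
      EqM (Vs E w) (x * b * x⁻¹) (b * (u⁻¹ * x * u * x⁻¹)) := by
  have huA : u⁻¹ ∈ A := inv_mem (E.U_le hu)
  have hur : u⁻¹ * E.r 0 = E.r 0 * u⁻¹ := comm_inv (E.U_r u hu 0)
  have h1 := H.conj _ huA hur x hx
  have h2 := H.ov_conj huA hur hov
  rw [inv_inv] at h1 h2
  have hαA : u⁻¹ * x * u * x⁻¹ ∈ A1 := mul_mem h1 (inv_mem hx)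
  have hmQ : u⁻¹ * m * u * m⁻¹ ∈ E.Q := by
    have := mul_mem (U_Q E hm (inv_mem hu)) (inv_mem hm)
    rwa [inv_inv] at this
  have hmU : u⁻¹ * m * u * m⁻¹ ∈ E.U := by
    have e : u⁻¹ * m * u * m⁻¹ = u⁻¹ * (m * u * m⁻¹) := by group
    rw [e]; exact mul_mem (inv_mem hu) (Q_U E hm hu)
  have hαov : Ov E w (u⁻¹ * x * u * x⁻¹) (u⁻¹ * m * u * m⁻¹) :=
    H.qov_mul (H.A1_le h1) (inv_mem hm) h2 (H.qov_inv (H.A1_le hx) hm hov)
  have hαU := H.mem_Us_A1 hαA hmU hmQ hαov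
  have hαB := H.A1_B1 hαA hαU
  obtain ⟨α, hα⟩ : ∃ α, α = u⁻¹ * x * u * x⁻¹ := ⟨_, rfl⟩
  rw [← hα] at hαA hαov hαU hαB ⊢
  have hxQ := H.A1_le hx
  -- `β`, `β'`
  obtain ⟨β, hβ⟩ : ∃ β, β = b⁻¹ * (x * b * x⁻¹) := ⟨_, rfl⟩
  obtain ⟨β', hβ'⟩ : ∃ β', β' = (t * b * t)⁻¹ * (x * (t * b * t) * x⁻¹) := ⟨_, rfl⟩
  have hβB : β ∈ B1 H := by rw [hβ]; exact mul_mem (inv_mem hb) (H.Qh_B1 hxQ hb)
  have ti : t⁻¹ = t := inv_eq_of_mul_eq_one_left E.t_sq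
  have htbt : (t * b * t)⁻¹ = t * b * t := by
    rw [mul_inv_rev, mul_inv_rev, ti, H.B1_inv hb]; group
  have hβB' : t * β' * t ∈ B1 H := by
    rw [hβ', H.t_mul, htbt, H.tt_conj]
    exact mul_mem hb (H.Qh_B2 hxQ hb)
  have hbU := H.B1_le_Us hb
  have hβU := H.B1_le_Us hβB
  have hβU' : β' ∈ Us H.toC0 := by
    have := H.t_Us (H.B1_le_Us hβB')
    rwa [H.tt_conj] at this
  have htbU : t * b * t ∈ Us H.toC0 := H.t_Us hbU
  obtain ⟨s, hs, h3⟩ := H.B1_mul_t hb hp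
  have hxs : x * s * x⁻¹ ∈ Vs E w := H.Qh_Vs hxQ hs
  have h4 : (x * b * x⁻¹) * (x * (t * b * t) * x⁻¹) = u * α * (x * s * x⁻¹) := by
    calc (x * b * x⁻¹) * (x * (t * b * t) * x⁻¹) = x * (b * (t * b * t)) * x⁻¹ := by group
      _ = (x * u * x⁻¹) * (x * s * x⁻¹) := by rw [h3]; group
      _ = _ := by rw [hα]; group
  have h5 : x * b * x⁻¹ = b * β := by rw [hβ]; group
  have h6 : x * (t * b * t) * x⁻¹ = (t * b * t) * β' := by rw [hβ']; group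
  -- modulo `V*`
  have h7 : EqM (Vs E w) (b * β * ((t * b * t) * β')) (u * α) := by
    rw [← h5, ← h6, h4]
    exact (EqM.mul_right hxs).symm
  have h8 : EqM (Vs E w) (b * β * ((t * b * t) * β')) (u * (β * β')) := by
    have h9 : EqM (Vs E w) (β * (t * b * t)) ((t * b * t) * β) := Us_comm_mod H.toC0 hβU htbU
    have h10 : EqM (Vs E w) (β * (t * b * t) * β') ((t * b * t) * β * β') :=
      EqM.mul h9 (EqM.refl _ _) (Us_conj_Vs H.toC0 hβU')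
    have h11 : EqM (Vs E w) (b * (β * (t * b * t) * β')) (b * ((t * b * t) * β * β')) :=
      EqM.mul (EqM.refl _ b) h10 (Us_conj_Vs H.toC0 (mul_mem (mul_mem hβU htbU) hβU'))
    have e1 : b * β * ((t * b * t) * β') = b * (β * (t * b * t) * β') := by group
    have e2 : b * ((t * b * t) * β * β') = u * (s * (β * β')) := by
      calc b * ((t * b * t) * β * β') = (b * (t * b * t)) * (β * β') := by group
        _ = _ := by rw [h3]; group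
    rw [e1]
    refine h11.trans ?_
    rw [e2, ← (mul_mem hβU hβU').1.cent s hs, ← mul_assoc]
    exact (EqM.mul_right hs).symm
  have h9 : EqM (Vs E w) (β * β') α := by
    have h10 := h8.symm.trans h7
    unfold EqM at h10 ⊢
    have e : (u * (β * β'))⁻¹ * (u * α) = (β * β')⁻¹ * α := by group
    rwa [e] at h10
  have hβ'V : β' ∈ Vs E w := by
    have h10 : β' ∈ B1 H := by
      have h11 := mul_mem (mul_mem (inv_mem hβB) hαB) (inv_mem (H.Vs_le_B1 h9))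
      have e : β⁻¹ * α * ((β * β')⁻¹ * α)⁻¹ = β' := by group
      rwa [e] at h11
    exact H.B1_inf h10 hβB'
  have h11 : EqM (Vs E w) β α := (EqM.mul_right hβ'V).trans h9
  refine ⟨?_, ⟨hαA, hαov, ⟨hmU, hmQ⟩⟩, ?_⟩
  · rw [h6]; exact (EqM.mul_right hβ'V).symm
  · rw [h5]
    exact EqM.mul (EqM.refl _ b) h11 (Us_conj_Vs H.toC0 hβU)

end One

end Cfsg.Agent.UFiveTwo.Big
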