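import Cfsg.Agent.UFiveTwo.FieldOut
import Cfsg.Agent.UFiveTwo.OneC

/-!
# S1778, type `U₅(2)`, the end of the field case (V): `|B₁| = 2¹²`, and `t f` normalises `B₁` for outer natural `f`
-/

set_option autoImplicit false
set_option linter.unusedSectionVars false

namespace Cfsg.Agent.UFiveTwo.Field

open Subgroup Cfsg.Agent.StdEven.Syl Cfsg.Agent.UFiveTwo.Line Cfsg.Agent.UFiveTwo.Big

universe u

variable {X : Type u} [Group X] {A : Subgroup X} {t : X}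

/-- an involution normalising an elementary abelian group centralises a large subgroup of it -/
theorem exists_cent {B : Subgroup X} [Finite B] {y : X} (hB : ∀ x ∈ B, x * x = 1) (hy : y * y = 1)
    (hyB : ∀ x ∈ B, y * x * y⁻¹ ∈ B) : ∃ B' ≤ B, (∀ x ∈ B', y * x = x * y) ∧ Nat.card B ≤ Nat.card B' * Nat.card B' := by
  have comm := fun {x x' : X} (hx : x ∈ B) (hx' : x' ∈ B) => comm_of_sq hB hx hx'
  have hyi : y⁻¹ = y := inv_eq_of_mul_eq_one_left hy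
  have mB : ∀ x, x ∈ B ⊓ centralizer {y} ↔ x ∈ B ∧ y * x = x * y := by
    intro x
    rw [mem_inf, mem_centralizer_singleton_iff]
    exact ⟨fun h => ⟨h.1, h.2.symm⟩, fun h => ⟨h.1, h.2.symm⟩⟩
  refine ⟨B ⊓ centralizer {y}, inf_le_left, fun x hx => ((mB x).mp hx).2, ?_⟩
  let φ : B →* ↥(B ⊓ centralizer {y}) := MonoidHom.mk' (fun x => ⟨x * (y * x * y⁻¹), (mB _).mpr
    ⟨mul_mem x.2 (hyB x x.2), by
      have h1 := comm x.2 (hyB x x.2)
      apply comm_of_conj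
      calc y * (x * (y * x * y⁻¹)) * y⁻¹ = (y * x * y⁻¹) * ((y * y) * x * (y * y)⁻¹) := by group
        _ = x * (y * x * y⁻¹) := by rw [hy, h1]; group⟩⟩) (by
    intro x x'
    apply Subtype.ext
    show x * x' * (y * (x * x') * y⁻¹) = x * (y * x * y⁻¹) * (x' * (y * x' * y⁻¹))
    have h1 := comm (hyB x x.2) x'.2
    calc (x : X) * x' * (y * (x * x') * y⁻¹) = x * (x' * (y * x * y⁻¹)) * (y * x' * y⁻¹) := by group
      _ = _ := by rw [← h1]; group)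
  have h1 := Subgroup.card_mul_index φ.ker
  have : Finite ↥(B ⊓ centralizer {y}) := Finite.of_injective _ (Subgroup.inclusion_injective (inf_le_left : B ⊓ centralizer {y} ≤ B))
  have h2 : φ.ker.index ≤ Nat.card ↥(B ⊓ centralizer {y}) := by
    rw [Subgroup.index_ker]; exact Subgroup.card_le_card_group _
  have h3 : Nat.card φ.ker ≤ Nat.card ↥(B ⊓ centralizer {y}) := by
    refine Nat.card_le_card_of_injective (fun x : φ.ker => (⟨(x : B), (mB _).mpr ⟨x.1.2, ?_⟩⟩ : ↥(B ⊓ centralizer {y}))) ?_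
    · have h4 : ((x : B) : X) * (y * (x : B) * y⁻¹) = 1 := congrArg Subtype.val (MonoidHom.mem_ker.mp x.2)
      have h5 := hB _ x.1.2
      apply comm_of_conj
      calc y * ((x : B) : X) * y⁻¹ = ((x : B) : X)⁻¹ * (((x : B) : X) * (y * (x : B) * y⁻¹)) := by group
        _ = (x : B) := by rw [h4, mul_one, inv_eq_of_mul_eq_one_left h5]
    · intro x x' h
      have h4 : ((x : B) : X) = ((x' : B) : X) := congrArg (fun z : ↥(B ⊓ centralizer {y}) => (z : X)) h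
      exact Subtype.ext (Subtype.ext h4)
  calc Nat.card B = Nat.card φ.ker * φ.ker.index := h1.symm
    _ ≤ _ := Nat.mul_le_mul h3 h2

variable {E : Env A t} {w : X → X} {Qh Γ A1 : Subgroup X}

/-- `|B₁| = 2¹²` -/
theorem card_B1 (H : One E w Qh Γ A1) : Nat.card (B1 H) = 2 ^ 12 := by
  have ti : t⁻¹ = t := inv_eq_of_mul_eq_one_left E.t_sq
  have h := card_rel (L := Big.Us H.toC0) (K := B1 H) (M := B1 H) (N := Big.Vs E w) H.B1_le_Us H.Vs_le_B1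
    (fun m hm n hn => by
      rw [comm_of_sq (B := B1 H) (fun x hx => H.B1_sq hx) hm (H.Vs_le_B1 hn), mul_inv_cancel_right]; exact hn)
    (fun n m => ∃ b ∈ B1 H, n = b * (t * m * t))
    (fun n hn => by
      obtain ⟨b, hb, b', hb', h⟩ := H.Us_form hn
      exact ⟨b', hb', b, hb, h⟩)
    (fun m hm => ⟨t * m * t, H.t_Us (H.B1_le_Us hm), 1, one_mem _, (one_mul _).symm⟩)
    (fun x hx y hy m hm m' hm' => by
      rintro ⟨b, hb, rfl⟩ ⟨b', hb', rfl⟩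
      have h1 := H.t_Us (H.B1_le_Us hm)
      obtain ⟨s, hs, h2⟩ := H.Us_comm h1 (H.B1_le_Us hb')
      have h3 : t * m * t * b' = b' * s * (t * m * t) := by rw [← h2]; group
      refine ⟨b * (b' * s), mul_mem hb (mul_mem hb' (H.Vs_le_B1 hs)), ?_⟩
      calc b * (t * m * t) * (b' * (t * m' * t)) = b * (t * m * t * b') * (t * m' * t) := by group
        _ = b * (b' * s) * (t * (m * m') * t) := by rw [h3, H.t_mul]; group)
    (fun x hx m hm m' hm' => by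
      rintro ⟨b, hb, rfl⟩ ⟨b', hb', h⟩
      have h1 : t * (m * m'⁻¹) * t = b⁻¹ * b' := by
        have e1 : t * (m * m'⁻¹) * t = b⁻¹ * (b * (t * m * t)) * (t * m' * t)⁻¹ := by
          rw [H.t_mul, mul_inv_rev, mul_inv_rev, ti]; group
        rw [e1, h]; group
      have h2 : m * m'⁻¹ ∈ Big.Vs E w := H.B1_inf (mul_mem hm (inv_mem hm')) (by
        rw [h1]; exact mul_mem (inv_mem hb) hb')
      have h3 := inv_mem h2
      have e : (m * m'⁻¹)⁻¹ = m⁻¹ * m' := by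
        rw [mul_inv_rev, inv_inv]
        exact comm_of_sq (B := B1 H) (fun x hx => H.B1_sq hx) hm' (inv_mem hm)
      rwa [e] at h3)
    (fun x hx m hm => by
      rintro ⟨b, hb, rfl⟩
      constructor
      · intro h1
        apply H.B1_inf hm
        have := mul_mem (inv_mem hb) h1
        rwa [inv_mul_cancel_left] at this
      · intro h1
        exact mul_mem hb (H.Vs_le_B1 (H.t_conj_Vs h1)))
  rw [card_Vs H.toC0, H.card_Us] at h
  have h2 : Nat.card (B1 H) * Nat.card (B1 H) = 2 ^ 12 * 2 ^ 12 := by rw [← h]; norm_num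
  exact Nat.mul_self_inj.mp h2

theorem finite_B1 (H : One E w Qh Γ A1) : Finite (B1 H) := Nat.finite_of_card_ne_zero (by rw [card_B1 H]; norm_num)

/-- **`t f` normalises `B₁`** -/
theorem tf_B1 (H : One E w Qh Γ A1) {f : X} {π : Equiv.Perm (Fin 5)} (N : Ntl E w f π)
    (hinv : f * E.h0 * f⁻¹ * E.h0 ∈ E.Q) {b : X} (hb : b ∈ B1 H) : t * f * b * (t * f)⁻¹ ∈ B1 H := by
  have ti : t⁻¹ = t := inv_eq_of_mul_eq_one_left E.t_sq
  obtain ⟨a, ha, haU, haV⟩ := H.exists_A1_Us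
  have e0 : ∀ x, t * f * x * (t * f)⁻¹ = t * (f * x * f⁻¹) * t := by intro x; rw [mul_inv_rev, ti]; group
  refine H.conj_B1 (fun n hn => ?_) (fun s hs => ?_) (H.A1_B1 ha haU) haV ?_ hb
  · rw [e0]; exact H.t_Us (N.Us H.toC0 hn)
  · have h1 : (t * f)⁻¹ * s * (t * f) = f⁻¹ * (t * s * t) * f⁻¹⁻¹ := by rw [mul_inv_rev, ti, inv_inv]; group
    rw [h1]; exact N.inv.Vs H.toC0 (H.t_conj_Vs hs)
  · rw [e0]
    refine H.A1_B1 ?_ (H.t_Us (N.Us H.toC0 haU))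
    obtain ⟨c, hc, m, hm, hov, rfl⟩ := H.form a ha
    -- `c' = f c f⁻¹` over `m' = f m f⁻¹`
    have hc' := N.nΓ H.toCtx hc
    have hm' := N.Q hm
    have hov' := N.ov hov
    obtain ⟨q, hq⟩ : ∃ q, q = f * E.h0 * f⁻¹ * E.h0 := ⟨_, rfl⟩
    rw [← hq] at hinv
    have h2 : f * E.h0 * f⁻¹ = q * E.h0⁻¹ := by rw [hq]; group
    have h3 : f * E.c0 m * f⁻¹ = q * (E.h0⁻¹ * (f * m * f⁻¹) * E.h0) * q⁻¹ := by
      unfold Flag.c0
      calc f * (E.h0 * m * E.h0⁻¹) * f⁻¹ = (f * E.h0 * f⁻¹) * (f * m * f⁻¹) * (f * E.h0 * f⁻¹)⁻¹ := by group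
        _ = _ := by rw [h2]; group
    obtain ⟨m', hm'e⟩ : ∃ m', m' = f * m * f⁻¹ := ⟨_, rfl⟩
    obtain ⟨c', hc'e⟩ : ∃ c', c' = f * c * f⁻¹ := ⟨_, rfl⟩
    rw [← hm'e] at hm' hov' h3
    rw [← hc'e] at hc' hov'
    have h4 : E.h0⁻¹ * m' * E.h0 = E.c0 (E.c0 m') := by
      unfold Flag.c0
      have h5 := E.h0_inv
      calc E.h0⁻¹ * m' * E.h0 = (E.h0 * E.h0) * m' * (E.h0 * E.h0)⁻¹ := by rw [← h5, inv_inv]
        _ = _ := by group
    rw [h4] at h3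
    have hcc := E.c0_Q (E.c0_Q hm')
    obtain ⟨ζ₁, hζ₁, h5⟩ := H.Q_Q_Zh hinv hcc
    rw [h5] at h3
    obtain ⟨ζ₂, hζ₂, h6⟩ := H.t_c_t hov'
    -- `t (c' c0² m') t`
    have ht : t * (E.c0 (E.c0 m')) * t = E.c0 (E.c0 m') := by
      rw [E.t_A _ (E.Q_le hcc), mul_assoc, E.t_sq, mul_one]
    have h7 : t * (f * (c * E.c0 m) * f⁻¹) * t = (m' * ζ₂ * c') * E.c0 (E.c0 m') * (t * ζ₁ * t) := by
      have e1 : f * (c * E.c0 m) * f⁻¹ = c' * (E.c0 (E.c0 m') * ζ₁) := by rw [← h3, hc'e]; group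
      rw [e1, H.t_mul, H.t_mul, h6, ht]; group
    rw [h7]
    -- `m' c' = c' m' ζ`
    obtain ⟨ζ₃, hζ₃, h8⟩ := H.Γ_Q (inv_mem hc') hm'
    have h8' : m' * c' = c' * (m' * ζ₃) := by
      rw [inv_inv] at h8
      rw [← h8]; group
    have h9 := (hatC H.pts H.zero).hn m' hm'
    have h9' : m' * E.c0 m' * E.c0 (E.c0 m') = 1 ∨ m' * E.c0 m' * E.c0 (E.c0 m') = E.r 0 := h9
    have hcQ := E.c0_Q hm'
    -- `m' c0² m' = c0 m' ζ`
    have h10 : ∃ ζ ∈ Big.Zh E w, m' * E.c0 (E.c0 m') = E.c0 m' * ζ := by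
      have h11 : ∃ ζ ∈ Big.Zh E w, m' * E.c0 m' * E.c0 (E.c0 m') = ζ := by
        rcases h9' with h | h
        · exact ⟨1, one_mem _, h⟩
        · exact ⟨_, r_Zh, h⟩
      obtain ⟨ζ, hζ, h11⟩ := h11
      obtain ⟨ζ₄, hζ₄, h12⟩ := H.Q_Q_Zh hm' hcQ
      -- `m' c0 m' = c0 m' ζ₄ m'`
      have h13 : m' * E.c0 m' = E.c0 m' * ζ₄ * m' := by rw [← h12]; group
      rw [h13] at h11
      have h14 : m' * E.c0 (E.c0 m') = ζ₄⁻¹ * (E.c0 m')⁻¹ * ζ := by rw [← h11]; group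
      have h15 : (E.c0 m')⁻¹ = E.c0 m' * (E.c0 m' * E.c0 m')⁻¹ := by group
      have h16 := H.Q_sq_Zh hcQ
      have h17 := H.Q_Zh hcQ (inv_mem hζ₄)
      refine ⟨ζ₄⁻¹ * (E.c0 m' * E.c0 m')⁻¹ * ζ, mul_mem (mul_mem (inv_mem hζ₄) (inv_mem h16)) hζ, ?_⟩
      rw [h14, h15, ← mul_assoc, ← h17]; group
    obtain ⟨ζ₅, hζ₅, h10⟩ := h10
    have hz2 := H.Γ_Zh hc' hζ₂
    have hz3 := H.Q_Zh hcc hζ₃
    have h18 : m' * ζ₂ * c' * E.c0 (E.c0 m') * (t * ζ₁ * t) = (c' * E.c0 m') * (ζ₅ * (ζ₃ * ζ₂) * (t * ζ₁ * t)) := by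
      have hz23 := H.Q_Zh hcc (mul_mem hζ₃ hζ₂)
      calc m' * ζ₂ * c' * E.c0 (E.c0 m') * (t * ζ₁ * t) = m' * (ζ₂ * c') * E.c0 (E.c0 m') * (t * ζ₁ * t) := by group
        _ = (m' * c') * ζ₂ * E.c0 (E.c0 m') * (t * ζ₁ * t) := by rw [← hz2]; group
        _ = c' * m' * ((ζ₃ * ζ₂) * E.c0 (E.c0 m')) * (t * ζ₁ * t) := by rw [h8']; group
        _ = c' * (m' * E.c0 (E.c0 m')) * (ζ₃ * ζ₂) * (t * ζ₁ * t) := by rw [← hz23]; group
        _ = _ := by rw [h10]; group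
    rw [h18]
    exact mul_mem (H.mkA c' hc' m' hm' hov') (H.Zh_A1 (mul_mem (mul_mem hζ₅ (mul_mem hζ₃ hζ₂)) (H.t_Zh hζ₁)))

end Cfsg.Agent.UFiveTwo.Field
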