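import Cfsg.Agent.UFiveTwo.FieldRank
import Cfsg.Agent.UFiveTwo.BigS

/-!
# S1778, type `U₅(2)`, the end of the field case (II): natural elements

`f ∈ C(t) ∩ N(A)` is natural if it permutes the `r i` (fixing `r 0`) and centralises `w (r 0)`.  A natural element permutes
the `w (r i)` in the same way and normalises `V*`, `Q`, `Γ`, `Qh`, `U*`, `S₀`.
-/

set_option autoImplicit false
set_option linter.unusedSectionVars false

namespace Cfsg.Agent.UFiveTwo.Field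

open Subgroup Cfsg.Agent.StdEven.Syl Cfsg.Agent.UFiveTwo.Line Cfsg.Agent.UFiveTwo.Big

universe u

variable {X : Type u} [Group X] {A : Subgroup X} {t : X}

/-- natural elements -/
structure Ntl (E : Env A t) (w : X → X) (f : X) (π : Equiv.Perm (Fin 5)) : Prop where
  ft : f * t = t * f
  nA : ∀ a ∈ A, f * a * f⁻¹ ∈ A
  nA' : ∀ a ∈ A, f⁻¹ * a * f ∈ A
  nU : ∀ u ∈ E.U, f * u * f⁻¹ ∈ E.U
  nU' : ∀ u ∈ E.U, f⁻¹ * u * f ∈ E.U
  zero : π 0 = 0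
  r : ∀ i, f * E.r i * f⁻¹ = E.r (π i)
  w0 : f * w (E.r 0) * f⁻¹ = w (E.r 0)

variable {E : Env A t} {w : X → X} {Qh Γ : Subgroup X}

namespace Ntl

theorem inv {f : X} {π : Equiv.Perm (Fin 5)} (N : Ntl E w f π) : Ntl E w f⁻¹ π⁻¹ where
  ft := comm_inv N.ft
  nA := fun a ha => by rw [inv_inv]; exact N.nA' a ha
  nA' := fun a ha => by rw [inv_inv]; exact N.nA a ha
  nU := fun a ha => by rw [inv_inv]; exact N.nU' a ha
  nU' := fun a ha => by rw [inv_inv]; exact N.nU a ha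
  zero := by rw [Equiv.Perm.inv_eq_iff_eq, N.zero]
  r := fun i => by
    have h := N.r (π⁻¹ i)
    have h' : π (π⁻¹ i) = i := by rw [← Equiv.Perm.mul_apply, mul_inv_cancel, Equiv.Perm.one_apply]
    rw [h'] at h
    rw [← h]; group
  w0 := by
    have h := N.w0
    calc f⁻¹ * w (E.r 0) * f⁻¹⁻¹ = f⁻¹ * (f * w (E.r 0) * f⁻¹) * f := by rw [h, inv_inv]
      _ = w (E.r 0) := by group

theorem mul {f g : X} {π ρ : Equiv.Perm (Fin 5)} (N : Ntl E w f π) (M : Ntl E w g ρ) : Ntl E w (f * g) (π * ρ) where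
  ft := by rw [mul_assoc, M.ft, ← mul_assoc, N.ft, mul_assoc]
  nA := fun a ha => by
    have := N.nA _ (M.nA a ha)
    have e : f * (g * a * g⁻¹) * f⁻¹ = f * g * a * (f * g)⁻¹ := by group
    rwa [e] at this
  nA' := fun a ha => by
    have := M.nA' _ (N.nA' a ha)
    have e : g⁻¹ * (f⁻¹ * a * f) * g = (f * g)⁻¹ * a * (f * g) := by group
    rwa [e] at this
  nU := fun a ha => by
    have := N.nU _ (M.nU a ha)
    have e : f * (g * a * g⁻¹) * f⁻¹ = f * g * a * (f * g)⁻¹ := by group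
    rwa [e] at this
  nU' := fun a ha => by
    have := M.nU' _ (N.nU' a ha)
    have e : g⁻¹ * (f⁻¹ * a * f) * g = (f * g)⁻¹ * a * (f * g) := by group
    rwa [e] at this
  zero := by rw [Equiv.Perm.mul_apply, M.zero, N.zero]
  r := fun i => by
    have h1 := M.r i
    have h2 := N.r (ρ i)
    rw [Equiv.Perm.mul_apply, ← h2, ← h1]; group
  w0 := by
    calc f * g * w (E.r 0) * (f * g)⁻¹ = f * (g * w (E.r 0) * g⁻¹) * f⁻¹ := by group
      _ = w (E.r 0) := by rw [M.w0, N.w0]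

theorem ft' {f : X} {π : Equiv.Perm (Fin 5)} (N : Ntl E w f π) : f * t * f⁻¹ = t := conj_eq N.ft

theorem nD {f : X} {π : Equiv.Perm (Fin 5)} (N : Ntl E w f π) {a : X} (h : a * E.r 0 = E.r 0 * a) :
    f * a * f⁻¹ * E.r 0 = E.r 0 * (f * a * f⁻¹) := by
  have h0 := N.r 0
  rw [N.zero] at h0
  calc f * a * f⁻¹ * E.r 0 = f * a * f⁻¹ * (f * E.r 0 * f⁻¹) := by rw [h0]
    _ = f * (a * E.r 0) * f⁻¹ := by group
    _ = (f * E.r 0 * f⁻¹) * (f * a * f⁻¹) := by rw [h]; group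
    _ = E.r 0 * (f * a * f⁻¹) := by rw [h0]

/-- a natural element permutes the `w (r i)` -/
theorem W {f : X} {π : Equiv.Perm (Fin 5)} (N : Ntl E w f π) (H : C0 E w) (i : Fin 5) :
    f * w (E.r i) * f⁻¹ = w (E.r (π i)) := by
  obtain ⟨σ, -, hσ⟩ := H.form i
  have h0 := N.r 0
  rw [N.zero] at h0
  have hl := N.nA _ (E.l_mem σ)
  have h1 : w (E.r i) = E.l σ * w (E.r 0) * (E.l σ)⁻¹ := by
    rw [H.W_conj 0 (E.l_mem σ), hσ]
  calc f * w (E.r i) * f⁻¹ = (f * E.l σ * f⁻¹) * (f * w (E.r 0) * f⁻¹) * (f * E.l σ * f⁻¹)⁻¹ := by rw [h1]; group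
    _ = w ((f * E.l σ * f⁻¹) * E.r 0 * (f * E.l σ * f⁻¹)⁻¹) := by rw [N.w0, H.W_conj 0 hl]
    _ = w ((f * E.l σ * f⁻¹) * (f * E.r 0 * f⁻¹) * (f * E.l σ * f⁻¹)⁻¹) := by rw [h0]
    _ = w (f * (E.l σ * E.r 0 * (E.l σ)⁻¹) * f⁻¹) := by congr 1; group
    _ = w (E.r (π i)) := by rw [← hσ, N.r]

theorem Vs {f : X} {π : Equiv.Perm (Fin 5)} (N : Ntl E w f π) (H : C0 E w) {s : X} (hs : s ∈ Big.Vs E w) :
    f * s * f⁻¹ ∈ Big.Vs E w :=
  conj_Vs (fun i => by rw [N.r]; exact r_Vs _) (fun i => by rw [N.W H]; exact W_Vs _) hs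

theorem Zh {f : X} {π : Equiv.Perm (Fin 5)} (N : Ntl E w f π) {ζ : X} (hζ : ζ ∈ Big.Zh E w) : f * ζ * f⁻¹ = ζ := by
  have h0 := N.r 0
  rw [N.zero] at h0
  exact conj_eq (comm_Zh (comm_of_conj h0) (comm_of_conj N.w0) hζ)

theorem V {f : X} {π : Equiv.Perm (Fin 5)} (N : Ntl E w f π) {v : X} (hv : v ∈ E.V) : f * v * f⁻¹ ∈ E.V := by
  have : E.V ≤ E.V.comap (MulAut.conj f).toMonoidHom := by
    refine (closure_le _).mpr ?_
    rintro _ ⟨i, rfl⟩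
    show f * E.r i * f⁻¹ ∈ E.V
    rw [N.r]; exact E.r_V _
  exact this hv

end Ntl

/-- `Q` is generated by the `C_A(r 0)`-conjugates of the `r i * r j`. -/
theorem Q_closure (E : Env A t) : closure {x : X | ∃ a ∈ A, a * E.r 0 = E.r 0 * a ∧ ∃ i j : Fin 5, i ≠ 0 ∧ j ≠ 0 ∧
    x = a * (E.r i * E.r j) * a⁻¹} = E.Q := by
  apply E.Q_irr
  · rw [closure_le]
    rintro _ ⟨a, ha, har, i, j, hi, hj, rfl⟩
    exact E.Q_conj a ha har _ (E.rr_Q i j hi hj)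
  · intro a ha har x hx
    have : closure {x : X | ∃ a ∈ A, a * E.r 0 = E.r 0 * a ∧ ∃ i j : Fin 5, i ≠ 0 ∧ j ≠ 0 ∧
      x = a * (E.r i * E.r j) * a⁻¹} ≤ (closure {x : X | ∃ a ∈ A, a * E.r 0 = E.r 0 * a ∧ ∃ i j : Fin 5, i ≠ 0 ∧ j ≠ 0 ∧
      x = a * (E.r i * E.r j) * a⁻¹}).comap (MulAut.conj a).toMonoidHom := by
      rw [closure_le]
      rintro _ ⟨b, hb, hbr, i, j, hi, hj, rfl⟩
      apply Subgroup.subset_closure
      refine ⟨a * b, mul_mem ha hb, ?_, i, j, hi, hj, ?_⟩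
      · rw [mul_assoc, hbr, ← mul_assoc, har, mul_assoc]
      · show a * (b * (E.r i * E.r j) * b⁻¹) * a⁻¹ = _
        group
    exact this hx
  · refine ⟨E.r 1 * E.r 2, subset_closure ⟨1, one_mem _, by group, 1, 2, by decide, by decide, by group⟩, ?_, ?_⟩
    · exact E.rr_ne_one (by decide)
    · exact (flag_r5 E.toFlag).mul_ne (by decide)

theorem Ntl.Q {f : X} {π : Equiv.Perm (Fin 5)} (N : Ntl E w f π) {q : X} (hq : q ∈ E.Q) : f * q * f⁻¹ ∈ E.Q := by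
  have : closure {x : X | ∃ a ∈ A, a * E.r 0 = E.r 0 * a ∧ ∃ i j : Fin 5, i ≠ 0 ∧ j ≠ 0 ∧
      x = a * (E.r i * E.r j) * a⁻¹} ≤ E.Q.comap (MulAut.conj f).toMonoidHom := by
    rw [closure_le]
    rintro _ ⟨a, ha, har, i, j, hi, hj, rfl⟩
    have hne : ∀ k : Fin 5, k ≠ 0 → π k ≠ 0 := fun k hk h => hk (π.injective (h.trans N.zero.symm))
    have h1 := E.Q_conj _ (N.nA a ha) (N.nD har) _ (E.rr_Q _ _ (hne i hi) (hne j hj))
    show f * (a * (E.r i * E.r j) * a⁻¹) * f⁻¹ ∈ E.Q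
    have e : f * (a * (E.r i * E.r j) * a⁻¹) * f⁻¹ =
      (f * a * f⁻¹) * ((f * E.r i * f⁻¹) * (f * E.r j * f⁻¹)) * (f * a * f⁻¹)⁻¹ := by group
    rw [e, N.r, N.r]; exact h1
  rw [Q_closure E] at this
  exact this hq

theorem Ntl.ov {f : X} {π : Equiv.Perm (Fin 5)} (N : Ntl E w f π) {c m : X} (h : Ov E w c m) :
    Ov E w (f * c * f⁻¹) (f * m * f⁻¹) := by
  obtain ⟨ζ, hζ, h⟩ := h
  refine ⟨ζ, hζ, ?_⟩
  have h1 : f⁻¹ * t * f = t := by rw [mul_assoc, ← N.ft, inv_mul_cancel_left]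
  calc f * c * f⁻¹ * t * (f * c * f⁻¹)⁻¹ = f * (c * (f⁻¹ * t * f) * c⁻¹) * f⁻¹ := by group
    _ = (f * t * f⁻¹) * ((f * m * f⁻¹) * (f * ζ * f⁻¹)) := by rw [h1, h]; group
    _ = t * (f * m * f⁻¹ * ζ) := by rw [N.ft', N.Zh hζ]

/-- `Γ` is generated by `Z^` and the `C_A(r 0)`-conjugates of the `w (r i) * w (r j)`. -/
theorem Γ_closure (H : Ctx E w Qh Γ) : closure ({x : X | ∃ a ∈ A, a * E.r 0 = E.r 0 * a ∧ ∃ i j : Fin 5, i ≠ 0 ∧ j ≠ 0 ∧
    x = a * (w (E.r i) * w (E.r j)) * a⁻¹} ∪ (Big.Zh E w : Set X)) = Γ := by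
  set S : Set X := {x : X | ∃ a ∈ A, a * E.r 0 = E.r 0 * a ∧ ∃ i j : Fin 5, i ≠ 0 ∧ j ≠ 0 ∧
    x = a * (w (E.r i) * w (E.r j)) * a⁻¹} with hS
  have hle : closure (S ∪ (Big.Zh E w : Set X)) ≤ Γ := by
    rw [closure_le]
    rintro x (⟨a, ha, har, i, j, hi, hj, rfl⟩ | hx)
    · exact H.q.D_conj a ha har _ (H.q.ww_mem i j hi hj)
    · exact H.Zh_Γ hx
  apply le_antisymm hle
  -- the elements of `Q` over which there is an element of the closure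
  let M : Subgroup X :=
    { carrier := {m | m ∈ E.Q ∧ ∃ c ∈ closure (S ∪ (Big.Zh E w : Set X)), Ov E w c m}
      one_mem' := ⟨one_mem _, 1, one_mem _, 1, one_mem _, by group⟩
      mul_mem' := by
        rintro m m' ⟨hm, c, hc, h⟩ ⟨hm', c', hc', h'⟩
        exact ⟨mul_mem hm hm', c * c', mul_mem hc hc', H.ov_mul (hle hc) hm' h h'⟩
      inv_mem' := by
        rintro m ⟨hm, c, hc, h⟩
        exact ⟨inv_mem hm, c⁻¹, inv_mem hc, H.ov_inv (hle hc) hm h⟩ }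
  have hM : M = E.Q := by
    apply E.Q_irr
    · exact fun m hm => hm.1
    · rintro a ha har m ⟨hm, c, hc, h⟩
      refine ⟨E.Q_conj a ha har m hm, a * c * a⁻¹, ?_, H.ov_conj ha har h⟩
      have : closure (S ∪ (Big.Zh E w : Set X)) ≤ (closure (S ∪ (Big.Zh E w : Set X))).comap (MulAut.conj a).toMonoidHom := by
        rw [closure_le]
        rintro x (⟨b, hb, hbr, i, j, hi, hj, rfl⟩ | hx)
        · apply Subgroup.subset_closure
          left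
          refine ⟨a * b, mul_mem ha hb, ?_, i, j, hi, hj, ?_⟩
          · rw [mul_assoc, hbr, ← mul_assoc, har, mul_assoc]
          · show a * (b * (w (E.r i) * w (E.r j)) * b⁻¹) * a⁻¹ = _
            group
        · show a * x * a⁻¹ ∈ closure (S ∪ (Big.Zh E w : Set X))
          rw [conj_eq (H.D_Zh ha har hx)]
          exact subset_closure (Or.inr hx)
      exact this hc
    · refine ⟨E.r 1 * E.r 2, ⟨E.rr_Q _ _ (by decide) (by decide), w (E.r 1) * w (E.r 2),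
        subset_closure (Or.inl ⟨1, one_mem _, by group, 1, 2, by decide, by decide, by group⟩), H.WW_ov⟩, ?_, ?_⟩
      · exact E.rr_ne_one (by decide)
      · exact (flag_r5 E.toFlag).mul_ne (by decide)
  intro c hc
  obtain ⟨m, hm, h⟩ := H.exists_ov hc
  have hm' : m ∈ M := by rw [hM]; exact hm
  obtain ⟨-, c', hc', h'⟩ := hm'
  have h1 := H.ov_eq (hle hc') hc hm h' h
  have h2 := mul_mem hc' (subset_closure (Or.inr h1) : c'⁻¹ * c ∈ closure (S ∪ (Big.Zh E w : Set X)))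
  rwa [mul_inv_cancel_left] at h2

theorem Ntl.nΓ {f : X} {π : Equiv.Perm (Fin 5)} (N : Ntl E w f π) (H : Ctx E w Qh Γ) {c : X} (hc : c ∈ Γ) :
    f * c * f⁻¹ ∈ Γ := by
  have h1 := Γ_closure H
  have : closure ({x : X | ∃ a ∈ A, a * E.r 0 = E.r 0 * a ∧ ∃ i j : Fin 5, i ≠ 0 ∧ j ≠ 0 ∧
    x = a * (w (E.r i) * w (E.r j)) * a⁻¹} ∪ (Big.Zh E w : Set X)) ≤ Γ.comap (MulAut.conj f).toMonoidHom := by
    rw [closure_le]
    rintro x (⟨a, ha, har, i, j, hi, hj, rfl⟩ | hx)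
    · have hne : ∀ k : Fin 5, k ≠ 0 → π k ≠ 0 := fun k hk h => hk (π.injective (h.trans N.zero.symm))
      have h1 := H.q.D_conj _ (N.nA a ha) (N.nD har) _ (H.q.ww_mem _ _ (hne i hi) (hne j hj))
      show f * (a * (w (E.r i) * w (E.r j)) * a⁻¹) * f⁻¹ ∈ Γ
      have e : f * (a * (w (E.r i) * w (E.r j)) * a⁻¹) * f⁻¹ =
        (f * a * f⁻¹) * ((f * w (E.r i) * f⁻¹) * (f * w (E.r j) * f⁻¹)) * (f * a * f⁻¹)⁻¹ := by group
      rw [e, N.W H.toC0, N.W H.toC0]; exact h1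
    · show f * x * f⁻¹ ∈ Γ
      rw [N.Zh hx]
      exact H.Zh_Γ hx
  rw [h1] at this
  exact this hc

theorem Ntl.nQh {f : X} {π : Equiv.Perm (Fin 5)} (N : Ntl E w f π) (H : Ctx E w Qh Γ) {g : X} (hg : g ∈ Qh) :
    f * g * f⁻¹ ∈ Qh := by
  obtain ⟨q, hq, c, hc, rfl⟩ := H.q.gen g hg
  have e : f * (q * c) * f⁻¹ = (f * q * f⁻¹) * (f * c * f⁻¹) := by group
  rw [e]
  exact mul_mem (H.q.Q_le (N.Q hq)) (H.q.Γ_le (N.nΓ H hc))

theorem Ntl.Us {f : X} {π : Equiv.Perm (Fin 5)} (N : Ntl E w f π) (H : C0 E w) {n : X} (hn : n ∈ Big.Us H) :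
    f * n * f⁻¹ ∈ Big.Us H := by
  obtain ⟨hac, u, hu, s, hs, hps⟩ := hn
  have h1 : f⁻¹ * t * f = t := by rw [mul_assoc, ← N.ft, inv_mul_cancel_left]
  refine ⟨⟨fun s' hs' => ?_, fun u' hu' => ?_⟩, f * u * f⁻¹, N.nU u hu, f * s * f⁻¹, N.Vs H hs, ?_⟩
  · have h2 := hac.cent (f⁻¹ * s' * f) (by have := N.inv.Vs H hs'; rwa [inv_inv] at this)
    calc f * n * f⁻¹ * s' = f * (n * (f⁻¹ * s' * f)) * f⁻¹ := by group
      _ = s' * (f * n * f⁻¹) := by rw [h2]; group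
  · obtain ⟨s', hs', h2⟩ := hac.act (f⁻¹ * u' * f) (N.nU' u' hu')
    refine ⟨f * s' * f⁻¹, N.Vs H hs', ?_⟩
    calc f * n * f⁻¹ * u' * (f * n * f⁻¹)⁻¹ = f * (n * (f⁻¹ * u' * f) * n⁻¹) * f⁻¹ := by group
      _ = u' * (f * s' * f⁻¹) := by rw [h2]; group
  · calc f * n * f⁻¹ * t * (f * n * f⁻¹)⁻¹ = f * (n * (f⁻¹ * t * f) * n⁻¹) * f⁻¹ := by group
      _ = (f * t * f⁻¹) * ((f * u * f⁻¹) * (f * s * f⁻¹)) := by rw [h1, hps]; group
      _ = t * (f * u * f⁻¹ * (f * s * f⁻¹)) := by rw [N.ft']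

theorem Ntl.S0 {f : X} {π : Equiv.Perm (Fin 5)} (N : Ntl E w f π) (H : Ctx E w Qh Γ) {s : X} (hs : s ∈ H.S0) :
    f * s * f⁻¹ ∈ H.S0 := by
  obtain ⟨n, hn, g, hg, rfl⟩ := hs
  exact ⟨_, N.Us H.toC0 hn, _, N.nQh H hg, by group⟩

/-- `l σ` is natural for `σ 0 = 0`. -/
theorem ntl_l (H : C0 E w) (σ : alternatingGroup (Fin 5)) (hσ : (σ : Equiv.Perm (Fin 5)) 0 = 0) :
    Ntl E w (E.l σ) (σ : Equiv.Perm (Fin 5)) where
  ft := (E.t_A _ (E.l_mem σ)).symm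
  nA := fun a ha => mul_mem (mul_mem (E.l_mem σ) ha) (inv_mem (E.l_mem σ))
  nA' := fun a ha => mul_mem (mul_mem (inv_mem (E.l_mem σ)) ha) (E.l_mem σ)
  nU := fun u hu => E.U_l u hu σ
  nU' := fun u hu => by
    have := E.U_l u hu σ⁻¹
    rwa [map_inv, inv_inv] at this
  zero := hσ
  r := fun i => E.l_r σ i
  w0 := by rw [H.l_W, hσ]

end Cfsg.Agent.UFiveTwo.Field
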