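import Cfsg.Agent.UFiveTwo.FieldVs

/-!
# S1778, type `U₅(2)`, the end of the field case (IV): the elements of `T`
-/

set_option autoImplicit false
set_option linter.unusedSectionVars false

namespace Cfsg.Agent.UFiveTwo.Field

open Subgroup Cfsg.Agent.StdEven.Syl Cfsg.Agent.UFiveTwo.Line Cfsg.Agent.UFiveTwo.Big

universe u

variable {X : Type u} [Group X] {A : Subgroup X} {t : X}

/-- `T` is a 2-subgroup of `C(t)` with `T ⊓ A = U Q`, `t ∈ T`. -/
structure TT (E : Env A t) (T : Subgroup X) : Prop where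
  two : IsPGroup 2 T
  inf : T ⊓ A = E.U ⊔ E.Q
  tmem : t ∈ T
  cent : ∀ x ∈ T, x * t = t * x

variable {E : Env A t} {w : X → X} {Qh Γ : Subgroup X} {T : Subgroup X}

theorem env_card_V (E : Env A t) : Nat.card E.V = 16 := (flag_r5 E.toFlag).card_closure

namespace TT

variable (D : TT E T) (FA : FlagAut A E.toFlag) (am : Amb A t)

include D

theorem U : E.U ≤ T := (le_sup_left.trans D.inf.ge).trans inf_le_left

theorem Q : E.Q ≤ T := (le_sup_right.trans D.inf.ge).trans inf_le_left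

include am

theorem conj_A {x a : X} (hx : x ∈ T) (ha : a ∈ A) : x * a * x⁻¹ ∈ A :=
  conj_mem_of_mem_normalizer (am.nA x (D.cent x hx)) ha

theorem conj_A' {x a : X} (hx : x ∈ T) (ha : a ∈ A) : x⁻¹ * a * x ∈ A := by
  have := D.conj_A am (inv_mem hx) ha
  rwa [inv_inv] at this

theorem conj_P {x p : X} (hx : x ∈ T) (hp : p ∈ E.U ⊔ E.Q) : x * p * x⁻¹ ∈ E.U ⊔ E.Q := by
  rw [← D.inf, mem_inf] at hp ⊢
  have h1 : x * p * x⁻¹ ∈ T := mul_mem (mul_mem hx hp.1) (inv_mem hx)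
  exact ⟨h1, D.conj_A am hx hp.2⟩

omit am in
/-- elements of `T` centralising `V` -/
theorem cV {y : X} (hy : y ∈ T) (hr : ∀ i, y * E.r i = E.r i * y) : ∃ e, (e = 1 ∨ e = t) ∧ ∃ u ∈ E.U, y = e * u := by
  obtain ⟨e, he, u, hu, j, h⟩ := E.cV y (D.cent y hy) hr
  have heT : e ∈ T := by rcases he with rfl | rfl; exacts [one_mem _, D.tmem]
  have h1 : E.h ^ j ∈ T := by
    have : E.h ^ j = u⁻¹ * (e⁻¹ * y) := by rw [h]; group
    rw [this]
    exact mul_mem (inv_mem (D.U hu)) (mul_mem (inv_mem heT) hy)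
  obtain ⟨k, hk⟩ := D.two ⟨_, h1⟩
  have hk : (E.h ^ j) ^ 2 ^ k = 1 := congrArg Subtype.val hk
  have h3 : (E.h ^ j) ^ 3 = 1 := by rw [← pow_mul, mul_comm, pow_mul, E.h_pow, one_pow]
  have h4 : E.h ^ j = 1 := by
    rw [← orderOf_eq_one_iff]
    exact Nat.eq_one_of_dvd_coprimes (Nat.Coprime.pow_left k (by norm_num)) (orderOf_dvd_of_pow_eq_one hk)
      (orderOf_dvd_of_pow_eq_one h3)
  exact ⟨e, he, u, hu, by rw [h, h4, mul_one]⟩

omit am in
theorem mem_U {y : X} (hy : y ∈ E.U ⊔ E.Q) (hr : ∀ i, y * E.r i = E.r i * y) : y ∈ E.U := by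
  have hy' : y ∈ T ⊓ A := by rw [D.inf]; exact hy
  obtain ⟨e, he, u, hu, rfl⟩ := D.cV hy'.1 hr
  rcases he with rfl | rfl
  · rwa [one_mul]
  · exfalso
    apply E.t_nA
    have h1 : e * u ∈ A := hy'.2
    have h2 := A.mul_mem h1 (A.inv_mem (E.U_le hu))
    rwa [mul_inv_cancel_right] at h2

include FA

theorem conj_V {x v : X} (hx : x ∈ T) (hv : v ∈ E.V) : x * v * x⁻¹ ∈ E.V := by
  have h1 : E.V ≤ E.U ⊔ E.Q := by
    refine le_trans ?_ le_sup_left
    refine (closure_le _).mpr ?_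
    rintro _ ⟨i, rfl⟩
    exact E.r_U i
  have h2 := FA.elem (E.V.map (MulAut.conj x).toMonoidHom) (by
      rintro _ ⟨v, hv, rfl⟩
      exact D.conj_P am hx (h1 hv)) (by
      rintro _ ⟨v, hv, rfl⟩
      show x * v * x⁻¹ * (x * v * x⁻¹) = 1
      calc x * v * x⁻¹ * (x * v * x⁻¹) = x * (v * v) * x⁻¹ := by group
        _ = 1 := by rw [E.V_sq hv]; group) (by
      rw [← Nat.card_congr (E.V.equivMapOfInjective (MulAut.conj x).toMonoidHom (MulAut.conj x).injective).toEquiv,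
        env_card_V E])
  exact h2 ⟨v, hv, rfl⟩

theorem conj_U {x u : X} (hx : x ∈ T) (hu : u ∈ E.U) : x * u * x⁻¹ ∈ E.U := by
  apply D.mem_U (D.conj_P am hx (le_sup_left (a := E.U) (b := E.Q) hu))
  intro i
  have h1 := D.conj_V FA am (inv_mem hx) (E.r_V i)
  rw [inv_inv] at h1
  have h2 := E.U_V hu h1
  calc x * u * x⁻¹ * E.r i = x * (u * (x⁻¹ * E.r i * x)) * x⁻¹ := by group
    _ = E.r i * (x * u * x⁻¹) := by rw [h2]; group

theorem conj_r {x : X} (hx : x ∈ T) (i : Fin 5) : ∃ j, x * E.r i * x⁻¹ = E.r j := by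
  obtain ⟨u, hu, h⟩ := E.U_exists i
  have h1 := D.conj_U FA am hx hu
  rcases E.U_sq _ h1 with h2 | ⟨j, h2⟩
  · exfalso
    apply E.r_ne' i
    have e : x * u * x⁻¹ * (x * u * x⁻¹) = x * (u * u) * x⁻¹ := by group
    rw [e, h] at h2
    calc E.r i = x⁻¹ * (x * E.r i * x⁻¹) * x := by group
      _ = 1 := by rw [h2]; group
  · refine ⟨j, ?_⟩
    rw [← h2, ← h]; group

theorem perm {x : X} (hx : x ∈ T) : ∃ π : Equiv.Perm (Fin 5), π 0 = 0 ∧ ∀ i, x * E.r i * x⁻¹ = E.r (π i) := by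
  classical
  choose g hg using D.conj_r FA am hx
  have hinj : Function.Injective g := by
    intro i j h
    apply E.r_inj
    have h1 := hg i
    rw [h, ← hg j] at h1
    exact mul_left_cancel (mul_right_cancel h1)
  refine ⟨Equiv.ofBijective g (Finite.injective_iff_bijective.mp hinj), ?_, fun i => hg i⟩
  show g 0 = 0
  by_contra h0
  have hex : ∀ j : Fin 5, j ≠ 0 → ∃ σ : alternatingGroup (Fin 5), ((σ : Equiv.Perm (Fin 5)) 0 = 0 ∧
    (σ : Equiv.Perm (Fin 5)) * (σ : Equiv.Perm (Fin 5)) = 1) ∧ (σ : Equiv.Perm (Fin 5)) j ≠ j := by decide +kernel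
  obtain ⟨σ, hσ, hj⟩ := hex _ h0
  apply hj
  apply E.r_inj
  have hlQ := E.l_Q σ hσ
  have h1 : E.l σ ∈ E.U ⊔ E.Q := le_sup_right (a := E.U) (b := E.Q) hlQ
  have h2 := D.conj_P am (inv_mem hx) h1
  rw [inv_inv] at h2
  -- `x⁻¹ l x ∈ U Q` centralises `r 0`
  have h3 : (x⁻¹ * E.l σ * x) * E.r 0 = E.r 0 * (x⁻¹ * E.l σ * x) := by
    have hle : E.U ⊔ E.Q ≤ centralizer {E.r 0} := by
      apply sup_le
      · intro u hu; rw [mem_centralizer_singleton_iff]; exact E.U_r u hu 0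
      · intro q hq; rw [mem_centralizer_singleton_iff]; exact E.Q_r q hq
    exact mem_centralizer_singleton_iff.mp (hle h2)
  rw [← E.l_r, ← hg 0]
  calc E.l σ * (x * E.r 0 * x⁻¹) * (E.l σ)⁻¹ = x * ((x⁻¹ * E.l σ * x) * E.r 0) * (x⁻¹ * E.l σ * x)⁻¹ * x⁻¹ := by group
    _ = x * E.r 0 * x⁻¹ := by rw [h3]; group

theorem w0 (H : C0 E w) {x : X} (hx : x ∈ T) : x * w (E.r 0) * x⁻¹ = w (E.r 0) ∨
    x * w (E.r 0) * x⁻¹ = w (E.r 0) * E.r 0 := by
  obtain ⟨π, hπ, hr⟩ := D.perm FA am hx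
  have hr0 := hr 0
  rw [hπ] at hr0
  set y := x * w (E.r 0) * x⁻¹ with hy
  have hxt := D.cent x hx
  have hyy : y * y = 1 := by
    rw [hy]
    calc x * w (E.r 0) * x⁻¹ * (x * w (E.r 0) * x⁻¹) = x * (w (E.r 0) * w (E.r 0)) * x⁻¹ := by group
      _ = 1 := by rw [H.W_sq]; group
  have h1 : y * t * y⁻¹ = t * E.r 0 := by
    have e1 : x⁻¹ * t * x = t := by rw [mul_assoc, ← hxt, inv_mul_cancel_left]
    have e2 : x * t * x⁻¹ = t := conj_eq hxt
    calc y * t * y⁻¹ = x * (w (E.r 0) * (x⁻¹ * t * x) * (w (E.r 0))⁻¹) * x⁻¹ := by rw [hy]; group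
      _ = (x * t * x⁻¹) * (x * E.r 0 * x⁻¹) := by rw [e1, H.W_t]; group
      _ = t * E.r 0 := by rw [e2, hr0]
  have hW := H.W_inv 0
  have h2 : (w (E.r 0))⁻¹ * y * t = t * ((w (E.r 0))⁻¹ * y) := by
    have h3 := H.W_t 0
    apply comm_of_conj
    calc (w (E.r 0))⁻¹ * y * t * ((w (E.r 0))⁻¹ * y)⁻¹ = (w (E.r 0))⁻¹ * (y * t * y⁻¹) * w (E.r 0) := by group
      _ = t := by rw [h1, ← h3]; group
  have h3 : ∀ q ∈ E.Q, (w (E.r 0))⁻¹ * y * q = q * ((w (E.r 0))⁻¹ * y) := by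
    intro q hq
    have hqA := D.conj_A' am hx (E.Q_le hq)
    have hqr : x⁻¹ * q * x * E.r 0 = E.r 0 * (x⁻¹ * q * x) := by
      have e3 : x⁻¹ * E.r 0 * x = E.r 0 := by
        calc x⁻¹ * E.r 0 * x = x⁻¹ * (x * E.r 0 * x⁻¹) * x := by rw [hr0]
          _ = E.r 0 := by group
      calc x⁻¹ * q * x * E.r 0 = x⁻¹ * q * x * (x⁻¹ * E.r 0 * x) := by rw [e3]
        _ = x⁻¹ * (q * E.r 0) * x := by group
        _ = (x⁻¹ * E.r 0 * x) * (x⁻¹ * q * x) := by rw [E.Q_r q hq]; group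
        _ = E.r 0 * (x⁻¹ * q * x) := by rw [e3]
    have h4 := H.D_W hqA hqr
    have h5 : y * q = q * y := by
      calc y * q = x * (w (E.r 0) * (x⁻¹ * q * x)) * x⁻¹ := by rw [hy]; group
        _ = q * y := by rw [← h4, hy]; group
    have h6 := H.D_W (E.Q_le hq) (E.Q_r q hq)
    rw [mul_assoc, h5, ← mul_assoc, hW, ← h6, mul_assoc]
  obtain ⟨e, he, h4⟩ := E.cQ _ h2 h3
  have hne : E.r 0 ≠ 1 := E.r_ne
  have hwt : w (E.r 0) * t * (w (E.r 0) * t) = E.r 0 := by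
    calc w (E.r 0) * t * (w (E.r 0) * t) = (w (E.r 0) * t * w (E.r 0)) * t := by group
      _ = t * E.r 0 * t := by rw [H.W_t_W]
      _ = (t * t) * E.r 0 := by rw [mul_assoc, ← H.t_r 0, ← mul_assoc]
      _ = E.r 0 := by rw [E.t_sq, one_mul]
  rcases he with rfl | rfl
  · rcases h4 with h4 | h4
    · left
      rw [inv_mul_eq_one] at h4
      exact h4.symm
    · right
      rw [one_mul, inv_mul_eq_iff_eq_mul] at h4
      exact h4
  · exfalso
    rcases h4 with h4 | h4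
    · rw [inv_mul_eq_iff_eq_mul] at h4
      rw [h4, hwt] at hyy
      exact hne hyy
    · rw [inv_mul_eq_iff_eq_mul, ← mul_assoc] at h4
      have h5 : E.r 0 * (w (E.r 0) * e) = w (E.r 0) * e * E.r 0 := by
        rw [← mul_assoc, H.r_W, mul_assoc, ← H.t_r 0, mul_assoc]
      have h6 : w (E.r 0) * e * E.r 0 * (w (E.r 0) * e * E.r 0) = E.r 0 := by
        calc w (E.r 0) * e * E.r 0 * (w (E.r 0) * e * E.r 0) = w (E.r 0) * e * (E.r 0 * (w (E.r 0) * e)) * E.r 0 := by group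
          _ = (w (E.r 0) * e * (w (E.r 0) * e)) * (E.r 0 * E.r 0) := by rw [h5]; group
          _ = E.r 0 := by rw [hwt, E.r_sq, mul_one]
      rw [h4, h6] at hyy
      exact hne hyy

/-- `x` or `t x` is natural for `x ∈ T`. -/
theorem ntl (H : C0 E w) {x : X} (hx : x ∈ T) : ∃ π, Ntl E w x π ∨ Ntl E w (t * x) π := by
  have base : ∀ y ∈ T, y * w (E.r 0) * y⁻¹ = w (E.r 0) → ∃ π, Ntl E w y π := by
    intro y hy hw
    obtain ⟨π, hπ, hr⟩ := D.perm FA am hy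
    refine ⟨π, D.cent y hy, fun a ha => D.conj_A am hy ha, fun a ha => D.conj_A' am hy ha,
      fun u hu => D.conj_U FA am hy hu, fun u hu => ?_, hπ, hr, hw⟩
    have := D.conj_U FA am (inv_mem hy) hu
    rwa [inv_inv] at this
  rcases D.w0 FA am H hx with h | h
  · obtain ⟨π, N⟩ := base x hx h
    exact ⟨π, Or.inl N⟩
  · have hti : t⁻¹ = t := t_inv E
    obtain ⟨π, N⟩ := base (t * x) (mul_mem D.tmem hx) (by
      calc t * x * w (E.r 0) * (t * x)⁻¹ = t * (x * w (E.r 0) * x⁻¹) * t⁻¹ := by group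
        _ = (t * w (E.r 0) * t) * (t * E.r 0 * t) := by
            rw [h, hti]
            calc t * (w (E.r 0) * E.r 0) * t = t * w (E.r 0) * (1 * E.r 0) * t := by group
              _ = t * w (E.r 0) * (t * t * E.r 0) * t := by rw [E.t_sq]
              _ = _ := by group
        _ = w (E.r 0) * (E.r 0 * E.r 0) := by
            rw [H.t_W_t, H.t_r 0, mul_assoc (E.r 0) t t, E.t_sq, mul_one, mul_assoc]
        _ = w (E.r 0) := by rw [E.r_sq, mul_one])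
    exact ⟨π, Or.inr N⟩

omit D FA in
theorem _root_.Cfsg.Agent.UFiveTwo.Field.Ntl.odd {f : X} {π : Equiv.Perm (Fin 5)} (N : Ntl E w f π)
    (hout : ¬ Inner A f) : Equiv.Perm.sign π ≠ 1 := by
  intro hs
  apply hout
  set σ : alternatingGroup (Fin 5) := ⟨π, Equiv.Perm.mem_alternatingGroup.mpr hs⟩
  have hcomm : (E.l σ)⁻¹ * f * t = t * ((E.l σ)⁻¹ * f) := by
    have h1 := E.t_A _ (inv_mem (E.l_mem σ))
    calc (E.l σ)⁻¹ * f * t = (E.l σ)⁻¹ * (f * t) := mul_assoc _ _ _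
      _ = (E.l σ)⁻¹ * t * f := by rw [N.ft, mul_assoc]
      _ = t * ((E.l σ)⁻¹ * f) := by rw [← h1, mul_assoc]
  obtain ⟨e, he, u, hu, j, h⟩ := E.cV _ hcomm (by
    intro i
    apply comm_of_conj
    have h1 : (E.l σ)⁻¹ * E.r (π i) * E.l σ = E.r i := by
      have h2 := E.l_r σ i
      have h3 : (σ : Equiv.Perm (Fin 5)) i = π i := rfl
      rw [← h3, ← h2]; group
    calc (E.l σ)⁻¹ * f * E.r i * ((E.l σ)⁻¹ * f)⁻¹ = (E.l σ)⁻¹ * (f * E.r i * f⁻¹) * E.l σ := by group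
      _ = E.r i := by rw [N.r, h1])
  have hf : f = E.l σ * (e * u * E.h ^ j) := by rw [← h, mul_inv_cancel_left]
  have he' : Inner A e := by
    rcases he with rfl | rfl
    · exact inner_of_mem (one_mem _)
    · exact inner_of_cent (mem_centralizer_iff.mpr fun a ha => (E.t_A a ha).symm)
  rw [hf]
  exact inner_mul (inner_of_mem (E.l_mem σ)) (inner_mul (inner_mul he' (inner_of_mem (E.U_le hu)))
    (inner_of_mem (pow_mem E.h_mem j)))

/-- **A good natural outer element.** -/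
theorem exists_good (H : C0 E w) {f : X} (hf : f ∈ T) (hout : ¬ Inner A f) :
    ∃ f₁ ∈ T, ∃ π, Ntl E w f₁ π ∧ π 1 = 1 ∧ Equiv.Perm.sign π ≠ 1 ∧ ¬ Inner A f₁ ∧ f₁ * f₁ ∈ E.U := by
  -- a natural element
  have htI : Inner A t := inner_of_cent (mem_centralizer_iff.mpr fun a ha => (E.t_A a ha).symm)
  obtain ⟨f₂, hf₂, π₂, N₂, hout₂⟩ : ∃ f₂ ∈ T, ∃ π, Ntl E w f₂ π ∧ ¬ Inner A f₂ := by
    obtain ⟨π, N | N⟩ := D.ntl FA am H hf
    · exact ⟨f, hf, π, N, hout⟩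
    · refine ⟨t * f, mul_mem D.tmem hf, π, N, fun h => hout ?_⟩
      have := inner_mul (inner_inv htI) h
      rwa [inv_mul_cancel_left] at this
  obtain ⟨σ, h0, h1, h2, h3⟩ := dec_out π₂ N₂.zero (N₂.odd am hout₂)
  set σ' : alternatingGroup (Fin 5) := ⟨σ, Equiv.Perm.mem_alternatingGroup.mpr h2⟩
  have N := (ntl_l H σ' h0).mul N₂
  have hlQ : E.l σ' ∈ E.Q := E.l_Q σ' ⟨h0, h1⟩
  have hT : E.l σ' * f₂ ∈ T := mul_mem (D.Q hlQ) hf₂
  have hout₁ : ¬ Inner A (E.l σ' * f₂) := by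
    intro h
    apply hout₂
    have := inner_mul (inner_inv (inner_of_mem (E.l_mem σ'))) h
    rwa [inv_mul_cancel_left] at this
  have hodd := N.odd am hout₁
  refine ⟨_, hT, _, N, h3, hodd, hout₁, ?_⟩
  -- the square
  obtain ⟨a, b, hab, ha, hb, hfix⟩ := dec_swap _ N.zero h3 hodd
  have hππ : ∀ i, ((σ' : Equiv.Perm (Fin 5)) * π₂) (((σ' : Equiv.Perm (Fin 5)) * π₂) i) = i := by
    intro i
    by_cases k1 : i = a
    · rw [k1, ha, hb]
    · by_cases k2 : i = b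
      · rw [k2, hb, ha]
      · rw [hfix i k1 k2, hfix i k1 k2]
  generalize E.l σ' * f₂ = f₁ at *
  generalize (σ' : Equiv.Perm (Fin 5)) * π₂ = π at *
  have hcomm : ∀ i, f₁ * f₁ * E.r i = E.r i * (f₁ * f₁) := by
    intro i
    apply comm_of_conj
    calc f₁ * f₁ * E.r i * (f₁ * f₁)⁻¹ = f₁ * (f₁ * E.r i * f₁⁻¹) * f₁⁻¹ := by group
      _ = E.r i := by rw [N.r, N.r, hππ]
  obtain ⟨e, he, u, hu, h⟩ := D.cV (mul_mem hT hT) hcomm
  rcases he with rfl | rfl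
  · rw [h, one_mul]; exact hu
  · exfalso
    have h4 := (N.mul N).w0
    rw [h] at h4
    have h5 := H.U_W 0 hu
    have h6 : u * w (E.r 0) * u⁻¹ = w (E.r 0) := conj_eq h5
    have h7 : e * w (E.r 0) * e⁻¹ = w (E.r 0) := by
      calc e * w (E.r 0) * e⁻¹ = e * (u * w (E.r 0) * u⁻¹) * e⁻¹ := by rw [h6]
        _ = e * u * w (E.r 0) * (e * u)⁻¹ := by group
        _ = w (E.r 0) := h4
    exact H.wt_ne (comm_of_conj h7).symm

/-- an outer element of `T` together with `t` and `U Q` generates `T` -/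
theorem cover {f : X} (hf : f ∈ T) (hout : ¬ Inner A f) {x : X} (hx : x ∈ T) :
    ∃ p ∈ E.U ⊔ E.Q, x = p ∨ x = t * p ∨ x = f * p ∨ x = t * f * p := by
  have inn : ∀ y ∈ T, Inner A y → y ∈ E.U ⊔ E.Q ∨ t * y ∈ E.U ⊔ E.Q := by
    intro y hy hI
    rw [← D.inf]
    rcases inner_form E am (D.cent y hy) hI with h | h
    · exact Or.inl ⟨hy, h⟩
    · exact Or.inr ⟨mul_mem D.tmem hy, h⟩
  have htt : t * t = 1 := E.t_sq
  by_cases hI : Inner A x
  · rcases inn x hx hI with h | h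
    · exact ⟨x, h, Or.inl rfl⟩
    · exact ⟨t * x, h, Or.inr (Or.inl (by rw [← mul_assoc, htt, one_mul]))⟩
  · have hfi : ¬ Inner A f⁻¹ := fun h => hout (by have := inner_inv h; rwa [inv_inv] at this)
    have h1 := FA.ind f⁻¹ (inv_mem (am.nA f (D.cent f hf))) x (am.nA x (D.cent x hx)) hfi hI
    rcases inn _ (mul_mem (inv_mem hf) hx) h1 with h | h
    · exact ⟨_, h, Or.inr (Or.inr (Or.inl (by group)))⟩
    · refine ⟨_, h, Or.inr (Or.inr (Or.inr ?_))⟩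
      have h2 := D.cent f hf
      calc x = f * (t * t) * (f⁻¹ * x) := by rw [htt]; group
        _ = (f * t) * (t * (f⁻¹ * x)) := by group
        _ = t * f * (t * (f⁻¹ * x)) := by rw [h2]

end TT

end Cfsg.Agent.UFiveTwo.Field
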