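import Cfsg.Agent.UFiveTwo.AutOut
import Cfsg.Agent.UFiveTwo.Line

/-!
# S1778, type `U₅(2)`, the end of the field case (I): elementary abelian 2-subgroups of `C_X(t)` have order at most 32
-/

set_option autoImplicit false
set_option linter.unusedSectionVars false

namespace Cfsg.Agent.UFiveTwo.Field

open Subgroup Cfsg.Agent.StdEven.Syl Cfsg.Agent.UFiveTwo.Line

universe u

variable {X : Type u} [Group X]

/-- The ambient facts on `C_X(t)`. -/
structure Amb (A : Subgroup X) (t : X) : Prop where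
  nA : ∀ g : X, g * t = t * g → g ∈ normalizer (A : Set X)
  cc : ∀ c : X, c * t = t * c → c ∈ centralizer (A : Set X) → c = 1 ∨ c = t

theorem flag_r5 {A : Subgroup X} (F : Flag A) : R5 F.r :=
  ⟨F.r_sq, F.r_comm, F.r_prod, F.r_ne, fun σ hσ => ⟨F.l ⟨σ, Equiv.Perm.mem_alternatingGroup.mpr hσ⟩, fun i => F.l_r _ i⟩⟩

theorem comm_of_cent {A : Subgroup X} {c a : X} (hc : c ∈ centralizer (A : Set X)) (ha : a ∈ A) : c * a = a * c :=
  (mem_centralizer_iff.mp hc a ha).symm

theorem two_of_sq {B : Subgroup X} (hB : ∀ x ∈ B, x * x = 1) : IsPGroup 2 B := fun x =>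
  ⟨1, Subtype.ext (by rw [pow_one, pow_two]; exact hB x x.2)⟩

theorem comm_of_sq {B : Subgroup X} (hB : ∀ x ∈ B, x * x = 1) {x y : X} (hx : x ∈ B) (hy : y ∈ B) : x * y = y * x := by
  have h1 := hB _ (mul_mem hx hy)
  have h2 : x⁻¹ = x := inv_eq_of_mul_eq_one_right (hB x hx)
  have h3 : y⁻¹ = y := inv_eq_of_mul_eq_one_right (hB y hy)
  calc x * y = (x * y)⁻¹ := (inv_eq_of_mul_eq_one_right h1).symm
    _ = y * x := by rw [mul_inv_rev, h2, h3]

variable {A : Subgroup X} {t : X} (E : Env A t) (FA : FlagAut A E.toFlag) (am : Amb A t)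

include E in
theorem t_inv : t⁻¹ = t := inv_eq_of_mul_eq_one_right E.t_sq

include E am in
/-- inner elements of `C(t)` are in `A ∪ t A` -/
theorem inner_form {g : X} (hg : g * t = t * g) (hi : Inner A g) : g ∈ A ∨ t * g ∈ A := by
  obtain ⟨a, ha, hc⟩ := hi
  have h1 : a⁻¹ * g * t = t * (a⁻¹ * g) := by
    have h2 := E.t_A _ (inv_mem ha)
    calc a⁻¹ * g * t = a⁻¹ * (g * t) := mul_assoc _ _ _
      _ = a⁻¹ * t * g := by rw [hg, mul_assoc]
      _ = t * (a⁻¹ * g) := by rw [← h2, mul_assoc]
  rcases am.cc _ h1 hc with h | h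
  · left
    rw [inv_mul_eq_one] at h
    rwa [← h]
  · right
    have h3 : g = a * t := by rw [← h, mul_inv_cancel_left]
    rw [h3, ← E.t_A a ha, ← mul_assoc, E.t_sq, one_mul]
    exact ha

theorem inner_of_mem {g : X} (hg : g ∈ A) : Inner A g := ⟨g, hg, by rw [inv_mul_cancel]; exact one_mem _⟩

theorem inner_mul {g g' : X} (hg : Inner A g) (hg' : Inner A g') : Inner A (g * g') := by
  obtain ⟨a, ha, hc⟩ := hg
  obtain ⟨b, hb, hd⟩ := hg'
  refine ⟨a * b, mul_mem ha hb, ?_⟩
  have h1 := comm_of_cent hc hb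
  have e : (a * b)⁻¹ * (g * g') = (b⁻¹ * ((a⁻¹ * g) * b)) * (b⁻¹ * g') := by group
  rw [e, h1, inv_mul_cancel_left]
  exact mul_mem hc hd

theorem inner_of_cent {g : X} (hg : g ∈ centralizer (A : Set X)) : Inner A g := ⟨1, one_mem _, by rw [inv_one, one_mul]; exact hg⟩

theorem inner_inv {g : X} (hg : Inner A g) : Inner A g⁻¹ := by
  obtain ⟨a, ha, hc⟩ := hg
  refine ⟨a⁻¹, inv_mem ha, ?_⟩
  have h1 := comm_of_cent (inv_mem hc) ha
  have e : a⁻¹⁻¹ * g⁻¹ = a * (a⁻¹ * g)⁻¹ * a⁻¹ := by group
  rw [e, ← h1, mul_inv_cancel_right]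
  exact inv_mem hc

include E am FA

variable [Finite X]

/-- elementary abelian subgroups of `A` have order at most 16 and those of order 16 are conjugate to `V` -/
theorem card_le_A {B : Subgroup X} (hB : ∀ x ∈ B, x * x = 1) (hBA : B ≤ A) :
    Nat.card B ≤ 16 ∧ (16 ≤ Nat.card B → ∃ a ∈ A, B.map (MulAut.conj a).toMonoidHom = closure (Set.range E.r)) := by
  obtain ⟨a, ha, hle'⟩ := FA.syl.exists_conj (two_of_sq hB) hBA
  have hle : B.map (MulAut.conj a).toMonoidHom ≤ E.U ⊔ E.Q := by
    rintro _ ⟨x, hx, rfl⟩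
    exact hle' x hx
  have hcard : Nat.card (B.map (MulAut.conj a).toMonoidHom) = Nat.card B :=
    (Nat.card_congr (B.equivMapOfInjective (MulAut.conj a).toMonoidHom (MulAut.conj a).injective).toEquiv).symm
  have hsq : ∀ x ∈ B.map (MulAut.conj a).toMonoidHom, x * x = 1 := by
    rintro _ ⟨x, hx, rfl⟩
    show a * x * a⁻¹ * (a * x * a⁻¹) = 1
    calc a * x * a⁻¹ * (a * x * a⁻¹) = a * (x * x) * a⁻¹ := by group
      _ = 1 := by rw [hB x hx]; group
  have key : 16 ≤ Nat.card B → B.map (MulAut.conj a).toMonoidHom = closure (Set.range E.r) := by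
    intro h16
    have h1 := FA.elem _ hle hsq (by rw [hcard]; exact h16)
    apply Subgroup.eq_of_le_of_card_ge h1
    rw [(flag_r5 E.toFlag).card_closure, hcard]
    exact h16
  refine ⟨?_, fun h => ⟨a, ha, key h⟩⟩
  by_contra h16
  push Not at h16
  have h1 := key h16.le
  rw [← hcard, h1, (flag_r5 E.toFlag).card_closure] at h16
  exact absurd h16 (by norm_num)

/-- **Elementary abelian 2-subgroups of `C_X(t)` have order at most 32.** -/
theorem card_le_aux {B : Subgroup X} (hB : ∀ x ∈ B, x * x = 1) (hBt : ∀ x ∈ B, x * t = t * x) (htB : t ∈ B) :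
    Nat.card B ≤ 32 := by
  -- `B₁ = B ⊓ A`
  obtain ⟨h16, hV⟩ := card_le_A E FA am (B := B ⊓ A) (fun x hx => hB x hx.1) inf_le_right
  -- `B₀ = B₁ ∪ t B₁`
  let B₀ : Subgroup X :=
    { carrier := {x | x ∈ B ∧ (x ∈ A ∨ t * x ∈ A)}
      one_mem' := ⟨one_mem _, Or.inl (one_mem _)⟩
      mul_mem' := by
        rintro x y ⟨hx, hx'⟩ ⟨hy, hy'⟩
        refine ⟨mul_mem hx hy, ?_⟩
        rcases hx' with hx' | hx' <;> rcases hy' with hy' | hy'
        · exact Or.inl (mul_mem hx' hy')
        · right
          have : t * (x * y) = x * (t * y) := by rw [← mul_assoc, ← hBt x hx, mul_assoc]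
          rw [this]; exact mul_mem hx' hy'
        · right
          rw [← mul_assoc]; exact mul_mem hx' hy'
        · left
          have : x * y = (t * x) * (t * y) := by
            calc x * y = (x * (t * t)) * y := by rw [E.t_sq, mul_one]
              _ = (x * t) * (t * y) := by group
              _ = (t * x) * (t * y) := by rw [hBt x hx]
          rw [this]; exact mul_mem hx' hy'
      inv_mem' := by
        rintro x ⟨hx, hx'⟩
        have : x⁻¹ = x := inv_eq_of_mul_eq_one_right (hB x hx)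
        show x⁻¹ ∈ B ∧ (x⁻¹ ∈ A ∨ t * x⁻¹ ∈ A)
        rw [this]
        exact ⟨hx, hx'⟩ }
  have hB₀ : ∀ x, x ∈ B₀ ↔ x ∈ B ∧ (x ∈ A ∨ t * x ∈ A) := fun x => Iff.rfl
  have hc0 : Nat.card B₀ ≤ 2 * Nat.card ↥(B ⊓ A) := by
    have : (B₀ : Set X) ⊆ ((B ⊓ A : Subgroup X) : Set X) ∪ (fun x => t * x) '' ((B ⊓ A : Subgroup X) : Set X) := by
      rintro x ⟨hx, hx' | hx'⟩
      · exact Or.inl ⟨hx, hx'⟩
      · refine Or.inr ⟨t * x, ⟨mul_mem htB hx, hx'⟩, ?_⟩
        show t * (t * x) = x
        rw [← mul_assoc, E.t_sq, one_mul]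
    have h1 := Set.ncard_le_ncard this (Set.toFinite _)
    have h2 := Set.ncard_union_le ((B ⊓ A : Subgroup X) : Set X) ((fun x => t * x) '' ((B ⊓ A : Subgroup X) : Set X))
    have h3 := Set.ncard_image_le (f := fun x => t * x) (s := ((B ⊓ A : Subgroup X) : Set X)) (Set.toFinite _)
    have h4 : Nat.card B₀ = (B₀ : Set X).ncard := rfl
    have h5 : Nat.card ↥(B ⊓ A) = ((B ⊓ A : Subgroup X) : Set X).ncard := rfl
    omega
  by_cases hout : ∃ e ∈ B, e ∉ B₀
  · obtain ⟨e, heB, he0⟩ := hout
    have hne : ¬ Inner A e := fun h => he0 ⟨heB, inner_form E am (hBt e heB) h⟩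
    have hcB : Nat.card B ≤ 2 * Nat.card B₀ := by
      have : (B : Set X) ⊆ (B₀ : Set X) ∪ (fun x => e * x) '' (B₀ : Set X) := by
        intro x hx
        by_cases h : x ∈ B₀
        · exact Or.inl h
        · have hx' : ¬ Inner A x := fun h' => h ⟨hx, inner_form E am (hBt x hx) h'⟩
          have h1 := FA.ind e (am.nA e (hBt e heB)) x (am.nA x (hBt x hx)) hne hx'
          refine Or.inr ⟨e * x, ⟨mul_mem heB hx, inner_form E am (hBt _ (mul_mem heB hx)) h1⟩, ?_⟩
          show e * (e * x) = x
          rw [← mul_assoc, hB e heB, one_mul]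
      have h1 := Set.ncard_le_ncard this (Set.toFinite _)
      have h2 := Set.ncard_union_le (B₀ : Set X) ((fun x => e * x) '' (B₀ : Set X))
      have h3 := Set.ncard_image_le (f := fun x => e * x) (s := (B₀ : Set X)) (Set.toFinite _)
      have h4 : Nat.card B₀ = (B₀ : Set X).ncard := rfl
      have h5 : Nat.card B = (B : Set X).ncard := rfl
      omega
    by_contra hlt
    push Not at hlt
    -- `|B ⊓ A| = 16`
    have hcard : Nat.card ↥(B ⊓ A) = 16 := by
      have h9 : 8 < Nat.card ↥(B ⊓ A) := by omega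
      obtain ⟨k, hk⟩ := (two_of_sq (B := B ⊓ A) (fun x hx => hB x hx.1)).exists_card_eq
      rw [hk] at h9 h16 ⊢
      have : 3 < k := by
        by_contra h
        push Not at h
        have := Nat.pow_le_pow_right (n := 2) (by norm_num) h
        omega
      have h5 : k ≤ 4 := by
        by_contra h
        push Not at h
        have := Nat.pow_le_pow_right (n := 2) (by norm_num) (show 5 ≤ k by omega)
        omega
      have : k = 4 := by omega
      rw [this]; norm_num
    obtain ⟨a, ha, hVa⟩ := hV hcard.ge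
    -- `a e a⁻¹` centralises `V`
    apply hne
    have haN : a ∈ normalizer (A : Set X) := le_normalizer ha
    have hN : a * e * a⁻¹ ∈ normalizer (A : Set X) := mul_mem (mul_mem haN (am.nA e (hBt e heB))) (inv_mem haN)
    obtain ⟨c, hc, u, hu, j, he⟩ := FA.cV (a * e * a⁻¹) hN (by
      intro i
      have hr : E.r i ∈ closure (Set.range E.r) := subset_closure ⟨i, rfl⟩
      rw [← hVa] at hr
      obtain ⟨b, hb, hbr⟩ := hr
      have hbr' : a * b * a⁻¹ = E.r i := hbr
      rw [← hbr']
      have h1 := comm_of_sq hB heB hb.1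
      calc a * e * a⁻¹ * (a * b * a⁻¹) = a * (e * b) * a⁻¹ := by group
        _ = a * b * a⁻¹ * (a * e * a⁻¹) := by rw [h1]; group)
    have hin : Inner A (a * e * a⁻¹) := by
      rw [he]
      exact inner_mul (inner_mul (inner_of_cent hc) (inner_of_mem (E.U_le hu))) (inner_of_mem (pow_mem E.h_mem j))
    have e2 : e = a⁻¹ * (a * e * a⁻¹) * a := by group
    rw [e2]
    exact inner_mul (inner_mul (inner_of_mem (inv_mem ha)) hin) (inner_of_mem ha)
  · push Not at hout
    have h1 : Nat.card B ≤ Nat.card B₀ := Subgroup.card_le_of_le hout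
    omega

theorem card_le {B : Subgroup X} (hB : ∀ x ∈ B, x * x = 1) (hBt : ∀ x ∈ B, x * t = t * x) : Nat.card B ≤ 32 := by
  -- `B' = B ∪ t B`
  let B' : Subgroup X :=
    { carrier := {x | x ∈ B ∨ t * x ∈ B}
      one_mem' := Or.inl (one_mem _)
      mul_mem' := by
        rintro x y (hx | hx) (hy | hy)
        · exact Or.inl (mul_mem hx hy)
        · right
          have : t * (x * y) = x * (t * y) := by rw [← mul_assoc, ← hBt x hx, mul_assoc]
          rw [this]; exact mul_mem hx hy
        · right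
          rw [← mul_assoc]; exact mul_mem hx hy
        · left
          have h1 := hBt _ hx
          have h2 : x * t = t * x := by
            have h3 : t * (x * t) = t * (t * x) := by rw [← mul_assoc, h1]
            exact mul_left_cancel h3
          have : x * y = (t * x) * (t * y) := by
            calc x * y = (x * (t * t)) * y := by rw [E.t_sq, mul_one]
              _ = (x * t) * (t * y) := by group
              _ = (t * x) * (t * y) := by rw [h2]
          rw [this]; exact mul_mem hx hy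
      inv_mem' := by
        rintro x (hx | hx)
        · exact Or.inl (inv_mem hx)
        · right
          have h1 := hBt _ (inv_mem hx)
          have : t * x⁻¹ = (t * x)⁻¹ := by
            have h4 : (t * x)⁻¹ * t = x⁻¹ := by rw [mul_inv_rev, t_inv E, mul_assoc, E.t_sq, mul_one]
            rw [← h4, h1, ← mul_assoc, E.t_sq, one_mul]
          show t * x⁻¹ ∈ B
          rw [this]; exact inv_mem hx }
  have hsq : ∀ x ∈ B', x * x = 1 := by
    rintro x (hx | hx)
    · exact hB x hx
    · have h1 := hBt _ hx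
      have h2 : x * t = t * x := by
        have h3 : t * (x * t) = t * (t * x) := by rw [← mul_assoc, h1]
        exact mul_left_cancel h3
      have h4 := hB _ hx
      calc x * x = (t * x) * (t * x) := by
            calc x * x = (x * (t * t)) * x := by rw [E.t_sq, mul_one]
              _ = (x * t) * (t * x) := by group
              _ = (t * x) * (t * x) := by rw [h2]
        _ = 1 := h4
  have hct : ∀ x ∈ B', x * t = t * x := by
    rintro x (hx | hx)
    · exact hBt x hx
    · have h1 := hBt _ hx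
      have h3 : t * (x * t) = t * (t * x) := by rw [← mul_assoc, h1]
      exact mul_left_cancel h3
  have h1 := card_le_aux E FA am hsq hct (Or.inr (by rw [E.t_sq]; exact one_mem _))
  have h2 : Nat.card B ≤ Nat.card B' := Subgroup.card_le_of_le (fun x hx => Or.inl hx)
  omega

end Cfsg.Agent.UFiveTwo.Field
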