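import Cfsg.Agent.UFiveTwo.FieldB

/-!
# S1778, type `U₅(2)`, the end of the field case (VI): the involutions of `P = S₀ T`
-/

set_option autoImplicit false
set_option linter.unusedSectionVars false

namespace Cfsg.Agent.UFiveTwo.Field

open Subgroup Cfsg.Agent.StdEven.Syl Cfsg.Agent.UFiveTwo.Line Cfsg.Agent.UFiveTwo.Big

universe u

variable {X : Type u} [Group X] {A : Subgroup X} {t : X}
variable {E : Env A t} {w : X → X} {Qh Γ A1 : Subgroup X} {T : Subgroup X}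

theorem UQ_S0 (H : Ctx E w Qh Γ) : E.U ⊔ E.Q ≤ H.S0 := sup_le H.U_le_S0 H.Q_le_S0

namespace TT

variable (D : TT E T) (FA : FlagAut A E.toFlag) (am : Amb A t) (FO : FlagOut A E.toFlag)

include D

/-- elements of `C(t) ⊓ S₀` -/
theorem mem_UQ (H : Ctx E w Qh Γ) {x : X} (hx : x * t = t * x) (h : x ∈ H.S0) : x ∈ E.U ⊔ E.Q := by
  obtain ⟨u, hu, q, hq, rfl⟩ := H.S0_comm h hx
  exact mul_mem (mem_sup_left hu) (mem_sup_right hq)

include am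

/-- elements of `T` outside `S₀ ∪ t S₀` are outer -/
theorem not_inner (H : Ctx E w Qh Γ) {x : X} (hx : x ∈ T) (h1 : x ∉ H.S0) (h2 : t * x ∉ H.S0) : ¬ Inner A x := by
  intro hI
  have h3 : T ⊓ A ≤ H.S0 := by rw [D.inf]; exact UQ_S0 H
  rcases inner_form E am (D.cent x hx) hI with h | h
  · exact h1 (h3 ⟨hx, h⟩)
  · exact h2 (h3 ⟨mul_mem D.tmem hx, h⟩)

include FA

/-- `T` normalises `S₀` -/
theorem nS0 (H : Ctx E w Qh Γ) {x s : X} (hx : x ∈ T) (hs : s ∈ H.S0) : x * s * x⁻¹ ∈ H.S0 := by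
  have hti : t⁻¹ = t := t_inv E
  obtain ⟨π, N | N⟩ := D.ntl FA am H.toC0 hx
  · exact N.S0 H hs
  · have h1 := H.t_S0 (N.S0 H hs)
    have e : t * (t * x * s * (t * x)⁻¹) * t = x * s * x⁻¹ := by
      calc t * (t * x * s * (t * x)⁻¹) * t = (t * t) * x * s * x⁻¹ * (t⁻¹ * t) := by group
        _ = _ := by rw [E.t_sq]; group
    rwa [e] at h1

/-- two elements of `T` outside `S₀ ∪ t S₀` -/
theorem idx (H : Ctx E w Qh Γ) {x y : X} (hx : x ∈ T) (hy : y ∈ T) (h1 : x ∉ H.S0) (h2 : t * x ∉ H.S0)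
    (h3 : y ∉ H.S0) (h4 : t * y ∉ H.S0) : x⁻¹ * y ∈ H.S0 ∨ t * (x⁻¹ * y) ∈ H.S0 := by
  obtain ⟨p, hp, h | h | h | h⟩ := D.cover FA am hx (D.not_inner am H hx h1 h2) hy
  · exact absurd (by rw [h]; exact UQ_S0 H hp) h3
  · exact absurd (by rw [h, ← mul_assoc, E.t_sq, one_mul]; exact UQ_S0 H hp) h4
  · left
    rw [h, inv_mul_cancel_left]; exact UQ_S0 H hp
  · right
    have e : t * (x⁻¹ * y) = p := by
      rw [h]
      have h5 := D.cent x hx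
      calc t * (x⁻¹ * (t * x * p)) = t * (x⁻¹ * (x * t) * p) := by rw [h5]; group
        _ = (t * t) * p := by group
        _ = p := by rw [E.t_sq, one_mul]
    rw [e]; exact UQ_S0 H hp

/-- `T / (T ⊓ S₀)` is abelian -/
theorem ab (H : Ctx E w Qh Γ) {x y : X} (hx : x ∈ T) (hy : y ∈ T) : x * y * x⁻¹ * y⁻¹ ∈ H.S0 := by
  have aux : ∀ p ∈ E.U ⊔ E.Q, ∀ y ∈ T, p * y * p⁻¹ * y⁻¹ ∈ E.U ⊔ E.Q := by
    intro p hp y hy
    have e : p * y * p⁻¹ * y⁻¹ = p * (y * p⁻¹ * y⁻¹) := by group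
    rw [e]; exact mul_mem hp (D.conj_P am hy (inv_mem hp))
  have aux' : ∀ p ∈ E.U ⊔ E.Q, ∀ y ∈ T, y * p * y⁻¹ * p⁻¹ ∈ E.U ⊔ E.Q := by
    intro p hp y hy
    exact mul_mem (D.conj_P am hy hp) (inv_mem hp)
  have hti : t⁻¹ = t := t_inv E
  have hct : ∀ z ∈ T, t * z * t⁻¹ = z := fun z hz => by rw [← D.cent z hz, mul_inv_cancel_right]
  apply UQ_S0 H
  by_cases hI : Inner A x
  · rcases inner_form E am (D.cent x hx) hI with h | h
    · exact aux x (by rw [← D.inf]; exact ⟨hx, h⟩) y hy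
    · have h1 := aux (t * x) (by rw [← D.inf]; exact ⟨mul_mem D.tmem hx, h⟩) y hy
      have e : t * x * y * (t * x)⁻¹ * y⁻¹ = x * y * x⁻¹ * y⁻¹ := by
        have h2 := hct _ (mul_mem (mul_mem hx hy) (inv_mem hx))
        calc t * x * y * (t * x)⁻¹ * y⁻¹ = t * (x * y * x⁻¹) * t⁻¹ * y⁻¹ := by group
          _ = _ := by rw [h2]
      rwa [e] at h1
  · obtain ⟨p, hp, h | h | h | h⟩ := D.cover FA am hx hI hy
    · rw [h]; exact aux' p hp x hx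
    · have h1 := aux' p hp x hx
      have e : x * y * x⁻¹ * y⁻¹ = x * p * x⁻¹ * p⁻¹ := by
        have h2 := D.cent x hx
        rw [h]
        calc x * (t * p) * x⁻¹ * (t * p)⁻¹ = (x * t) * p * x⁻¹ * p⁻¹ * t⁻¹ := by group
          _ = t * (x * p * x⁻¹ * p⁻¹) * t⁻¹ := by rw [h2]; group
          _ = _ := hct _ ((UQ_T D) h1)
      rw [e]; exact h1
    · have h1 := D.conj_P am hx (aux' p hp x hx)
      have e : x * y * x⁻¹ * y⁻¹ = x * (x * p * x⁻¹ * p⁻¹) * x⁻¹ := by rw [h]; group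
      rw [e]; exact h1
    · have h1 := D.conj_P am hx (aux' p hp x hx)
      have e : x * y * x⁻¹ * y⁻¹ = x * (x * p * x⁻¹ * p⁻¹) * x⁻¹ := by
        have h2 := D.cent x hx
        rw [h]
        calc x * (t * x * p) * x⁻¹ * (t * x * p)⁻¹ = (x * t) * x * p * x⁻¹ * p⁻¹ * x⁻¹ * t⁻¹ := by group
          _ = t * (x * (x * p * x⁻¹ * p⁻¹) * x⁻¹) * t⁻¹ := by rw [h2]; group
          _ = _ := hct _ ((UQ_T D) h1)
      rw [e]; exact h1
where
  UQ_T (D : TT E T) : E.U ⊔ E.Q ≤ T := by rw [← D.inf]; exact inf_le_left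

/-- elements of `P = S₀ T` -/
theorem mem_P (H : Ctx E w Qh Γ) {g : X} (hg : g ∈ H.S0 ⊔ T) : ∃ s ∈ H.S0, ∃ x ∈ T, g = s * x := by
  let Y : Subgroup X :=
    { carrier := {g | ∃ s ∈ H.S0, ∃ x ∈ T, g = s * x}
      one_mem' := ⟨1, H.S0.one_mem, 1, T.one_mem, by simp⟩
      mul_mem' := by
        rintro _ _ ⟨a, ha, b, hb, rfl⟩ ⟨a', ha', b', hb', rfl⟩
        exact ⟨a * (b * a' * b⁻¹), mul_mem ha (D.nS0 FA am H hb ha'), b * b', mul_mem hb hb', by group⟩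
      inv_mem' := by
        rintro _ ⟨a, ha, b, hb, rfl⟩
        exact ⟨b⁻¹ * a⁻¹ * b⁻¹⁻¹, D.nS0 FA am H (inv_mem hb) (inv_mem ha), b⁻¹, inv_mem hb, by group⟩ }
  have h1 : H.S0 ⊔ T ≤ Y :=
    sup_le (fun a ha => ⟨a, ha, 1, T.one_mem, by simp⟩) (fun b hb => ⟨1, H.S0.one_mem, b, hb, by simp⟩)
  exact h1 hg

theorem two_P (H : Ctx E w Qh Γ) : IsPGroup 2 (H.S0 ⊔ T : Subgroup X) := by
  refine H.isPGroup_S0.to_sup_of_normal_left' D.two ?_
  intro x hx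
  rw [mem_normalizer_iff]
  intro s
  refine ⟨fun hs => D.nS0 FA am H hx hs, fun hs => ?_⟩
  have h1 := D.nS0 FA am H (inv_mem hx) hs
  have h2 : x⁻¹ * (x * s * x⁻¹) * x⁻¹⁻¹ = s := by group
  rwa [h2] at h1

/-- the cosets of `S₀` in `P` -/
theorem cases_P (H : Ctx E w Qh Γ) {y : X} (hy : y ∈ H.S0 ⊔ T) : y ∈ H.S0 ∨ (∃ s ∈ H.S0, y = t * s) ∨
    ∃ f ∈ T, ∃ π, Ntl E w f π ∧ π 1 = 1 ∧ Equiv.Perm.sign π ≠ 1 ∧ ¬ Inner A f ∧ f * f ∈ E.U ∧
      ∃ s ∈ H.S0, y = f * s ∨ y = t * f * s := by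
  obtain ⟨s, hs, x, hx, rfl⟩ := D.mem_P FA am H hy
  have hti : t⁻¹ = t := t_inv E
  have key : ∀ g ∈ T, ∀ p ∈ E.U ⊔ E.Q, x = g * p → ∃ s' ∈ H.S0, s * x = g * s' := by
    intro g hg p hp h
    refine ⟨g⁻¹ * s * g * p, mul_mem ?_ (UQ_S0 H hp), by rw [h]; group⟩
    have := D.nS0 FA am H (inv_mem hg) hs
    rwa [inv_inv] at this
  by_cases hI : Inner A x
  · rcases inner_form E am (D.cent x hx) hI with h | h
    · left
      exact mul_mem hs (UQ_S0 H (by rw [← D.inf]; exact ⟨hx, h⟩))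
    · right; left
      exact key t D.tmem (t * x) (by rw [← D.inf]; exact ⟨mul_mem D.tmem hx, h⟩) (by
        rw [← mul_assoc, E.t_sq, one_mul])
  · obtain ⟨f, hf, π, N, h1, h2, h3, h4⟩ := D.exists_good FA am H.toC0 hx hI
    obtain ⟨p, hp, h | h | h | h⟩ := D.cover FA am hf h3 hx
    · left; rw [h]; exact mul_mem hs (UQ_S0 H hp)
    · right; left; exact key t D.tmem p hp h
    · right; right
      obtain ⟨s', hs', h5⟩ := key f hf p hp h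
      exact ⟨f, hf, π, N, h1, h2, h3, h4, s', hs', Or.inl h5⟩
    · right; right
      obtain ⟨s', hs', h5⟩ := key (t * f) (mul_mem D.tmem hf) p hp h
      exact ⟨f, hf, π, N, h1, h2, h3, h4, s', hs', Or.inr h5⟩

omit am in
theorem card64 {B' : Subgroup X} {n : ℕ} (h : n = 2 ^ 12) (h1 : n ≤ Nat.card B' * Nat.card B') : 64 ≤ Nat.card B' := by
  by_contra hc
  have h2 : Nat.card B' ≤ 63 := by omega
  have h3 := Nat.mul_le_mul h2 h2
  omega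

include FO

/-- **The involutions of `P`.** -/
theorem star (H : One E w Qh Γ A1) {y : X} (hy : y ∈ H.S0 ⊔ T) (hyy : y * y = 1) :
    (∃ x ∈ H.S0, y = x * t * x⁻¹) ∨
      ∃ B ≤ H.S0, (∀ x ∈ B, x * x = 1) ∧ 64 ≤ Nat.card B ∧ ∀ x ∈ B, y * x = x * y := by
  have hfin := finite_B1 H
  have hB : ∀ z, z * z = 1 → (∀ x ∈ B1 H, z * x * z⁻¹ ∈ B1 H) →
      ∃ B ≤ H.S0, (∀ x ∈ B, x * x = 1) ∧ 64 ≤ Nat.card B ∧ ∀ x ∈ B, z * x = x * z := by
    intro z hz hn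
    obtain ⟨B, h1, h2, h3⟩ := exists_cent (B := B1 H) (fun x hx => H.B1_sq hx) hz hn
    exact ⟨B, h1.trans (H.B1_le_Us.trans H.Us_le_S0), fun x hx => H.B1_sq (h1 hx), D.card64 FA (card_B1 H) h3, h2⟩
  rcases D.cases_P FA am H.toCtx hy with h | ⟨s, hs, rfl⟩ | ⟨f, hf, π, N, h1, h2, h3, h4, s, hs, h5 | h5⟩
  · exact Or.inr (hB y hyy fun x hx => H.S0_B1 h hx)
  · left
    obtain ⟨x, hx, h⟩ := H.exists_conj_S0 hs hyy
    exact ⟨x, hx, h.symm⟩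
  · right
    obtain ⟨B, hB1, hB2, hB3⟩ := exists_big H.toCtx N h1 h2 h4 hs (by rw [← h5, hyy]; exact one_mem _)
    rw [← h5] at hB3
    exact ⟨B, hB1.trans H.Vs_le_S0, fun x hx => H.Vs_sq (hB1 hx), hB2, hB3⟩
  · right
    refine hB y hyy fun x hx => ?_
    have h6 := FO.inv0 f (am.nA f (D.cent f hf)) (by
      have h0 := N.r 0
      rw [N.zero] at h0
      exact comm_of_conj h0) h3
    have h7 := tf_B1 H N h6 (H.S0_B1 hs hx)
    have e : y * x * y⁻¹ = t * f * (s * x * s⁻¹) * (t * f)⁻¹ := by rw [h5]; group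
    rw [e]; exact h7

end TT

end Cfsg.Agent.UFiveTwo.Field
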