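import Cfsg.Agent.UFiveTwo.FieldNat
import Cfsg.Agent.UFiveTwo.BigCardS
import Mathlib.Data.Fintype.Perm
import Mathlib.GroupTheory.Perm.Sign

/-!
# S1778, type `U₅(2)`, the end of the field case (III): `|C_{V*}(x)| ≥ 2⁶` for the elements `x ∈ f S₀`, `x² ∈ U*`,
`f` a natural outer element.
-/

set_option autoImplicit false
set_option linter.unusedSectionVars false

namespace Cfsg.Agent.UFiveTwo.Field

open Subgroup Cfsg.Agent.StdEven.Syl Cfsg.Agent.UFiveTwo.Line Cfsg.Agent.UFiveTwo.Big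

universe u

/-! ### permutations -/

set_option maxRecDepth 100000 in
set_option synthInstance.maxSize 1000 in
set_option synthInstance.maxHeartbeats 400000 in
/-- an odd permutation fixing `0` becomes a transposition fixing `1` after multiplication by a Klein element -/
theorem dec_out : ∀ π : Equiv.Perm (Fin 5), π 0 = 0 → Equiv.Perm.sign π ≠ 1 → ∃ σ : Equiv.Perm (Fin 5), σ 0 = 0 ∧
    σ * σ = 1 ∧ Equiv.Perm.sign σ = 1 ∧ (σ * π) 1 = 1 := by decide +kernel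

/-- Klein elements -/
def Kl (σ : Equiv.Perm (Fin 5)) : Prop := σ 0 = 0 ∧ σ * σ = 1 ∧ Equiv.Perm.sign σ = 1

instance : DecidablePred Kl := fun σ => by unfold Kl; infer_instance

/-- odd permutations fixing `0` and `1` -/
def Op (π : Equiv.Perm (Fin 5)) : Prop := π 0 = 0 ∧ π 1 = 1 ∧ Equiv.Perm.sign π ≠ 1

instance : DecidablePred Op := fun σ => by unfold Op; infer_instance

set_option maxRecDepth 100000 in
theorem dec_step' : ∀ π : Equiv.Perm (Fin 5), Op π → ∀ τ : Equiv.Perm (Fin 5), Kl τ → π * τ * π⁻¹ * τ = 1 →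
    ∃ τ₁ : Equiv.Perm (Fin 5), Kl τ₁ ∧ π⁻¹ * τ₁ * π * τ * τ₁ = 1 := by
  decide +kernel

theorem dec_step (π : Equiv.Perm (Fin 5)) (h0 : π 0 = 0) (h1 : π 1 = 1) (h2 : Equiv.Perm.sign π ≠ 1)
    (τ : Equiv.Perm (Fin 5)) (k0 : τ 0 = 0) (k1 : τ * τ = 1) (k2 : Equiv.Perm.sign τ = 1) (k3 : π * τ * π⁻¹ * τ = 1) :
    ∃ τ₁ : Equiv.Perm (Fin 5), τ₁ 0 = 0 ∧ τ₁ * τ₁ = 1 ∧ Equiv.Perm.sign τ₁ = 1 ∧ π⁻¹ * τ₁ * π * τ * τ₁ = 1 := by
  obtain ⟨τ₁, h, h'⟩ := dec_step' π ⟨h0, h1, h2⟩ τ ⟨k0, k1, k2⟩ k3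
  exact ⟨τ₁, h.1, h.2.1, h.2.2, h'⟩

set_option maxRecDepth 100000 in
theorem dec_swap : ∀ π : Equiv.Perm (Fin 5), π 0 = 0 → π 1 = 1 → Equiv.Perm.sign π ≠ 1 →
    ∃ a b : Fin 5, a ≠ b ∧ π a = b ∧ π b = a ∧ ∀ i, i ≠ a → i ≠ b → π i = i := by
  decide +kernel

/-! ### small subgroups -/

theorem card_closure_pair_le {Y : Type u} [Group Y] {x y : Y} (hx : x * x = 1) (hy : y * y = 1) (h : x * y = y * x) :
    Nat.card (closure ({x, y} : Set Y)) ≤ 4 := by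
  classical
  let K : Subgroup Y :=
    { carrier := {g | g = 1 ∨ g = x ∨ g = y ∨ g = x * y}
      one_mem' := Or.inl rfl
      mul_mem' := by
        have e1 : x * (x * y) = y := by rw [← mul_assoc, hx, one_mul]
        have e2 : y * (x * y) = x := by rw [h, ← mul_assoc, hy, one_mul]
        have e3 : x * y * x = y := by rw [h, mul_assoc, hx, mul_one]
        have e4 : x * y * y = x := by rw [mul_assoc, hy, mul_one]
        have e5 : x * y * (x * y) = 1 := by rw [← mul_assoc, e3, hy]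
        rintro a b (rfl | rfl | rfl | rfl) (rfl | rfl | rfl | rfl) <;>
          simp only [Set.mem_ofPred_eq, mul_one, one_mul, hx, hy, e1, e2, e3, e4, e5, ← h, true_or, or_true]
      inv_mem' := by
        have e1 : x⁻¹ = x := inv_eq_of_mul_eq_one_right hx
        have e2 : y⁻¹ = y := inv_eq_of_mul_eq_one_right hy
        rintro a (rfl | rfl | rfl | rfl)
        · left; exact inv_one
        · right; left; exact e1
        · right; right; left; exact e2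
        · right; right; right; rw [mul_inv_rev, e1, e2, h] }
  have hle : closure ({x, y} : Set Y) ≤ K := by
    rw [closure_le]
    rintro a (rfl | rfl)
    · exact Or.inr (Or.inl rfl)
    · exact Or.inr (Or.inr (Or.inl rfl))
  have hsub : (K : Set Y) ⊆ (({1, x, y, x * y} : Finset Y) : Set Y) := by
    rintro a (rfl | rfl | rfl | rfl) <;> simp
  have h1 : Nat.card K ≤ 4 := by
    have h2 : (K : Set Y).ncard ≤ (({1, x, y, x * y} : Finset Y) : Set Y).ncard :=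
      Set.ncard_le_ncard hsub (Finset.finite_toSet _)
    rw [Set.ncard_coe_finset] at h2
    have h3 : ({1, x, y, x * y} : Finset Y).card ≤ 4 := Finset.card_le_four
    exact h2.trans h3
  have : Finite K := Set.Finite.subset (Finset.finite_toSet _) hsub
  exact (Subgroup.card_le_of_le hle).trans h1

variable {X : Type u} [Group X] {A : Subgroup X} {t : X} {E : Env A t} {w : X → X} {Qh Γ : Subgroup X}

/-! ### the map `S₀ → Q / (Q ⊓ U)` -/

/-- `m` is the value of the map `S₀ → Q / (Q ⊓ U)` at `s` -/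
def Tot (H : Ctx E w Qh Γ) (s m : X) : Prop := m⁻¹ * (t * s * t * s⁻¹) ∈ Us H.toC0

variable (H : Ctx E w Qh Γ)

theorem tot_exists {s : X} (hs : s ∈ H.S0) : ∃ m ∈ E.Q, Tot H s m := by
  obtain ⟨n, hn, q, hq, c, hc, m, hm, hov, rfl⟩ := H.S0_form hs
  exact ⟨m, hm, H.tot_S0 hn hq hm hov⟩

theorem tot_mul {x y m m' : X} (hx : x ∈ H.S0) (hm' : m' ∈ E.Q) (h : Tot H x m) (h' : Tot H y m') :
    Tot H (x * y) (m * m') := by
  have h1 := H.comm_S0_Q hx hm'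
  have e : (m * m')⁻¹ * (t * (x * y) * t * (x * y)⁻¹) =
      (m'⁻¹ * (m⁻¹ * (t * x * t * x⁻¹)) * m') * (m'⁻¹ * (x * m' * x⁻¹)) *
      (x * (m'⁻¹ * (t * y * t * y⁻¹)) * x⁻¹) := by
    calc (m * m')⁻¹ * (t * (x * y) * t * (x * y)⁻¹) = (m * m')⁻¹ * (t * x * 1 * y * t * (x * y)⁻¹) := by group
      _ = (m * m')⁻¹ * (t * x * (t * t) * y * t * (x * y)⁻¹) := by rw [E.t_sq]
      _ = _ := by group
  change (m * m')⁻¹ * (t * (x * y) * t * (x * y)⁻¹) ∈ Us H.toC0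
  rw [e]
  exact mul_mem (mul_mem (H.q_Us hm' h) h1) (H.S0_Us hx h')

theorem tot_unique {x m m' : X} (hm : m ∈ E.Q) (hm' : m' ∈ E.Q) (h : Tot H x m) (h' : Tot H x m') : m⁻¹ * m' ∈ E.U := by
  have h1 : m⁻¹ * m' ∈ E.Q := mul_mem (inv_mem hm) hm'
  refine H.Q_Us_U h1 ?_
  have := mul_mem h (inv_mem h')
  have e : m⁻¹ * (t * x * t * x⁻¹) * (m'⁻¹ * (t * x * t * x⁻¹))⁻¹ = m⁻¹ * m' := by group
  rwa [e] at this

theorem tot_Us {n : X} (hn : n ∈ Us H.toC0) : Tot H n 1 := by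
  have := mul_mem (H.t_Us hn) (inv_mem hn)
  show 1⁻¹ * (t * n * t * n⁻¹) ∈ Us H.toC0
  rwa [inv_one, one_mul]

theorem tot_Q {q : X} (hq : q ∈ E.Q) : Tot H q 1 := by
  show 1⁻¹ * (t * q * t * q⁻¹) ∈ Us H.toC0
  have h1 : t * q * t = q := by rw [E.t_A q (E.Q_le hq), mul_assoc, E.t_sq, mul_one]
  rw [h1, mul_inv_cancel, inv_one, mul_one]
  exact one_mem _

theorem tot_form {x m : X} (hx : x ∈ H.S0) (hmU : m ∈ E.U) (h : Tot H x m) : ∃ n ∈ Us H.toC0, ∃ q ∈ E.Q, x = n * q := by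
  obtain ⟨n, hn, q, hq, c, hc, m', hm', hov, rfl⟩ := H.S0_form hx
  have h1 := H.tot_S0 hn hq hm' hov
  have h2 := mul_mem h (inv_mem h1)
  have e : m⁻¹ * (t * (n * q * c) * t * (n * q * c)⁻¹) * (m'⁻¹ * (t * (n * q * c) * t * (n * q * c)⁻¹))⁻¹ =
    m⁻¹ * m' := by group
  rw [e] at h2
  have h3 := mul_mem (H.U_le_Us hmU) h2
  rw [mul_inv_cancel_left] at h3
  have hcU := H.Y_Us hc hm' (H.Q_Us_U hm' h3) hov
  exact ⟨n * (q * c * q⁻¹), mul_mem hn (H.Q_Us hq hcU), q, hq, by group⟩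

theorem Ntl.tot {f : X} {π : Equiv.Perm (Fin 5)} (N : Ntl E w f π) {s m : X} (h : Tot H s m) :
    Tot H (f * s * f⁻¹) (f * m * f⁻¹) := by
  have h1 := N.Us H.toC0 h
  have h2 := N.ft'
  have e : (f * m * f⁻¹)⁻¹ * (t * (f * s * f⁻¹) * t * (f * s * f⁻¹)⁻¹) = f * (m⁻¹ * (t * s * t * s⁻¹)) * f⁻¹ := by
    calc (f * m * f⁻¹)⁻¹ * (t * (f * s * f⁻¹) * t * (f * s * f⁻¹)⁻¹)
        = (f * m * f⁻¹)⁻¹ * ((f * t * f⁻¹) * (f * s * f⁻¹) * (f * t * f⁻¹) * (f * s * f⁻¹)⁻¹) := by rw [h2]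
      _ = _ := by group
  show _ ∈ Big.Us H.toC0
  rw [e]; exact h1

/-! ### the two steps -/

/-- elements of `Q` act on the base line as Klein elements -/
theorem Q_klein (E : Env A t) {m : X} (hm : m ∈ E.Q) : ∃ τ : Equiv.Perm (Fin 5), τ 0 = 0 ∧ τ * τ = 1 ∧ Equiv.Perm.sign τ = 1 ∧
    ∀ i, m * E.r i * m⁻¹ = E.r (τ i) := by
  obtain ⟨u, hu, σ, hσ, rfl⟩ := E.Q_gen m hm
  refine ⟨σ, hσ.1, hσ.2, Equiv.Perm.mem_alternatingGroup.mp σ.2, fun i => ?_⟩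
  calc (u * E.l σ) * E.r i * (u * E.l σ)⁻¹ = u * (E.l σ * E.r i * (E.l σ)⁻¹) * u⁻¹ := by group
    _ = E.r ((σ : Equiv.Perm (Fin 5)) i) := by rw [E.l_r, conj_eq (E.U_r u hu.1 _)]

theorem l_mem_Q (E : Env A t) {τ : Equiv.Perm (Fin 5)} (h0 : τ 0 = 0) (h1 : τ * τ = 1) (h2 : Equiv.Perm.sign τ = 1) :
    E.l ⟨τ, Equiv.Perm.mem_alternatingGroup.mpr h2⟩ ∈ E.Q := E.l_Q _ ⟨h0, h1⟩

/-- elements of `Q` acting trivially on the line are in `U` -/
theorem mem_U_of_fix {m : X} (E : Env A t) (hm : m ∈ E.Q) (h : ∀ i, m * E.r i * m⁻¹ = E.r i) : m ∈ E.U := by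
  obtain ⟨u, hu, σ, hσ, rfl⟩ := E.Q_gen m hm
  have h1 : ∀ i, (σ : Equiv.Perm (Fin 5)) i = i := by
    intro i
    apply E.r_inj
    rw [← h i]
    calc E.r ((σ : Equiv.Perm (Fin 5)) i) = u * E.r ((σ : Equiv.Perm (Fin 5)) i) * u⁻¹ := (conj_eq (E.U_r u hu.1 _)).symm
      _ = (u * E.l σ) * E.r i * (u * E.l σ)⁻¹ := by rw [← E.l_r]; group
  have h3 : σ = 1 := by
    apply Subtype.ext
    apply Equiv.ext
    intro i
    exact h1 i
  rw [h3, map_one, mul_one]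
  exact hu.1

/-- action of `U` on the line -/
theorem U_fix_r (E : Env A t) {m : X} (hm : m ∈ E.U) (i : Fin 5) : m * E.r i * m⁻¹ = E.r i := conj_eq (E.U_r m hm i)

variable {H}

/-- a value `m` of `x` with `f m f⁻¹ m ∈ U` can be killed by conjugation -/
theorem exists_kill {f : X} {π : Equiv.Perm (Fin 5)} (N : Ntl E w f π) (hπ1 : π 1 = 1) (hodd : Equiv.Perm.sign π ≠ 1)
    {m : X} (hm : m ∈ E.Q) (h : f * m * f⁻¹ * m ∈ E.U) : ∃ l ∈ E.Q, f⁻¹ * l * f * m * l⁻¹ ∈ E.U := by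
  obtain ⟨τ, h0, h1, h2, h3⟩ := Q_klein E hm
  have hf' : ∀ i, f⁻¹ * E.r i * f = E.r (π⁻¹ i) := by
    intro i
    have := N.inv.r i
    rwa [inv_inv] at this
  have hττ : ∀ i, τ (τ i) = i := fun i => by rw [← Equiv.Perm.mul_apply, h1, Equiv.Perm.one_apply]
  have hcomm : π * τ * π⁻¹ * τ = 1 := by
    apply Equiv.ext
    intro i
    apply E.r_inj
    have h4 := U_fix_r E h i
    rw [Equiv.Perm.one_apply, ← h4]
    simp only [Equiv.Perm.mul_apply]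
    calc E.r (π (τ (π⁻¹ (τ i)))) = f * (m * (f⁻¹ * (m * E.r i * m⁻¹) * f) * m⁻¹) * f⁻¹ := by
          rw [h3, hf', h3, N.r]
      _ = _ := by group
  obtain ⟨τ₁, k0, k1, k2, k3⟩ := dec_step π N.zero hπ1 hodd τ h0 h1 h2 hcomm
  have hl := l_mem_Q E k0 k1 k2
  refine ⟨_, hl, ?_⟩
  have hfl : f⁻¹ * E.l ⟨τ₁, Equiv.Perm.mem_alternatingGroup.mpr k2⟩ * f ∈ E.Q := by
    have := N.inv.Q hl
    rwa [inv_inv] at this
  apply mem_U_of_fix E (mul_mem (mul_mem hfl hm) (inv_mem hl))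
  intro i
  have e1 : (E.l ⟨τ₁, Equiv.Perm.mem_alternatingGroup.mpr k2⟩)⁻¹ * E.r i * E.l ⟨τ₁, Equiv.Perm.mem_alternatingGroup.mpr k2⟩ =
      E.r (τ₁ i) := by
    have h5 := E.l_r (⟨τ₁, Equiv.Perm.mem_alternatingGroup.mpr k2⟩)⁻¹ i
    rw [map_inv, inv_inv] at h5
    rw [h5]
    congr 1
    show (τ₁⁻¹) i = τ₁ i
    rw [Equiv.Perm.inv_eq_iff_eq, ← Equiv.Perm.mul_apply, k1, Equiv.Perm.one_apply]
  have e2 : ∀ j, E.l ⟨τ₁, Equiv.Perm.mem_alternatingGroup.mpr k2⟩ * E.r j *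
      (E.l ⟨τ₁, Equiv.Perm.mem_alternatingGroup.mpr k2⟩)⁻¹ = E.r (τ₁ j) := fun j => E.l_r _ j
  generalize E.l ⟨τ₁, Equiv.Perm.mem_alternatingGroup.mpr k2⟩ = l at e1 e2 ⊢
  have e3 := congrArg (fun p : Equiv.Perm (Fin 5) => p i) k3
  simp only [Equiv.Perm.mul_apply, Equiv.Perm.one_apply] at e3
  calc f⁻¹ * l * f * m * l⁻¹ * E.r i * (f⁻¹ * l * f * m * l⁻¹)⁻¹
      = f⁻¹ * (l * (f * (m * (l⁻¹ * E.r i * l) * m⁻¹) * f⁻¹) * l⁻¹) * f := by group
    _ = E.r (π⁻¹ (τ₁ (π (τ (τ₁ i))))) := by rw [e1, h3, N.r, e2, hf']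
    _ = E.r i := by rw [e3]

/-- `x = f s`, `x² ∈ U*`: `s` becomes an element of `U*` after conjugation by an element of `S₀`. -/
theorem exists_conj_f (H : Ctx E w Qh Γ) {f : X} {π : Equiv.Perm (Fin 5)} (N : Ntl E w f π) (hπ1 : π 1 = 1) (hodd : Equiv.Perm.sign π ≠ 1)
    (hff : f * f ∈ E.U) {s : X} (hs : s ∈ H.S0) (hx : f * s * (f * s) ∈ Us H.toC0) :
    ∃ y ∈ H.S0, ∃ n ∈ Us H.toC0, y * (f * s) * y⁻¹ = f * n := by
  -- general step
  have hffU := H.U_le_Us hff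
  have key : ∀ s ∈ H.S0, f * s * (f * s) ∈ Us H.toC0 → (f * s * f⁻¹) * s ∈ Us H.toC0 := by
    intro s hs hx
    have h1 := H.S0_Us (inv_mem hs) hffU
    rw [inv_inv] at h1
    have e : f * s * f⁻¹ * s = (f * s * (f * s)) * (s⁻¹ * (f * f) * s)⁻¹ := by group
    rw [e]; exact mul_mem hx (inv_mem h1)
  have hinv : ∀ s ∈ H.S0, f⁻¹ * s * f ∈ H.S0 := by
    intro s hs
    have := N.inv.S0 H hs
    rwa [inv_inv] at this
  -- first step
  obtain ⟨m, hm, htot⟩ := tot_exists H hs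
  have h1 := key s hs hx
  have h2 := tot_mul H (N.S0 H hs) hm (N.tot H htot) htot
  have h3 := tot_unique H (one_mem _) (mul_mem (N.Q hm) hm) (tot_Us H h1) h2
  rw [inv_one, one_mul] at h3
  obtain ⟨l, hl, hlU⟩ := exists_kill N hπ1 hodd hm h3
  obtain ⟨c, hc, hov⟩ := H.exists_ov' hl
  have hcS := H.Γ_le_S0 hc
  have htc : Tot H c l := by
    have := H.tot_S0 (one_mem _) (one_mem _) hl hov
    rwa [one_mul, one_mul] at this
  have htc' : Tot H c⁻¹ l⁻¹ := by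
    have h4 := H.tot_S0 (one_mem _) (one_mem _) (inv_mem hl) (H.ov_inv hc hl hov)
    rwa [one_mul, one_mul] at h4
  have hfl : f⁻¹ * l * f ∈ E.Q := by
    have := N.inv.Q hl
    rwa [inv_inv] at this
  have htfc : Tot H (f⁻¹ * c * f) (f⁻¹ * l * f) := by
    have := N.inv.tot H htc
    rwa [inv_inv] at this
  have hs1 : f⁻¹ * c * f * s * c⁻¹ ∈ H.S0 := mul_mem (mul_mem (hinv c hcS) hs) (inv_mem hcS)
  have ht1 := tot_mul H (mul_mem (hinv c hcS) hs) (inv_mem hl) (tot_mul H (hinv c hcS) hm htfc htot) htc'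
  obtain ⟨n, hn, q, hq, hnq⟩ := tot_form H hs1 hlU ht1
  -- second step
  have e1 : c * (f * s) * c⁻¹ = f * (n * q) := by
    rw [← hnq]; group
  have hsq1 : f * (n * q) * (f * (n * q)) ∈ Us H.toC0 := by
    rw [← e1]
    have e : c * (f * s) * c⁻¹ * (c * (f * s) * c⁻¹) = c * (f * s * (f * s)) * c⁻¹ := by group
    rw [e]; exact H.S0_Us hcS hx
  have hqS := H.Q_le_S0 hq
  have hnS := H.Us_le_S0 hn
  have h5 := key (n * q) (mul_mem hnS hqS) hsq1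
  have h6 : f * q * f⁻¹ * q ∈ Us H.toC0 := by
    have e : f * q * f⁻¹ * q = (f * n * f⁻¹)⁻¹ * (f * (n * q) * f⁻¹ * (n * q)) * (q⁻¹ * n * q)⁻¹ := by group
    rw [e]
    exact mul_mem (mul_mem (inv_mem (N.Us H.toC0 hn)) h5) (inv_mem (H.q_Us hq hn))
  have h7 := H.Q_Us_U (mul_mem (N.Q hq) hq) h6
  obtain ⟨k, hk, hkU⟩ := exists_kill N hπ1 hodd hq h7
  have hkS := H.Q_le_S0 hk
  refine ⟨k * c, mul_mem hkS hcS, (f⁻¹ * k * f) * n * (f⁻¹ * k * f)⁻¹ * (f⁻¹ * k * f * q * k⁻¹),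
    mul_mem (H.S0_Us (hinv k hkS) hn) (H.U_le_Us hkU), ?_⟩
  calc k * c * (f * s) * (k * c)⁻¹ = k * (c * (f * s) * c⁻¹) * k⁻¹ := by group
    _ = _ := by rw [e1]; group

/-- **`|C_{V*}(x)| ≥ 2⁶`.** -/
theorem exists_big (H : Ctx E w Qh Γ) {f : X} {π : Equiv.Perm (Fin 5)} (N : Ntl E w f π) (hπ1 : π 1 = 1) (hodd : Equiv.Perm.sign π ≠ 1)
    (hff : f * f ∈ E.U) {s : X} (hs : s ∈ H.S0) (hx : f * s * (f * s) ∈ Us H.toC0) :
    ∃ B ≤ Vs E w, 64 ≤ Nat.card B ∧ ∀ v ∈ B, (f * s) * v = v * (f * s) := by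
  obtain ⟨y, hy, n, hn, hyx⟩ := exists_conj_f H N hπ1 hodd hff hs hx
  obtain ⟨a, b, hab, ha, hb, hfix⟩ := dec_swap π N.zero hπ1 hodd
  have hC := H.toC0
  -- the commutator map on `V*`
  let κ : ↥(Vs E w) →* ↥(Vs E w) :=
    { toFun := fun v => ⟨f * v * f⁻¹ * (v : X)⁻¹, mul_mem (N.Vs hC v.2) (inv_mem v.2)⟩
      map_one' := Subtype.ext (by show f * 1 * f⁻¹ * 1⁻¹ = 1; group)
      map_mul' := by
        intro v v'
        apply Subtype.ext
        show f * ((v : X) * v') * f⁻¹ * ((v : X) * v')⁻¹ = f * v * f⁻¹ * (v : X)⁻¹ * (f * v' * f⁻¹ * (v' : X)⁻¹)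
        have h1 := hC.Vs_comm (mul_mem (N.Vs hC v'.2) (inv_mem v'.2)) (inv_mem v.2)
        calc f * ((v : X) * v') * f⁻¹ * ((v : X) * v')⁻¹ = (f * v * f⁻¹) * ((f * v' * f⁻¹ * (v' : X)⁻¹) * (v : X)⁻¹) := by group
          _ = f * v * f⁻¹ * (v : X)⁻¹ * (f * v' * f⁻¹ * (v' : X)⁻¹) := by rw [h1]; group }
  have hκ : ∀ v : ↥(Vs E w), ((κ v : ↥(Vs E w)) : X) = f * v * f⁻¹ * (v : X)⁻¹ := fun v => rfl
  -- the image
  set K : Subgroup X := closure {E.r a * E.r b, w (E.r a) * w (E.r b)} with hK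
  have hr : ∀ i, (E.r i)⁻¹ = E.r i := fun i => inv_eq_of_mul_eq_one_right (E.r_sq i)
  have hKc : Nat.card K ≤ 4 := by
    apply card_closure_pair_le
    · exact hC.Vs_sq (mul_mem (r_Vs a) (r_Vs b))
    · exact hC.Vs_sq (mul_mem (W_Vs a) (W_Vs b))
    · exact hC.Vs_comm (mul_mem (r_Vs a) (r_Vs b)) (mul_mem (W_Vs a) (W_Vs b))
  have hKV : K ≤ Vs E w := by
    rw [hK, closure_le]
    rintro x (rfl | rfl)
    · exact mul_mem (r_Vs a) (r_Vs b)
    · exact mul_mem (W_Vs a) (W_Vs b)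
  have him : ∀ v : ↥(Vs E w), ((κ v : ↥(Vs E w)) : X) ∈ K := by
    have hle : (⊤ : Subgroup ↥(Vs E w)) ≤ (K.subgroupOf (Vs E w)).comap κ := by
      have htop : (⊤ : Subgroup ↥(Vs E w)) = closure ((Subtype.val : ↥(Vs E w) → X) ⁻¹' (Set.range E.r ∪ Set.range (fun i => w (E.r i)))) := by
        rw [Big.Vs]
        exact (closure_closure_coe_preimage (k := Set.range E.r ∪ Set.range (fun i => w (E.r i)))).symm
      rw [htop, closure_le]
      rintro ⟨v, hv⟩ (⟨i, hi⟩ | ⟨i, hi⟩)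
      · show f * v * f⁻¹ * v⁻¹ ∈ K
        have hi : E.r i = v := hi
        rw [← hi, N.r]
        by_cases h1 : i = a
        · rw [h1, ha, hr, E.r_comm b a]; exact subset_closure (Or.inl rfl)
        · by_cases h2 : i = b
          · rw [h2, hb, hr]; exact subset_closure (Or.inl rfl)
          · rw [hfix i h1 h2, mul_inv_cancel]; exact one_mem _
      · show f * v * f⁻¹ * v⁻¹ ∈ K
        have hi : w (E.r i) = v := hi
        rw [← hi, N.W hC]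
        by_cases h1 : i = a
        · rw [h1, ha, hC.W_inv, hC.zero.comm b a]; exact subset_closure (Or.inr rfl)
        · by_cases h2 : i = b
          · rw [h2, hb, hC.W_inv]; exact subset_closure (Or.inr rfl)
          · rw [hfix i h1 h2, mul_inv_cancel]; exact one_mem _
    intro v
    exact hle (mem_top v)
  have hrange : Nat.card κ.range ≤ 4 := by
    have : Finite K := by
      have : Finite ↥(Vs E w) := Nat.finite_of_card_ne_zero (by rw [card_Vs hC]; norm_num)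
      exact Set.Finite.subset (Set.toFinite (Vs E w : Set X)) hKV
    have h1 : Nat.card (κ.range.map (Vs E w).subtype) ≤ Nat.card K := by
      apply Subgroup.card_le_of_le
      rintro _ ⟨x, ⟨v, rfl⟩, rfl⟩
      exact him v
    have h2 : Nat.card (κ.range.map (Vs E w).subtype) = Nat.card κ.range :=
      (Nat.card_congr (κ.range.equivMapOfInjective _ (Vs E w).subtype_injective).toEquiv).symm
    omega
  have hker : 64 ≤ Nat.card κ.ker := by
    have h1 : Nat.card κ.range * Nat.card κ.ker = 2 ^ 8 := by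
      have h2 := Subgroup.card_eq_card_quotient_mul_card_subgroup κ.ker
      rw [card_Vs hC] at h2
      rw [h2, Nat.card_congr (QuotientGroup.quotientKerEquivRange κ).toEquiv]
    by_contra hlt
    push Not at hlt
    have h2 : Nat.card κ.range * Nat.card κ.ker ≤ 4 * 63 := Nat.mul_le_mul hrange (by omega)
    omega
  -- the subgroup
  have hyV : ∀ v ∈ Vs E w, y⁻¹ * v * y ∈ Vs E w := by
    intro v hv
    have := H.S0_Vs (inv_mem hy) hv
    rwa [inv_inv] at this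
  refine ⟨(κ.ker.map (Vs E w).subtype).map (MulAut.conj y⁻¹).toMonoidHom, ?_, ?_, ?_⟩
  · rintro _ ⟨_, ⟨v, hv, rfl⟩, rfl⟩
    show y⁻¹ * (v : X) * y⁻¹⁻¹ ∈ Vs E w
    rw [inv_inv]
    exact hyV _ v.2
  · rw [← Nat.card_congr ((κ.ker.map (Vs E w).subtype).equivMapOfInjective _ (MulAut.conj y⁻¹).injective).toEquiv,
      ← Nat.card_congr (κ.ker.equivMapOfInjective _ (Vs E w).subtype_injective).toEquiv]
    exact hker
  · rintro _ ⟨_, ⟨v, hv, rfl⟩, rfl⟩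
    show f * s * (y⁻¹ * (v : X) * y⁻¹⁻¹) = y⁻¹ * (v : X) * y⁻¹⁻¹ * (f * s)
    have h1 : f * v = v * f := by
      have h2 : κ v = 1 := hv
      have h3 : f * v * f⁻¹ * (v : X)⁻¹ = 1 := by rw [← hκ, h2]; rfl
      rw [mul_inv_eq_one, mul_inv_eq_iff_eq_mul] at h3
      exact h3
    have h4 : n * v = v * n := hn.1.cent v v.2
    have h5 : f * s = y⁻¹ * (f * n) * y := by rw [← hyx]; group
    rw [h5, inv_inv]
    calc y⁻¹ * (f * n) * y * (y⁻¹ * (v : X) * y) = y⁻¹ * (f * (n * v)) * y := by group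
      _ = y⁻¹ * (f * v) * n * y := by rw [h4]; group
      _ = y⁻¹ * (v : X) * y * (y⁻¹ * (f * n) * y) := by rw [h1]; group

end Cfsg.Agent.UFiveTwo.Field
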