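import Cfsg.Agent.StdEven.StepFour
import Cfsg.Agent.UFiveTwo.Line

/-!
# S1778, type `U₅(2)`: fusion of `t` (sections 1 and 2)

`GF A S r`: the facts on `A` and `N(A)` used in this file (`A / Z(A) ≅ PSU₅(2)`, `|Z(A)|` odd); `r i` are the five
transvections of a line, `V = ⟨r i⟩`, `S` the Sylow 2-subgroup of `A` fixing a flag.
-/

set_option autoImplicit false
set_option linter.unusedSectionVars false

namespace Cfsg.Agent.UFiveTwo.Fus

open Cfsg Subgroup Cfsg.Agent.SignalizersComponents Cfsg.Agent.StdEven.Syl Cfsg.Agent.StdEven.Loc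
open Cfsg.Agent.StdEven.Perf Cfsg.Agent.StdEven.Avg Cfsg.Agent.StdEven.StepFour Cfsg.Agent.StdL2.Setup
open Cfsg.Agent.Schreier.Basic Cfsg.Agent.UFiveTwo.Line

variable {G : Type*} [Group G]

/-- `x` induces an inner automorphism of `A`. -/
def Inner (A : Subgroup G) (x : G) : Prop := ∃ a ∈ A, a⁻¹ * x ∈ centralizer (A : Set G)

/-- The facts on `A`, `S`, `r` in `G`. -/
structure GF (A S : Subgroup G) (r : Fin 5 → G) : Prop where
  r_A : ∀ i, r i ∈ A
  r_S : ∀ i, r i ∈ S
  sq : ∀ i, r i * r i = 1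
  comm : ∀ i j, r i * r j = r j * r i
  prod : r 0 * r 1 * r 2 * r 3 * r 4 = 1
  ne : r 0 ≠ 1
  alt : ∀ σ : Equiv.Perm (Fin 5), Equiv.Perm.sign σ = 1 → ∃ a ∈ A, ∀ i, a * r i * a⁻¹ = r (σ i)
  syl : IsSyl S A
  elem : ∀ E ≤ S, (∀ x ∈ E, x * x = 1) → 16 ≤ Nat.card E → E ≤ closure (Set.range r)
  into : ∀ x ∈ A, x * x = 1 → ∃ a ∈ A, a * x * a⁻¹ ∈ closure (Set.range r)
  U_sq : ∀ u ∈ S, (∀ i, u * r i = r i * u) → u * u = 1 ∨ ∃ i, u * u = r i
  U_one : ∀ u ∈ S, (∀ i, u * r i = r i * u) → u * u = 1 → u ∈ closure (Set.range r)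
  U_ex : ∀ i, ∃ u ∈ S, (∀ j, u * r j = r j * u) ∧ u * u = r i
  U_cen : ∀ u ∈ S, (∀ i, u * r i = r i * u) → (∀ u' ∈ S, (∀ i, u' * r i = r i * u') → u * u' = u' * u) →
    u ∈ closure (Set.range r)
  U_card : ∃ U ≤ S, (∀ u ∈ U, ∀ i, u * r i = r i * u) ∧ 2 ^ 8 ≤ Nat.card U
  inn : ∀ x ∈ normalizer (A : Set G), (∀ i, x * r i = r i * x) → Inner A x
  outB : ∀ f ∈ normalizer (A : Set G), f * f = 1 → ¬ Inner A f →
    ∃ B : Subgroup G, ⁅B, B⁆ = B ∧ (∀ x ∈ B, x * f = f * x) ∧
      B ≤ closure {x | x ∈ B ∧ ∃ k : ℕ, x ^ 2 ^ k = 1} ∧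
      ∃ w ∈ B, w * w = 1 ∧ w ≠ 1 ∧ ∃ c : G, c * f * c⁻¹ = f * w
  outC : ∀ f ∈ normalizer (A : Set G), f * f = 1 → ¬ Inner A f → ∀ X : Subgroup G, IsPGroup 2 X →
    X ≤ normalizer (A : Set G) → (∀ x ∈ X, x * f = f * x) →
    Nat.card X ≤ 32 * Nat.card ↥(X ⊓ centralizer (A : Set G))

namespace GF

variable {A S : Subgroup G} {r : Fin 5 → G} (F : GF A S r)
include F

theorem r5 : R5 r := ⟨F.sq, F.comm, F.prod, F.ne, fun σ hσ => by
  obtain ⟨a, -, ha⟩ := F.alt σ hσ
  exact ⟨a, ha⟩⟩

theorem V_le_A : closure (Set.range r) ≤ A := by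
  rw [closure_le]; rintro _ ⟨i, rfl⟩; exact F.r_A i

theorem V_le_S : closure (Set.range r) ≤ S := by
  rw [closure_le]; rintro _ ⟨i, rfl⟩; exact F.r_S i

end GF

/-- `E₀ = ⟨t⟩ V`. -/
def E0 (t : G) (r : Fin 5 → G) : Subgroup G := zpowers t ⊔ closure (Set.range r)

theorem mem_E0 {t : G} {r : Fin 5 → G} (htt : t * t = 1) (ht : ∀ i, t * r i = r i * t) {x : G} :
    x ∈ E0 t r ↔ x ∈ closure (Set.range r) ∨ t * x ∈ closure (Set.range r) := by
  have hc : ∀ v ∈ closure (Set.range r), t * v = v * t := fun v hv => R5.comm_of_forall ht hv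
  let Y : Subgroup G :=
    { carrier := {x | x ∈ closure (Set.range r) ∨ t * x ∈ closure (Set.range r)}
      mul_mem' := by
        rintro a b (ha | ha) (hb | hb)
        · exact Or.inl (mul_mem ha hb)
        · right
          have : t * (a * b) = a * (t * b) := by rw [← mul_assoc, hc a ha, mul_assoc]
          rw [this]; exact mul_mem ha hb
        · right
          rw [← mul_assoc]; exact mul_mem ha hb
        · left
          have h1 : a = t * (t * a) := by rw [← mul_assoc, htt, one_mul]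
          have : a * b = (t * a) * (t * b) := by
            calc a * b = t * (t * a) * b := by rw [← h1]
              _ = (t * a) * t * b := by rw [hc _ ha]
              _ = (t * a) * (t * b) := by group
          rw [this]; exact mul_mem ha hb
      one_mem' := Or.inl (one_mem _)
      inv_mem' := by
        rintro a (ha | ha)
        · exact Or.inl (inv_mem ha)
        · right
          have h1 : t * a⁻¹ = (t * a)⁻¹ := by
            have h2 : a = t * (t * a) := by rw [← mul_assoc, htt, one_mul]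
            have h3 : t⁻¹ = t := inv_eq_of_mul_eq_one_left htt
            have h4 : a * t = t * a := by
              calc a * t = t * (t * a) * t := by rw [← h2]
                _ = t * (t * (t * a)) := by rw [mul_assoc, ← hc _ ha]
                _ = t * a := by rw [← h2]
            calc t * a⁻¹ = (a * t⁻¹)⁻¹ := by group
              _ = (t * a)⁻¹ := by rw [h3, h4]
          rw [h1]; exact inv_mem ha }
  have h1 : E0 t r ≤ Y := by
    apply sup_le
    · rw [zpowers_le]
      right
      rw [htt]; exact one_mem _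
    · exact fun v hv => Or.inl hv
  constructor
  · exact fun hx => h1 hx
  · rintro (hx | hx)
    · exact (le_sup_right : closure (Set.range r) ≤ E0 t r) hx
    · have h2 : x = t * (t * x) := by rw [← mul_assoc, htt, one_mul]
      rw [h2]
      exact mul_mem ((le_sup_left : zpowers t ≤ E0 t r) (mem_zpowers t))
        ((le_sup_right : closure (Set.range r) ≤ E0 t r) hx)

theorem t_mem_E0 (t : G) (r : Fin 5 → G) : t ∈ E0 t r := (le_sup_left : zpowers t ≤ E0 t r) (mem_zpowers t)

theorem V_le_E0 (t : G) (r : Fin 5 → G) : closure (Set.range r) ≤ E0 t r := le_sup_right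

theorem r_mem_E0 (t : G) (r : Fin 5 → G) (i : Fin 5) : r i ∈ E0 t r := V_le_E0 t r (subset_closure ⟨i, rfl⟩)

/-- commuting with `E₀` -/
theorem comm_E0 {t : G} {r : Fin 5 → G} {x : G} (hxt : x * t = t * x) (hx : ∀ i, x * r i = r i * x) {y : G}
    (hy : y ∈ E0 t r) : x * y = y * x := by
  have h1 : E0 t r ≤ centralizer {x} := by
    apply sup_le
    · rw [zpowers_le, mem_centralizer_singleton_iff]; exact hxt.symm
    · rw [closure_le]
      rintro _ ⟨i, rfl⟩
      rw [SetLike.mem_coe, mem_centralizer_singleton_iff]; exact (hx i).symm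
  have h2 := h1 hy
  rw [mem_centralizer_singleton_iff] at h2
  exact h2.symm

section Main

variable [Finite G] {L A S T : Subgroup G} {t : G} {r : Fin 5 → G}

/-- `T` can be chosen with `T ⊓ A = S`. -/
theorem exists_T (C : Conf L A t) (hS : IsSyl S A) : ∃ T, IsT A t T ∧ T ⊓ A = S := by
  obtain ⟨T0, hT0⟩ := exists_isT C.std C.ht C.htA C.cyc
  obtain ⟨a, ha, hc⟩ := hT0.sylA.exists_conj hS.two hS.le
  have hta : ∀ b ∈ A, b * t = t * b := fun b hb => (comm_of_centralizer C.htA hb).symm
  refine ⟨T0.map (MulAut.conj a⁻¹).toMonoidHom, ⟨?_, ?_, ?_, ?_⟩, ?_⟩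
  · have h1 : a⁻¹ ∈ normalizer (normalizer (A : Set G) : Set G) := le_normalizer (le_normalizer (inv_mem ha))
    exact hT0.syl.conj h1
  · rw [mem_map_conj, inv_inv]
    have : a * t * a⁻¹ = t := by rw [hta a ha]; group
    rw [this]; exact hT0.mem
  · intro x hx
    rw [mem_map_conj, inv_inv] at hx
    have h1 := hT0.cent _ hx
    have h2 := hta a ha
    have h3 : a⁻¹ * t = t * a⁻¹ := hta _ (inv_mem ha)
    calc x * t = a⁻¹ * (a * x * a⁻¹) * (a * t) := by group
      _ = a⁻¹ * (a * x * a⁻¹ * t) * a := by rw [h2]; group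
      _ = a⁻¹ * t * (a * x * a⁻¹) * a := by rw [h1]; group
      _ = t * x := by rw [h3]; group
  · intro x hx hxK hxx
    rw [mem_map_conj, inv_inv] at hx
    have h1 : a * x * a⁻¹ = x := by
      rw [← comm_of_centralizer hxK ha]; group
    rw [h1] at hx
    exact hT0.uniq x hx hxK hxx
  · have h1 : S ≤ T0.map (MulAut.conj a⁻¹).toMonoidHom ⊓ A := by
      intro x hx
      refine mem_inf.mpr ⟨?_, hS.le hx⟩
      rw [mem_map_conj, inv_inv]
      exact (hc x hx).1
    exact hS.max _ (IsPGroup.to_le (isPGroup_map hT0.syl.two a⁻¹) inf_le_left) inf_le_right h1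

variable (C : Conf L A t) (hZ : Odd (Nat.card (center ↥A))) (F : GF A S r) (hT : IsT A t T) (hTS : T ⊓ A = S)
include C hZ F hT hTS

theorem t_r (i : Fin 5) : t * r i = r i * t := comm_of_centralizer C.htA (F.r_A i)

theorem V_le_T : closure (Set.range r) ≤ T := F.V_le_S.trans (hTS ▸ inf_le_left)

theorem t_notMem_A : t ∉ A := fun h => t_ne C.ht (hT.eq_one_of_mem hZ hT.mem h C.htA)

theorem mem_E0' {x : G} : x ∈ E0 t r ↔ x ∈ closure (Set.range r) ∨ t * x ∈ closure (Set.range r) :=
  mem_E0 (tt C.ht) (t_r C hZ F hT hTS)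

theorem E0_le_T : E0 t r ≤ T := sup_le (by rw [zpowers_le]; exact hT.mem) (V_le_T C hZ F hT hTS)

theorem E0_inf_A {x : G} (hx : x ∈ E0 t r) (hxA : x ∈ A) : x ∈ closure (Set.range r) := by
  rcases (mem_E0' C hZ F hT hTS).mp hx with h1 | h1
  · exact h1
  · exfalso
    apply t_notMem_A C hZ F hT hTS
    have h2 : t = (t * x) * x⁻¹ := by group
    rw [h2]; exact mul_mem (F.V_le_A h1) (inv_mem hxA)

theorem E0_sq {x : G} (hx : x ∈ E0 t r) : x * x = 1 := by
  rcases (mem_E0' C hZ F hT hTS).mp hx with h1 | h1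
  · exact F.r5.sq_mem h1
  · have h2 : x = t * (t * x) := by rw [← mul_assoc, tt C.ht, one_mul]
    have h3 : t * (t * x) = (t * x) * t := R5.comm_of_forall (t_r C hZ F hT hTS) h1
    calc x * x = t * (t * x) * (t * (t * x)) := by rw [← h2]
      _ = t * ((t * x) * t) * (t * x) := by group
      _ = t * (t * (t * x)) * (t * x) := by rw [h3]
      _ = (t * t) * ((t * x) * (t * x)) := by group
      _ = 1 := by rw [tt C.ht, F.r5.sq_mem h1, one_mul]

omit C hZ F hT hTS in
/-- a subgroup of index at most 2 -/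
theorem card_le_two_mul {E K : Subgroup G} {t : G} (hE : ∀ x ∈ E, x ∈ K ∨ t * x ∈ K) :
    Nat.card E ≤ 2 * Nat.card K := by
  classical
  let f : E → Bool × K := fun x =>
    if h : (x : G) ∈ K then (true, ⟨x, h⟩) else (false, ⟨t * x, (hE x x.2).resolve_left h⟩)
  have hf : Function.Injective f := by
    intro x y hxy
    by_cases hx : (x : G) ∈ K <;> by_cases hy : (y : G) ∈ K
    · simp only [f, hx, hy, dif_pos, Prod.mk.injEq, true_and, Subtype.mk.injEq] at hxy
      exact Subtype.ext hxy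
    · simp only [f, hx, hy, dif_pos, dif_neg, not_false_eq_true, Prod.mk.injEq] at hxy
      exact absurd hxy.1 (by decide)
    · simp only [f, hx, hy, dif_pos, dif_neg, not_false_eq_true, Prod.mk.injEq] at hxy
      exact absurd hxy.1 (by decide)
    · simp only [f, hx, hy, dif_neg, not_false_eq_true, Prod.mk.injEq, true_and, Subtype.mk.injEq] at hxy
      exact Subtype.ext (mul_left_cancel hxy)
  have h1 := Nat.card_le_card_of_injective f hf
  rw [Nat.card_prod, Nat.card_eq_fintype_card (α := Bool), Fintype.card_bool] at h1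
  exact h1

theorem card_E0 : 32 ≤ Nat.card ↥(E0 t r) := by
  let f : Bool × ↥(closure (Set.range r)) → E0 t r := fun p =>
    if p.1 then ⟨p.2, V_le_E0 t r p.2.2⟩ else ⟨t * p.2, mul_mem (t_mem_E0 t r) (V_le_E0 t r p.2.2)⟩
  have hf : Function.Injective f := by
    have key : ∀ v ∈ closure (Set.range r), ∀ w ∈ closure (Set.range r), v = t * w → False := by
      intro v hv w hw he
      apply t_notMem_A C hZ F hT hTS
      have : t = v * w⁻¹ := by rw [he]; group
      rw [this]; exact F.V_le_A (mul_mem hv (inv_mem hw))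
    rintro ⟨b, v⟩ ⟨c, w⟩ h
    have h := congrArg Subtype.val h
    match b, c, h with
    | true, true, h => exact Prod.ext rfl (Subtype.ext h)
    | true, false, h => exact (key v v.2 w w.2 h).elim
    | false, true, h => exact (key w w.2 v v.2 h.symm).elim
    | false, false, h => exact Prod.ext rfl (Subtype.ext (mul_left_cancel h))
  have h1 := Nat.card_le_card_of_injective f hf
  rw [Nat.card_prod, Nat.card_eq_fintype_card (α := Bool), Fintype.card_bool, F.r5.card_closure] at h1
  exact h1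

/-- elements of `T` inducing inner automorphisms -/
theorem dec {x : G} (hx : x ∈ T) (hxi : Inner A x) :
    ∃ u ∈ S, ∃ k ∈ T, k ∈ centralizer (A : Set G) ∧ x = u * k := by
  obtain ⟨a, ha, hax⟩ := hxi
  obtain ⟨u, hu, huA, k, hk, hkK, he⟩ := hT.exists_of_inner hx ha hax
  exact ⟨u, by rw [← hTS]; exact mem_inf.mpr ⟨hu, huA⟩, k, hk, hkK, he⟩

/-- the same for involutions -/
theorem dec_invol {x : G} (hx : x ∈ T) (hxi : Inner A x) (hxx : x * x = 1) :
    ∃ u ∈ S, u * u = 1 ∧ (x = u ∨ x = t * u) := by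
  obtain ⟨u, hu, k, hk, hkK, rfl⟩ := dec C hZ F hT hTS hx hxi
  have huA : u ∈ A := F.syl.le hu
  have hku : k * u = u * k := comm_of_centralizer hkK huA
  have h1 : (u * u) * (k * k) = 1 := by
    rw [← hxx]
    calc u * u * (k * k) = u * (u * k) * k := by group
      _ = u * (k * u) * k := by rw [hku]
      _ = u * k * (u * k) := by group
  have huT : u ∈ T := by rw [← hTS] at hu; exact hu.1
  have h2 : u * u = 1 := by
    apply hT.eq_one_of_mem hZ (mul_mem huT huT) (mul_mem huA huA)
    rw [eq_inv_of_mul_eq_one_left h1]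
    exact inv_mem (mul_mem hkK hkK)
  rw [h2, one_mul] at h1
  rcases hT.uniq k hk hkK h1 with h | h
  · exact ⟨u, hu, h2, Or.inl (by rw [h, mul_one])⟩
  · exact ⟨u, hu, h2, Or.inr (by rw [← h, hku])⟩

/-- `T` normalises `V`. -/
theorem T_norm_V {s : G} (hs : s ∈ T) {v : G} (hv : v ∈ closure (Set.range r)) :
    s * v * s⁻¹ ∈ closure (Set.range r) := by
  have h1 : (closure (Set.range r)).map (MulAut.conj s).toMonoidHom ≤ closure (Set.range r) := by
    apply F.elem
    · rintro _ ⟨x, hx, rfl⟩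
      rw [← hTS]
      refine mem_inf.mpr ⟨mul_mem (mul_mem hs (V_le_T C hZ F hT hTS hx)) (inv_mem hs), ?_⟩
      exact conj_mem_of_mem_normalizer (hT.norm hs) (F.V_le_A hx)
    · rintro _ ⟨x, hx, rfl⟩
      rw [← map_mul, F.r5.sq_mem hx, map_one]
    · rw [← F.r5.card_closure]
      exact (Nat.card_congr ((closure (Set.range r)).equivMapOfInjective (MulAut.conj s).toMonoidHom
        (MulAut.conj s).injective).toEquiv).le
  exact h1 ⟨v, hv, rfl⟩

theorem T_norm_E0 : T ≤ normalizer (E0 t r : Set G) := by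
  intro s hs
  apply mem_normalizer_of_conj_le
  intro x hx
  rw [mem_E0' C hZ F hT hTS] at hx ⊢
  rcases hx with hx | hx
  · exact Or.inl (T_norm_V C hZ F hT hTS hs hx)
  · right
    have h1 := T_norm_V C hZ F hT hTS hs hx
    have h2 := hT.cent s hs
    have h3 : s * (t * x) * s⁻¹ = t * (s * x * s⁻¹) := by
      calc s * (t * x) * s⁻¹ = (s * t) * x * s⁻¹ := by group
        _ = t * (s * x * s⁻¹) := by rw [h2]; group
    rwa [h3] at h1

/-- `T ∩ C(E₀)` is a Sylow 2-subgroup of `C(E₀)`. -/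
theorem syl_cent_E0 : IsSyl (T ⊓ centralizer (E0 t r : Set G)) (centralizer (E0 t r : Set G)) := by
  have hle : centralizer (E0 t r : Set G) ≤ centralizer ({t} : Set G) := by
    intro x hx
    rw [mem_centralizer_singleton_iff]
    exact comm_of_centralizer hx (t_mem_E0 t r)
  have hle2 : centralizer (E0 t r : Set G) ≤ normalizer (E0 t r : Set G) := fun x hx => by
    apply mem_normalizer_of_conj_le
    intro y hy
    have := comm_of_centralizer hx hy
    rw [this, mul_inv_cancel_right]; exact hy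
  have h1 : IsSyl T (centralizer ({t} : Set G) ⊓ normalizer (E0 t r : Set G)) := by
    apply (hT.syl_cent C.std C.ht C.htA).mono
    · intro x hx
      refine mem_inf.mpr ⟨?_, T_norm_E0 C hZ F hT hTS hx⟩
      rw [mem_centralizer_singleton_iff]; exact hT.cent x hx
    · exact inf_le_left
  apply h1.inf_normal
  · exact le_inf hle hle2
  · exact inf_le_right.trans (normalizer_le_normalizer_centralizer _)

theorem inner_of_cent {x : G} (hxt : x * t = t * x) (hx : ∀ i, x * r i = r i * x) : Inner A x :=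
  F.inn x (mem_normalizer_of_comm C.std C.ht C.htA hxt) hx

/-- Involutions of `C(E₀)` lie in `E₀`. -/
theorem mem_E0_of_sq {x : G} (hx : x ∈ centralizer (E0 t r : Set G)) (hxx : x * x = 1) : x ∈ E0 t r := by
  have hp : IsPGroup 2 (zpowers x) := by
    by_cases h1 : x = 1
    · rw [h1, zpowers_one_eq_bot]; exact IsPGroup.of_bot
    · exact isPGroup_zpowers (orderOf_eq_prime (by rw [pow_two, hxx]) h1)
  obtain ⟨c, hc, hcx⟩ := (syl_cent_E0 C hZ F hT hTS).exists_conj hp (by rw [zpowers_le]; exact hx)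
  obtain ⟨h1, h2⟩ := hcx x (mem_zpowers x)
  have h3 : c * x * c⁻¹ ∈ E0 t r := by
    have h4 : c * x * c⁻¹ * (c * x * c⁻¹) = 1 := by
      calc c * x * c⁻¹ * (c * x * c⁻¹) = c * (x * x) * c⁻¹ := by group
        _ = 1 := by rw [hxx]; group
    have h5 : Inner A (c * x * c⁻¹) := inner_of_cent C hZ F hT hTS
      (comm_of_centralizer h2 (t_mem_E0 t r)) (fun i => comm_of_centralizer h2 (r_mem_E0 t r i))
    obtain ⟨u, hu, huu, hxu⟩ := dec_invol C hZ F hT hTS h1 h5 h4
    have h6 : ∀ i, u * r i = r i * u := by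
      intro i
      have h7 := comm_of_centralizer h2 (r_mem_E0 t r i)
      rcases hxu with h8 | h8
      · rwa [h8] at h7
      · rw [h8] at h7
        have h9 := t_r C hZ F hT hTS i
        apply mul_left_cancel (a := t)
        calc t * (u * r i) = t * u * r i := by group
          _ = r i * (t * u) := h7
          _ = (r i * t) * u := by group
          _ = t * (r i * u) := by rw [← h9]; group
    have h7 := F.U_one u hu h6 huu
    rcases hxu with h8 | h8
    · rw [h8]; exact V_le_E0 t r h7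
    · rw [h8]; exact mul_mem (t_mem_E0 t r) (V_le_E0 t r h7)
  have h4 : x = c⁻¹ * (c * x * c⁻¹) * c := by group
  have h5 := comm_of_centralizer hc h3
  rw [h4]
  have h6 : c⁻¹ * (c * x * c⁻¹) * c = c * x * c⁻¹ := by
    calc c⁻¹ * (c * x * c⁻¹) * c = c⁻¹ * (c * x * c⁻¹ * c) := by group
      _ = c⁻¹ * (c * (c * x * c⁻¹)) := by rw [h5]
      _ = c * x * c⁻¹ := by group
  rw [h6]; exact h3

/-- **Weak closure** of `E₀` in `T`. -/
theorem weak (g : G) (hg : ∀ j ∈ E0 t r, g * j * g⁻¹ ∈ T) : ∀ j ∈ E0 t r, g * j * g⁻¹ ∈ E0 t r := by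
  have htt := tt C.ht
  -- `t ∈ g E₀ g⁻¹`
  have hte : g⁻¹ * t * g ∈ E0 t r := by
    apply mem_E0_of_sq C hZ F hT hTS
    · rw [mem_centralizer_iff]
      intro j hj
      have h1 := hT.cent _ (hg j hj)
      calc j * (g⁻¹ * t * g) = g⁻¹ * (g * j * g⁻¹ * t) * g := by group
        _ = g⁻¹ * (t * (g * j * g⁻¹)) * g := by rw [h1]
        _ = g⁻¹ * t * g * j := by group
    · calc g⁻¹ * t * g * (g⁻¹ * t * g) = g⁻¹ * (t * t) * g := by group
        _ = 1 := by rw [htt]; group
  -- all elements are inner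
  have hinn : ∀ j ∈ E0 t r, Inner A (g * j * g⁻¹) := by
    intro j hj
    by_contra hout
    have hff : g * j * g⁻¹ * (g * j * g⁻¹) = 1 := by
      calc g * j * g⁻¹ * (g * j * g⁻¹) = g * (j * j) * g⁻¹ := by group
        _ = 1 := by rw [E0_sq C hZ F hT hTS hj]; group
    set X0 := T ⊓ centralizer (E0 t r : Set G) with hX0
    have hX0t : ∀ x ∈ X0, g * x * g⁻¹ * t = t * (g * x * g⁻¹) := by
      intro x hx
      have h1 := comm_of_centralizer hx.2 hte
      calc g * x * g⁻¹ * t = g * (x * (g⁻¹ * t * g)) * g⁻¹ := by group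
        _ = g * (g⁻¹ * t * g * x) * g⁻¹ := by rw [h1]
        _ = t * (g * x * g⁻¹) := by group
    have h1 := F.outC (g * j * g⁻¹) (hT.norm (hg j hj)) hff hout (X0.map (MulAut.conj g).toMonoidHom)
      (isPGroup_map (hT.syl.two.to_le inf_le_left) g)
      (by
        rintro _ ⟨x, hx, rfl⟩
        exact mem_normalizer_of_comm C.std C.ht C.htA (hX0t x hx))
      (by
        rintro _ ⟨x, hx, rfl⟩
        show g * x * g⁻¹ * (g * j * g⁻¹) = g * j * g⁻¹ * (g * x * g⁻¹)
        have h2 := comm_of_centralizer hx.2 hj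
        calc g * x * g⁻¹ * (g * j * g⁻¹) = g * (x * j) * g⁻¹ := by group
          _ = g * (j * x) * g⁻¹ := by rw [h2]
          _ = g * j * g⁻¹ * (g * x * g⁻¹) := by group)
    have hcard : Nat.card (X0.map (MulAut.conj g).toMonoidHom) = Nat.card X0 :=
      (Nat.card_congr (X0.equivMapOfInjective (MulAut.conj g).toMonoidHom (MulAut.conj g).injective).toEquiv).symm
    have h2 : Nat.card ↥(X0.map (MulAut.conj g).toMonoidHom ⊓ centralizer (A : Set G)) ≤
        Nat.card ↥(T ⊓ centralizer (A : Set G)) :=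
      (hT.sylK C.std).card_le ((isPGroup_map (hT.syl.two.to_le inf_le_left) g).to_le inf_le_left) inf_le_right
    have h3 : Nat.card ↥(T ⊓ centralizer (A : Set G)) * 2 ^ 8 ≤ Nat.card X0 := by
      obtain ⟨U, hUS, hU, hUc⟩ := F.U_card
      have hRX : T ⊓ centralizer (A : Set G) ≤ X0 := by
        intro k hk
        refine mem_inf.mpr ⟨hk.1, ?_⟩
        rw [mem_centralizer_iff]
        intro y hy
        exact (comm_E0 (hT.cent k hk.1) (fun i => comm_of_centralizer hk.2 (F.r_A i)) hy).symm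
      have hUX : U ≤ X0 := by
        intro u hu
        have huS := hUS hu
        have huT : u ∈ T := by rw [← hTS] at huS; exact huS.1
        refine mem_inf.mpr ⟨huT, ?_⟩
        rw [mem_centralizer_iff]
        intro y hy
        exact (comm_E0 (hT.cent u huT) (hU u hu) hy).symm
      let f : ↥(T ⊓ centralizer (A : Set G)) × U → X0 := fun p => ⟨p.1 * p.2, mul_mem (hRX p.1.2) (hUX p.2.2)⟩
      have hf : Function.Injective f := by
        rintro ⟨⟨k, hk⟩, ⟨u, hu⟩⟩ ⟨⟨k', hk'⟩, ⟨u', hu'⟩⟩ he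
        have he : k * u = k' * u' := congrArg Subtype.val he
        have huS := hUS hu
        have huS' := hUS hu'
        rw [← hTS] at huS huS'
        have e1 : k'⁻¹ * k = u' * u⁻¹ := by
          calc k'⁻¹ * k = k'⁻¹ * (k * u) * u⁻¹ := by group
            _ = k'⁻¹ * (k' * u') * u⁻¹ := by rw [he]
            _ = u' * u⁻¹ := by group
        have e2 : k'⁻¹ * k = 1 := by
          apply hT.eq_one_of_mem hZ (mul_mem (inv_mem hk'.1) hk.1)
          · rw [e1]; exact mul_mem huS'.2 (inv_mem huS.2)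
          · exact mul_mem (inv_mem hk'.2) hk.2
        rw [e2] at e1
        have e3 : k = k' := by
          rw [inv_mul_eq_one] at e2; exact e2.symm
        have e4 : u = u' := (mul_inv_eq_one.mp e1.symm).symm
        subst e3 e4; rfl
      have h4 := Nat.card_le_card_of_injective f hf
      rw [Nat.card_prod] at h4
      exact (Nat.mul_le_mul_left _ hUc).trans h4
    have h4 : 0 < Nat.card ↥(T ⊓ centralizer (A : Set G)) := Nat.card_pos
    rw [hcard] at h1
    omega
  -- `E := g E₀ g⁻¹`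
  have hE1 : ∀ j ∈ E0 t r, g * j * g⁻¹ ∈ A ∨ t * (g * j * g⁻¹) ∈ A := by
    intro j hj
    obtain ⟨u, hu, -, h1⟩ := dec_invol C hZ F hT hTS (hg j hj) (hinn j hj) (by
      calc g * j * g⁻¹ * (g * j * g⁻¹) = g * (j * j) * g⁻¹ := by group
        _ = 1 := by rw [E0_sq C hZ F hT hTS hj]; group)
    rcases h1 with h1 | h1
    · left; rw [h1]; exact F.syl.le hu
    · right; rw [h1, ← mul_assoc, htt, one_mul]; exact F.syl.le hu
  set E := (E0 t r).map (MulAut.conj g).toMonoidHom with hE
  have htE : t ∈ E := by rw [hE, mem_map_conj]; exact hte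
  have hEcard : 32 ≤ Nat.card E := by
    rw [hE, ← Nat.card_congr ((E0 t r).equivMapOfInjective (MulAut.conj g).toMonoidHom
      (MulAut.conj g).injective).toEquiv]
    exact card_E0 C hZ F hT hTS
  have hEA : ∀ x ∈ E, x ∈ E ⊓ A ∨ t * x ∈ E ⊓ A := by
    rintro x ⟨j, hj, rfl⟩
    rcases hE1 j hj with h1 | h1
    · exact Or.inl (mem_inf.mpr ⟨⟨j, hj, rfl⟩, h1⟩)
    · exact Or.inr (mem_inf.mpr ⟨mul_mem htE ⟨j, hj, rfl⟩, h1⟩)
  have h16 : 16 ≤ Nat.card ↥(E ⊓ A) := by
    have := card_le_two_mul hEA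
    omega
  have hEV : E ⊓ A ≤ closure (Set.range r) := by
    apply F.elem _ _ _ h16
    · rintro x ⟨⟨j, hj, rfl⟩, hxA⟩
      rw [← hTS]
      exact mem_inf.mpr ⟨hg j hj, hxA⟩
    · rintro x ⟨⟨j, hj, rfl⟩, -⟩
      rw [← map_mul, E0_sq C hZ F hT hTS hj, map_one]
  intro j hj
  rw [mem_E0' C hZ F hT hTS]
  rcases hEA _ (conj_mem_map g hj) with h1 | h1
  · exact Or.inl (hEV h1)
  · exact Or.inr (hEV h1)

omit C hZ hT hTS in
/-- `a ∈ A` over a permutation normalises `V` -/
theorem alt_norm {a : G} {σ : Equiv.Perm (Fin 5)} (ha : ∀ i, a * r i * a⁻¹ = r (σ i)) {v : G}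
    (hv : v ∈ closure (Set.range r)) : a * v * a⁻¹ ∈ closure (Set.range r) := by
  rcases F.r5.mem_closure.mp hv with rfl | ⟨i, rfl⟩ | ⟨i, j, -, rfl⟩
  · rw [mul_one, mul_inv_cancel]; exact one_mem _
  · rw [ha]; exact F.r5.r_mem _
  · have : a * (r i * r j) * a⁻¹ = (a * r i * a⁻¹) * (a * r j * a⁻¹) := by group
    rw [this, ha, ha]; exact mul_mem (F.r5.r_mem _) (F.r5.r_mem _)

theorem mem_norm_E0 {n : G} (hnt : n * t = t * n) (hn : ∀ v ∈ closure (Set.range r), n * v * n⁻¹ ∈ closure (Set.range r)) :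
    n ∈ normalizer (E0 t r : Set G) := by
  apply mem_normalizer_of_conj_le
  intro x hx
  rw [mem_E0' C hZ F hT hTS] at hx ⊢
  rcases hx with hx | hx
  · exact Or.inl (hn x hx)
  · right
    have h1 := hn _ hx
    have h3 : n * (t * x) * n⁻¹ = t * (n * x * n⁻¹) := by
      calc n * (t * x) * n⁻¹ = (n * t) * x * n⁻¹ := by group
        _ = t * (n * x * n⁻¹) := by rw [hnt]; group
    rwa [h3] at h1

theorem alt_norm_E0 {a : G} (haA : a ∈ A) {σ : Equiv.Perm (Fin 5)} (ha : ∀ i, a * r i * a⁻¹ = r (σ i)) :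
    a ∈ normalizer (E0 t r : Set G) :=
  mem_norm_E0 C hZ F hT hTS (comm_of_centralizer C.htA haA).symm fun _ hv => alt_norm F ha hv

/-- the data of `StepFour` -/
theorem data : Data A t T (E0 t r) (closure (Set.range r)) where
  isT := hT
  J_le := E0_le_T C hZ F hT hTS
  t_J := t_mem_E0 t r
  W_J := V_le_E0 t r
  W_A := F.V_le_A
  W_two := fun w hw => F.r5.sq_mem hw
  W_cent := fun w hw j hj => comm_E0 (R5.comm_of_forall (t_r C hZ F hT hTS) hw).symm
    (fun i => F.r5.comm_mem hw (F.r5.r_mem i)) hj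
  omega := fun x hx _ _ => (mem_E0' C hZ F hT hTS).mp hx
  weak := weak C hZ F hT hTS
  into := fun u _ hu huu => F.into u hu huu
  excl := by
    intro g hg
    apply conj_not_mem (fun h => t_notMem_A C hZ F hT hTS (F.V_le_A h)) (t_mem_E0 t r) (V_le_E0 t r)
      (fun x hx => (mem_E0' C hZ F hT hTS).mp hx) _ _ hg
    · intro g hgt hgJ w hw
      apply E0_inf_A C hZ F hT hTS (conj_mem_of_mem_normalizer hgJ (V_le_E0 t r hw))
      exact conj_mem_of_mem_normalizer (mem_normalizer_of_comm C.std C.ht C.htA hgt) (F.V_le_A hw)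
    · intro w hw hw1
      rcases F.r5.mem_closure.mp hw with h1 | ⟨i, h1⟩ | ⟨i, j, hij, h1⟩
      · exact absurd h1 hw1
      · -- `w = r i`
        obtain ⟨j, k, l, m, hn⟩ := nodup1 i
        have hjk : j ≠ k := by rintro rfl; simp at hn
        have hlm : l ≠ m := by rintro rfl; simp at hn
        simp only [List.nodup_cons, List.mem_cons, List.not_mem_nil, or_false, not_or] at hn
        obtain ⟨y, hyA, hy⟩ := F.alt _ (sign_swap_swap hjk hlm)
        refine ⟨y, (comm_of_centralizer C.htA hyA).symm, fun v hv => alt_norm F hy hv, ?_, r j * r l,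
          mul_mem (F.r5.r_mem _) (F.r5.r_mem _), ?_⟩
        · have h2 := hy i
          have h3 : (Equiv.swap j k * Equiv.swap l m) i = i := by
            rw [Equiv.Perm.mul_apply, Equiv.swap_apply_of_ne_of_ne hn.1.2.2.1 hn.1.2.2.2,
              Equiv.swap_apply_of_ne_of_ne hn.1.1 hn.1.2.1]
          rw [h3] at h2
          rw [h1]
          rw [mul_inv_eq_iff_eq_mul] at h2
          exact h2
        · have h2 : y * (r j * r l) * y⁻¹ = (y * r j * y⁻¹) * (y * r l * y⁻¹) := by group
          have hj : (Equiv.swap j k * Equiv.swap l m) j = k := by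
            rw [Equiv.Perm.mul_apply, Equiv.swap_apply_of_ne_of_ne hn.2.1.2.1 hn.2.1.2.2, Equiv.swap_apply_left]
          have hl : (Equiv.swap j k * Equiv.swap l m) l = m := by
            rw [Equiv.Perm.mul_apply, Equiv.swap_apply_left,
              Equiv.swap_apply_of_ne_of_ne (Ne.symm hn.2.1.2.2) (Ne.symm hn.2.2.1.2)]
          rw [h2, hy, hy, hj, hl, h1]
          have h5 : r i * r j * r l * r k * r m = 1 := by
            apply F.r5.five
            simp only [List.nodup_cons, List.mem_cons, List.not_mem_nil, or_false, not_or]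
            simp only [List.nodup_nil, and_true, not_false_eq_true] at hn ⊢
            tauto
          have h6 : r k * r m = (r i * r j * r l)⁻¹ := by
            rw [eq_inv_iff_mul_eq_one]
            calc r k * r m * (r i * r j * r l) = (r i * r j * r l)⁻¹ * ((r i * r j * r l * r k * r m)) * (r i * r j * r l) := by group
              _ = 1 := by rw [h5]; group
          have h7 : r i * (r j * r l) = r j * r l * r i :=
            F.r5.comm_mem (F.r5.r_mem i) (mul_mem (F.r5.r_mem j) (F.r5.r_mem l))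
          rw [h6, mul_inv_rev, mul_inv_rev, F.r5.inv_eq, F.r5.inv_eq, F.r5.inv_eq, h7, ← mul_assoc, F.comm l j]
      · -- `w = r i * r j`
        obtain ⟨k, l, m, hn⟩ := nodup2 i j hij
        have hkl : k ≠ l := by rintro rfl; simp at hn
        simp only [List.nodup_cons, List.mem_cons, List.not_mem_nil, or_false, not_or] at hn
        obtain ⟨y, hyA, hy⟩ := F.alt _ (sign_swap_swap hij hkl)
        have hi : (Equiv.swap i j * Equiv.swap k l) i = j := by
          rw [Equiv.Perm.mul_apply, Equiv.swap_apply_of_ne_of_ne hn.1.2.1 hn.1.2.2.1, Equiv.swap_apply_left]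
        have hj : (Equiv.swap i j * Equiv.swap k l) j = i := by
          rw [Equiv.Perm.mul_apply, Equiv.swap_apply_of_ne_of_ne hn.2.1.1 hn.2.1.2.1, Equiv.swap_apply_right]
        refine ⟨y, (comm_of_centralizer C.htA hyA).symm, fun v hv => alt_norm F hy hv, ?_, r i, F.r5.r_mem _, ?_⟩
        · have h2 : y * (r i * r j) * y⁻¹ = (y * r i * y⁻¹) * (y * r j * y⁻¹) := by group
          rw [hy, hy, hi, hj, mul_inv_eq_iff_eq_mul, F.comm j i] at h2
          rw [h1]; exact h2
        · rw [hy, hi, h1]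
          rw [F.comm i j, mul_assoc, F.sq, mul_one]
  fix := by
    intro w hw hfix
    by_contra hw1
    rcases F.r5.mem_closure.mp hw with h1 | ⟨i, h1⟩ | ⟨i, j, hij, h1⟩
    · exact hw1 h1
    · obtain ⟨j, k, l, m, hn⟩ := nodup1 i
      have hij : i ≠ j := by rintro rfl; simp at hn
      obtain ⟨σ, hσ, hi⟩ := exists_even_one i j
      obtain ⟨a, haA, ha⟩ := F.alt σ hσ
      have h2 := hfix a haA (alt_norm_E0 C hZ F hT hTS haA ha)
      have h3 := ha i
      rw [h1] at h2
      rw [h2, mul_inv_cancel_right, hi] at h3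
      exact hij (F.r5.injective h3)
    · obtain ⟨k, l, m, hn⟩ := nodup2 i j hij
      have hik : i ≠ k := by rintro rfl; simp at hn
      have hjk : j ≠ k := by rintro rfl; simp at hn
      obtain ⟨σ, hσ, hi, hj⟩ := exists_even hij hik
      obtain ⟨a, haA, ha⟩ := F.alt σ hσ
      have h2 := hfix a haA (alt_norm_E0 C hZ F hT hTS haA ha)
      have h3 : a * (r i * r j) * a⁻¹ = (a * r i * a⁻¹) * (a * r j * a⁻¹) := by group
      rw [h1] at h2
      rw [h2, mul_inv_cancel_right, ha, ha, hi, hj] at h3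
      exact hjk (F.r5.injective (mul_left_cancel h3))

theorem outer : Outer A t T := fun f hf hff hout _ => F.outB f (hT.norm hf) hff hout

end Main

end Cfsg.Agent.UFiveTwo.Fus
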