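import Cfsg.Agent.UFiveTwo.Fus
import Cfsg.Agent.StdEven.CoreQuot

/-!
# S1778, type `U₅(2)`: `|T ∩ C(A)| = 2` and `t ~ t v` for all `v ∈ V` by elements of `C(V) ∩ N(E₀)`
-/

set_option autoImplicit false
set_option linter.unusedSectionVars false

namespace Cfsg.Agent.UFiveTwo.Fus

open Cfsg Subgroup Cfsg.Agent.SignalizersComponents Cfsg.Agent.StdEven.Syl Cfsg.Agent.StdEven.Loc
open Cfsg.Agent.StdEven.Perf Cfsg.Agent.StdEven.Avg Cfsg.Agent.StdEven.StepFour Cfsg.Agent.StdL2.Setup
open Cfsg.Agent.Schreier.Basic Cfsg.Agent.UFiveTwo.Line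

variable {G : Type*} [Group G]

section Main

variable [Finite G] {L A S T : Subgroup G} {t : G} {r : Fin 5 → G}
variable (C : Conf L A t) (hZ : Odd (Nat.card (center ↥A))) (F : GF A S r) (hT : IsT A t T) (hTS : T ⊓ A = S)
include C hZ F hT hTS

/-- **`|R| = 2`.** -/
theorem R_eq (hS : Sch ↥A) {x : G} (hx : x ∈ T) (hxK : x ∈ centralizer (A : Set G)) : x = 1 ∨ x = t := by
  have D := data C hZ F hT hTS
  have hRc : IsCyclic ↥(T ⊓ centralizer (A : Set G)) :=
    StdSz.FromStd.isCyclic_of_le C.cyc (hT.syl.two.to_le inf_le_left) inf_le_right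
  have hRcomm : ∀ a ∈ T ⊓ centralizer (A : Set G), ∀ b ∈ T ⊓ centralizer (A : Set G), a * b = b * a := by
    intro a ha b hb
    have := IsCyclic.isMulCommutative (α := ↥(T ⊓ centralizer (A : Set G)))
    exact congrArg Subtype.val (this.is_comm.comm ⟨a, ha⟩ ⟨b, hb⟩)
  -- `X = Z(T ∩ C(E₀))`
  set Y := T ⊓ centralizer (E0 t r : Set G) with hY
  let X : Subgroup G := Y ⊓ centralizer (Y : Set G)
  have hYin : ∀ y ∈ Y, Inner A y := fun y hy => inner_of_cent C hZ F hT hTS
    (comm_of_centralizer hy.2 (t_mem_E0 t r)) (fun i => comm_of_centralizer hy.2 (r_mem_E0 t r i))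
  have hYu : ∀ u ∈ S, (∀ i, u * r i = r i * u) → u ∈ Y := by
    intro u hu hui
    have huT : u ∈ T := by rw [← hTS] at hu; exact hu.1
    refine mem_inf.mpr ⟨huT, ?_⟩
    rw [mem_centralizer_iff]
    intro y hy
    exact (comm_E0 (hT.cent u huT) hui hy).symm
  have hKY : ∀ k ∈ T, k ∈ centralizer (A : Set G) → k ∈ Y := by
    intro k hk hkK
    refine mem_inf.mpr ⟨hk, ?_⟩
    rw [mem_centralizer_iff]
    intro y hy
    exact (comm_E0 (hT.cent k hk) (fun i => comm_of_centralizer hkK (F.r_A i)) hy).symm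
  apply D.R_eq C hZ hS (outer C hZ F hT hTS) (F.r_A 0) F.ne (F.sq 0) (X := X) _ _ _ hx hxK
  · intro k hk hkK
    refine mem_inf.mpr ⟨hKY k hk hkK, ?_⟩
    rw [mem_centralizer_iff]
    intro y hy
    obtain ⟨u, hu, l, hl, hlK, rfl⟩ := dec C hZ F hT hTS hy.1 (hYin y hy)
    have h1 : k * u = u * k := comm_of_centralizer hkK (F.syl.le hu)
    have h2 : k * l = l * k := hRcomm k (mem_inf.mpr ⟨hk, hkK⟩) l (mem_inf.mpr ⟨hl, hlK⟩)
    calc u * l * k = u * (k * l) := by rw [mul_assoc, h2]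
      _ = (u * k) * l := by group
      _ = k * (u * l) := by rw [← h1]; group
  · rintro y ⟨hyY, hyc⟩
    obtain ⟨u, hu, l, hl, hlK, rfl⟩ := dec C hZ F hT hTS hyY.1 (hYin y hyY)
    have hlu : ∀ u ∈ S, l * u = u * l := fun u hu => comm_of_centralizer hlK (F.syl.le hu)
    -- `u` commutes with `V`
    have hui : ∀ i, u * r i = r i * u := by
      intro i
      have h1 := comm_of_centralizer hyY.2 (r_mem_E0 t r i)
      have h2 := hlu _ (F.r_S i)
      apply mul_right_cancel (b := l)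
      calc u * r i * l = u * (l * r i) := by rw [mul_assoc, ← h2]
        _ = u * l * r i := by group
        _ = r i * (u * l) := h1
        _ = r i * u * l := by group
    have huV : u ∈ closure (Set.range r) := by
      apply F.U_cen u hu hui
      intro u' hu' hui'
      have h1 := comm_of_centralizer hyc (hYu u' hu' hui')
      have h2 := hlu _ hu'
      apply mul_right_cancel (b := l)
      calc u * u' * l = u * (l * u') := by rw [mul_assoc, ← h2]
        _ = u * l * u' := by group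
        _ = u' * (u * l) := h1
        _ = u' * u * l := by group
    exact ⟨u, F.syl.le hu, F.r5.sq_mem huV, l, hl, hlK, rfl⟩
  · intro g hg y hy
    have hgE := D.normalizer_T_le hg
    have hgY : ∀ y ∈ Y, g * y * g⁻¹ ∈ Y := by
      intro y hy
      refine mem_inf.mpr ⟨conj_mem_of_mem_normalizer hg hy.1, ?_⟩
      exact conj_mem_of_mem_normalizer (normalizer_le_normalizer_centralizer _ hgE) hy.2
    have hgY' := mem_normalizer_of_conj_le hgY
    refine mem_inf.mpr ⟨hgY y hy.1, ?_⟩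
    exact conj_mem_of_mem_normalizer (normalizer_le_normalizer_centralizer _ hgY') hy.2

section R

variable (hR : ∀ x ∈ T, x ∈ centralizer (A : Set G) → x = 1 ∨ x = t) (hS : Sch ↥A)
include hR

/-- The elements of `T ∩ C(E₀)`. -/
theorem mem_U_or {y : G} (hyT : y ∈ T) (hy : y ∈ centralizer (E0 t r : Set G)) :
    ∃ u ∈ S, (∀ i, u * r i = r i * u) ∧ (y = u ∨ y = u * t) := by
  have hYin : Inner A y := inner_of_cent C hZ F hT hTS
    (comm_of_centralizer hy (t_mem_E0 t r)) (fun i => comm_of_centralizer hy (r_mem_E0 t r i))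
  obtain ⟨u, hu, l, hl, hlK, rfl⟩ := dec C hZ F hT hTS hyT hYin
  have hui : ∀ i, u * r i = r i * u := by
    intro i
    have h1 := comm_of_centralizer hy (r_mem_E0 t r i)
    have h2 : l * r i = r i * l := comm_of_centralizer hlK (F.r_A i)
    apply mul_right_cancel (b := l)
    calc u * r i * l = u * (l * r i) := by rw [mul_assoc, ← h2]
      _ = u * l * r i := by group
      _ = r i * (u * l) := h1
      _ = r i * u * l := by group
  refine ⟨u, hu, hui, ?_⟩
  rcases hR l hl hlK with h | h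
  · left; rw [h, mul_one]
  · right; rw [h]

/-- Squares of 2-elements of `C(E₀)`. -/
theorem sq_of_two {x : G} (hx : x ∈ centralizer (E0 t r : Set G)) {k : ℕ} (hk : x ^ 2 ^ k = 1) :
    x * x = 1 ∨ ∃ i, x * x = r i := by
  have hp : IsPGroup 2 (zpowers x) := by
    rintro ⟨y, hy⟩
    obtain ⟨n, rfl⟩ := mem_zpowers_iff.mp hy
    refine ⟨k, Subtype.ext ?_⟩
    show (x ^ n) ^ 2 ^ k = 1
    rw [← zpow_natCast, ← zpow_mul, mul_comm, zpow_mul, zpow_natCast, hk, one_zpow]
  obtain ⟨c, hc, hcx⟩ := (syl_cent_E0 C hZ F hT hTS).exists_conj hp (by rw [zpowers_le]; exact hx)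
  obtain ⟨h1, h2⟩ := hcx x (mem_zpowers x)
  obtain ⟨u, hu, hui, hxu⟩ := mem_U_or C hZ F hT hTS hR h1 h2
  have hsq : c * x * c⁻¹ * (c * x * c⁻¹) = u * u := by
    rcases hxu with h3 | h3
    · rw [h3]
    · rw [h3]
      have h4 := hT.cent u (by rw [← hTS] at hu; exact hu.1)
      calc u * t * (u * t) = u * (t * u) * t := by group
        _ = (u * u) * (t * t) := by rw [← h4]; group
        _ = u * u := by rw [tt C.ht, mul_one]
  have hmem : c * x * c⁻¹ * (c * x * c⁻¹) ∈ E0 t r := by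
    rw [hsq]
    rcases F.U_sq u hu hui with h3 | ⟨i, h3⟩
    · rw [h3]; exact one_mem _
    · rw [h3]; exact r_mem_E0 t r i
  have h3 : x * x = c * x * c⁻¹ * (c * x * c⁻¹) := by
    have h4 := comm_of_centralizer hc hmem
    have h5 : x * x = c⁻¹ * (c * x * c⁻¹ * (c * x * c⁻¹)) * c := by group
    rw [h5, mul_assoc, ← h4]; group
  rw [h3, hsq]
  exact F.U_sq u hu hui

/-- `N(E₀)` permutes the `r i`. -/
theorem norm_r {n : G} (hn : n ∈ normalizer (E0 t r : Set G)) (i : Fin 5) : ∃ j, n * r i * n⁻¹ = r j := by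
  obtain ⟨u, hu, hui, hur⟩ := F.U_ex i
  have huT : u ∈ T := by rw [← hTS] at hu; exact hu.1
  have huc : u ∈ centralizer (E0 t r : Set G) := by
    rw [mem_centralizer_iff]
    intro y hy
    exact (comm_E0 (hT.cent u huT) hui hy).symm
  have h1 : n * u * n⁻¹ ∈ centralizer (E0 t r : Set G) :=
    conj_mem_of_mem_normalizer (normalizer_le_normalizer_centralizer _ hn) huc
  obtain ⟨k, hk⟩ := hT.syl.two ⟨u, huT⟩
  have hk : u ^ 2 ^ k = 1 := congrArg Subtype.val hk
  have h2 := sq_of_two C hZ F hT hTS hR h1 (k := k) (by rw [conj_pow, hk]; group)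
  have h3 : n * u * n⁻¹ * (n * u * n⁻¹) = n * r i * n⁻¹ := by rw [← hur]; group
  rw [h3] at h2
  rcases h2 with h2 | h2
  · exfalso
    apply F.r5.ne_one i
    have : r i = n⁻¹ * (n * r i * n⁻¹) * n := by group
    rw [this, h2]; group
  · exact h2

theorem norm_V {n : G} (hn : n ∈ normalizer (E0 t r : Set G)) {v : G} (hv : v ∈ closure (Set.range r)) :
    n * v * n⁻¹ ∈ closure (Set.range r) := by
  rcases F.r5.mem_closure.mp hv with rfl | ⟨i, rfl⟩ | ⟨i, j, -, rfl⟩
  · rw [mul_one, mul_inv_cancel]; exact one_mem _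
  · obtain ⟨j, hj⟩ := norm_r C hZ F hT hTS hR hn i
    rw [hj]; exact F.r5.r_mem _
  · have : n * (r i * r j) * n⁻¹ = (n * r i * n⁻¹) * (n * r j * n⁻¹) := by group
    obtain ⟨i', hi⟩ := norm_r C hZ F hT hTS hR hn i
    obtain ⟨j', hj⟩ := norm_r C hZ F hT hTS hR hn j
    rw [this, hi, hj]; exact mul_mem (F.r5.r_mem _) (F.r5.r_mem _)

/-- the permutation induced by an element of `N(E₀)` -/
theorem exists_perm {n : G} (hn : n ∈ normalizer (E0 t r : Set G)) :
    ∃ σ : Equiv.Perm (Fin 5), ∀ i, n * r i * n⁻¹ = r (σ i) := by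
  choose f hf using fun i => norm_r C hZ F hT hTS hR hn i
  have hinj : Function.Injective f := by
    intro i j hij
    have h1 : n * r i * n⁻¹ = n * r j * n⁻¹ := by rw [hf, hf, hij]
    exact F.r5.injective (mul_left_cancel (mul_right_cancel h1))
  exact ⟨Equiv.ofBijective f (Finite.injective_iff_bijective.mp hinj), hf⟩

include hS

/-- **All of `t V` is fused in `N(E₀)`.** -/
theorem trans_norm : ∀ v ∈ closure (Set.range r), ∃ n ∈ normalizer (E0 t r : Set G), n * t * n⁻¹ = t * v := by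
  have D := data C hZ F hT hTS
  let O : Set G := {v | v ∈ closure (Set.range r) ∧ ∃ n ∈ normalizer (E0 t r : Set G), n * t * n⁻¹ = t * v}
  -- multiplication
  have hmul : ∀ n ∈ normalizer (E0 t r : Set G), ∀ v ∈ closure (Set.range r), n * t * n⁻¹ = t * v →
      ∀ w, n⁻¹ * w * n ∈ O → v * w ∈ O := by
    rintro n hn v hv hnv w ⟨hw, m, hm, hmw⟩
    have hwV : w ∈ closure (Set.range r) := by
      have h1 := norm_V C hZ F hT hTS hR hn hw
      have h2 : n * (n⁻¹ * w * n) * n⁻¹ = w := by group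
      rwa [h2] at h1
    refine ⟨mul_mem hv hwV, n * m, mul_mem hn hm, ?_⟩
    calc n * m * t * (n * m)⁻¹ = n * (m * t * m⁻¹) * n⁻¹ := by group
      _ = n * (t * (n⁻¹ * w * n)) * n⁻¹ := by rw [hmw]
      _ = (n * t * n⁻¹) * w := by group
      _ = t * (v * w) := by rw [hnv]; group
  -- a nontrivial element
  obtain ⟨x, hx, hx1⟩ : ∃ x ∈ O, x ≠ 1 := by
    have hsyl : ¬ IsSyl T ⊤ := D.not_syl C hZ hS (outer C hZ F hT hTS) (F.r_A 0) F.ne (F.sq 0)
    obtain ⟨g, hg, -, v, hv, hv1, -, hgv⟩ := D.exists_normalizer C hsyl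
    exact ⟨v, ⟨hv, g, D.normalizer_T_le hg, hgv⟩, hv1⟩
  have hfull := F.r5.full (O := O) (fun x hx => hx.1) hx hx1 ?_ ?_ ?_ ?_
  · intro v hv
    exact (hfull v hv).2
  · -- invariance under `Alt(5)`
    intro σ hσ
    obtain ⟨a, haA, ha⟩ := F.alt σ hσ
    have haN := alt_norm_E0 C hZ F hT hTS haA ha
    have hat : a * t = t * a := (comm_of_centralizer C.htA haA).symm
    have key : ∀ v, v ∈ O → a * v * a⁻¹ ∈ O := by
      rintro v ⟨hv, n, hn, hnv⟩
      refine ⟨alt_norm F ha hv, a * n, mul_mem haN hn, ?_⟩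
      calc a * n * t * (a * n)⁻¹ = a * (n * t * n⁻¹) * a⁻¹ := by group
        _ = (a * t) * v * a⁻¹ := by rw [hnv]; group
        _ = t * (a * v * a⁻¹) := by rw [hat]; group
    constructor
    · intro i hi
      have h1 := key _ hi
      rwa [ha] at h1
    · intro i j _ hij
      have h1 := key _ hij
      have h2 : a * (r i * r j) * a⁻¹ = (a * r i * a⁻¹) * (a * r j * a⁻¹) := by group
      rwa [h2, ha, ha] at h1
  · exact ⟨one_mem _, 1, one_mem _, by group⟩
  · -- `R₁ ⊆ O` implies `R₂ ⊆ O`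
    intro h1 i j hij
    obtain ⟨n, hn, hni⟩ := (h1 i).2
    apply hmul n hn _ (F.r5.r_mem i) hni
    obtain ⟨σ, hσ⟩ := exists_perm C hZ F hT hTS hR (inv_mem hn)
    have h2 := hσ j
    rw [inv_inv] at h2
    rw [h2]; exact h1 _
  · -- `R₂ ⊆ O` implies `R₁ ∩ O ≠ ∅`
    intro h1
    obtain ⟨n, hn, hni⟩ := (h1 0 1 (by decide)).2
    obtain ⟨σ, hσ⟩ := exists_perm C hZ F hT hTS hR (inv_mem hn)
    have h2 : r 0 * r 1 * (r 2 * r 3) ∈ O := by
      apply hmul n hn _ (mul_mem (F.r5.r_mem 0) (F.r5.r_mem 1)) hni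
      have h3 : n⁻¹ * (r 2 * r 3) * n = (n⁻¹ * r 2 * n⁻¹⁻¹) * (n⁻¹ * r 3 * n⁻¹⁻¹) := by group
      rw [h3, hσ, hσ]
      exact h1 _ _ fun h4 => absurd (σ.injective h4) (by decide)
    refine ⟨4, ?_⟩
    have h3 : r 0 * r 1 * (r 2 * r 3) = r 4 := by
      have h4 := F.prod
      have h5 : r 0 * r 1 * (r 2 * r 3) * r 4 = 1 := by rw [← h4]; group
      rw [eq_inv_of_mul_eq_one_left h5, F.r5.inv_eq]
    rwa [h3] at h2

/-- the homomorphism `N(E₀) → Sym(5)`: its kernel does not centralise `t` -/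
theorem exists_mover : ∃ m ∈ normalizer (E0 t r : Set G), (∀ i, m * r i = r i * m) ∧ m * t ≠ t * m := by
  by_contra hcon
  push Not at hcon
  have D := data C hZ F hT hTS
  have htr := trans_norm C hZ F hT hTS hR hS
  -- `P` a Sylow 2-subgroup of `N(E₀)` containing `T`; we count cosets
  let N := normalizer (E0 t r : Set G)
  choose σ hσ using fun n : N => exists_perm C hZ F hT hTS hR n.2
  let φ : N →* Equiv.Perm (Fin 5) :=
    { toFun := σ
      map_one' := by
        ext i
        apply congrArg Fin.val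
        apply F.r5.injective
        rw [← hσ]
        show (1 : G) * r i * (1 : G)⁻¹ = r i
        group
      map_mul' := fun a b => by
        ext i
        apply congrArg Fin.val
        apply F.r5.injective
        rw [← hσ]
        show (a * b : G) * r i * (a * b : G)⁻¹ = r (σ a (σ b i))
        rw [← hσ, ← hσ]; group }
  -- the stabiliser of `t` in `N`
  let Nt : Subgroup N := (centralizer ({t} : Set G)).subgroupOf N
  have hker : φ.ker ≤ Nt := by
    intro n hn
    rw [MonoidHom.mem_ker] at hn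
    rw [mem_subgroupOf, mem_centralizer_singleton_iff]
    apply hcon n n.2
    intro i
    have h1 := hσ n i
    have h2 : σ n i = i := by
      have := congrArg (fun p : Equiv.Perm (Fin 5) => p i) hn
      exact this
    rw [h2, mul_inv_eq_iff_eq_mul] at h1
    exact h1
  have h16 : Nt.index = 16 := by
    rw [← F.r5.card_closure]
    -- orbit of `t`
    choose n hn hnt using htr
    symm
    let f : ↥(closure (Set.range r)) → N ⧸ Nt := fun v => QuotientGroup.mk ⟨n v v.2, hn v v.2⟩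
    apply Nat.card_eq_of_bijective f
    have hiff : ∀ a b : N, (QuotientGroup.mk a : N ⧸ Nt) = QuotientGroup.mk b ↔
        (a : G) * t * (a : G)⁻¹ = b * t * (b : G)⁻¹ := by
      intro a b
      rw [QuotientGroup.eq, mem_subgroupOf, mem_centralizer_singleton_iff]
      show (a : G)⁻¹ * b * t = t * ((a : G)⁻¹ * b) ↔ _
      constructor
      · intro h1
        calc (a : G) * t * (a : G)⁻¹ = a * (t * ((a : G)⁻¹ * b)) * (b : G)⁻¹ := by group
          _ = a * ((a : G)⁻¹ * b * t) * (b : G)⁻¹ := by rw [h1]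
          _ = b * t * (b : G)⁻¹ := by group
      · intro h1
        calc (a : G)⁻¹ * b * t = (a : G)⁻¹ * (b * t * (b : G)⁻¹) * b := by group
          _ = (a : G)⁻¹ * (a * t * (a : G)⁻¹) * b := by rw [h1]
          _ = t * ((a : G)⁻¹ * b) := by group
    constructor
    · rintro ⟨v, hv⟩ ⟨w, hw⟩ hvw
      have h1 := (hiff _ _).mp hvw
      rw [hnt v hv, hnt w hw] at h1
      exact Subtype.ext (mul_left_cancel h1)
    · intro q
      induction q using QuotientGroup.induction_on with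
      | H a =>
        refine ⟨⟨t * (a * t * (a : G)⁻¹), D.orb C.ht a.2⟩, ?_⟩
        apply (hiff _ _).mpr
        rw [hnt _ (D.orb C.ht a.2), ← mul_assoc, tt C.ht, one_mul]
  have h1 : Nt.index ∣ φ.ker.index := index_dvd_of_le hker
  have h2 : φ.ker.index ∣ 120 := by
    rw [index_ker]
    have h3 : Nat.card φ.range ∣ Nat.card (Equiv.Perm (Fin 5)) := card_subgroup_dvd_card _
    have h4 : Nat.card (Equiv.Perm (Fin 5)) = 120 := by
      rw [Nat.card_eq_fintype_card, Fintype.card_perm, Fintype.card_fin]; rfl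
    rwa [h4] at h3
  rw [h16] at h1
  exact absurd (h1.trans h2) (by decide)

end R

end Main

end Cfsg.Agent.UFiveTwo.Fus
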