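import Cfsg.Agent.UFiveTwo.FusTwo
import Cfsg.Agent.UFiveTwo.AutF

/-!
# S1778, type `U₅(2)`: the facts `GF` in `G` from the facts on `A₁ = A / Z(A) ≤ X₁ = N_G(A) / Z(A)`
-/

set_option autoImplicit false
set_option linter.unusedSectionVars false

namespace Cfsg.Agent.UFiveTwo.GFacts

open Cfsg Subgroup Cfsg.Agent.SignalizersComponents Cfsg.Agent.StdEven Cfsg.Agent.StdEven.Syl Cfsg.Agent.StdEven.Loc
open Cfsg.Agent.StdEven.Perf Cfsg.Agent.UFiveTwo.Line

universe u

variable {G : Type u} [Group G]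

/-- The centre of `A`. -/
def ZA (A : Subgroup G) : Subgroup G := (center ↥A).map A.subtype

theorem mem_ZA {A : Subgroup G} {z : G} : z ∈ ZA A ↔ z ∈ A ∧ z ∈ centralizer (A : Set G) := by
  constructor
  · rintro ⟨⟨z, hz⟩, h, rfl⟩
    refine ⟨hz, ?_⟩
    rw [mem_centralizer_iff]
    intro a ha
    exact congrArg Subtype.val (mem_center_iff.mp h ⟨a, ha⟩)
  · rintro ⟨h1, h2⟩
    refine ⟨⟨z, h1⟩, ?_, rfl⟩
    rw [SetLike.mem_coe, mem_center_iff]
    intro g
    exact Subtype.ext (comm_of_centralizer h2 g.2).symm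

/-- `N_G(A)` -/
abbrev NA (A : Subgroup G) : Subgroup G := normalizer (A : Set G)

instance (A : Subgroup G) : ((ZA A).subgroupOf (NA A)).Normal := by
  constructor
  rintro ⟨z, hz⟩ h ⟨g, hg⟩
  rw [mem_subgroupOf] at h ⊢
  have h := mem_ZA.mp h
  exact mem_ZA.mpr ⟨conj_mem_of_mem_normalizer hg h.1,
    conj_mem_of_mem_normalizer (normalizer_le_normalizer_centralizer A hg) h.2⟩

/-- `N_G(A) / Z(A)` -/
abbrev X1 (A : Subgroup G) : Type u := ↥(NA A) ⧸ (ZA A).subgroupOf (NA A)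

/-- the projection -/
def pj (A : Subgroup G) : ↥(NA A) →* X1 A := QuotientGroup.mk' _

theorem pj_surjective (A : Subgroup G) : Function.Surjective (pj A) := QuotientGroup.mk'_surjective _

theorem pj_eq_one {A : Subgroup G} {n : ↥(NA A)} : pj A n = 1 ↔ (n : G) ∈ ZA A := by
  show (QuotientGroup.mk n : X1 A) = 1 ↔ _
  rw [QuotientGroup.eq_one_iff, mem_subgroupOf]

theorem ker_pj (A : Subgroup G) : (pj A).ker = (ZA A).subgroupOf (NA A) := by
  ext n
  rw [MonoidHom.mem_ker, pj_eq_one, mem_subgroupOf]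

theorem A_le (A : Subgroup G) : A ≤ NA A := le_normalizer

theorem ZA_le (A : Subgroup G) : ZA A ≤ A := fun _ hz => (mem_ZA.mp hz).1

/-- the image of `A` -/
def A1 (A : Subgroup G) : Subgroup (X1 A) := (A.subgroupOf (NA A)).map (pj A)

theorem pj_mem_A1 {A : Subgroup G} {n : ↥(NA A)} : pj A n ∈ A1 A ↔ (n : G) ∈ A := by
  constructor
  · rintro ⟨m, hm, hmn⟩
    rw [SetLike.mem_coe, mem_subgroupOf] at hm
    have h1 : pj A (m⁻¹ * n) = 1 := by rw [map_mul, map_inv, hmn, inv_mul_cancel]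
    have h2 := ZA_le A (pj_eq_one.mp h1)
    have h3 : (n : G) = m * ((m⁻¹ * n : ↥(NA A)) : G) := by push_cast; group
    rw [h3]; exact mul_mem hm h2
  · intro h
    exact ⟨n, mem_subgroupOf.mpr h, rfl⟩

/-- `X₁` normalises `A₁`. -/
theorem mem_normalizer_A1 {A : Subgroup G} [Finite G] (x : X1 A) : x ∈ normalizer (A1 A : Set (X1 A)) := by
  obtain ⟨n, rfl⟩ := pj_surjective A x
  apply mem_normalizer_of_conj_le
  rintro _ ⟨m, hm, rfl⟩
  rw [SetLike.mem_coe, mem_subgroupOf] at hm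
  rw [← map_inv, ← map_mul, ← map_mul, pj_mem_A1]
  exact conj_mem_of_mem_normalizer n.2 hm

theorem nonempty_equiv (A : Subgroup G) : Nonempty (↥(A1 A) ≃* ↥A ⧸ center ↥A) := by
  let φ : A →* X1 A := (pj A).comp (Subgroup.inclusion (A_le A))
  have hker : φ.ker = center A := by
    ext a
    rw [MonoidHom.mem_ker]
    show pj A ⟨a, _⟩ = 1 ↔ _
    rw [pj_eq_one]
    constructor
    · rintro ⟨b, hb, hba⟩
      have : b = a := Subtype.ext hba
      rwa [← this]
    · intro ha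
      exact ⟨a, ha, rfl⟩
  have hrange : φ.range = A1 A := by
    ext x
    constructor
    · rintro ⟨a, rfl⟩
      exact pj_mem_A1.mpr a.2
    · rintro ⟨n, hn, rfl⟩
      exact ⟨⟨n, mem_subgroupOf.mp hn⟩, rfl⟩
  refine ⟨(MulEquiv.subgroupCongr hrange.symm).trans ?_⟩
  exact (QuotientGroup.quotientKerEquivRange φ).symm.trans (QuotientGroup.quotientMulEquivOfEq hker)

/-- Elements acting trivially on `A / Z(A)` centralise `A`. -/
theorem mem_centralizer_of_mod {A : Subgroup G} (hp : ⁅(⊤ : Subgroup A), (⊤ : Subgroup A)⁆ = ⊤) {g : G}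
    (hg : g ∈ normalizer (A : Set G)) (hmod : ∀ a ∈ A, g * a * g⁻¹ * a⁻¹ ∈ ZA A) : g ∈ centralizer (A : Set G) := by
  have hcen : ∀ a (ha : a ∈ A), (⟨g * a * g⁻¹ * a⁻¹,
      mul_mem (conj_mem_of_mem_normalizer hg ha) (inv_mem ha)⟩ : A) ∈ center A := fun a ha => by
    obtain ⟨b, hb, hba⟩ := hmod a ha
    have : b = ⟨g * a * g⁻¹ * a⁻¹, mul_mem (conj_mem_of_mem_normalizer hg ha) (inv_mem ha)⟩ := Subtype.ext hba
    rwa [← this]
  let f : A →* center A :=
    { toFun := fun a => ⟨_, hcen a a.2⟩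
      map_one' := Subtype.ext (Subtype.ext (by simp))
      map_mul' := fun a b => by
        apply Subtype.ext
        apply Subtype.ext
        show g * (a * b : G) * g⁻¹ * (a * b : G)⁻¹ = g * a * g⁻¹ * (a : G)⁻¹ * (g * b * g⁻¹ * (b : G)⁻¹)
        have h1 := mem_center_iff.mp (hcen b b.2) a⁻¹
        have h2 : (a : G)⁻¹ * (g * b * g⁻¹ * (b : G)⁻¹) = g * b * g⁻¹ * (b : G)⁻¹ * (a : G)⁻¹ :=
          congrArg Subtype.val h1
        calc g * (a * b : G) * g⁻¹ * (a * b : G)⁻¹ = g * a * g⁻¹ * (g * b * g⁻¹ * (b : G)⁻¹ * (a : G)⁻¹) := by group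
          _ = g * a * g⁻¹ * ((a : G)⁻¹ * (g * b * g⁻¹ * (b : G)⁻¹)) := by rw [h2]
          _ = _ := by group }
  have hf : ∀ a : A, f a = 1 := by
    intro a
    have h1 : ⁅(⊤ : Subgroup A), (⊤ : Subgroup A)⁆ ≤ f.ker := by
      rw [commutator_le]
      intro x _ y _
      rw [MonoidHom.mem_ker, map_commutatorElement, commutatorElement_eq_one_iff_mul_comm]
      exact Subtype.ext (mem_center_iff.mp (f y).2 (f x : A))
    rw [hp] at h1
    exact h1 (mem_top a)
  rw [mem_centralizer_iff]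
  intro a ha
  have h1 : g * a * g⁻¹ * a⁻¹ = 1 := congrArg (fun z : center A => ((z : A) : G)) (hf ⟨a, ha⟩)
  rw [mul_inv_eq_one, mul_inv_eq_iff_eq_mul] at h1
  exact h1.symm

theorem pj_mem_centralizer {A : Subgroup G} (hp : ⁅(⊤ : Subgroup A), (⊤ : Subgroup A)⁆ = ⊤) {n : ↥(NA A)} :
    pj A n ∈ centralizer (A1 A : Set (X1 A)) ↔ (n : G) ∈ centralizer (A : Set G) := by
  constructor
  · intro h
    apply mem_centralizer_of_mod hp n.2
    intro a ha
    have h1 := comm_of_centralizer h (pj_mem_A1.mpr (show ((⟨a, A_le A ha⟩ : ↥(NA A)) : G) ∈ A from ha))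
    have h2 : pj A (n * ⟨a, A_le A ha⟩ * n⁻¹ * ⟨a, A_le A ha⟩⁻¹) = 1 := by
      rw [map_mul, map_mul, map_mul, map_inv, map_inv, h1]; group
    exact pj_eq_one.mp h2
  · intro h
    rw [mem_centralizer_iff]
    rintro _ ⟨m, hm, rfl⟩
    rw [SetLike.mem_coe, mem_subgroupOf] at hm
    rw [← map_mul, ← map_mul]
    congr 1
    exact Subtype.ext (comm_of_centralizer h hm).symm

theorem inner_iff {A : Subgroup G} (hp : ⁅(⊤ : Subgroup A), (⊤ : Subgroup A)⁆ = ⊤) {n : ↥(NA A)} :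
    UFiveTwo.Inner (A1 A) (pj A n) ↔ Fus.Inner A (n : G) := by
  constructor
  · rintro ⟨_, ⟨m, hm, rfl⟩, h⟩
    rw [SetLike.mem_coe, mem_subgroupOf] at hm
    rw [← map_inv, ← map_mul, pj_mem_centralizer hp] at h
    exact ⟨m, hm, h⟩
  · rintro ⟨a, ha, h⟩
    refine ⟨pj A ⟨a, A_le A ha⟩, pj_mem_A1.mpr ha, ?_⟩
    rw [← map_inv, ← map_mul, pj_mem_centralizer hp]
    exact h

section Odd

variable [Finite G] {A : Subgroup G} (hZ : Odd (Nat.card (center ↥A)))
include hZ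

theorem odd_ker : Odd (Nat.card (pj A).ker) := by
  rw [ker_pj]
  have h1 : Nat.card ((ZA A).subgroupOf (NA A)) = Nat.card (ZA A) :=
    Nat.card_congr (subgroupOfEquivOfLe ((ZA_le A).trans (A_le A))).toEquiv
  have h2 : Nat.card (ZA A) = Nat.card (center ↥A) :=
    Nat.card_congr ((center ↥A).equivMapOfInjective A.subtype A.subtype_injective).symm.toEquiv
  rw [h1, h2]; exact hZ

/-- 2-elements of `A` are determined by their images. -/
theorem eq_of_two {x y : ↥(NA A)} (hx : (x : G) ∈ A) {k l : ℕ} (hk : x ^ 2 ^ k = 1) (hl : y ^ 2 ^ l = 1)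
    (h : pj A x = pj A y) : x = y := by
  have h1 : pj A (x⁻¹ * y) = 1 := by rw [map_mul, map_inv, h, inv_mul_cancel]
  have h2 := mem_ZA.mp (pj_eq_one.mp h1)
  have h3 : Commute x (x⁻¹ * y) := Subtype.ext (comm_of_centralizer h2.2 hx).symm
  have h4 : Commute x y := by
    have : y = x * (x⁻¹ * y) := by group
    rw [this]
    exact (Commute.refl x).mul_right h3
  have h5 : (x⁻¹ * y) ^ 2 ^ (k + l) = 1 := by
    rw [(h4.inv_left).mul_pow, pow_add, pow_mul, pow_mul, inv_pow, hk, inv_one, one_pow, one_mul, ← pow_mul, mul_comm,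
      pow_mul, hl, one_pow]
  have h6 := OddQuot.eq_one_of_ker (pj A) (odd_ker hZ) h1 h5
  exact (inv_mul_eq_one.mp h6)

/-- an odd exponent fixing 2-elements -/
theorem exists_exp (k : ℕ) : ∃ m : ℕ, m ≡ 1 [MOD 2 ^ k] ∧ ∀ z ∈ ZA A, z ^ m = 1 := by
  have hc : Nat.Coprime (Nat.card (center ↥A)) (2 ^ (k + 1)) :=
    Nat.Coprime.pow_right _ (Nat.coprime_two_right.mpr hZ)
  refine ⟨Nat.card (center ↥A) ^ Nat.totient (2 ^ (k + 1)), ?_, ?_⟩
  · exact (Nat.ModEq.pow_totient hc).of_dvd (pow_dvd_pow 2 (by omega))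
  · rintro z ⟨⟨z, hzA⟩, hz, rfl⟩
    have h1 : (⟨⟨z, hzA⟩, hz⟩ : center ↥A) ^ Nat.card (center ↥A) = 1 := pow_card_eq_one'
    have h2 : z ^ Nat.card (center ↥A) = 1 := by
      have h := congrArg (fun w : center ↥A => ((w : A) : G)) h1
      simp only [Subgroup.coe_pow, Subgroup.coe_one] at h
      exact h
    have h3 : Nat.card (center ↥A) ∣ Nat.card (center ↥A) ^ Nat.totient (2 ^ (k + 1)) :=
      dvd_pow_self _ (Nat.totient_pos.mpr (by positivity)).ne'
    obtain ⟨c, hc⟩ := h3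
    show z ^ _ = 1
    rw [hc, pow_mul, h2, one_pow]

omit hZ [Finite G] in
theorem isTwo_pow {H : Type*} [Group H] {x : H} {k : ℕ} (hk : x ^ 2 ^ k = 1) {m : ℕ} (hm : m ≡ 1 [MOD 2 ^ k]) : x ^ m = x := by
  have h2 : x ^ m = x ^ 1 := by
    rw [pow_eq_pow_iff_modEq]
    exact hm.of_dvd (orderOf_dvd_of_pow_eq_one hk)
  rw [h2, pow_one]

/-- 2-elements of `A₁` lift to 2-elements of `A`. -/
theorem exists_two {y : X1 A} (hy : y ∈ A1 A) {k : ℕ} (hk : y ^ 2 ^ k = 1) :
    ∃ x : ↥(NA A), (x : G) ∈ A ∧ pj A x = y ∧ x ^ 2 ^ k = 1 := by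
  obtain ⟨x, hx, rfl⟩ := hy
  rw [SetLike.mem_coe, mem_subgroupOf] at hx
  obtain ⟨m, hm, hmz⟩ := exists_exp hZ k
  refine ⟨x ^ m, ?_, ?_, ?_⟩
  · push_cast; exact pow_mem hx m
  · rw [map_pow]
    have h2 : (pj A x) ^ m = (pj A x) ^ 1 := by
      rw [pow_eq_pow_iff_modEq]
      exact hm.of_dvd (orderOf_dvd_of_pow_eq_one hk)
    rw [h2, pow_one]
  · have h1 : ((x ^ 2 ^ k : ↥(NA A)) : G) ∈ ZA A := by
      rw [← pj_eq_one, map_pow]; exact hk
    have h2 := hmz _ h1
    apply Subtype.ext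
    push_cast at h2 ⊢
    rw [← pow_mul, mul_comm, pow_mul]
    exact h2

end Odd

section Main

variable [Finite G] {A : Subgroup G} (hZ : Odd (Nat.card (center ↥A)))
variable (hp : ⁅(⊤ : Subgroup A), (⊤ : Subgroup A)⁆ = ⊤) (Fl : Flag (A1 A)) (FA : FlagAut (A1 A) Fl)
include hZ hp FA

/-- elements of the Sylow subgroup commuting with `V` lie in `U` -/
theorem mem_U {y : X1 A} (hy : y ∈ Fl.U ⊔ Fl.Q) (hc : ∀ i, y * Fl.r i = Fl.r i * y) : y ∈ Fl.U := by
  have hyA : y ∈ A1 A := FA.syl.le hy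
  obtain ⟨c, hcC, u, hu, j, he⟩ := FA.cV y (mem_normalizer_A1 y) hc
  have hcA : c ∈ A1 A := by
    have h1 : c = y * (Fl.h ^ j)⁻¹ * u⁻¹ := by rw [he]; group
    rw [h1]
    exact mul_mem (mul_mem hyA (inv_mem (pow_mem Fl.h_mem j))) (inv_mem (Fl.U_le hu))
  have hc1 := FA.cent c hcA hcC
  rw [hc1, one_mul] at he
  obtain ⟨k, hk⟩ := FA.syl.two ⟨y, hy⟩
  have hk : y ^ 2 ^ k = 1 := congrArg Subtype.val hk
  -- modulo `U`
  have key : ∀ n : ℕ, ∃ u' ∈ Fl.U, (u * Fl.h ^ j) ^ n = u' * Fl.h ^ (j * n) := by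
    intro n
    induction n with
    | zero => exact ⟨1, one_mem _, by simp⟩
    | succ n ih =>
      obtain ⟨u', hu', h1⟩ := ih
      have h2 : ∀ m : ℕ, ∀ w ∈ Fl.U, Fl.h ^ m * w * (Fl.h ^ m)⁻¹ ∈ Fl.U := by
        intro m
        induction m with
        | zero => intro w hw; simpa using hw
        | succ m ihm =>
          intro w hw
          have h3 : Fl.h ^ (m + 1) * w * (Fl.h ^ (m + 1))⁻¹ = Fl.h * (Fl.h ^ m * w * (Fl.h ^ m)⁻¹) * Fl.h⁻¹ := by
            rw [pow_succ']; group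
          rw [h3]; exact Fl.U_h _ (ihm w hw)
      refine ⟨u' * (Fl.h ^ (j * n) * u * (Fl.h ^ (j * n))⁻¹), mul_mem hu' (h2 _ u hu), ?_⟩
      rw [pow_succ, h1, mul_add, mul_one, pow_add]; group
  obtain ⟨u', hu', h1⟩ := key (2 ^ k)
  rw [← he, hk] at h1
  have h2 : Fl.h ^ (j * 2 ^ k) ∈ Fl.U := by
    have : Fl.h ^ (j * 2 ^ k) = u'⁻¹ := by rw [eq_inv_iff_mul_eq_one, ← Commute.eq ?_]; exact h1.symm
                                           exact Commute.symm (by
                                            have : u' = (Fl.h ^ (j * 2 ^ k))⁻¹ := eq_inv_of_mul_eq_one_left h1.symm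
                                            rw [this]; exact (Commute.refl _).inv_right)
    rw [this]; exact inv_mem hu'
  have h3 : Fl.h ^ (j * 2 ^ k) = 1 := by
    obtain ⟨l, hl⟩ := FA.syl.two ⟨_, (le_sup_left : Fl.U ≤ Fl.U ⊔ Fl.Q) h2⟩
    have hl : (Fl.h ^ (j * 2 ^ k)) ^ 2 ^ l = 1 := congrArg Subtype.val hl
    have h4 : (Fl.h ^ (j * 2 ^ k)) ^ 3 = 1 := by rw [← pow_mul, mul_comm, pow_mul, Fl.h_pow, one_pow]
    have h5 := orderOf_dvd_of_pow_eq_one hl
    have h6 := orderOf_dvd_of_pow_eq_one h4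
    rw [← orderOf_eq_one_iff]
    exact Nat.eq_one_of_dvd_coprimes (Nat.Coprime.pow_left l (by norm_num)) h5 h6
  have h4 : Fl.h ^ j = 1 := by
    have h5 : orderOf (Fl.h ^ j) ∣ 2 ^ k := orderOf_dvd_of_pow_eq_one (by rw [← pow_mul]; exact h3)
    have h6 : orderOf (Fl.h ^ j) ∣ 3 := orderOf_dvd_of_pow_eq_one (by rw [← pow_mul, mul_comm, pow_mul, Fl.h_pow, one_pow])
    rw [← orderOf_eq_one_iff]
    exact Nat.eq_one_of_dvd_coprimes (Nat.Coprime.pow_left k (by norm_num)) h5 h6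
  rw [he, h4, mul_one]; exact hu

/-- **The facts in `G`.** -/
theorem exists_gf : ∃ S : Subgroup G, ∃ r : Fin 5 → G, Fus.GF A S r ∧
    (∀ i, ∃ h : r i ∈ NA A, pj A ⟨r i, h⟩ = Fl.r i) ∧
    (S.subgroupOf (NA A)).map (pj A) = Fl.U ⊔ Fl.Q := by
  classical
  have hodd := odd_ker hZ
  have hsurj := pj_surjective A
  set P : Subgroup (X1 A) := Fl.U ⊔ Fl.Q with hP
  -- lift of the Sylow subgroup
  obtain ⟨S', hS', -, hSP⟩ := OddQuot.exists_lift (pj A) hsurj hodd FA.syl.two (Y0 := ⊥) IsPGroup.of_bot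
    (by rw [Subgroup.map_bot]; exact bot_le)
  rw [← hP] at hSP
  have hSA : ∀ x ∈ S', (x : G) ∈ A := fun x hx => by
    have h1 : pj A x ∈ P := by rw [← hSP]; exact ⟨x, hx, rfl⟩
    exact pj_mem_A1.mp (FA.syl.le h1)
  have hinj : ∀ x ∈ S', ∀ y ∈ S', pj A x = pj A y → x = y := fun x hx y hy h =>
    OddQuot.injOn (pj A) hodd hS' hx hy h
  have hrP : ∀ i, Fl.r i ∈ P := fun i => (le_sup_left : Fl.U ≤ P) (Fl.r_U i)
  have hlift : ∀ y ∈ P, ∃ x ∈ S', pj A x = y := fun y hy => by rw [← hSP] at hy; exact hy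
  choose s hs hsr using fun i => hlift _ (hrP i)
  have hSyl' : IsSyl S' (A.subgroupOf (NA A)) := by
    apply OddQuot.isSyl_of_map (pj A) hsurj hodd hS' (fun x hx => mem_subgroupOf.mpr (hSA x hx))
    rw [hSP]; exact FA.syl
  set S : Subgroup G := S'.map (NA A).subtype with hS
  have hSS' : ∀ x : ↥(NA A), (x : G) ∈ S ↔ x ∈ S' := by
    intro x
    constructor
    · rintro ⟨y, hy, hyx⟩
      have : y = x := Subtype.ext hyx
      rwa [← this]
    · intro hx; exact ⟨x, hx, rfl⟩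
  have hSle : S ≤ A := by
    rintro _ ⟨x, hx, rfl⟩
    exact hSA x hx
  have hSyl : IsSyl S A := by
    refine ⟨hSle, hS'.map _, fun X hX hXA hle => ?_⟩
    have h1 := hSyl'.max (X.subgroupOf (NA A)) hX.comap_subtype
      (fun x hx => mem_subgroupOf.mpr (hXA (mem_subgroupOf.mp hx)))
      (fun x hx => mem_subgroupOf.mpr (hle ((hSS' x).mpr hx)))
    apply le_antisymm _ hle
    intro x hx
    have hxN : x ∈ NA A := A_le A (hXA hx)
    have h2 : (⟨x, hxN⟩ : ↥(NA A)) ∈ X.subgroupOf (NA A) := mem_subgroupOf.mpr hx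
    rw [h1] at h2
    exact (hSS' ⟨x, hxN⟩).mpr h2
  -- 2-elements
  have htwo : ∀ x ∈ S', ∃ k : ℕ, x ^ 2 ^ k = 1 := fun x hx => by
    obtain ⟨k, hk⟩ := hS' ⟨x, hx⟩
    exact ⟨k, congrArg Subtype.val hk⟩
  have hsq : ∀ i, s i * s i = 1 := fun i => by
    apply hinj _ (mul_mem (hs i) (hs i)) _ (one_mem _)
    rw [map_mul, hsr, Fl.r_sq, map_one]
  have hcomm : ∀ i j, s i * s j = s j * s i := fun i j => by
    apply hinj _ (mul_mem (hs i) (hs j)) _ (mul_mem (hs j) (hs i))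
    rw [map_mul, map_mul, hsr, hsr, Fl.r_comm]
  have hprod : s 0 * s 1 * s 2 * s 3 * s 4 = 1 := by
    apply hinj _ (mul_mem (mul_mem (mul_mem (mul_mem (hs 0) (hs 1)) (hs 2)) (hs 3)) (hs 4)) _ (one_mem _)
    rw [map_mul, map_mul, map_mul, map_mul, hsr, hsr, hsr, hsr, hsr, Fl.r_prod, map_one]
  let r : Fin 5 → G := fun i => s i
  have hrN : ∀ i, r i ∈ NA A := fun i => (s i).2
  -- `V`
  have hVmap : ∀ y ∈ closure (Set.range Fl.r), ∃ x ∈ closure (Set.range s), pj A x = y := by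
    intro y hy
    have h1 : closure (Set.range Fl.r) = (closure (Set.range s)).map (pj A) := by
      rw [MonoidHom.map_closure]
      congr 1
      ext z
      constructor
      · rintro ⟨i, rfl⟩
        exact ⟨s i, ⟨i, rfl⟩, hsr i⟩
      · rintro ⟨_, ⟨i, rfl⟩, rfl⟩
        exact ⟨i, (hsr i).symm⟩
    rw [h1] at hy
    exact hy
  have hVS' : closure (Set.range s) ≤ S' := by
    rw [closure_le]; rintro _ ⟨i, rfl⟩; exact hs i
  have hVr : ∀ x : ↥(NA A), x ∈ closure (Set.range s) → (x : G) ∈ closure (Set.range r) := by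
    intro x hx
    have h1 : (closure (Set.range s)).map (NA A).subtype = closure (Set.range r) := by
      rw [MonoidHom.map_closure]
      congr 1
      ext z
      constructor
      · rintro ⟨_, ⟨i, rfl⟩, rfl⟩; exact ⟨i, rfl⟩
      · rintro ⟨i, rfl⟩; exact ⟨s i, ⟨i, rfl⟩, rfl⟩
    rw [← h1]; exact ⟨x, hx, rfl⟩
  have hVback : ∀ x ∈ S', pj A x ∈ closure (Set.range Fl.r) → (x : G) ∈ closure (Set.range r) := by
    intro x hx h
    obtain ⟨v, hv, hvx⟩ := hVmap _ h
    have h1 := hinj x hx v (hVS' hv) hvx.symm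
    rw [h1]; exact hVr v hv
  -- elements of `S` commuting with the `r i`
  have hU : ∀ u (huN : u ∈ NA A), u ∈ S → (∀ i, u * r i = r i * u) → pj A ⟨u, huN⟩ ∈ Fl.U := by
    intro u huN hu hui
    apply mem_U hZ hp Fl FA
    · rw [← hP, ← hSP]; exact ⟨_, (hSS' ⟨u, huN⟩).mp hu, rfl⟩
    · intro i
      rw [← hsr, ← map_mul, ← map_mul]
      congr 1
      exact Subtype.ext (hui i)
  have hUback : ∀ y ∈ Fl.U, ∃ x ∈ S', pj A x = y ∧ ∀ i, (x : G) * r i = r i * x := by
    intro y hy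
    obtain ⟨x, hx, hxy⟩ := hlift y ((le_sup_left : Fl.U ≤ P) hy)
    refine ⟨x, hx, hxy, fun i => ?_⟩
    have h1 : x * s i = s i * x := by
      apply hinj _ (mul_mem hx (hs i)) _ (mul_mem (hs i) hx)
      rw [map_mul, map_mul, hsr, hxy, Fl.U_r y hy]
    exact congrArg Subtype.val h1
  refine ⟨S, r, ?_, fun i => ⟨hrN i, hsr i⟩, ?_⟩
  swap
  · rw [← hSP]
    congr 1
    ext x
    rw [mem_subgroupOf, hSS']
  refine
    { r_A := fun i => hSle ⟨s i, hs i, rfl⟩
      r_S := fun i => ⟨s i, hs i, rfl⟩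
      sq := fun i => congrArg Subtype.val (hsq i)
      comm := fun i j => congrArg Subtype.val (hcomm i j)
      prod := congrArg Subtype.val hprod
      ne := ?_
      alt := ?_
      syl := hSyl
      elem := ?_
      into := ?_
      U_sq := ?_
      U_one := ?_
      U_ex := ?_
      U_cen := ?_
      U_card := ?_
      inn := ?_
      outB := ?_
      outC := ?_ }
  · -- ne
    intro h
    apply Fl.r_ne
    rw [← hsr]
    have : s 0 = 1 := Subtype.ext h
    rw [this, map_one]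
  · -- alt
    intro σ hσ
    obtain ⟨a, ha, haσ⟩ := Fl.l_mem ⟨σ, Equiv.Perm.mem_alternatingGroup.mpr hσ⟩
    rw [SetLike.mem_coe, mem_subgroupOf] at ha
    refine ⟨a, ha, fun i => ?_⟩
    have h1 : a * s i * a⁻¹ = s (σ i) := by
      obtain ⟨k, hk⟩ := htwo _ (hs i)
      obtain ⟨l, hl⟩ := htwo _ (hs (σ i))
      apply eq_of_two hZ (k := k) (l := l) _ _ hl
      · rw [map_mul, map_mul, map_inv, haσ, hsr, hsr]
        exact Fl.l_r _ _
      · push_cast
        exact mul_mem (mul_mem ha (hSA _ (hs i))) (inv_mem ha)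
      · rw [conj_pow, hk]; group
    exact congrArg Subtype.val h1
  · -- elem
    intro E hES hE2 hEc x hx
    have hxN : x ∈ NA A := A_le A (hSle (hES hx))
    have hE' : E.subgroupOf (NA A) ≤ S' := fun y hy => (hSS' y).mp (hES (mem_subgroupOf.mp hy))
    have h1 : (E.subgroupOf (NA A)).map (pj A) ≤ closure (Set.range Fl.r) := by
      apply FA.elem
      · rw [← hP, ← hSP]; exact map_mono hE'
      · rintro _ ⟨y, hy, rfl⟩
        rw [← map_mul]
        have : y * y = 1 := Subtype.ext (hE2 y (mem_subgroupOf.mp hy))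
        rw [this, map_one]
      · rw [OddQuot.card_map (pj A) hodd (hS'.to_le hE'),
          Nat.card_congr (subgroupOfEquivOfLe ((hES.trans hSle).trans (A_le A))).toEquiv]
        exact hEc
    have h2 := h1 ⟨⟨x, hxN⟩, mem_subgroupOf.mpr hx, rfl⟩
    exact hVback ⟨x, hxN⟩ ((hSS' ⟨x, hxN⟩).mp (hES hx)) h2
  · -- into
    intro x hx hxx
    have hxN : x ∈ NA A := A_le A hx
    obtain ⟨a1, ha1, h1⟩ := FA.into (pj A ⟨x, hxN⟩) (pj_mem_A1.mpr hx) (by
      rw [← map_mul]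
      have : (⟨x, hxN⟩ : ↥(NA A)) * ⟨x, hxN⟩ = 1 := Subtype.ext hxx
      rw [this, map_one])
    obtain ⟨a, ha, rfl⟩ := ha1
    rw [SetLike.mem_coe, mem_subgroupOf] at ha
    obtain ⟨v, hv, hvx⟩ := hVmap _ h1
    refine ⟨a, ha, ?_⟩
    have h2 : a * ⟨x, hxN⟩ * a⁻¹ = v := by
      obtain ⟨l, hl⟩ := htwo _ (hVS' hv)
      apply eq_of_two hZ (k := 1) (l := l) _ _ hl
      · rw [map_mul, map_mul, map_inv, hvx]
      · push_cast
        exact mul_mem (mul_mem ha hx) (inv_mem ha)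
      · rw [conj_pow, pow_one, pow_two]
        have : (⟨x, hxN⟩ : ↥(NA A)) * ⟨x, hxN⟩ = 1 := Subtype.ext hxx
        rw [this]; group
    have h3 : (a : G) * x * (a : G)⁻¹ = v := congrArg Subtype.val h2
    rw [h3]; exact hVr v hv
  · -- U_sq
    intro u hu hui
    have huN : u ∈ NA A := A_le A (hSle hu)
    have huS := (hSS' ⟨u, huN⟩).mp hu
    rcases Fl.U_sq _ (hU u huN hu hui) with h1 | ⟨i, h1⟩
    · left
      have h2 : (⟨u, huN⟩ : ↥(NA A)) * ⟨u, huN⟩ = 1 := by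
        apply hinj _ (mul_mem huS huS) _ (one_mem _)
        rw [map_mul, h1, map_one]
      exact congrArg Subtype.val h2
    · right
      refine ⟨i, ?_⟩
      have h2 : (⟨u, huN⟩ : ↥(NA A)) * ⟨u, huN⟩ = s i := by
        apply hinj _ (mul_mem huS huS) _ (hs i)
        rw [map_mul, h1, hsr]
      exact congrArg Subtype.val h2
  · -- U_one
    intro u hu hui huu
    have huN : u ∈ NA A := A_le A (hSle hu)
    apply hVback ⟨u, huN⟩ ((hSS' ⟨u, huN⟩).mp hu)
    apply Fl.U_one _ (hU u huN hu hui)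
    rw [← map_mul]
    have : (⟨u, huN⟩ : ↥(NA A)) * ⟨u, huN⟩ = 1 := Subtype.ext huu
    rw [this, map_one]
  · -- U_ex
    intro i
    obtain ⟨u1, hu1, h1⟩ := Fl.U_exists i
    obtain ⟨x, hx, hxu, hxr⟩ := hUback u1 hu1
    refine ⟨x, ⟨x, hx, rfl⟩, hxr, ?_⟩
    have h2 : x * x = s i := by
      apply hinj _ (mul_mem hx hx) _ (hs i)
      rw [map_mul, hxu, h1, hsr]
    exact congrArg Subtype.val h2
  · -- U_cen
    intro u hu hui hcen
    have huN : u ∈ NA A := A_le A (hSle hu)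
    apply hVback ⟨u, huN⟩ ((hSS' ⟨u, huN⟩).mp hu)
    obtain ⟨c, hc, v, hv, he⟩ := FA.cU (pj A ⟨u, huN⟩) (mem_normalizer_A1 _) (by
      intro y hy
      obtain ⟨x, hx, hxy, hxr⟩ := hUback y hy
      rw [← hxy, ← map_mul, ← map_mul]
      congr 1
      exact Subtype.ext (hcen x ⟨x, hx, rfl⟩ hxr))
    have hcA : c ∈ A1 A := by
      have h1 : c = pj A ⟨u, huN⟩ * v⁻¹ := by rw [he]; group
      rw [h1]
      refine mul_mem (pj_mem_A1.mpr (hSle hu)) (inv_mem ?_)
      have h2 : closure (Set.range Fl.r) ≤ A1 A := by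
        rw [closure_le]; rintro _ ⟨i, rfl⟩; exact Fl.r_mem i
      exact h2 hv
    rw [he, FA.cent c hcA hc, one_mul]; exact hv
  · -- U_card
    refine ⟨(Fl.U.comap (pj A) ⊓ S').map (NA A).subtype, ?_, ?_, ?_⟩
    · exact map_mono inf_le_right
    · rintro _ ⟨x, ⟨hx1, hx2⟩, rfl⟩ i
      obtain ⟨y, hy, hyx, hyr⟩ := hUback _ hx1
      have h1 := hinj y hy x hx2 hyx
      rw [← h1]; exact hyr i
    · rw [← Fl.card_U]
      have h1 : Nat.card ((Fl.U.comap (pj A) ⊓ S').map (NA A).subtype) = Nat.card ↥(Fl.U.comap (pj A) ⊓ S') :=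
        (Nat.card_congr ((Fl.U.comap (pj A) ⊓ S').equivMapOfInjective _ (NA A).subtype_injective).toEquiv).symm
      rw [h1, ← OddQuot.card_map (pj A) hodd (hS'.to_le inf_le_right)]
      apply Nat.card_le_card_of_injective (Subgroup.inclusion (?_ : Fl.U ≤ (Fl.U.comap (pj A) ⊓ S').map (pj A)))
        (Subgroup.inclusion_injective _)
      intro y hy
      obtain ⟨x, hx, hxy, -⟩ := hUback y hy
      exact ⟨x, mem_inf.mpr ⟨mem_comap.mpr (by rw [hxy]; exact hy), hx⟩, hxy⟩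
  · -- inn
    intro x hxN hxr
    obtain ⟨c, hc, u, hu, j, he⟩ := FA.cV (pj A ⟨x, hxN⟩) (mem_normalizer_A1 _) (by
      intro i
      rw [← hsr, ← map_mul, ← map_mul]
      congr 1
      exact Subtype.ext (hxr i))
    apply (inner_iff hp (n := ⟨x, hxN⟩)).mp
    have huh : u * Fl.h ^ j ∈ A1 A := mul_mem (Fl.U_le hu) (pow_mem Fl.h_mem j)
    refine ⟨u * Fl.h ^ j, huh, ?_⟩
    have h1 : (u * Fl.h ^ j)⁻¹ * pj A ⟨x, hxN⟩ = c := by
      have h2 : c * (u * Fl.h ^ j) = u * Fl.h ^ j * c := comm_of_centralizer hc huh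
      have h3 : c * u * Fl.h ^ j = u * Fl.h ^ j * c := by rw [mul_assoc]; exact h2
      rw [he, h3]; group
    rw [h1]; exact hc
  · -- outB
    intro f0 hf0 hff hout
    set n0 : ↥(NA A) := ⟨f0, hf0⟩ with hn0
    have hnn : n0 * n0 = 1 := Subtype.ext hff
    obtain ⟨B1, hB1A, hB1, hB1f, hB12, w1, hw1, hww1, hw11, c1, hc1, hcf⟩ := FA.outB (pj A n0)
      (mem_normalizer_A1 _) (by rw [← map_mul, hnn, map_one]) (fun h => hout ((inner_iff hp).mp h))
    -- `B` generated by the 2-elements over `B₁`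
    let gen : Set (↥(NA A)) := {x | (x : G) ∈ A ∧ (∃ k : ℕ, x ^ 2 ^ k = 1) ∧ pj A x ∈ B1}
    let B' : Subgroup ↥(NA A) := closure gen
    have hB'map : B'.map (pj A) = B1 := by
      apply le_antisymm
      · rw [MonoidHom.map_closure, closure_le]
        rintro _ ⟨x, hx, rfl⟩
        exact hx.2.2
      · refine hB12.trans ?_
        rw [closure_le]
        rintro y ⟨hy, k, hk⟩
        obtain ⟨x, hxA, hxy, hxk⟩ := exists_two hZ (hB1A hy) hk
        exact ⟨x, subset_closure ⟨hxA, ⟨k, hxk⟩, by rw [hxy]; exact hy⟩, hxy⟩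
    have hB'A : ∀ x ∈ B', (x : G) ∈ A := by
      intro x hx
      have : B' ≤ A.subgroupOf (NA A) := by
        rw [closure_le]
        exact fun x hx => mem_subgroupOf.mpr hx.1
      exact mem_subgroupOf.mp (this hx)
    have hgenB : ∀ x ∈ gen, x ∈ ⁅B', B'⁆ := by
      rintro x ⟨hxA, ⟨k, hk⟩, hxB⟩
      rw [← hB1, ← hB'map, ← Subgroup.map_commutator] at hxB
      obtain ⟨y, hy, hyx⟩ := hxB
      obtain ⟨m, hm, hmz⟩ := exists_exp hZ k
      have hyB : y ∈ B' := (commutator_le_self B') hy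
      have h1 : pj A (y⁻¹ * x) = 1 := by rw [map_mul, map_inv, hyx, inv_mul_cancel]
      have h2 := pj_eq_one.mp h1
      have h3 : Commute y (y⁻¹ * x) := Subtype.ext (comm_of_centralizer (mem_ZA.mp h2).2 (hB'A y hyB)).symm
      have h4 : x = y * (y⁻¹ * x) := by group
      have h5 : x ^ m = x := isTwo_pow hk hm
      have h6 : (y⁻¹ * x) ^ m = 1 := Subtype.ext (by push_cast; exact hmz _ h2)
      rw [← h5, h4, h3.mul_pow, h6, mul_one]
      exact pow_mem hy m
    have hB' : ⁅B', B'⁆ = B' := le_antisymm (commutator_le_self B') (by rw [closure_le]; exact hgenB)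
    have hB'f : ∀ x ∈ B', x * n0 = n0 * x := by
      intro x hx
      have h1 : B' ≤ centralizer ({n0} : Set ↥(NA A)) := by
        rw [closure_le]
        rintro x ⟨hxA, ⟨k, hk⟩, hxB⟩
        rw [SetLike.mem_coe, mem_centralizer_singleton_iff]
        have h2 : n0 * x * n0⁻¹ = x := by
          apply eq_of_two hZ (k := k) (l := k) _ _ hk
          · rw [map_mul, map_mul, map_inv, ← hB1f _ hxB]; group
          · push_cast
            exact conj_mem_of_mem_normalizer hf0 hxA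
          · rw [conj_pow, hk]; group
        rw [mul_inv_eq_iff_eq_mul] at h2
        exact h2.symm
      have h2 := h1 hx
      rwa [mem_centralizer_singleton_iff] at h2
    obtain ⟨w, hwA, hww, hwk⟩ := exists_two hZ (hB1A hw1) (k := 1) (by rw [pow_one, pow_two]; exact hww1)
    have hwB : w ∈ B' := subset_closure ⟨hwA, ⟨1, hwk⟩, by rw [hww]; exact hw1⟩
    rw [pow_one, pow_two] at hwk
    obtain ⟨g, hg, hgf⟩ := OddQuot.exists_conj_elem (pj A) hsurj hodd (y := n0) (z := n0 * w) (k := 1) (l := 1)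
      (by rw [pow_one, pow_two]; exact hnn)
      (by
        rw [pow_one, pow_two]
        have h1 := hB'f w hwB
        calc n0 * w * (n0 * w) = n0 * (w * n0) * w := by group
          _ = (n0 * n0) * (w * w) := by rw [h1]; group
          _ = 1 := by rw [hnn, hwk, one_mul])
      (x := c1) (by rw [hcf, map_mul, hww])
    refine ⟨B'.map (NA A).subtype, ?_, ?_, ?_, w, ⟨w, hwB, rfl⟩, congrArg Subtype.val hwk, ?_, g,
      congrArg Subtype.val hgf⟩
    · rw [← Subgroup.map_commutator, hB']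
    · rintro _ ⟨x, hx, rfl⟩
      exact congrArg Subtype.val (hB'f x hx)
    · rw [MonoidHom.map_closure]
      apply Subgroup.closure_mono
      rintro _ ⟨x, hx, rfl⟩
      obtain ⟨k, hk⟩ := hx.2.1
      refine ⟨subset_closure ⟨x, hx, rfl⟩, k, congrArg Subtype.val hk⟩
    · intro h
      apply hw11
      rw [← hww]
      have : w = 1 := Subtype.ext h
      rw [this, map_one]
  · -- outC
    intro f0 hf0 hff hout Y hY hYN hYf
    set n0 : ↥(NA A) := ⟨f0, hf0⟩ with hn0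
    have hnn : n0 * n0 = 1 := Subtype.ext hff
    have hY' : IsPGroup 2 (Y.subgroupOf (NA A)) := hY.comap_subtype
    have h1 := FA.outC (pj A n0) (mem_normalizer_A1 _) (by rw [← map_mul, hnn, map_one])
      (fun h => hout ((inner_iff hp).mp h)) ((Y.subgroupOf (NA A)).map (pj A)) (hY'.map _)
      (fun x _ => mem_normalizer_A1 x) (by
        rintro _ ⟨x, hx, rfl⟩
        rw [SetLike.mem_coe, mem_subgroupOf] at hx
        rw [← map_mul, ← map_mul]
        congr 1
        exact Subtype.ext (hYf x hx))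
    rw [OddQuot.card_map (pj A) hodd hY', Nat.card_congr (subgroupOfEquivOfLe hYN).toEquiv] at h1
    refine h1.trans (Nat.mul_le_mul_left _ ?_)
    have h2 : (Y.subgroupOf (NA A)).map (pj A) ⊓ centralizer (A1 A : Set (X1 A)) ≤
        ((Y ⊓ centralizer (A : Set G)).subgroupOf (NA A)).map (pj A) := by
      rintro _ ⟨⟨x, hx, rfl⟩, hxc⟩
      rw [SetLike.mem_coe, mem_subgroupOf] at hx
      exact ⟨x, mem_subgroupOf.mpr (mem_inf.mpr ⟨hx, (pj_mem_centralizer hp).mp hxc⟩), rfl⟩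
    calc Nat.card ↥((Y.subgroupOf (NA A)).map (pj A) ⊓ centralizer (A1 A : Set (X1 A)))
        ≤ Nat.card ↥(((Y ⊓ centralizer (A : Set G)).subgroupOf (NA A)).map (pj A)) :=
          Nat.card_le_card_of_injective _ (Subgroup.inclusion_injective h2)
      _ = Nat.card ↥((Y ⊓ centralizer (A : Set G)).subgroupOf (NA A)) :=
          OddQuot.card_map (pj A) hodd ((hY.to_le inf_le_left).comap_subtype)
      _ = Nat.card ↥(Y ⊓ centralizer (A : Set G)) :=
          Nat.card_congr (subgroupOfEquivOfLe (inf_le_left.trans hYN)).toEquiv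

end Main

end Cfsg.Agent.UFiveTwo.GFacts
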