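import Cfsg.Agent.UFiveTwo.ModelQ

/-!
# `PSU₅(2)`: the Levi factor `SL₂(4) ≅ Alt(5)`
-/

set_option autoImplicit false
set_option maxRecDepth 100000

open Cfsg

namespace Cfsg.Agent.UFiveTwo.Model

open Matrix Cfsg.Agent.Lib.FieldFour
open Cfsg.Agent.SylowU5.Model Cfsg.Agent.SylowU5.Basic

abbrev SL2 : Type := Matrix.SpecialLinearGroup (Fin 2) F4

theorem SL2_det (g : SL2) : g.1 0 0 * g.1 1 1 + g.1 0 1 * g.1 1 0 = 1 := by
  have h := g.2
  rw [Matrix.det_fin_two] at h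
  linear_combination h + (g.1 0 1 * g.1 1 0) * two_zero

/-- The Levi homomorphism. -/
def lvS : SL2 →* MU where
  toFun g := lv (g.1 0 0) (g.1 0 1) (g.1 1 0) (g.1 1 1) 1 (SL2_det g) one_ne_zero
  map_one' := by
    apply mt_inj
    rw [mt_lv, mt_one]
    ext i j
    fin_cases i <;> fin_cases j <;> simp [lm, cj_zero, cj_one]
  map_mul' g k := by
    apply mt_inj
    have h : ∀ i j, (g * k).1 i j = g.1 i 0 * k.1 0 j + g.1 i 1 * k.1 1 j := by
      intro i j
      have h1 : (g * k).1 = g.1 * k.1 := rfl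
      rw [h1, Matrix.mul_apply, Fin.sum_univ_two]
    rw [mt_mul, mt_lv, mt_lv, mt_lv, h, h, h, h]
    ext i j
    rw [Matrix.mul_apply, Fin.sum_univ_five]
    fin_cases i <;> fin_cases j <;> simp [lm, cj_add, cj_mul]

theorem mt_lvS (g : SL2) : mt (lvS g) = lm (g.1 0 0) (g.1 0 1) (g.1 1 0) (g.1 1 1) 1 := rfl

/-- The five points of the line. -/
def v2 : Fin 5 → F4 × F4 := ![(F4.i, F4.o), (F4.o, F4.i), (F4.i, F4.i), (F4.i, F4.v), (F4.i, F4.w)]

theorem vv_eq (i : Fin 5) : vv i = (v2 i).1 • e 0 + (v2 i).2 • e 1 := by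
  revert i
  decide

theorem chk_act : ∀ a b c d : F4, F4.add (F4.mul a d) (F4.mul b c) = F4.i → ∀ i : Fin 5, ∃ j : Fin 5,
    ∃ μ : F4, μ ≠ F4.o ∧ F4.add (F4.mul a (v2 i).1) (F4.mul b (v2 i).2) = F4.mul μ (v2 j).1 ∧
      F4.add (F4.mul c (v2 i).1) (F4.mul d (v2 i).2) = F4.mul μ (v2 j).2 := by
  decide +kernel

theorem lvS_vec (g : SL2) (x y : F4) : mt (lvS g) *ᵥ (x • e 0 + y • e 1) =
    (g.1 0 0 * x + g.1 0 1 * y) • e 0 + (g.1 1 0 * x + g.1 1 1 * y) • e 1 := by
  rw [mt_lvS, Matrix.mulVec_add, Matrix.mulVec_smul, Matrix.mulVec_smul, col, col]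
  ext i
  fin_cases i <;> simp [lm] <;> ring

theorem exists_act (g : SL2) (i : Fin 5) : ∃ j, lvS g * r i * (lvS g)⁻¹ = r j := by
  obtain ⟨j, μ, hμ, h1, h2⟩ := chk_act _ _ _ _ (SL2_det g) i
  refine ⟨j, ?_⟩
  rw [conj_r_iff, vv_eq i, lvS_vec]
  have h3 : g.1 0 0 * (v2 i).1 + g.1 0 1 * (v2 i).2 = μ * (v2 j).1 := h1
  have h4 : g.1 1 0 * (v2 i).1 + g.1 1 1 * (v2 i).2 = μ * (v2 j).2 := h2
  rw [h3, h4, ← smul_smul, ← smul_smul, ← smul_add, ← vv_eq j, tv_smul hμ]

theorem r_injective : Function.Injective r := fun _ _ h => M0.d_inj _ _ (em_injective h)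

/-- The action on the five points. -/
noncomputable def act (g : SL2) (i : Fin 5) : Fin 5 := (exists_act g i).choose

theorem act_spec (g : SL2) (i : Fin 5) : lvS g * r i * (lvS g)⁻¹ = r (act g i) :=
  (exists_act g i).choose_spec

theorem act_eq {g : SL2} {i j : Fin 5} (h : lvS g * r i * (lvS g)⁻¹ = r j) : act g i = j :=
  r_injective (by rw [← act_spec, h])

noncomputable instance : MulAction SL2 (Fin 5) where
  smul := act
  one_smul i := act_eq (by rw [map_one, one_mul, inv_one, mul_one])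
  mul_smul g k i := act_eq (by
    change lvS (g * k) * r i * (lvS (g * k))⁻¹ = r (act g (act k i))
    rw [← act_spec, ← act_spec, map_mul]
    group)

/-- The permutation representation. -/
noncomputable def ρ : SL2 →* Equiv.Perm (Fin 5) := MulAction.toPermHom SL2 (Fin 5)

theorem ρ_spec (g : SL2) (i : Fin 5) : lvS g * r i * (lvS g)⁻¹ = r (ρ g i) := act_spec g i

theorem chk_inj : ∀ a b c d : F4, F4.add (F4.mul a d) (F4.mul b c) = F4.i →
    (∀ i : Fin 5, ∃ μ : F4, μ ≠ F4.o ∧ F4.add (F4.mul a (v2 i).1) (F4.mul b (v2 i).2) = F4.mul μ (v2 i).1 ∧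
      F4.add (F4.mul c (v2 i).1) (F4.mul d (v2 i).2) = F4.mul μ (v2 i).2) →
    a = F4.i ∧ b = F4.o ∧ c = F4.o ∧ d = F4.i := by
  decide +kernel

theorem SL2_ext {g k : SL2} (h0 : g.1 0 0 = k.1 0 0) (h1 : g.1 0 1 = k.1 0 1) (h2 : g.1 1 0 = k.1 1 0)
    (h3 : g.1 1 1 = k.1 1 1) : g = k := by
  apply Subtype.ext
  ext i j
  fin_cases i <;> fin_cases j
  · exact h0
  · exact h1
  · exact h2
  · exact h3

theorem vv_ne (i : Fin 5) : vv i ≠ 0 := by
  revert i
  decide

theorem ρ_injective : Function.Injective ρ := by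
  rw [injective_iff_map_eq_one]
  intro g hg
  have h1 : ∀ i, lvS g * r i * (lvS g)⁻¹ = r i := by
    intro i
    rw [ρ_spec, hg]
    rfl
  obtain ⟨h2, h3, h4, h5⟩ := chk_inj _ _ _ _ (SL2_det g) (fun i => by
    obtain ⟨μ, hμ, h6⟩ := tv_inj_of (vv_ne i) ((conj_r_iff _ _ _).1 (h1 i)).symm
    rw [vv_eq i, lvS_vec] at h6
    refine ⟨μ, hμ, ?_, ?_⟩
    · have := congrFun h6 0
      simp at this
      exact this
    · have := congrFun h6 1
      simp at this
      exact this)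
  exact SL2_ext (by rw [h2]; rfl) (by rw [h3]; rfl) (by rw [h4]; rfl) (by rw [h5]; rfl)

theorem card_SL2 : Nat.card SL2 = 60 := by
  let f : SL2 ≃ {x : F4 × F4 × F4 × F4 // x.1 * x.2.2.2 + x.2.1 * x.2.2.1 = 1} :=
    { toFun := fun g => ⟨(g.1 0 0, g.1 0 1, g.1 1 0, g.1 1 1), SL2_det g⟩
      invFun := fun x => ⟨!![x.1.1, x.1.2.1; x.1.2.2.1, x.1.2.2.2], by
        rw [Matrix.det_fin_two]
        have := x.2
        simp
        linear_combination this - (x.1.2.1 * x.1.2.2.1) * two_zero⟩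
      left_inv := fun g => SL2_ext rfl rfl rfl rfl
      right_inv := fun x => rfl }
  rw [Nat.card_congr f, Nat.card_eq_fintype_card]
  decide +kernel

theorem range_ρ : ρ.range = alternatingGroup (Fin 5) := by
  apply Equiv.Perm.eq_alternatingGroup_of_index_eq_two
  have h1 : Nat.card ρ.range = 60 := by
    rw [← card_SL2]
    exact (Nat.card_congr (MonoidHom.ofInjective ρ_injective).toEquiv).symm
  have h2 := ρ.range.card_mul_index
  rw [h1, Nat.card_perm, Nat.card_fin] at h2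
  have : Nat.factorial 5 = 120 := rfl
  omega

/-- The isomorphism `Alt(5) ≅ SL₂(4)`. -/
noncomputable def altEquiv : alternatingGroup (Fin 5) ≃* SL2 :=
  ((MonoidHom.ofInjective ρ_injective).trans (MulEquiv.subgroupCongr range_ρ)).symm

theorem ρ_altEquiv (σ : alternatingGroup (Fin 5)) : ρ (altEquiv σ) = σ := by
  have h1 : altEquiv.symm (altEquiv σ) = σ := altEquiv.symm_apply_apply σ
  have h2 := congrArg Subtype.val h1
  exact h2

/-- The Levi factor as a representation of `Alt(5)`. -/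
noncomputable def l : alternatingGroup (Fin 5) →* MU := lvS.comp (altEquiv : alternatingGroup (Fin 5) →* SL2)

theorem l_apply (σ : alternatingGroup (Fin 5)) : l σ = lvS (altEquiv σ) := rfl

theorem l_r (σ : alternatingGroup (Fin 5)) (i : Fin 5) :
    l σ * r i * (l σ)⁻¹ = r ((σ : Equiv.Perm (Fin 5)) i) := by
  rw [l_apply, ρ_spec, ρ_altEquiv]

end Cfsg.Agent.UFiveTwo.Model
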