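import Cfsg.Agent.UFiveTwo.ModelFlag
import Cfsg.Agent.ClassicalGeometry.PSUAutMain

/-!
# `PSU₅(2)`: automorphisms
-/

set_option autoImplicit false
set_option maxRecDepth 100000

open Cfsg

namespace Cfsg.Agent.UFiveTwo.Model

open Matrix Cfsg.Agent.Lib.FieldFour
open Cfsg.Agent.SylowU5.Model Cfsg.Agent.SylowU5.Basic Cfsg.Agent.SylowU5

open Cfsg.Agent.ClassicalGeometry.PSUAutCount (gm semiConj toAut herm_gm act_semiConj herm_semi
  gm_inv_mulVec gm_mulVec_inv gm_mul_inv gm_inv_mul)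

theorem cj_sub' (x y : F4) : cj x - cj y = cj (x - y) := by revert x y; decide

/-- The conjugate of a vector. -/
def cv (u : Fin 5 → F4) : Fin 5 → F4 := fun i => cj (u i)

theorem bf_cv (u v : Fin 5 → F4) : bf (cv u) (cv v) = cj (bf u v) := by
  simp only [bf_def, cv, cj_add, cj_mul]

theorem cv_cv (u : Fin 5 → F4) : cv (cv u) = u := by ext i; exact cj_cj _

/-- `cj` as a ring homomorphism. -/
def cjHom : F4 ≃+* F4 where
  toFun := cj
  invFun := cj
  left_inv := cj_cj
  right_inv := cj_cj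
  map_mul' := cj_mul
  map_add' := cj_add

theorem map_cj_mulVec (A : Matrix (Fin 5) (Fin 5) F4) (u : Fin 5 → F4) :
    (A.map cj) *ᵥ (cv u) = cv (A *ᵥ u) := by
  ext i
  simp only [Matrix.mulVec, dotProduct, Fin.sum_univ_five, cv, Matrix.map_apply, cj_add, cj_mul]

theorem det_map_cj (A : Matrix (Fin 5) (Fin 5) F4) : (A.map cj).det = cj A.det := by
  have := RingHom.map_det (cjHom : F4 →+* F4) A
  exact this.symm

/-- The field automorphism. -/
def frF (a : MU) : MU := mk ((mt a).map cj) (by rw [det_map_cj, mt_det]; rfl) (fun u v => by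
  rw [← cv_cv u, ← cv_cv v, map_cj_mulVec, map_cj_mulVec, bf_cv, mt_bf, ← bf_cv])

theorem mt_frF (a : MU) : mt (frF a) = (mt a).map cj := rfl

theorem frF_frF (a : MU) : frF (frF a) = a := by
  apply mt_inj
  rw [mt_frF, mt_frF]
  ext i j
  exact cj_cj _

/-- The field automorphism as an automorphism. -/
def fr : MulAut MU where
  toFun := frF
  invFun := frF
  left_inv := frF_frF
  right_inv := frF_frF
  map_mul' a b := by
    apply mt_inj
    rw [mt_mul, mt_frF, mt_frF, mt_frF, mt_mul]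
    exact Matrix.map_mul (f := (cjHom : F4 →+* F4))

theorem mt_fr (a : MU) : mt (fr a) = (mt a).map cj := rfl
theorem fr_fr (a : MU) : fr (fr a) = a := frF_frF a

theorem fr_vec (a : MU) (u : Fin 5 → F4) : mt (fr a) *ᵥ (cv u) = cv (mt a *ᵥ u) := map_cj_mulVec _ _

theorem ringAut (ρ : F4 ≃+* F4) : (∀ x, ρ x = x) ∨ ∀ x, ρ x = cj x := by
  have h0 : ρ F4.o = F4.o := map_zero ρ
  have h1 : ρ F4.i = F4.i := map_one ρ
  have h2 : ρ F4.w = F4.w ∨ ρ F4.w = F4.v := by
    have e0 : ρ F4.w ≠ F4.o := fun h => by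
      have := ρ.injective (h.trans h0.symm); revert this; decide
    have e1 : ρ F4.w ≠ F4.i := fun h => by
      have := ρ.injective (h.trans h1.symm); revert this; decide
    cases h : ρ F4.w
    · exact absurd h e0
    · exact absurd h e1
    · exact Or.inl rfl
    · exact Or.inr rfl
  have h3 : ρ F4.v = ρ F4.w + ρ F4.i := by rw [← map_add]; rfl
  rcases h2 with h2 | h2
  · left
    intro x
    rw [h1, h2] at h3
    cases x
    · exact h0
    · exact h1
    · exact h2
    · rw [h3]; rfl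
  · right
    intro x
    rw [h1, h2] at h3
    cases x
    · exact h0
    · exact h1
    · exact h2
    · rw [h3]; rfl

/-- A unitary matrix is a scalar multiple of an element of `MU`. -/
theorem exists_scale {B : Matrix (Fin 5) (Fin 5) F4} (hB : ∀ u v, bf (B *ᵥ u) (B *ᵥ v) = bf u v)
    (hd : B.det ≠ 0) : ∃ (b : MU) (d : F4), d ≠ 0 ∧ mt b = d • B := by
  refine ⟨mk (B.det • B) ?_ ?_, B.det, hd, rfl⟩
  · rw [Matrix.det_smul, Fintype.card_fin]
    have : ∀ d : F4, d ≠ 0 → d ^ 5 * d = 1 := by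
      intro d hd
      have h1 : d ^ 5 * d = (d * d * d) * (d * d * d) := by ring
      rw [h1]
      have h2 : ∀ d : F4, d ≠ 0 → d * d * d = 1 := by decide
      rw [h2 d hd, one_mul]
    exact this _ hd
  · intro u v
    rw [Matrix.smul_mulVec, Matrix.smul_mulVec, bf_smul_left, bf_smul_right, hB, ← mul_assoc, nrm hd,
      one_mul]

/-- **The automorphisms of `MU`.** -/
theorem aut_MU (φ : MulAut MU) : (∃ b : MU, ∀ x, φ x = b * x * b⁻¹) ∨ ∃ b : MU, ∀ x, φ x = b * fr x * b⁻¹ := by
  let α : MulAut (Cfsg.PSU 5 F4 2) := equivPSU.symm.trans (φ.trans equivPSU)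
  obtain ⟨A, ρ, hα⟩ := ClassicalGeometry.PSUAutMain.exists_toAut (F := F4) (q := 2) (n := 5)
    (by rw [F4.card]; norm_num) (by norm_num) (by norm_num) α
  have hpr : ∀ x : MU, equivPSU x = QuotientGroup.mk (equivSU x) := fun x => rfl
  have h1 : ∀ x : MU, equivSU (φ x) = semiConj A ρ (equivSU x) := by
    intro x
    have h2 : α (equivPSU x) = equivPSU (φ x) := by
      change equivPSU (φ (equivPSU.symm (equivPSU x))) = _
      rw [MulEquiv.symm_apply_apply]
    rw [hα, hpr, hpr] at h2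
    have h3 : (QuotientGroup.mk (semiConj A ρ (equivSU x)) : Cfsg.PSU 5 F4 2) =
        QuotientGroup.mk (equivSU (φ x)) := h2
    rw [QuotientGroup.eq, center_SU, Subgroup.mem_bot] at h3
    exact (inv_mul_eq_one.1 h3).symm
  -- matrices
  have h2 : ∀ x : MU, cmat * mt (φ x) * cinv = gm A * (cmat * mt x * cinv).map ρ * gm A⁻¹ := by
    intro x
    exact congrArg (fun g : Cfsg.SU 5 F4 2 => g.1.1) (h1 x)
  have hdetA : (gm A).det ≠ 0 := by
    have h3 := congrArg Matrix.det (gm_mul_inv A)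
    rw [Matrix.det_mul, Matrix.det_one] at h3
    exact left_ne_zero_of_mul_eq_one h3
  have hdc : cmat.det ≠ 0 := by
    have h3 := congrArg Matrix.det cmat_cinv
    rw [Matrix.det_mul, Matrix.det_one] at h3
    exact left_ne_zero_of_mul_eq_one h3
  have hdi : cinv.det ≠ 0 := by
    have h3 := congrArg Matrix.det cinv_cmat
    rw [Matrix.det_mul, Matrix.det_one] at h3
    exact left_ne_zero_of_mul_eq_one h3
  -- the general end
  have fin : ∀ (C C' : Matrix (Fin 5) (Fin 5) F4) (ψ : MU → MU), C * C' = 1 → C.det ≠ 0 →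
      (∀ u v, hermForm 5 F4 2 (C *ᵥ u) (C *ᵥ v) = bf u v) →
      (∀ x, (cmat * mt x * cinv).map ρ = C * mt (ψ x) * C') →
      ∃ b : MU, ∀ x, φ x = b * ψ x * b⁻¹ := by
    intro C C' ψ hCC hC hCu hψ
    obtain ⟨b, d, hd, hb⟩ := exists_scale (B := cinv * gm A * C) (by
      intro u v
      have h3 : ∀ u, (cinv * gm A * C) *ᵥ u = cinv *ᵥ (gm A *ᵥ (C *ᵥ u)) := by
        intro u
        rw [Matrix.mulVec_mulVec, Matrix.mulVec_mulVec, Matrix.mul_assoc]
      rw [h3, h3, ← herm_cmat, cmat_cinv_mulVec, cmat_cinv_mulVec, herm_gm, hCu]) (by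
      rw [Matrix.det_mul, Matrix.det_mul]
      exact mul_ne_zero (mul_ne_zero hdi hdetA) hC)
    refine ⟨b, fun x => ?_⟩
    rw [eq_mul_inv_iff_mul_eq]
    apply mt_inj
    rw [mt_mul, mt_mul, hb, Matrix.mul_smul, Matrix.smul_mul]
    congr 1
    have h3 := h2 x
    rw [hψ] at h3
    have h4 : C' * C = 1 := mul_eq_one_comm.1 hCC
    calc mt (φ x) * (cinv * gm A * C)
        = cinv * (cmat * mt (φ x) * cinv) * gm A * C := by
          simp only [Matrix.mul_assoc]
          rw [← Matrix.mul_assoc cinv cmat, cinv_cmat, Matrix.one_mul]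
      _ = cinv * (gm A * (C * mt (ψ x) * C') * gm A⁻¹) * gm A * C := by rw [h3]
      _ = cinv * gm A * C * mt (ψ x) * (C' * ((gm A⁻¹ * gm A) * C)) := by
          simp only [Matrix.mul_assoc]
      _ = _ := by rw [gm_inv_mul, Matrix.one_mul, h4, Matrix.mul_one]
  rcases ringAut ρ with hρ | hρ
  · left
    apply fin cmat cinv id cmat_cinv hdc herm_cmat
    intro x
    ext i j
    exact hρ _
  · right
    have hm : ∀ X Y : Matrix (Fin 5) (Fin 5) F4, (X * Y).map cj = X.map cj * Y.map cj := fun X Y =>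
      Matrix.map_mul (f := (cjHom : F4 →+* F4))
    apply fin (cmat.map cj) (cinv.map cj) fr
    · rw [← hm, cmat_cinv]
      ext i j
      rw [Matrix.map_apply]
      by_cases hij : i = j
      · subst hij; simp [cj_one]
      · simp [hij, cj_zero]
    · rw [det_map_cj]; exact cj_ne hdc
    · intro u v
      rw [← cv_cv u, ← cv_cv v, map_cj_mulVec, map_cj_mulVec]
      have h3 : ∀ u v : Fin 5 → F4, hermForm 5 F4 2 (cv u) (cv v) = cj (hermForm 5 F4 2 u v) := by
        intro u v
        simp only [LieClassical.SUBasic.hermForm_apply, Fin.sum_univ_five, cv, ← cj_eq, cj_add, cj_mul]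
      rw [h3, herm_cmat, ← bf_cv]
    · intro x
      have h3 : (cmat * mt x * cinv).map ρ = (cmat * mt x * cinv).map cj := by
        ext i j; exact hρ _
      rw [h3, hm, hm, mt_fr]

end Cfsg.Agent.UFiveTwo.Model
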