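import Cfsg.Agent.UFiveTwo.ModelAut

/-!
# `PSU₅(2)`: automorphisms acting trivially on sections
-/

set_option autoImplicit false
set_option maxRecDepth 100000

open Cfsg

namespace Cfsg.Agent.UFiveTwo.Model

open Matrix Cfsg.Agent.Lib.FieldFour
open Cfsg.Agent.SylowU5.Model Cfsg.Agent.SylowU5.Basic Cfsg.Agent.SylowU5

/-- An element fixing `e 0` and `e 1` is in `U`. -/
theorem mem_U_of_fix {b : MU} (h0 : mt b *ᵥ e 0 = e 0) (h1 : mt b *ᵥ e 1 = e 1) : b ∈ U := by
  have perp : ∀ v : Fin 5 → F4, (mt b *ᵥ v) 4 = v 4 ∧ (mt b *ᵥ v) 3 = v 3 := by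
    intro v
    have h2 := mt_bf b v (e 0)
    have h3 := mt_bf b v (e 1)
    rw [h0, bf_e0, bf_e0] at h2
    rw [h1, bf_e1, bf_e1] at h3
    exact ⟨h2, h3⟩
  set l := mt b 2 2 with hl
  have hup : ∀ i j : Fin 5, j < i → mt b i j = 0 := by
    intro i j hij
    have c0 : ∀ k, mt b k 0 = (e 0 : Fin 5 → F4) k := fun k => by rw [← h0, col]
    have c1 : ∀ k, mt b k 1 = (e 1 : Fin 5 → F4) k := fun k => by rw [← h1, col]
    have c2 := perp (e 2)
    have c3 := perp (e 3)
    rw [col] at c2 c3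
    fin_cases j
    · change mt b i 0 = 0
      rw [c0]
      have : i ≠ 0 := by rintro rfl; exact absurd hij (by decide)
      simp [this]
    · change mt b i 1 = 0
      rw [c1]
      have : i ≠ 1 := by rintro rfl; exact absurd hij (by decide)
      simp [this]
    · change mt b i 2 = 0
      fin_cases i
      · exact absurd hij (by decide)
      · exact absurd hij (by decide)
      · exact absurd hij (by decide)
      · exact c2.2.trans (by simp)
      · exact c2.1.trans (by simp)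
    · change mt b i 3 = 0
      fin_cases i
      · exact absurd hij (by decide)
      · exact absurd hij (by decide)
      · exact absurd hij (by decide)
      · exact absurd hij (by decide)
      · exact c3.1.trans (by simp)
    · exfalso
      have := i.2
      rw [Fin.lt_def] at hij
      simp at hij
      omega
  have hd : l = 1 := by
    have hdet := mt_det b
    have c3 := (perp (e 3)).2
    have c4 := (perp (e 4)).1
    rw [col] at c3 c4
    have d0 : mt b 0 0 = 1 := by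
      have := congrFun h0 0
      rw [col] at this
      simpa using this
    have d1 : mt b 1 1 = 1 := by
      have := congrFun h1 1
      rw [col] at this
      simpa using this
    have d3 : mt b 3 3 = 1 := c3.trans (by simp)
    have d4 : mt b 4 4 = 1 := c4.trans (by simp)
    rw [Matrix.det_of_isUpperTriangular (fun i j hij => hup i j hij), Fin.prod_univ_five, d0, d1, d3, d4,
      ← hl] at hdet
    simpa using hdet
  refine (mem_U_iff _).2 ⟨h0, h1, fun v h3 h4 => ⟨v 2 * mt b 0 2, v 2 * mt b 1 2, ?_⟩⟩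
  have hv : v = v 0 • e 0 + v 1 • e 1 + v 2 • e 2 := by
    ext i; fin_cases i <;> simp [h3, h4]
  have h5 : mt b *ᵥ v = v 0 • e 0 + v 1 • e 1 + v 2 • (mt b *ᵥ e 2) := by
    conv_lhs => rw [hv]
    rw [Matrix.mulVec_add, Matrix.mulVec_add, Matrix.mulVec_smul, Matrix.mulVec_smul,
      Matrix.mulVec_smul, h0, h1]
  rw [h5]
  have h6 := perp (e 2)
  rw [col] at h6 ⊢
  ext i
  fin_cases i
  · simp
  · simp
  · simp [← hl, hd]
  · have : mt b 3 2 = 0 := h6.2.trans (by simp)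
    simp [this, h3]
  · have : mt b 4 2 = 0 := h6.1.trans (by simp)
    simp [this, h4]

theorem h_powv (j : ℕ) (x y : F4) : mt (h ^ j) *ᵥ (x • e 0 + y • e 1) = F4.w ^ j • (x • e 0 + y • e 1) := by
  induction j with
  | zero => rw [pow_zero, mt_one, Matrix.one_mulVec, pow_zero, one_smul]
  | succ j ih => rw [pow_succ', mt_mul, ← Matrix.mulVec_mulVec, ih, Matrix.mulVec_smul, h_vec, smul_smul,
      pow_succ]

/-- A matrix acting as a scalar on the line. -/
theorem scalar_of {b : MU} {μ : Fin 5 → F4} (hμ : ∀ i, i = 0 ∨ i = 1 ∨ i = 2 → mt b *ᵥ vv i = μ i • vv i) :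
    mt b *ᵥ e 0 = μ 0 • e 0 ∧ mt b *ᵥ e 1 = μ 0 • e 1 := by
  have h0 := hμ 0 (by decide)
  have h1 := hμ 1 (by decide)
  have h2 := hμ 2 (by decide)
  have e2 : vv 2 = e 0 + e 1 := by ext i; fin_cases i <;> simp [vv]
  rw [vv0] at h0
  rw [vv1] at h1
  rw [e2, Matrix.mulVec_add, h0, h1] at h2
  have h3 := congrFun h2 0
  have h4 := congrFun h2 1
  simp at h3 h4
  exact ⟨h0, by rw [h1, h4, h3]⟩

theorem exists_pow {c : F4} (hc : c ≠ 0) : ∃ j : ℕ, j < 3 ∧ c = F4.w ^ j := by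
  have : ∀ c : F4, c ≠ 0 → c = 1 ∨ c = F4.w ∨ c = F4.w * F4.w := by decide
  rcases this _ hc with h | h | h
  · exact ⟨0, by norm_num, by rw [h, pow_zero]⟩
  · exact ⟨1, by norm_num, by rw [h, pow_one]⟩
  · exact ⟨2, by norm_num, by rw [h, pow_two]⟩

theorem mt_fr_r (i : Fin 5) : mt (fr (r i)) = tv (cv (vv i)) := by
  rw [mt_fr, mt_r]
  ext j k
  simp only [Matrix.map_apply, tv, Matrix.of_apply, cv, cj_add, cj_mul]
  split_ifs <;> simp [cj_zero, cj_one]

theorem cancel_mt {b : MU} {P R : Matrix (Fin 5) (Fin 5) F4} (h : P * mt b = R * mt b) : P = R := by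
  have h2 : mt b * mt b⁻¹ = 1 := by rw [← mt_mul, mul_inv_cancel, mt_one]
  calc P = P * mt b * mt b⁻¹ := by rw [Matrix.mul_assoc, h2, Matrix.mul_one]
    _ = _ := by rw [h, Matrix.mul_assoc, h2, Matrix.mul_one]

/-- Automorphisms fixing the transvections of the line. -/
theorem mcV {φ : MulAut MU} (hφ : ∀ i, φ (r i) = r i) :
    ∃ u ∈ U, ∃ j : ℕ, j < 3 ∧ ∀ x, φ x = (u * h ^ j) * x * (u * h ^ j)⁻¹ := by
  rcases aut_MU φ with ⟨b, hb⟩ | ⟨b, hb⟩
  · have h1 : ∀ i, ∃ μ : F4, μ ≠ 0 ∧ mt b *ᵥ vv i = μ • vv i := by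
      intro i
      have h2 := hφ i
      rw [hb, conj_r_iff] at h2
      exact tv_inj_of (vv_ne i) h2.symm
    choose μ hμ0 hμ using h1
    obtain ⟨h2, h3⟩ := scalar_of (μ := μ) fun i _ => hμ i
    obtain ⟨j, hj3, hj⟩ := exists_pow (hμ0 0)
    rw [hj] at h2 h3
    have k0 : mt (h ^ j)⁻¹ *ᵥ e 0 = (F4.w ^ j)⁻¹ • e 0 := by
      have h4 := mt_inv_mulVec (h ^ j) (e 0)
      have h5 := h_powv j 1 0
      rw [one_smul, zero_smul, add_zero] at h5
      rw [h5, Matrix.mulVec_smul] at h4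
      have hne : (F4.w : F4) ^ j ≠ 0 := by rw [← hj]; exact hμ0 0
      rw [← h4, smul_smul, inv_mul_cancel₀ hne, one_smul]
      rw [h4]
    have k1 : mt (h ^ j)⁻¹ *ᵥ e 1 = (F4.w ^ j)⁻¹ • e 1 := by
      have h4 := mt_inv_mulVec (h ^ j) (e 1)
      have h5 := h_powv j 0 1
      rw [one_smul, zero_smul, zero_add] at h5
      rw [h5, Matrix.mulVec_smul] at h4
      have hne : (F4.w : F4) ^ j ≠ 0 := by rw [← hj]; exact hμ0 0
      rw [← h4, smul_smul, inv_mul_cancel₀ hne, one_smul]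
      rw [h4]
    have hne : (F4.w : F4) ^ j ≠ 0 := by rw [← hj]; exact hμ0 0
    refine ⟨b * (h ^ j)⁻¹, mem_U_of_fix ?_ ?_, j, hj3, fun x => ?_⟩
    · rw [mt_mul, ← Matrix.mulVec_mulVec, k0, Matrix.mulVec_smul, h2, smul_smul, inv_mul_cancel₀ hne,
        one_smul]
    · rw [mt_mul, ← Matrix.mulVec_mulVec, k1, Matrix.mulVec_smul, h3, smul_smul, inv_mul_cancel₀ hne,
        one_smul]
    · rw [hb]; group
  · exfalso
    have h1 : ∀ i, ∃ μ : F4, μ ≠ 0 ∧ mt b *ᵥ cv (vv i) = μ • vv i := by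
      intro i
      have h2 := hφ i
      rw [hb, mul_inv_eq_iff_eq_mul] at h2
      have h3 := congrArg mt h2
      rw [mt_mul, mt_mul, mt_fr_r, mt_r, tv_conj] at h3
      exact tv_inj_of (vv_ne i) (cancel_mt h3).symm
    choose μ hμ0 hμ using h1
    have c0 : cv (vv 0) = vv 0 := by ext i; fin_cases i <;> rfl
    have c1 : cv (vv 1) = vv 1 := by ext i; fin_cases i <;> rfl
    have c2 : cv (vv 2) = vv 2 := by ext i; fin_cases i <;> rfl
    have c3 : cv (vv 3) = e 0 + F4.w • e 1 := by ext i; fin_cases i <;> rfl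
    have c3' : vv 3 = e 0 + F4.v • e 1 := by ext i; fin_cases i <;> rfl
    obtain ⟨h2, h3⟩ := scalar_of (μ := μ) (b := b) (by
      rintro i (rfl | rfl | rfl)
      · rw [← hμ 0, c0]
      · rw [← hμ 1, c1]
      · rw [← hμ 2, c2])
    have h4 := hμ 3
    rw [c3, c3', Matrix.mulVec_add, Matrix.mulVec_smul, h2, h3] at h4
    have h5 := congrFun h4 0
    have h6 := congrFun h4 1
    simp at h5 h6
    rw [h5] at h6
    have : ∀ c : F4, c ≠ 0 → F4.w * c = c * F4.v → False := by decide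
    exact this _ (hμ0 3) h6

theorem UD.conj_uh {u u' : MU} {p q : F4} (hu : u ∈ U) (hd : UD u' p q) (j : ℕ) :
    UD ((u * h ^ j) * u' * (u * h ^ j)⁻¹) (F4.v ^ j * p) (F4.v ^ j * q) := by
  obtain ⟨s, t, hs⟩ := exists_UD hu
  have h1 := (hs.mul (hd.conj_pow j)).mul hs.inv
  have h2 : (u * h ^ j) * u' * (u * h ^ j)⁻¹ = u * (h ^ j * u' * (h ^ j)⁻¹) * u⁻¹ := by group
  rw [h2]
  have h3 : s + F4.v ^ j * p + s = F4.v ^ j * p := by linear_combination s * two_zero
  have h4 : t + F4.v ^ j * q + t = F4.v ^ j * q := by linear_combination t * two_zero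
  rw [h3, h4] at h1
  exact h1

theorem v_pow {j : ℕ} (hj : j < 3) (h : F4.v ^ j = 1) : j = 0 := by
  interval_cases j
  · rfl
  · exfalso; revert h; rw [pow_one]; decide
  · exfalso; revert h; rw [pow_two]; decide

/-- The centre of `U`. -/
theorem U_center {u : MU} (hu : u ∈ U) (hc : ∀ u' ∈ U, u * u' = u' * u) :
    u ∈ Subgroup.closure (Set.range r) := by
  by_contra hne
  have hne' : u ∉ hT.E := by
    rw [Elem.E_eq_closure hT]; exact hne
  have key : ∀ i, r i = u⁻¹ * u⁻¹ := by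
    intro i
    obtain ⟨x, hx, h1⟩ := U_exists i
    rcases hT.cent_V u hu hne' x hx (hc x hx).symm with h2 | h2
    · exfalso
      have := hT.E_sq x h2
      rw [h1] at this
      exact r_ne i this
    · have h3 := hT.E_sq _ h2
      have h4 : x * u * (x * u) = x * x * (u * u) := by
        calc x * u * (x * u) = x * (u * x) * u := by group
          _ = x * (x * u) * u := by rw [hc x hx]
          _ = _ := by group
      rw [h4, h1] at h3
      rw [eq_comm, ← _root_.mul_inv_rev, inv_eq_iff_mul_eq_one]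
      rw [← h3]
      have h5 : u * u * r i = r i * (u * u) := by
        rw [U_r (mul_mem hu hu) i]
      rw [h5]
  have := (key 0).trans (key 1).symm
  exact absurd (r_injective this) (by decide)

/-- Automorphisms centralizing `U`. -/
theorem mcU {φ : MulAut MU} (hφ : ∀ u ∈ U, φ u = u) :
    ∃ v ∈ Subgroup.closure (Set.range r), ∀ x, φ x = v * x * v⁻¹ := by
  obtain ⟨u, hu, j, hj, hx⟩ := mcV (φ := φ) fun i => hφ _ (r_U i)
  obtain ⟨y, hy, hd⟩ := exists_UQ 1
  have h1 := hd.conj_uh hu j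
  rw [← hx, hφ y hy.1] at h1
  have h2 := (hd.uniq h1).1
  rw [mul_one] at h2
  have h3 := v_pow hj h2.symm
  subst h3
  simp only [pow_zero, mul_one] at hx
  refine ⟨u, U_center hu fun u' hu' => ?_, hx⟩
  have h4 := hx u'
  rw [hφ u' hu'] at h4
  calc u * u' = (u * u' * u⁻¹) * u := by group
    _ = _ := by rw [← h4]

/-- Automorphisms centralizing `U / V`. -/
theorem mcUV {φ : MulAut MU} (hφ : ∀ u ∈ U, ∃ v ∈ Subgroup.closure (Set.range r), φ u = u * v) :
    ∃ u ∈ U, ∀ x, φ x = u * x * u⁻¹ := by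
  have hr : ∀ i, φ (r i) = r i := by
    intro i
    obtain ⟨u, hu, h1⟩ := U_exists i
    obtain ⟨v, hv, h2⟩ := hφ u hu
    have h3 : v * v = 1 := by
      have h4 : v ∈ hT.E := by rw [Elem.E_eq_closure hT]; exact hv
      exact hT.E_sq v h4
    rw [← h1, map_mul, h2]
    calc u * v * (u * v) = u * (v * u) * v := by group
      _ = u * (u * v) * v := by rw [U_clos hu hv]
      _ = u * u * (v * v) := by group
      _ = _ := by rw [h3, mul_one]
  obtain ⟨u, hu, j, hj, hx⟩ := mcV hr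
  obtain ⟨y, hy, hd⟩ := exists_UQ 1
  have h1 := hd.conj_uh hu j
  obtain ⟨v, hv, h2⟩ := hφ y hy.1
  rw [← hx, h2] at h1
  obtain ⟨s', t', hv'⟩ := exists_UD (clos_le hv)
  have hv0 : s' = 0 := by
    rw [clos] at hv
    obtain ⟨x, hxE, rfl⟩ := hv
    obtain ⟨y', hy', k1, k2, k3⟩ := exists_em (a := em x) (l := 0) ((mem_U_iff _).1 hv'.1).1
      (by rw [((mem_U_iff _).1 hv'.1).2.1, zero_smul, add_zero]) hv'.2
    have hyx : y' = x := em_injective hy'
    subst hyx
    rw [← k2]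
    have h4 : ∀ n : Fin 16, (dec n).p = 0 ∧ (dec n).q = 0 := by decide +kernel
    exact (h4 ⟨y'.n, M0.mem_E.1 hxE⟩).1
  subst hv0
  have h3 := ((hd.mul hv').uniq h1).1
  rw [mul_one, add_zero] at h3
  have h4 := v_pow hj h3.symm
  subst h4
  simp only [pow_zero, mul_one] at hx
  exact ⟨u, hu, hx⟩

theorem mInd {φ ψ : MulAut MU} (hφ : ¬ ∃ b : MU, ∀ x, φ x = b * x * b⁻¹)
    (hψ : ¬ ∃ b : MU, ∀ x, ψ x = b * x * b⁻¹) : ∃ b : MU, ∀ x, φ (ψ x) = b * x * b⁻¹ := by
  obtain ⟨b, hb⟩ := (aut_MU φ).resolve_left hφ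
  obtain ⟨c, hc⟩ := (aut_MU ψ).resolve_left hψ
  refine ⟨b * fr c, fun x => ?_⟩
  rw [hb, hc, map_mul, map_mul, fr_fr, map_inv]
  group

end Cfsg.Agent.UFiveTwo.Model
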