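import Cfsg.Agent.UFiveTwo.ModelAut2

/-!
# `PSU₅(2)`: automorphisms centralizing `Q`, `(U ⊓ Q) / (V ⊓ Q)`
-/

set_option autoImplicit false
set_option maxRecDepth 100000

open Cfsg

namespace Cfsg.Agent.UFiveTwo.Model

open Matrix Cfsg.Agent.Lib.FieldFour
open Cfsg.Agent.SylowU5.Model Cfsg.Agent.SylowU5.Basic Cfsg.Agent.SylowU5

theorem QD.fr {q : MU} {m : Fin 5 → F4} {α : F4} (h : QD q m α) : QD (fr q) (cv m) (cj α) where
  m0 := by change cj (m 0) = 0; rw [h.m0, cj_zero]
  m4 := by change cj (m 4) = 0; rw [h.m4, cj_zero]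
  h0 := by
    have h1 := fr_vec q (e 0)
    rw [h.h0] at h1
    have h2 : cv (e 0) = e 0 := by ext i; fin_cases i <;> rfl
    rwa [h2] at h1
  hp x hx := by
    have h1 := fr_vec q (cv x)
    rw [cv_cv, h.hp (cv x) (by change cj (x 4) = 0; rw [hx, cj_zero])] at h1
    rw [h1]
    have h2 : bf (cv x) m = cj (bf x (cv m)) := by rw [← bf_cv, cv_cv]
    ext i
    simp only [cv, Pi.add_apply, Pi.smul_apply, smul_eq_mul, cj_add, cj_mul, cj_cj]
    rw [h2, cj_cj]
    have h3 : cj ((e 0 : Fin 5 → F4) i) = (e 0 : Fin 5 → F4) i := by fin_cases i <;> rfl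
    rw [h3]
  h4 := by
    have h1 := fr_vec q (e 4)
    have h2 : cv (e 4) = e 4 := by ext i; fin_cases i <;> rfl
    rw [h2, h.h4] at h1
    rw [h1]
    ext i
    simp only [cv, Pi.add_apply, Pi.smul_apply, smul_eq_mul, cj_add, cj_mul]
    have h3 : cj ((e 0 : Fin 5 → F4) i) = (e 0 : Fin 5 → F4) i := by fin_cases i <;> rfl
    have h4 : cj ((e 4 : Fin 5 → F4) i) = (e 4 : Fin 5 → F4) i := by fin_cases i <;> rfl
    rw [h3, h4]

theorem fr_r0 : fr (r 0) = r 0 := by
  apply mt_inj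
  rw [mt_fr_r, mt_r]
  congr 1
  ext i; fin_cases i <;> rfl

/-- Every vector of the middle belongs to an element of `Q`. -/
theorem exists_Qvec {m : Fin 5 → F4} (h0 : m 0 = 0) (h4 : m 4 = 0) : ∃ q α, QD q m α := by
  -- `a + cj a = p cj p` etc.
  have key : ∀ p l b : F4, ∃ a : F4, a + cj a = p * cj p := by decide
  obtain ⟨a, ha⟩ := key (cj (m 2)) 0 0
  obtain ⟨x, hx⟩ := exists_M0 (x := ⟨cj (m 3), cj (m 2), 0, a, cj (m 1), m 1, 0⟩) ⟨ha, by
      change cj (m 1) + cj (m 1) = cj (m 2) * cj 0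
      rw [add_self', cj_zero, mul_zero], by
      change (0 : F4) + cj 0 = 0 * cj 0
      rw [cj_zero]; ring⟩
  have h1 := QD_em (x := x) ((Q_iff x).2 (by rw [hx]; exact ⟨rfl, rfl⟩))
  rw [hx] at h1
  have h2 : ![0, cj (cj (m 1)), cj (cj (m 2)), cj (cj (m 3)), 0] = m := by
    rw [cj_cj, cj_cj, cj_cj, vec_eq h0 h4]
  change QD (em x) ![0, cj (cj (m 1)), cj (cj (m 2)), cj (cj (m 3)), 0] _ at h1
  rw [h2] at h1
  exact ⟨em x, _, h1⟩

/-- An automorphism fixing `r 0` comes from the stabilizer. -/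
theorem DV_of_fix {b : MU} (hb : b * r 0 * b⁻¹ = r 0) : DV b := (comm_r0_iff b).1 (mul_inv_eq_iff_eq_mul.1 hb)

/-- Automorphisms centralizing `Q`. -/
theorem mcQ {φ : MulAut MU} (hφ : ∀ q ∈ Q, φ q = q) : (∀ x, φ x = x) ∨ ∀ x, φ x = r 0 * x * (r 0)⁻¹ := by
  rcases aut_MU φ with ⟨b, hb⟩ | ⟨b, hb⟩
  · have h1 : DV b := DV_of_fix (by rw [← hb]; exact hφ _ r_Q)
    obtain ⟨c, hc, hc0⟩ := id h1
    -- `b` is the scalar `c` on the middle
    have h2 : ∀ m : Fin 5 → F4, m 0 = 0 → m 4 = 0 → ∀ i, i ≠ 0 → (mt b *ᵥ m) i = c * m i := by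
      intro m h0 h4 i hi
      obtain ⟨q, α, hq⟩ := exists_Qvec h0 h4
      obtain ⟨m', α', h5, h6⟩ := hq.conj hc hc0
      have h7 : b * q * b⁻¹ = q := by rw [← hb]; exact hφ q hq.mem
      rw [h7] at h5
      have h8 := h6 i hi
      rw [h5.vec hq] at h8
      have hN := nrm hc
      rw [h8, ← mul_assoc, hN, one_mul]
    have h2' : ∀ v : Fin 5 → F4, v 4 = 0 → ∃ d : F4, mt b *ᵥ v = c • v + d • e 0 := by
      intro v h4
      have h5 : v = (v - v 0 • e 0) + v 0 • e 0 := by abel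
      have h6 := h2 (v - v 0 • e 0) (by simp) (by simp [h4])
      refine ⟨(mt b *ᵥ v) 0 - c * v 0, ?_⟩
      ext i
      by_cases hi : i = 0
      · subst hi; simp
      · have h7 : mt b *ᵥ v = mt b *ᵥ (v - v 0 • e 0) + (v 0 * c) • e 0 := by
          conv_lhs => rw [h5]
          rw [Matrix.mulVec_add, Matrix.mulVec_smul, hc0, smul_smul]
        rw [h7]
        simp only [Pi.add_apply, Pi.smul_apply, smul_eq_mul]
        rw [h6 i hi]
        simp [hi]
    -- the determinant
    have hc1 : c = 1 := by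
      have hup : ∀ i j : Fin 5, j < i → mt b i j = 0 := by
        intro i j hij
        have hj4 : j ≠ 4 := by rintro rfl; exact absurd hij (by have := i.2; simp [Fin.lt_def]; omega)
        have hi0 : i ≠ 0 := by rintro rfl; exact absurd hij (by simp)
        obtain ⟨d, hd⟩ := h2' (e j) (by simp [Ne.symm hj4])
        have := congrFun hd i
        rw [col] at this
        simpa [hij.ne', hi0] using this
      have hdiag : ∀ i : Fin 5, i ≠ 0 → i ≠ 4 → mt b i i = c := by
        intro i h0 h4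
        obtain ⟨d, hd⟩ := h2' (e i) (by simp [Ne.symm h4])
        have := congrFun hd i
        rw [col] at this
        simpa [h0] using this
      have hb00 : mt b 0 0 = c := by
        have := congrFun hc0 0
        rw [col] at this
        simpa using this
      have hdet := mt_det b
      rw [Matrix.det_of_isUpperTriangular (fun i j hij => hup i j hij), Fin.prod_univ_five, hb00,
        hdiag 1 (by decide) (by decide), hdiag 2 (by decide) (by decide),
        hdiag 3 (by decide) (by decide)] at hdet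
      have hun := mt_bf b (e 4) (e 0)
      rw [hc0, bf_smul_right, bf_e0, bf_e0, col] at hun
      have h5 : (e 4 : Fin 5 → F4) 4 = 1 := by simp
      rw [h5] at hun
      have : ∀ c d : F4, c * c * c * c * d = 1 → cj c * d = 1 → c = 1 := by decide
      exact this _ _ hdet hun
    subst hc1
    have hbQ : b ∈ Q := by
      refine (mem_Q_iff _).2 ⟨by rw [hc0, one_smul], fun v hv => ?_⟩
      obtain ⟨d, hd⟩ := h2' v hv
      exact ⟨d, by rw [hd, one_smul]⟩
    rcases Q_nd hbQ (fun q hq => by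
      have := hφ q hq
      rw [hb] at this
      exact mul_inv_eq_iff_eq_mul.1 this) with h3 | h3
    · left; intro x; rw [hb, h3]; group
    · right; intro x; rw [hb, h3]
  · exfalso
    have h1 : DV b := DV_of_fix (by
      have := hφ _ r_Q
      rwa [hb, fr_r0] at this)
    obtain ⟨c, hc, hc0⟩ := id h1
    have h2 : ∀ m : Fin 5 → F4, m 0 = 0 → m 4 = 0 → ∀ i, i ≠ 0 → (mt b *ᵥ cv m) i = c * m i := by
      intro m h0 h4 i hi
      obtain ⟨q, α, hq⟩ := exists_Qvec h0 h4
      obtain ⟨m', α', h5, h6⟩ := hq.fr.conj hc hc0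
      have h7 : b * fr q * b⁻¹ = q := by rw [← hb]; exact hφ q hq.mem
      rw [h7] at h5
      have h8 := h6 i hi
      rw [h5.vec hq] at h8
      have hN := nrm hc
      rw [h8, ← mul_assoc, hN, one_mul]
    have h3 := h2 (e 1) (by simp) (by simp) 1 (by decide)
    have h4 := h2 (F4.w • e 1) (by simp) (by simp) 1 (by decide)
    have h5 : cv (e 1) = e 1 := by ext i; fin_cases i <;> rfl
    have h6 : cv (F4.w • e 1) = F4.v • e 1 := by ext i; fin_cases i <;> rfl
    rw [h5] at h3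
    rw [h6, Matrix.mulVec_smul] at h4
    simp only [Pi.smul_apply, smul_eq_mul] at h4
    rw [h3] at h4
    simp at h4
    have : ∀ c : F4, c ≠ 0 → F4.v * c = c * F4.w → False := by decide
    exact this c hc h4

/-- Automorphisms centralizing `(U ⊓ Q) V / V` are inner. -/
theorem mcUQ {φ : MulAut MU} (hφ : ∀ u ∈ U ⊓ Q, ∃ v ∈ Subgroup.closure (Set.range r), φ u = u * v) :
    ∃ b : MU, ∀ x, φ x = b * x * b⁻¹ := by
  rcases aut_MU φ with h | ⟨b, hb⟩
  · exact h
  exfalso
  have hclos : ∀ v ∈ Subgroup.closure (Set.range r), UD v 0 0 := by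
    intro v hv
    obtain ⟨s', t', hv'⟩ := exists_UD (clos_le hv)
    rw [clos] at hv
    obtain ⟨x, hxE, rfl⟩ := hv
    obtain ⟨y', hy', k1, k2, k3⟩ := exists_em (a := em x) (l := 0) ((mem_U_iff _).1 hv'.1).1
      (by rw [((mem_U_iff _).1 hv'.1).2.1, zero_smul, add_zero]) hv'.2
    have hyx : y' = x := em_injective hy'
    subst hyx
    have h4 : ∀ n : Fin 16, (dec n).p = 0 ∧ (dec n).q = 0 := by decide +kernel
    obtain ⟨h5, h6⟩ := h4 ⟨y'.n, M0.mem_E.1 hxE⟩
    rw [← k2, ← k3, h5, h6] at hv'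
    exact hv'
  -- coordinates of elements of `U ⊓ Q`
  have hcoord : ∀ {y : MU} {p q : F4} {m : Fin 5 → F4} {α : F4}, UD y p q → QD y m α → p = cj (m 2) := by
    intro y p q m α h1 h2
    have h3 := h1.2
    rw [h2.hp (e 2) (by simp)] at h3
    have h4 := congrFun h3 0
    have h5 : bf (e 2) m = cj (m 2) := by rw [← cj_bf, bf_e2]
    rw [h5] at h4
    simp at h4
    exact h4.symm
  -- `φ` fixes `r 0`
  have hr0 : φ (r 0) = r 0 := by
    obtain ⟨y, hy, hd⟩ := exists_UQ 1
    have h1 : y * y = r 0 := by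
      rcases Q_sq hy.2 with h | h
      · exfalso
        have h2 := (hclos y (U_one hy.1 h)).uniq hd
        exact absurd h2.1 (by decide)
      · exact h
    obtain ⟨v, hv, h2⟩ := hφ y hy
    have h3 : v * v = 1 := by
      have h4 : v ∈ hT.E := by rw [Elem.E_eq_closure hT]; exact hv
      exact hT.E_sq v h4
    rw [← h1, map_mul, h2]
    calc y * v * (y * v) = y * (v * y) * v := by group
      _ = y * (y * v) * v := by rw [U_clos hy.1 hv]
      _ = y * y * (v * v) := by group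
      _ = _ := by rw [h3, mul_one]
  have h1 : DV b := DV_of_fix (by rwa [hb, fr_r0] at hr0)
  obtain ⟨c, hc, hc0⟩ := id h1
  -- the action on the coordinate `2`
  have key : ∀ {y : MU} {m : Fin 5 → F4} {α : F4}, y ∈ U ⊓ Q → QD y m α →
      cj c * (mt b *ᵥ cv m) 2 = m 2 := by
    intro y m α hy hm
    obtain ⟨v, hv, h2⟩ := hφ y hy
    rw [hb] at h2
    obtain ⟨m', α', h3, h4⟩ := hm.fr.conj hc hc0
    rw [h2] at h3
    obtain ⟨p, q, hd⟩ := exists_UD hy.1
    have h5 := hd.mul (hclos v hv)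
    rw [add_zero, add_zero] at h5
    have h6 := hcoord h5 h3
    have h7 := hcoord hd hm
    rw [← h4 2 (by decide)]
    have h8 := congrArg cj (h6.symm.trans h7)
    rwa [cj_cj, cj_cj] at h8
  -- the entry `(2,1)` of `b` vanishes
  have h21 : mt b 2 1 = 0 := by
    have h2 : r 1 * r 2 ∈ U ⊓ Q := ⟨mul_mem (r_U 1) (r_U 2), rr_Q (by decide) (by decide)⟩
    have h3 := key h2 QD_r12
    have h4 : cv (e 1) = e 1 := by ext i; fin_cases i <;> rfl
    rw [h4, col] at h3
    have h5 : (e 1 : Fin 5 → F4) 2 = 0 := by simp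
    rw [h5] at h3
    exact (mul_eq_zero.1 h3).resolve_left (cj_ne hc)
  have fin : ∀ p : F4, cj c * (mt b 2 2 * p) = cj p := by
    intro p
    obtain ⟨y, hy, hd⟩ := exists_UQ p
    obtain ⟨m, α, hm⟩ := exists_QD hy.2
    have h2 := key hy hm
    have h3 := hcoord hd hm
    -- `m 3 = 0`
    have h4 := ((mem_U_iff y).1 hy.1).2.1
    rw [hm.hp (e 1) (by simp)] at h4
    have h5 : bf (e 1) m = 0 := by
      have := congrFun h4 0
      simpa using this
    rw [← cj_bf, bf_e1] at h5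
    rw [mid_exp h1 (by change cj (m 4) = 0; rw [hm.m4, cj_zero]) (by decide), h21] at h2
    have h6 : cv m 3 = 0 := h5
    have h7 : cv m 2 = p := h3.symm
    rw [h6, h7] at h2
    have h8 : m 2 = cj p := by rw [h3, cj_cj]
    rw [h8] at h2
    rw [← h2]
    ring
  have f1 := fin 1
  have f2 := fin F4.w
  have : ∀ c d : F4, c * (d * 1) = cj 1 → c * (d * F4.w) = cj F4.w → False := by decide
  exact this _ _ f1 f2

end Cfsg.Agent.UFiveTwo.Model
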