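import Cfsg.Agent.SylowU5.Iso

/-!
# `PSU₅(2)`: the group of matrices preserving the adapted Hermitian form
-/

set_option autoImplicit false
set_option maxRecDepth 10000

open Cfsg

namespace Cfsg.Agent.UFiveTwo.Model

open Matrix Cfsg.Agent.Lib.FieldFour Cfsg.Agent.LieClassical.SUBasic
open Cfsg.Agent.SylowU5.Model

/-- The special unitary group in the adapted basis. -/
def MU : Subgroup (Matrix.SpecialLinearGroup (Fin 5) F4) where
  carrier := {A | ∀ u v : Fin 5 → F4, bf (A.1 *ᵥ u) (A.1 *ᵥ v) = bf u v}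
  mul_mem' {A B} hA hB u v := by
    change bf ((A.1 * B.1) *ᵥ u) ((A.1 * B.1) *ᵥ v) = bf u v
    rw [← Matrix.mulVec_mulVec, ← Matrix.mulVec_mulVec]
    exact (hA _ _).trans (hB _ _)
  one_mem' u v := by
    change bf ((1 : Matrix (Fin 5) (Fin 5) F4) *ᵥ u) ((1 : Matrix (Fin 5) (Fin 5) F4) *ᵥ v) = _
    rw [Matrix.one_mulVec, Matrix.one_mulVec]
  inv_mem' {A} hA u v := by
    have h : ∀ w : Fin 5 → F4, A.1 *ᵥ ((A⁻¹).1 *ᵥ w) = w := by
      intro w
      rw [Matrix.mulVec_mulVec]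
      have h1 : A.1 * (A⁻¹).1 = 1 := congrArg Subtype.val (mul_inv_cancel A)
      rw [h1, Matrix.one_mulVec]
    have h2 := hA (A⁻¹.1 *ᵥ u) (A⁻¹.1 *ᵥ v)
    rw [h, h] at h2
    exact h2.symm

/-- The matrix. -/
def mt (a : MU) : Matrix (Fin 5) (Fin 5) F4 := a.1.1

theorem mt_mul (a b : MU) : mt (a * b) = mt a * mt b := rfl
theorem mt_one : mt (1 : MU) = 1 := rfl
theorem mt_inj {a b : MU} (h : mt a = mt b) : a = b :=
  Subtype.ext (Subtype.ext h)
theorem mt_det (a : MU) : (mt a).det = 1 := a.1.2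
theorem mt_bf (a : MU) (u v : Fin 5 → F4) : bf (mt a *ᵥ u) (mt a *ᵥ v) = bf u v := a.2 u v

/-- Construct an element. -/
def mk (A : Matrix (Fin 5) (Fin 5) F4) (hd : A.det = 1) (h : ∀ u v, bf (A *ᵥ u) (A *ᵥ v) = bf u v) :
    MU := ⟨⟨A, hd⟩, h⟩

theorem mt_mk (A : Matrix (Fin 5) (Fin 5) F4) (hd : A.det = 1)
    (h : ∀ u v, bf (A *ᵥ u) (A *ᵥ v) = bf u v) : mt (mk A hd h) = A := rfl

theorem mt_inv_mulVec (a : MU) (v : Fin 5 → F4) : mt a⁻¹ *ᵥ (mt a *ᵥ v) = v := by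
  rw [Matrix.mulVec_mulVec, ← mt_mul, inv_mul_cancel, mt_one, Matrix.one_mulVec]

theorem mt_mulVec_inv (a : MU) (v : Fin 5 → F4) : mt a *ᵥ (mt a⁻¹ *ᵥ v) = v := by
  rw [Matrix.mulVec_mulVec, ← mt_mul, mul_inv_cancel, mt_one, Matrix.one_mulVec]

/-- The embedding of the Sylow 2-subgroup. -/
def em : M0 →* MU where
  toFun x := mk (mx (dec x.n)) (mx_det _) (fun u v => bf_mx _ (valid_dec x).1 (valid_dec x).2.1
    (valid_dec x).2.2 u v)
  map_one' := mt_inj (by
    change mx (dec (1 : M0).n) = 1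
    rw [M0.dec_one, mx_one])
  map_mul' x y := mt_inj (by
    change mx (dec (x * y).n) = mx (dec x.n) * mx (dec y.n)
    rw [M0.dec_mul, mx_mul])

theorem mt_em (x : M0) : mt (em x) = mx (dec x.n) := rfl

theorem em_injective : Function.Injective em := fun _ _ h =>
  M0.dec_injective (mx_injective (congrArg mt h))

/-! ### The isomorphism with `SU₅(2)` -/

theorem conj_mulVec (A : Matrix (Fin 5) (Fin 5) F4) (u : Fin 5 → F4) :
    (cmat * A * cinv) *ᵥ u = cmat *ᵥ (A *ᵥ (cinv *ᵥ u)) := by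
  rw [Matrix.mulVec_mulVec, Matrix.mulVec_mulVec, Matrix.mul_assoc]

theorem conj_mulVec' (A : Matrix (Fin 5) (Fin 5) F4) (u : Fin 5 → F4) :
    (cinv * A * cmat) *ᵥ u = cinv *ᵥ (A *ᵥ (cmat *ᵥ u)) := by
  rw [Matrix.mulVec_mulVec, Matrix.mulVec_mulVec, Matrix.mul_assoc]

theorem cmat_cinv_mulVec (u : Fin 5 → F4) : cmat *ᵥ (cinv *ᵥ u) = u := by
  rw [Matrix.mulVec_mulVec, cmat_cinv, Matrix.one_mulVec]

theorem cinv_cmat_mulVec (u : Fin 5 → F4) : cinv *ᵥ (cmat *ᵥ u) = u := by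
  rw [Matrix.mulVec_mulVec, cinv_cmat, Matrix.one_mulVec]

/-- The isomorphism with `SU₅(2)`. -/
def equivSU : MU ≃* Cfsg.SU 5 F4 2 where
  toFun a := ⟨⟨cmat * mt a * cinv, by
      rw [Matrix.det_mul, Matrix.det_mul, mt_det, mul_one, ← Matrix.det_mul, cmat_cinv,
        Matrix.det_one]⟩, by
    refine (mem_SU_iff _).2 fun u v => ?_
    change hermForm 5 F4 2 ((cmat * mt a * cinv) *ᵥ u) ((cmat * mt a * cinv) *ᵥ v) = _
    rw [conj_mulVec, conj_mulVec, herm_cmat, mt_bf, ← herm_cmat, cmat_cinv_mulVec,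
      cmat_cinv_mulVec]⟩
  invFun a := mk (cinv * a.1.1 * cmat) (by
      have h1 : (a.1.1).det = 1 := a.1.2
      rw [Matrix.det_mul, Matrix.det_mul, h1, mul_one, ← Matrix.det_mul,
        cinv_cmat, Matrix.det_one]) (fun u v => by
      rw [conj_mulVec', conj_mulVec', ← herm_cmat, cmat_cinv_mulVec, cmat_cinv_mulVec]
      have h1 := (mem_SU_iff _).1 a.2 (cmat *ᵥ u) (cmat *ᵥ v)
      rw [herm_cmat] at h1
      exact h1)
  left_inv a := by
    apply mt_inj
    change cinv * (cmat * mt a * cinv) * cmat = mt a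
    simp only [Matrix.mul_assoc]
    rw [cinv_cmat, Matrix.mul_one, ← Matrix.mul_assoc, cinv_cmat, Matrix.one_mul]
  right_inv a := by
    apply Subtype.ext
    apply Subtype.ext
    change cmat * (cinv * a.1.1 * cmat) * cinv = a.1.1
    simp only [Matrix.mul_assoc]
    rw [cmat_cinv, Matrix.mul_one, ← Matrix.mul_assoc, cmat_cinv, Matrix.one_mul]
  map_mul' a b := by
    apply Subtype.ext
    apply Subtype.ext
    change cmat * mt (a * b) * cinv = (cmat * mt a * cinv) * (cmat * mt b * cinv)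
    rw [mt_mul]
    simp only [Matrix.mul_assoc]
    rw [← Matrix.mul_assoc cinv cmat, cinv_cmat, Matrix.one_mul]

theorem center_SU : Subgroup.center (Cfsg.SU 5 F4 2) = ⊥ := by
  rw [Subgroup.eq_bot_iff_forall]
  intro a ha
  rw [mem_center_SU_iff (F := F4) (q := 2) (by rw [F4.card]; norm_num) (by norm_num)] at ha
  obtain ⟨c, h5, h3, rfl⟩ := ha
  have hc : c = 1 := by
    revert h5 h3
    revert c
    decide
  subst hc
  apply Subtype.ext
  apply Subtype.ext
  rw [coe_suScalar]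
  rfl

/-- The isomorphism with `PSU₅(2)`. -/
noncomputable def equivPSU : MU ≃* Cfsg.PSU 5 F4 2 :=
  equivSU.trans ((QuotientGroup.quotientBot (G := Cfsg.SU 5 F4 2)).symm.trans
    (QuotientGroup.quotientMulEquivOfEq center_SU.symm))

theorem exists_equiv {F : Type*} [Field F] [Fintype F] (hF : Fintype.card F = 4) {A : Type*} [Group A]
    (e : A ≃* Cfsg.PSU 5 F 2) : Nonempty (A ≃* MU) :=
  ⟨e.trans ((Cfsg.Agent.LieClassical.FieldTransfer.psuCongr 5 2 (equivOfCard hF)).trans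
    equivPSU.symm)⟩

theorem card_MU : Nat.card MU = 13685760 := by
  rw [Nat.card_congr equivPSU.toEquiv]
  exact Cfsg.Agent.SylowU5.Iso.card_PSU F4.card

instance : Finite MU := Nat.finite_of_card_ne_zero (by rw [card_MU]; norm_num)

end Cfsg.Agent.UFiveTwo.Model
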