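import Cfsg.Agent.UFiveTwo.ModelU
import Cfsg.Agent.UFiveTwo.Env

/-!
# `PSU₅(2)`: facts on `Q` and on the stabilizer `D` of a point
-/

set_option autoImplicit false
set_option maxRecDepth 100000

open Cfsg

namespace Cfsg.Agent.UFiveTwo.Model

open Matrix Cfsg.Agent.Lib.FieldFour
open Cfsg.Agent.SylowU5.Model Cfsg.Agent.SylowU5.Basic Cfsg.Agent.SylowU5

theorem Q_conj {a q : MU} (ha : a * r 0 = r 0 * a) (hq : q ∈ Q) : a * q * a⁻¹ ∈ Q :=
  (mem_Q_iff _).2 (QV.conj ((comm_r0_iff a).1 ha) ((mem_Q_iff _).1 hq))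

theorem r_Q : r 0 ∈ Q := hT.z_mem_Q

theorem Q_r {q : MU} (hq : q ∈ Q) : q * r 0 = r 0 * q := hT.z_comm q (Q_le_T hq)

theorem Q_sq {q : MU} (hq : q ∈ Q) : q * q = 1 ∨ q * q = r 0 := hT.Q_sq q hq

theorem r_inv (i : Fin 5) : (r i)⁻¹ = r i := Elem.d_inv hT i

theorem Q_comm {q q' : MU} (hq : q ∈ Q) (hq' : q' ∈ Q) :
    q * q' * q⁻¹ * q'⁻¹ = 1 ∨ q * q' * q⁻¹ * q'⁻¹ = r 0 := by
  rcases hT.Q_comm q hq q' hq' with h | h
  · left; rw [h]; group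
  · right
    have h1 : q * q' * r 0 = r 0 * (q * q') := Q_r (mul_mem hq hq')
    have h2 : q' * q * r 0 = r 0 * (q' * q) := Q_r (mul_mem hq' hq)
    change q * q' = q' * q * r 0 at h
    rw [h, h2]
    group

theorem Q_nd {q : MU} (hq : q ∈ Q) (h : ∀ q' ∈ Q, q * q' = q' * q) : q = 1 ∨ q = r 0 :=
  hT.Q_cent q (Q_le_T hq) h

theorem rr_Q {i j : Fin 5} (hi : i ≠ 0) (hj : j ≠ 0) : r i * r j ∈ Q := hT.dd_mem_Q i j hi hj

theorem r_nQ {i : Fin 5} (hi : i ≠ 0) : r i ∉ Q := hT.d_not_mem_Q i hi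

/-! ### Klein elements -/

theorem lvS_Q {g : SL2} (h0 : g.1 0 0 = 1) (h1 : g.1 1 0 = 0) (h2 : g.1 1 1 = 1) :
    QD (lvS g) (g.1 0 1 • ![0, 0, 0, 1, 0] |> fun v => fun i => cj (v i)) 0 := by
  have hm := mt_lvS g
  rw [h0, h1, h2] at hm
  refine ⟨by simp [cj_zero], by simp [cj_zero], ?_, ?_, ?_⟩
  · rw [hm, col]
    ext i; fin_cases i <;> simp [lm]
  · intro x hx
    rw [hm]
    ext i
    simp only [Matrix.mulVec, dotProduct, Fin.sum_univ_five]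
    fin_cases i <;> simp [lm, hx, cj_zero, cj_one, bf_def, cj_cj]
    ring
  · rw [hm, col]
    ext i
    fin_cases i <;> simp [lm, cj_zero, cj_one]

theorem ρ_eq_iff {g : SL2} {i j : Fin 5} : ρ g i = j ↔ lvS g * r i * (lvS g)⁻¹ = r j := by
  rw [ρ_spec]
  exact r_injective.eq_iff.symm

theorem lvS_D {g : SL2} (h : ρ g 0 = 0) : g.1 1 0 = 0 := by
  rw [ρ_eq_iff, conj_r_iff] at h
  obtain ⟨μ, hμ, h6⟩ := tv_inj_of (vv_ne 0) h.symm
  have h7 := lvS_vec g 1 0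
  have h8 : vv 0 = (1 : F4) • e 0 + (0 : F4) • e 1 := by simp [vv0]
  rw [h8] at h6
  rw [h7] at h6
  have := congrFun h6 1
  simpa using this

theorem klein_entries {σ : alternatingGroup (Fin 5)} (hσ : IsKlein σ) :
    (altEquiv σ).1 0 0 = 1 ∧ (altEquiv σ).1 1 0 = 0 ∧ (altEquiv σ).1 1 1 = 1 := by
  have h1 : ρ (altEquiv σ) 0 = 0 := by rw [ρ_altEquiv]; exact hσ.1
  have h2 := lvS_D h1
  have h3 : altEquiv σ * altEquiv σ = 1 := by
    rw [← map_mul]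
    have : σ * σ = 1 := Subtype.ext hσ.2
    rw [this, map_one]
  have h4 : ∀ i j, (altEquiv σ).1 i 0 * (altEquiv σ).1 0 j + (altEquiv σ).1 i 1 * (altEquiv σ).1 1 j =
      (1 : SL2).1 i j := by
    intro i j
    have h5 : (altEquiv σ * altEquiv σ).1 i j = (1 : SL2).1 i j := by rw [h3]
    have h6 : (altEquiv σ * altEquiv σ).1 = (altEquiv σ).1 * (altEquiv σ).1 := rfl
    rw [h6, Matrix.mul_apply, Fin.sum_univ_two] at h5
    exact h5
  have h5 := h4 0 0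
  have h6 := h4 1 1
  rw [h2] at h5 h6
  have h7 : (1 : SL2).1 0 0 = (1 : F4) := rfl
  have h8 : (1 : SL2).1 1 1 = (1 : F4) := rfl
  rw [h7, mul_zero, add_zero] at h5
  rw [h8, zero_mul, zero_add] at h6
  have h9 : ∀ x : F4, x * x = 1 → x = 1 := by decide
  exact ⟨h9 _ h5, h2, h9 _ h6⟩

theorem l_Q {σ : alternatingGroup (Fin 5)} (hσ : IsKlein σ) : l σ ∈ Q := by
  obtain ⟨h1, h2, h3⟩ := klein_entries hσ
  exact (lvS_Q h1 h2 h3).mem

/-- The unipotent elements of `SL₂(4)`. -/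
def ug (b : F4) : SL2 := ⟨!![1, b; 0, 1], by rw [Matrix.det_fin_two]; simp⟩

theorem ug_sq (b : F4) : ug b * ug b = 1 := by
  apply Subtype.ext
  have h1 : (ug b * ug b).1 = !![1, b; 0, 1] * !![1, b; 0, 1] := rfl
  rw [h1]
  ext i j
  rw [Matrix.mul_apply, Fin.sum_univ_two]
  fin_cases i <;> fin_cases j <;> simp [add_self']

theorem ug_fix (b : F4) : ρ (ug b) 0 = 0 := by
  rw [ρ_eq_iff, conj_r_iff]
  have h8 : vv 0 = (1 : F4) • e 0 + (0 : F4) • e 1 := by simp [vv0]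
  rw [h8, lvS_vec]
  have h1 : (ug b).1 0 0 = 1 := rfl
  have h2 : (ug b).1 1 0 = 0 := rfl
  rw [h1, h2]
  simp

theorem ug_klein (b : F4) : IsKlein (altEquiv.symm (ug b)) := by
  have h1 : ρ (ug b) = ((altEquiv.symm (ug b) : alternatingGroup (Fin 5)) : Equiv.Perm (Fin 5)) := by
    rw [← ρ_altEquiv, altEquiv.apply_symm_apply]
  constructor
  · rw [← h1]; exact ug_fix b
  · rw [← h1, ← map_mul, ug_sq, map_one]

theorem l_ug (b : F4) : l (altEquiv.symm (ug b)) = lvS (ug b) := by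
  rw [l_apply, altEquiv.apply_symm_apply]

theorem Q_gen {q : MU} (hq : q ∈ Q) : ∃ u ∈ U ⊓ Q, ∃ σ, IsKlein σ ∧ q = u * l σ := by
  obtain ⟨m, α, hm⟩ := exists_QD hq
  -- the coordinate along `e 1`
  set b := cj (m 3) with hb
  have h1 : QD (lvS (ug b)) (fun i => cj ((b • ![0, 0, 0, 1, 0] : Fin 5 → F4) i)) 0 :=
    lvS_Q (g := ug b) rfl rfl rfl
  have hl : lvS (ug b) * lvS (ug b) = 1 := by rw [← map_mul, ug_sq, map_one]
  refine ⟨q * lvS (ug b), ⟨?_, mul_mem hq h1.mem⟩, _, ug_klein b, ?_⟩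
  · have h2 := hm.mul h1
    apply (mem_U_iff _).2
    refine ⟨h2.h0, ?_, ?_⟩
    · rw [h2.hp (e 1) (by simp)]
      have h3 : bf (e 1) (m + fun i => cj ((b • ![0, 0, 0, 1, 0] : Fin 5 → F4) i)) = 0 := by
        rw [← cj_bf, bf_e1]
        simp [hb, cj_cj, add_self', cj_zero]
      rw [h3, zero_smul, add_zero]
    · intro v _ h4
      refine ⟨bf v (m + fun i => cj ((b • ![0, 0, 0, 1, 0] : Fin 5 → F4) i)), 0, ?_⟩
      rw [zero_smul, add_zero]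
      exact h2.hp v h4
  · rw [l_ug, mul_assoc, hl, mul_one]

end Cfsg.Agent.UFiveTwo.Model
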