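import Cfsg.Agent.UFiveTwo.ModelD

/-!
# `PSU₅(2)`: transitivity facts on `Q`
-/

set_option autoImplicit false
set_option maxRecDepth 100000

open Cfsg

namespace Cfsg.Agent.UFiveTwo.Model

open Matrix Cfsg.Agent.Lib.FieldFour
open Cfsg.Agent.SylowU5.Model Cfsg.Agent.SylowU5.Basic Cfsg.Agent.SylowU5

theorem bf_hf {m m' : Fin 5 → F4} (h0 : m 0 = 0) (h4 : m 4 = 0) :
    hf (m 1) (m 2) (m 3) (m' 1) (m' 2) (m' 3) = bf m m' := by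
  rw [hf_eq, bf_def, h0, h4]; ring

theorem vec_eq {m : Fin 5 → F4} (h0 : m 0 = 0) (h4 : m 4 = 0) : ![0, m 1, m 2, m 3, 0] = m := by
  ext i; fin_cases i <;> simp [h0, h4]

theorem exists_two {m m' : Fin 5 → F4} (h0 : m 0 = 0) (h4 : m 4 = 0) (h0' : m' 0 = 0) (h4' : m' 4 = 0)
    (h1 : bf m m = 0) (h2 : bf m' m' = 0) (h3 : bf m m' = 1) :
    ∃ g : MU, mt g *ᵥ e 0 = e 0 ∧ mt g *ᵥ e 1 = m ∧ mt g *ᵥ e 3 = m' := by
  rw [← bf_hf h0 h4] at h1 h3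
  rw [← bf_hf h0' h4'] at h2
  obtain ⟨g, hg1, hg2, hg3⟩ := exists_pair h1 h2 h3
  exact ⟨g, hg1, by rw [hg2, vec_eq h0 h4], by rw [hg3, vec_eq h0' h4']⟩

theorem exists_mate {m : Fin 5 → F4} (h0 : m 0 = 0) (h4 : m 4 = 0) (h1 : bf m m = 0) (hm : m ≠ 0) :
    ∃ m' : Fin 5 → F4, m' 0 = 0 ∧ m' 4 = 0 ∧ bf m' m' = 0 ∧ bf m m' = 1 := by
  rw [← bf_hf h0 h4] at h1
  have h5 : m 1 ≠ 0 ∨ m 2 ≠ 0 ∨ m 3 ≠ 0 := by
    by_contra hcon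
    push Not at hcon
    apply hm
    rw [← vec_eq h0 h4, hcon.1, hcon.2.1, hcon.2.2]
    ext i; fin_cases i <;> rfl
  obtain ⟨c1, c2, c3, h6, h7⟩ := exists_partner _ _ _ h1 h5
  refine ⟨![0, c1, c2, c3, 0], rfl, rfl, ?_, ?_⟩
  · rw [← bf_hf (by rfl) (by rfl)]; exact h6
  · rw [← bf_hf h0 h4]; exact h7

theorem exists_one {m : Fin 5 → F4} (h0 : m 0 = 0) (h4 : m 4 = 0) (h1 : bf m m = 0) (hm : m ≠ 0) :
    ∃ g : MU, mt g *ᵥ e 0 = e 0 ∧ mt g *ᵥ e 1 = m := by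
  obtain ⟨m', h0', h4', h2, h3⟩ := exists_mate h0 h4 h1 hm
  obtain ⟨g, hg1, hg2, -⟩ := exists_two h0 h4 h0' h4' h1 h2 h3
  exact ⟨g, hg1, hg2⟩

theorem comm_of_fix {g : MU} (hg : mt g *ᵥ e 0 = e 0) : g * r 0 = r 0 * g :=
  (comm_r0_iff g).2 ⟨1, one_ne_zero, by rw [hg, one_smul]⟩

theorem conj_vec {g q : MU} {m t : Fin 5 → F4} {α : F4} (hg : mt g *ᵥ e 0 = e 0) (hq : QD q m α)
    (ht : mt g *ᵥ m = t) (t0 : t 0 = 0) : ∃ β, QD (g * q * g⁻¹) t β := by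
  obtain ⟨m', β, h1, h2⟩ := hq.conj one_ne_zero (a := g) (by rw [hg, one_smul])
  have h3 : m' = t := by
    ext i
    by_cases hi : i = 0
    · subst hi; rw [h1.m0, t0]
    · rw [h2 i hi, cj_one, one_mul, ht]
  rw [h3] at h1
  exact ⟨β, h1⟩

theorem QD_r12 : QD (r 1 * r 2) (e 1) 1 := by
  have h1 : r 1 * r 2 = em (M0.d 1 * M0.d 2) := (map_mul em _ _).symm
  have h2 : M0.d 1 * M0.d 2 ∈ M0.Q := M0.dd_mem_Q 1 2 (by decide) (by decide)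
  have h3 := QD_em h2
  have h4 : dec (M0.d 1 * M0.d 2).n = ⟨0, 0, 0, 1, 1, 1, 0⟩ := by decide +kernel
  rw [h4, ← h1] at h3
  have h5 : (![0, cj 1, cj 0, cj 0, 0] : Fin 5 → F4) = e 1 := by
    ext i; fin_cases i <;> rfl
  change QD (r 1 * r 2) ![0, cj 1, cj 0, cj 0, 0] (1 + 1 * cj 0) at h3
  rw [h5, cj_zero, mul_zero, add_zero] at h3
  exact h3

theorem r34 : r 3 * r 4 = r 1 * r 2 * r 0 := (Elem.t_mul_z hT).symm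

theorem Q_inv {x : MU} (hx : x ∈ Q) (h1 : x * x = 1) (hx1 : x ≠ 1) (hx0 : x ≠ r 0) :
    ∃ a : MU, a * r 0 = r 0 * a ∧ ∃ i j : Fin 5, i ≠ 0 ∧ j ≠ 0 ∧ i ≠ j ∧ x = a * (r i * r j) * a⁻¹ := by
  obtain ⟨m, α, hm⟩ := exists_QD hx
  have h2 : bf m m = 0 := (sq_eq_one_iff hm).1 h1
  have h3 : m ≠ 0 := by
    rintro rfl
    rcases QD_one.eq_or hm with h | h
    · exact hx1 h
    · exact hx0 (by rw [h, one_mul])
  obtain ⟨g, hg1, hg2⟩ := exists_one hm.m0 hm.m4 h2 h3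
  have hc := comm_of_fix hg1
  refine ⟨g, hc, ?_⟩
  obtain ⟨β, hβ⟩ := conj_vec hg1 QD_r12 hg2 hm.m0
  rcases hβ.eq_or hm with h | h
  · exact ⟨1, 2, by decide, by decide, by decide, h⟩
  · refine ⟨3, 4, by decide, by decide, by decide, ?_⟩
    rw [h, r34]
    have h4 : g⁻¹ * r 0 = r 0 * g⁻¹ := by
      calc g⁻¹ * r 0 = g⁻¹ * (r 0 * g) * g⁻¹ := by group
        _ = _ := by rw [← hc]; group
    rw [mul_assoc, h4]
    group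

theorem Q_two {x x' : MU} {m m' : Fin 5 → F4} {α α' : F4} (h : QD x m α) (h' : QD x' m' α')
    {s s' : Fin 5 → F4} {y y' : MU} {β β' : F4} (k : QD y s β) (k' : QD y' s' β')
    (h1 : bf m m = 0) (h2 : bf s s = 0) (h3 : bf m' m' = 0) (h4 : bf s' s' = 0) {c : F4} (hc : c ≠ 0)
    (h5 : bf m s = c) (h6 : bf m' s' = c) : ∃ a : MU, a * r 0 = r 0 * a ∧
      ((a * x * a⁻¹ = x' ∨ a * x * a⁻¹ = x' * r 0) ∧ (a * y * a⁻¹ = y' ∨ a * y * a⁻¹ = y' * r 0)) := by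
  have hN : c * cj c = 1 := nrm hc
  obtain ⟨g, hg1, hg2, hg3⟩ := exists_two (m := m) (m' := c • s) h.m0 h.m4 (by simp [k.m0])
    (by simp [k.m4]) h1 (by rw [bf_smul_left, bf_smul_right, h2]; ring)
    (by rw [bf_smul_right, h5, mul_comm, hN])
  obtain ⟨g', hg1', hg2', hg3'⟩ := exists_two (m := m') (m' := c • s') h'.m0 h'.m4 (by simp [k'.m0])
    (by simp [k'.m4]) h3 (by rw [bf_smul_left, bf_smul_right, h4]; ring)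
    (by rw [bf_smul_right, h6, mul_comm, hN])
  have inv : ∀ {g : MU} {v w : Fin 5 → F4}, mt g *ᵥ v = w → mt g⁻¹ *ᵥ w = v := by
    intro g v w hv
    rw [← hv, mt_inv_mulVec]
  have a0 : mt (g' * g⁻¹) *ᵥ e 0 = e 0 := by
    rw [mt_mul, ← Matrix.mulVec_mulVec, inv hg1, hg1']
  have a1 : mt (g' * g⁻¹) *ᵥ m = m' := by
    rw [mt_mul, ← Matrix.mulVec_mulVec, inv hg2, hg2']
  have a2 : mt (g' * g⁻¹) *ᵥ s = s' := by
    have h7 : mt (g' * g⁻¹) *ᵥ (c • s) = c • s' := by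
      rw [mt_mul, ← Matrix.mulVec_mulVec, inv hg3, hg3']
    rw [Matrix.mulVec_smul] at h7
    exact smul_right_injective _ hc h7
  refine ⟨g' * g⁻¹, comm_of_fix a0, ?_, ?_⟩
  · obtain ⟨γ, hγ⟩ := conj_vec a0 h a1 h'.m0
    exact h'.eq_or hγ
  · obtain ⟨γ, hγ⟩ := conj_vec a0 k a2 k'.m0
    exact k'.eq_or hγ

theorem Q_trans {x y x' y' : MU} (hx : x ∈ Q) (hy : y ∈ Q) (hx' : x' ∈ Q) (hy' : y' ∈ Q)
    (h1 : x * x = 1) (h2 : y * y = 1) (h3 : x' * x' = 1) (h4 : y' * y' = 1)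
    (h5 : x * y * x⁻¹ * y⁻¹ = r 0) (h6 : x' * y' * x'⁻¹ * y'⁻¹ = r 0) : ∃ a : MU, a * r 0 = r 0 * a ∧
      (((a * x * a⁻¹ = x' ∨ a * x * a⁻¹ = x' * r 0) ∧ (a * y * a⁻¹ = y' ∨ a * y * a⁻¹ = y' * r 0)) ∨
       ((a * x * a⁻¹ = y' ∨ a * x * a⁻¹ = y' * r 0) ∧ (a * y * a⁻¹ = x' ∨ a * y * a⁻¹ = x' * r 0))) := by
  obtain ⟨m, α, hm⟩ := exists_QD hx
  obtain ⟨s, β, hs⟩ := exists_QD hy
  obtain ⟨m', α', hm'⟩ := exists_QD hx'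
  obtain ⟨s', β', hs'⟩ := exists_QD hy'
  rw [sq_eq_one_iff hm] at h1
  rw [sq_eq_one_iff hs] at h2
  rw [sq_eq_one_iff hm'] at h3
  rw [sq_eq_one_iff hs'] at h4
  rw [comm_eq_iff hm hs, ← cj_bf m s] at h5
  rw [comm_eq_iff hm' hs', ← cj_bf m' s'] at h6
  have hc : ∀ c : F4, c + cj c = 1 → c ≠ 0 := by decide
  have hcc : ∀ c d : F4, c + cj c = 1 → d + cj d = 1 → d = c ∨ cj d = c := by decide
  rcases hcc _ _ h5 h6 with h | h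
  · obtain ⟨a, ha, h7⟩ := Q_two hm hm' hs hs' h1 h2 h3 h4 (hc _ h5) rfl h
    exact ⟨a, ha, Or.inl h7⟩
  · rw [cj_bf] at h
    obtain ⟨a, ha, h7⟩ := Q_two hm hs' hs hm' h1 h2 h4 h3 (hc _ h5) rfl h
    exact ⟨a, ha, Or.inr h7⟩

theorem Q_pair : ∃ a : MU, a * r 0 = r 0 * a ∧
    (r 1 * r 2) * (a * (r 1 * r 2) * a⁻¹) * (r 1 * r 2)⁻¹ * (a * (r 1 * r 2) * a⁻¹)⁻¹ = r 0 := by
  have h1 : bf (F4.w • e 3) (F4.w • e 3 : Fin 5 → F4) = 0 := by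
    rw [bf_smul_left, bf_smul_right, bf_e]; simp
  obtain ⟨g, hg1, hg2⟩ := exists_one (m := F4.w • e 3) (by simp) (by simp) h1 (by
    intro h
    have := congrFun h 3
    simp at this)
  obtain ⟨β, hβ⟩ := conj_vec hg1 QD_r12 hg2 (by simp)
  refine ⟨g, comm_of_fix hg1, ?_⟩
  rw [comm_eq_iff QD_r12 hβ, bf_smul_right, bf_smul_left, bf_e, bf_e]
  decide

end Cfsg.Agent.UFiveTwo.Model
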