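import Cfsg.Agent.UFiveTwo.ModelD2

/-!
# `PSU₅(2)`: irreducibility of `Q`, the elements `h0`, `k1`, `n2`
-/

set_option autoImplicit false
set_option maxRecDepth 100000

open Cfsg

namespace Cfsg.Agent.UFiveTwo.Model

open Matrix Cfsg.Agent.Lib.FieldFour
open Cfsg.Agent.SylowU5.Model Cfsg.Agent.SylowU5.Basic Cfsg.Agent.SylowU5

/-- An auxiliary unipotent element. -/
theorem exists_t : ∃ t : MU, mt t *ᵥ e 0 = e 0 ∧ ∀ m : Fin 5 → F4, m 0 = 0 → m 4 = 0 →
    mt t *ᵥ m + m = ![0, m 2 + F4.w * m 3, m 3, 0, 0] := by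
  obtain ⟨x, hx⟩ := exists_M0 (x := ⟨0, 0, 1, 0, 0, 0, F4.w⟩) ⟨by decide, by decide, by decide⟩
  refine ⟨em x, ?_, fun m h0 h4 => ?_⟩
  · rw [mt_em, col]
    ext i; fin_cases i <;> simp [mx]
  · rw [mt_em, hx]
    ext i
    simp only [Matrix.mulVec, dotProduct, Fin.sum_univ_five, Pi.add_apply]
    fin_cases i <;> simp [mx, h0, h4, cj_zero, cj_one]
    · linear_combination m 1 * two_zero
    · linear_combination m 2 * two_zero
    · exact add_self' _

theorem Q_noncomm {u : MU} (hu : u ∈ Q) (h1 : u ≠ 1) (h0 : u ≠ r 0) : ∃ q ∈ Q, q * u * q⁻¹ = u * r 0 := by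
  by_contra hcon
  push Not at hcon
  have hnd : ∀ q ∈ Q, u * q = q * u := by
    intro q hq
    rcases Q_comm hq hu with h | h
    · have : q * u = u * q := by
        calc q * u = (q * u * q⁻¹ * u⁻¹) * u * q := by group
          _ = _ := by rw [h, one_mul]
      exact this.symm
    · exfalso
      apply hcon q hq
      have h2 : q * u * q⁻¹ = r 0 * u := by
        calc q * u * q⁻¹ = (q * u * q⁻¹ * u⁻¹) * u := by group
          _ = _ := by rw [h]
      rw [h2, Q_r hu]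
  rcases Q_nd hu hnd with h | h
  · exact h1 h
  · exact h0 h

theorem Q_irr {N : Subgroup MU} (hN : N ≤ Q) (hD : ∀ a : MU, a * r 0 = r 0 * a → ∀ x ∈ N, a * x * a⁻¹ ∈ N)
    (hx : ∃ x ∈ N, x ≠ 1 ∧ x ≠ r 0) : N = Q := by
  obtain ⟨x, hxN, hx1, hx0⟩ := hx
  obtain ⟨m, α, hm⟩ := exists_QD (hN hxN)
  have hm0 : m ≠ 0 := by
    rintro rfl
    rcases QD_one.eq_or hm with h | h
    · exact hx1 h
    · exact hx0 (by rw [h, one_mul])
  obtain ⟨t, ht0, ht⟩ := exists_t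
  -- the commutator with `t`
  have step : ∀ {y : MU} {s : Fin 5 → F4} {β : F4}, y ∈ N → QD y s β →
      ∃ y' ∈ N, ∃ β', QD y' ![0, s 2 + F4.w * s 3, s 3, 0, 0] β' := by
    intro y s β hy hs
    have h1 := ht s hs.m0 hs.m4
    have h2 : (mt t *ᵥ s) 0 = 0 := by
      have := congrFun h1 0
      simp [hs.m0] at this
      exact this
    obtain ⟨γ, hγ⟩ := conj_vec ht0 hs rfl h2
    have h3 := hγ.mul hs
    rw [h1] at h3
    exact ⟨_, mul_mem (hD t (comm_of_fix ht0) y hy) hy, _, h3⟩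
  -- an element with vector `c • e 1`
  obtain ⟨y, hyN, c, hc, γ, hy⟩ : ∃ y ∈ N, ∃ c : F4, c ≠ 0 ∧ ∃ γ, QD y (c • e 1) γ := by
    by_cases h3 : m 3 = 0
    · by_cases h2 : m 2 = 0
      · refine ⟨x, hxN, m 1, ?_, α, ?_⟩
        · intro h1
          apply hm0
          ext i
          fin_cases i
          · exact hm.m0
          · exact h1
          · exact h2
          · exact h3
          · exact hm.m4
        · have : m = m 1 • e 1 := by
            ext i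
            fin_cases i <;> simp [hm.m0, h2, h3, hm.m4]
          rwa [← this]
      · obtain ⟨y, hyN, β, hy⟩ := step hxN hm
        refine ⟨y, hyN, m 2, h2, β, ?_⟩
        rw [h3] at hy
        have : (![0, m 2 + F4.w * 0, 0, 0, 0] : Fin 5 → F4) = m 2 • e 1 := by
          ext i
          fin_cases i <;> simp
        rwa [this] at hy
    · obtain ⟨y, hyN, β, hy⟩ := step hxN hm
      obtain ⟨z, hzN, γ, hz⟩ := step hyN hy
      refine ⟨z, hzN, m 3, h3, γ, ?_⟩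
      have : (![0, (![0, m 2 + F4.w * m 3, m 3, 0, 0] : Fin 5 → F4) 2 +
          F4.w * (![0, m 2 + F4.w * m 3, m 3, 0, 0] : Fin 5 → F4) 3,
          (![0, m 2 + F4.w * m 3, m 3, 0, 0] : Fin 5 → F4) 3, 0, 0] : Fin 5 → F4) = m 3 • e 1 := by
        ext i
        fin_cases i <;> simp
      rwa [this] at hz
  -- all involutions
  have key : ∀ u ∈ Q, u * u = 1 → u ≠ 1 → u ≠ r 0 → u ∈ N := by
    intro u hu h1 hu1 hu0
    obtain ⟨s, β, hs⟩ := exists_QD hu
    have h2 : bf s s = 0 := (sq_eq_one_iff hs).1 h1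
    have hs0 : s ≠ 0 := by
      rintro rfl
      rcases QD_one.eq_or hs with h | h
      · exact hu1 h
      · exact hu0 (by rw [h, one_mul])
    obtain ⟨g, hg0, hg1⟩ := exists_one (m := c⁻¹ • s) (by simp [hs.m0]) (by simp [hs.m4])
      (by rw [bf_smul_left, bf_smul_right, h2]; ring) (smul_ne_zero (inv_ne_zero hc) hs0)
    have h3 : mt g *ᵥ (c • e 1) = s := by
      rw [Matrix.mulVec_smul, hg1, smul_smul, mul_inv_cancel₀ hc, one_smul]
    obtain ⟨δ, hδ⟩ := conj_vec hg0 hy h3 hs.m0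
    have h4 := hD g (comm_of_fix hg0) y hyN
    rcases hs.eq_or hδ with h5 | h5
    · rw [← h5]; exact h4
    · obtain ⟨q, hq, h6⟩ := Q_noncomm hu hu1 hu0
      rw [h5] at h4
      have h7 := hD q (Q_r hq) _ h4
      have h8 : q * (u * r 0) * q⁻¹ = u := by
        calc q * (u * r 0) * q⁻¹ = (q * u * q⁻¹) * (q * r 0 * q⁻¹) := by group
          _ = u * (r 0 * r 0) := by rw [h6, Q_r hq]; group
          _ = u := by rw [r_sq, mul_one]
      rwa [h8] at h7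
  apply le_antisymm hN
  refine le_trans hT.Q_gen ((Subgroup.closure_le _).2 ?_)
  rintro u ⟨hu, h1, h2⟩
  refine key u hu h1 ?_ ?_
  · rintro rfl; exact h2 (one_mem _)
  · rintro rfl; exact h2 (hT.d_mem 0)

/-! ### The scalar element -/

theorem mt_h0 : mt h0 = Matrix.diagonal ![1, F4.w, F4.w, F4.w, 1] := rfl

theorem h0_e0 : mt h0 *ᵥ e 0 = e 0 := by
  rw [mt_h0, col]
  ext i; fin_cases i <;> simp

theorem h0_r : h0 * r 0 = r 0 * h0 := comm_of_fix h0_e0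

theorem h0_pow : h0 ^ 3 = 1 := by
  have h1 : h0 ^ 3 = h0 * h0 * h0 := by rw [pow_succ, pow_two]
  rw [h1]
  apply mt_inj
  rw [mt_mul, mt_mul, mt_h0, mt_one]
  decide +kernel

theorem h0_vec {m : Fin 5 → F4} (h0' : m 0 = 0) (h4 : m 4 = 0) : mt h0 *ᵥ m = F4.w • m := by
  rw [mt_h0]
  ext i
  rw [Matrix.mulVec_diagonal]
  fin_cases i <;> simp [h0', h4]

theorem h0_fix {q : MU} (hq : q ∈ Q) (h : h0 * q * h0⁻¹ = q ∨ h0 * q * h0⁻¹ = q * r 0) :
    q = 1 ∨ q = r 0 := by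
  obtain ⟨m, α, hm⟩ := exists_QD hq
  obtain ⟨β, hβ⟩ := conj_vec h0_e0 hm (h0_vec hm.m0 hm.m4) (by simp [hm.m0])
  have h1 : F4.w • m = m := by
    rcases h with h | h
    · rw [h] at hβ
      exact hβ.vec hm
    · have h2 := hm.mul QD_r0
      rw [add_zero, ← h] at h2
      exact hβ.vec h2
  have h2 : m = 0 := by
    ext i
    have h3 : F4.w * m i = m i := congrFun h1 i
    have h4 : ∀ x : F4, F4.w * x = x → x = 0 := by decide
    exact h4 _ h3
  rw [h2] at hm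
  rcases QD_one.eq_or hm with h | h
  · exact Or.inl h
  · exact Or.inr (by rw [h, one_mul])

/-- `g` acts as the scalar `μ` modulo `e 0` on the orthogonal space of `e 0`. -/
def SC (g : MU) (μ : F4) : Prop := ∀ v : Fin 5 → F4, v 4 = 0 → ∃ c : F4, mt g *ᵥ v = μ • v + c • e 0

theorem SC_h0 : SC h0 F4.w := by
  intro v h4
  refine ⟨(1 + F4.w) * v 0, ?_⟩
  rw [mt_h0]
  ext i
  rw [Matrix.mulVec_diagonal]
  fin_cases i <;> simp [h4]
  linear_combination (-(F4.w * v 0)) * two_zero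

theorem SC_h0_inv : SC h0⁻¹ F4.v := by
  have h1 : h0⁻¹ = h0 * h0 := by
    have := h0_pow
    rw [pow_succ, pow_two] at this
    exact (eq_inv_of_mul_eq_one_left this).symm
  rw [h1]
  intro v h4
  obtain ⟨c, hc⟩ := SC_h0 v h4
  obtain ⟨d, hd⟩ := SC_h0 (mt h0 *ᵥ v) (DV.perp ⟨1, one_ne_zero, by rw [h0_e0, one_smul]⟩ h4)
  refine ⟨F4.w * c + d, ?_⟩
  rw [mt_mul, ← Matrix.mulVec_mulVec, hd, hc, smul_add, smul_smul, smul_smul, add_smul, add_assoc]
  rfl

theorem h0_comm {a : MU} (ha : a * r 0 = r 0 * a) : a * h0 * a⁻¹ * h0⁻¹ ∈ Q := by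
  have hD := (comm_r0_iff a).1 ha
  obtain ⟨c, hc, hc0⟩ := hD
  have hD : DV a := ⟨c, hc, hc0⟩
  obtain ⟨d, hd, hd0⟩ := hD.inv
  have hDi : DV a⁻¹ := ⟨d, hd, hd0⟩
  have hDh : DV h0⁻¹ := DV.inv ⟨1, one_ne_zero, by rw [h0_e0, one_smul]⟩
  have key : ∀ v, mt (a * h0 * a⁻¹ * h0⁻¹) *ᵥ v = mt a *ᵥ (mt h0 *ᵥ (mt a⁻¹ *ᵥ (mt h0⁻¹ *ᵥ v))) := by
    intro v
    rw [Matrix.mulVec_mulVec, Matrix.mulVec_mulVec, Matrix.mulVec_mulVec, ← mt_mul, ← mt_mul,
      ← mt_mul]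
  have hi : mt h0⁻¹ *ᵥ e 0 = e 0 := by
    have := mt_inv_mulVec h0 (e 0)
    rwa [h0_e0] at this
  refine (mem_Q_iff _).2 ⟨?_, fun v h4 => ?_⟩
  · rw [key, hi, hd0, Matrix.mulVec_smul, h0_e0, ← hd0, mt_mulVec_inv]
  · obtain ⟨c1, h1⟩ := SC_h0_inv v h4
    obtain ⟨c2, h2⟩ := SC_h0 (mt a⁻¹ *ᵥ v) (hDi.perp h4)
    refine ⟨F4.v * c2 * c + c1, ?_⟩
    rw [key, h1, Matrix.mulVec_add, Matrix.mulVec_smul, Matrix.mulVec_smul, hd0, Matrix.mulVec_add,
      Matrix.mulVec_smul, h2, Matrix.mulVec_smul, Matrix.mulVec_smul, h0_e0, ← hd0, Matrix.mulVec_add,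
      Matrix.mulVec_smul, Matrix.mulVec_add, Matrix.mulVec_smul, Matrix.mulVec_smul, mt_mulVec_inv,
      Matrix.mulVec_smul, mt_mulVec_inv, hc0]
    ext i
    simp only [Pi.add_apply, Pi.smul_apply, smul_eq_mul]
    have h5 : F4.v * F4.w = 1 := rfl
    linear_combination (v i) * h5

end Cfsg.Agent.UFiveTwo.Model
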