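import Cfsg.Agent.UFiveTwo.ModelD3

/-!
# `PSU₅(2)`: the elements `k1`, `n2`, the centre of `D / Q`, generation of `D`
-/

set_option autoImplicit false
set_option maxRecDepth 100000

open Cfsg

namespace Cfsg.Agent.UFiveTwo.Model

open Matrix Cfsg.Agent.Lib.FieldFour
open Cfsg.Agent.SylowU5.Model Cfsg.Agent.SylowU5.Basic Cfsg.Agent.SylowU5

/-! ### The torus element -/

/-- The diagonal element of `SL₂(4)`. -/
def kg : SL2 := ⟨!![F4.w, 0; 0, F4.v], by rw [Matrix.det_fin_two]; decide⟩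

/-- the 3-cycle -/
noncomputable def k1 : alternatingGroup (Fin 5) := altEquiv.symm kg

theorem l_k1 : l k1 = lvS kg := by rw [l_apply, k1, altEquiv.apply_symm_apply]

theorem ρ_kg : ρ kg = (k1 : Equiv.Perm (Fin 5)) := by
  rw [k1, ← ρ_altEquiv, altEquiv.apply_symm_apply]

theorem k1_zero : (k1 : Equiv.Perm (Fin 5)) 0 = 0 := by
  rw [← ρ_kg, ρ_eq_iff, conj_r_iff]
  have h8 : vv 0 = (1 : F4) • e 0 + (0 : F4) • e 1 := by simp [vv0]
  rw [h8, lvS_vec]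
  have h1 : kg.1 0 0 = F4.w := rfl
  have h2 : kg.1 1 0 = 0 := rfl
  rw [h1, h2]
  simp only [mul_one, mul_zero, add_zero, zero_smul, one_smul]
  exact tv_smul (by decide) _

theorem vv1 : vv 1 = e 1 := by ext i; fin_cases i <;> rfl

theorem k1_one : (k1 : Equiv.Perm (Fin 5)) 1 = 1 := by
  rw [← ρ_kg, ρ_eq_iff, conj_r_iff]
  have h8 : vv 1 = (0 : F4) • e 0 + (1 : F4) • e 1 := by simp [vv1]
  rw [h8, lvS_vec]
  have h1 : kg.1 1 1 = F4.v := rfl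
  have h2 : kg.1 0 1 = 0 := rfl
  rw [h1, h2]
  simp only [mul_one, mul_zero, zero_smul, one_smul, zero_add]
  exact tv_smul (by decide) _

theorem k1_ne : k1 ≠ 1 := by
  intro h
  have h1 : kg = 1 := by
    rw [← altEquiv.apply_symm_apply kg]
    change altEquiv k1 = 1
    rw [h, map_one]
  have h2 : kg.1 0 0 = (1 : SL2).1 0 0 := by rw [h1]
  revert h2
  decide

/-- `h * l k1` is diagonal. -/
theorem mt_hk : mt (h * l k1) = Matrix.diagonal ![F4.v, 1, F4.v, 1, F4.v] := by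
  rw [l_k1, mt_mul, mt_h, mt_lvS]
  decide +kernel

theorem LV_mul {a b : MU} (ha : LV a) (hb : LV b) : LV (a * b) := by
  obtain ⟨⟨c, d, h1⟩, ⟨c', d', h2⟩⟩ := ha
  obtain ⟨⟨s, t, h3⟩, ⟨s', t', h4⟩⟩ := hb
  constructor
  · refine ⟨s * c + t * c', s * d + t * d', ?_⟩
    rw [mt_mul, ← Matrix.mulVec_mulVec, h3, Matrix.mulVec_add, Matrix.mulVec_smul,
      Matrix.mulVec_smul, h1, h2]
    ext i
    simp only [Pi.add_apply, Pi.smul_apply, smul_eq_mul]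
    ring
  · refine ⟨s' * c + t' * c', s' * d + t' * d', ?_⟩
    rw [mt_mul, ← Matrix.mulVec_mulVec, h4, Matrix.mulVec_add, Matrix.mulVec_smul,
      Matrix.mulVec_smul, h1, h2]
    ext i
    simp only [Pi.add_apply, Pi.smul_apply, smul_eq_mul]
    ring

theorem LV_hk : LV (h * l k1) := by
  rw [l_k1]
  exact LV_mul LV_h (LV_lvS kg)

theorem hk_e (i : Fin 5) : mt (h * l k1) *ᵥ e i = (![F4.v, 1, F4.v, 1, F4.v] : Fin 5 → F4) i • e i := by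
  rw [mt_hk]
  ext j
  rw [Matrix.mulVec_diagonal]
  by_cases hij : j = i
  · subst hij; simp
  · simp [hij]

theorem UD.conj_hk {u : MU} {p q : F4} (hu : UD u p q) :
    UD ((h * l k1) * u * (h * l k1)⁻¹) p (F4.w * q) := by
  refine ⟨U_conj LV_hk hu.1, ?_⟩
  have e2 : mt (h * l k1) *ᵥ e 2 = F4.v • e 2 := hk_e 2
  have e0 : mt (h * l k1) *ᵥ e 0 = F4.v • e 0 := hk_e 0
  have e1 : mt (h * l k1) *ᵥ e 1 = (1 : F4) • e 1 := hk_e 1
  have h1 : mt (h * l k1)⁻¹ *ᵥ e 2 = F4.w • e 2 := by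
    have h2 := mt_inv_mulVec (h * l k1) (e 2)
    rw [e2, Matrix.mulVec_smul] at h2
    have h3 : F4.w • (F4.v • (mt (h * l k1)⁻¹ *ᵥ e 2)) = F4.w • e 2 := by rw [h2]
    rw [smul_smul] at h3
    have h4 : F4.w * F4.v = 1 := rfl
    rwa [h4, one_smul] at h3
  have key : mt ((h * l k1) * u * (h * l k1)⁻¹) *ᵥ e 2 =
      mt (h * l k1) *ᵥ (mt u *ᵥ (mt (h * l k1)⁻¹ *ᵥ e 2)) := by
    rw [Matrix.mulVec_mulVec, Matrix.mulVec_mulVec, ← mt_mul, ← mt_mul]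
  rw [key, h1, Matrix.mulVec_smul, hu.2, Matrix.mulVec_smul, Matrix.mulVec_add, Matrix.mulVec_add,
    Matrix.mulVec_smul, Matrix.mulVec_smul, e0, e1, e2]
  have h5 : F4.w * F4.v = 1 := rfl
  ext i
  simp only [Pi.add_apply, Pi.smul_apply, smul_eq_mul]
  linear_combination ((e 2 : Fin 5 → F4) i + p * (e 0 : Fin 5 → F4) i) * h5

theorem UQ_UD {u : MU} (hu : u ∈ U ⊓ Q) : ∃ p, UD u p 0 := by
  obtain ⟨p, q, hd⟩ := exists_UD hu.1
  obtain ⟨c, hc⟩ := ((mem_Q_iff u).1 hu.2).2 (e 2) (by simp)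
  have h1 := hd.2
  rw [hc] at h1
  have h2 := congrFun h1 1
  simp at h2
  exact ⟨p, by rw [h2]; exact hd⟩

theorem exists_UQ (p : F4) : ∃ y ∈ U ⊓ Q, UD y p 0 := by
  obtain ⟨x, hx⟩ := exists_M0 (x := ⟨0, p, 0, F4.w * (p * cj p), 0, 0, 0⟩) ⟨by revert p; decide,
    by revert p; decide, by revert p; decide⟩
  have h1 : em x ∈ U := ⟨x, (V_iff x).2 (by rw [hx]), rfl⟩
  have h2 : em x ∈ Q := ⟨x, (Q_iff x).2 (by rw [hx]; exact ⟨rfl, rfl⟩), rfl⟩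
  refine ⟨em x, ⟨h1, h2⟩, h1, ?_⟩
  rw [mt_em, hx, col]
  ext i; fin_cases i <;> simp [mx]

theorem h1_UQ {u : MU} (hu : u ∈ U ⊓ Q) : ∃ v ∈ Subgroup.closure (Set.range r),
    (h * l k1) * u * (h * l k1)⁻¹ = u * v := by
  obtain ⟨p, hp⟩ := UQ_UD hu
  refine ⟨u⁻¹ * ((h * l k1) * u * (h * l k1)⁻¹), ?_, by group⟩
  apply UD.mem_clos
  have h1 := hp.inv.mul hp.conj_hk
  rw [add_self', mul_zero, add_zero] at h1
  exact h1

theorem h1_U {u : MU} (hu : u ∈ U) (h : ∃ y ∈ U ⊓ Q, ∃ v ∈ Subgroup.closure (Set.range r),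
    (h * l k1) * u * (h * l k1)⁻¹ = u * (y * v)) :
    ∃ y ∈ U ⊓ Q, ∃ v ∈ Subgroup.closure (Set.range r), u = y * v := by
  obtain ⟨y, hy, v, hv, h1⟩ := h
  obtain ⟨p, q, hd⟩ := exists_UD hu
  obtain ⟨s, hs⟩ := UQ_UD hy
  obtain ⟨s', t', hv'⟩ := exists_UD (clos_le hv)
  -- the elements of `V` have trivial coordinates
  have hv0 : s' = 0 ∧ t' = 0 := by
    rw [clos] at hv
    obtain ⟨x, hx, rfl⟩ := hv
    obtain ⟨y, hy, h1, h2, h3⟩ := exists_em (a := em x) (l := 0) ((mem_U_iff _).1 hv'.1).1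
      (by rw [((mem_U_iff _).1 hv'.1).2.1, zero_smul, add_zero]) hv'.2
    have hyx : y = x := em_injective hy
    subst hyx
    rw [← h2, ← h3]
    have h4 : ∀ n : Fin 16, (dec n).p = 0 ∧ (dec n).q = 0 := by decide +kernel
    exact h4 ⟨y.n, M0.mem_E.1 hx⟩
  obtain ⟨rfl, rfl⟩ := hv0
  have h2 := hd.conj_hk
  rw [h1] at h2
  obtain ⟨-, h3⟩ := h2.uniq (hd.mul (hs.mul hv'))
  have h4 : q = 0 := by
    have : ∀ q : F4, F4.w * q = q + (0 + 0) → q = 0 := by decide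
    exact this q h3
  subst h4
  obtain ⟨y', hy', hd'⟩ := exists_UQ p
  refine ⟨y', hy', y'⁻¹ * u, ?_, by group⟩
  apply UD.mem_clos
  have h5 := hd'.inv.mul hd
  rw [add_self', add_self'] at h5
  exact h5

/-! ### The Weyl element -/

theorem mt_n2 : mt n2 = !![1, 0, 0, 0, 0; 0, 0, 0, 1, 0; 0, 0, 1, 0, 0; 0, 1, 0, 0, 0; 0, 0, 0, 0, 1] := rfl

theorem n2_e0 : mt n2 *ᵥ e 0 = e 0 := by
  rw [mt_n2, col]; ext i; fin_cases i <;> simp
theorem n2_e1 : mt n2 *ᵥ e 1 = e 3 := by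
  rw [mt_n2, col]; ext i; fin_cases i <;> simp
theorem n2_e2 : mt n2 *ᵥ e 2 = e 2 := by
  rw [mt_n2, col]; ext i; fin_cases i <;> simp
theorem n2_e3 : mt n2 *ᵥ e 3 = e 1 := by
  rw [mt_n2, col]; ext i; fin_cases i <;> simp
theorem n2_e4 : mt n2 *ᵥ e 4 = e 4 := by
  rw [mt_n2, col]; ext i; fin_cases i <;> simp

theorem n2_r : n2 * r 0 = r 0 * n2 := comm_of_fix n2_e0

theorem n2_sq : n2 * n2 = 1 := by
  apply mt_inj
  rw [mt_mul, mt_n2, mt_one]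
  decide +kernel

theorem n2_h : n2 * h = h * n2 := by
  apply mt_inj
  rw [mt_mul, mt_mul, mt_n2, mt_h]
  decide +kernel

theorem n2_k1 : n2 * l k1 = l k1 * n2 := by
  rw [l_k1]
  apply mt_inj
  rw [mt_mul, mt_mul, mt_n2, mt_lvS]
  decide +kernel

theorem n2_l {σ : alternatingGroup (Fin 5)} (hσ : IsKlein σ) :
    n2 * l σ * n2⁻¹ ∈ Subgroup.closure (Set.range r) := by
  obtain ⟨h1, h2, h3⟩ := klein_entries hσ
  have hq : QD (l σ) _ 0 := lvS_Q h1 h2 h3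
  set b := cj ((altEquiv σ).1 0 1) with hb
  have h4 : mt n2 *ᵥ (fun i => cj (((altEquiv σ).1 0 1 • ![0, 0, 0, 1, 0] : Fin 5 → F4) i)) = b • e 1 := by
    have h5 : (fun i => cj (((altEquiv σ).1 0 1 • ![0, 0, 0, 1, 0] : Fin 5 → F4) i)) = b • e 3 := by
      ext i
      fin_cases i <;> simp [hb, cj_zero]
    rw [h5, Matrix.mulVec_smul, n2_e3]
  obtain ⟨β, hβ⟩ := conj_vec n2_e0 hq h4 (by simp)
  apply UD.mem_clos
  refine ⟨(mem_U_iff _).2 ⟨hβ.h0, ?_, ?_⟩, ?_⟩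
  · rw [hβ.hp (e 1) (by simp), bf_smul_right, bf_e]
    simp
  · intro v _ h4
    refine ⟨bf v (b • e 1), 0, ?_⟩
    rw [zero_smul, add_zero]
    exact hβ.hp v h4
  · rw [hβ.hp (e 2) (by simp), bf_smul_right, bf_e]
    simp

theorem n2_UQ {u : MU} (hu : u ∈ U ⊓ Q) (hc : (h * l k1) * u = u * (h * l k1)) : n2 * u = u * n2 := by
  obtain ⟨m, α, hm⟩ := exists_QD hu.2
  -- `m 3 = 0`
  have h1 := ((mem_U_iff u).1 hu.1).2.1
  rw [hm.hp (e 1) (by simp)] at h1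
  have h2 : bf (e 1) m = 0 := by
    have := congrFun h1 0
    simpa using this
  rw [← cj_bf, bf_e1] at h2
  have h3 : m 3 = 0 := by
    have := congrArg cj h2
    rwa [cj_cj, cj_zero] at this
  -- `m 1 = 0`
  obtain ⟨m', β, h4, h5⟩ := hm.conj (a := h * l k1) (c := F4.v) (by decide) (hk_e 0)
  have h6 : (h * l k1) * u * (h * l k1)⁻¹ = u := by rw [hc]; group
  rw [h6] at h4
  have h7 := h5 1 (by decide)
  rw [h4.vec hm, mt_hk, Matrix.mulVec_diagonal] at h7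
  have h8 : m 1 = 0 := by
    have h9 : ∀ x : F4, x = cj F4.v * (1 * x) → x = 0 := by decide
    exact h9 _ h7
  have hm2 : m = m 2 • e 2 := by
    ext i
    fin_cases i <;> simp [hm.m0, hm.m4, h3, h8]
  have b0 := hm.h0
  have b1 : mt u *ᵥ e 1 = e 1 := ((mem_U_iff u).1 hu.1).2.1
  have b2 : mt u *ᵥ e 2 = e 2 + cj (m 2) • e 0 := by
    rw [hm.hp (e 2) (by simp), ← cj_bf, bf_e2]
  have b3 : mt u *ᵥ e 3 = e 3 := by
    rw [hm.hp (e 3) (by simp), ← cj_bf, bf_e3, h8, cj_zero, zero_smul, add_zero]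
  have b4 := hm.h4
  apply mt_ext
  intro i
  rw [mt_mul, mt_mul, ← Matrix.mulVec_mulVec, ← Matrix.mulVec_mulVec]
  fin_cases i
  · change mt n2 *ᵥ (mt u *ᵥ e 0) = mt u *ᵥ (mt n2 *ᵥ e 0)
    rw [b0, n2_e0, b0]
  · change mt n2 *ᵥ (mt u *ᵥ e 1) = mt u *ᵥ (mt n2 *ᵥ e 1)
    rw [b1, n2_e1, b3]
  · change mt n2 *ᵥ (mt u *ᵥ e 2) = mt u *ᵥ (mt n2 *ᵥ e 2)
    rw [b2, n2_e2, b2, Matrix.mulVec_add, Matrix.mulVec_smul, n2_e0, n2_e2]
  · change mt n2 *ᵥ (mt u *ᵥ e 3) = mt u *ᵥ (mt n2 *ᵥ e 3)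
    rw [b3, n2_e3, b1]
  · change mt n2 *ᵥ (mt u *ᵥ e 4) = mt u *ᵥ (mt n2 *ᵥ e 4)
    rw [b4, n2_e4, b4, Matrix.mulVec_add, Matrix.mulVec_add, Matrix.mulVec_smul, n2_e0, n2_e4]
    have : mt n2 *ᵥ m = m := by
      rw [hm2, Matrix.mulVec_smul, n2_e2]
    rw [this]

end Cfsg.Agent.UFiveTwo.Model
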