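import Cfsg.Agent.UFiveTwo.ModelD4

/-!
# `PSU₅(2)`: the centre of `D / Q`, the index of `U Q` and the generation of `D`
-/

set_option autoImplicit false
set_option maxRecDepth 100000

open Cfsg

namespace Cfsg.Agent.UFiveTwo.Model

open Matrix Cfsg.Agent.Lib.FieldFour
open Cfsg.Agent.SylowU5.Model Cfsg.Agent.SylowU5.Basic Cfsg.Agent.SylowU5

/-- Commuting modulo `Q` means commuting on the middle section. -/
theorem mid {a b : MU} (ha : DV a) (hb : DV b) (h : a * b * a⁻¹ * b⁻¹ ∈ Q) {v : Fin 5 → F4} (hv : v 4 = 0)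
    {i : Fin 5} (hi : i ≠ 0) : (mt a *ᵥ (mt b *ᵥ v)) i = (mt b *ᵥ (mt a *ᵥ v)) i := by
  set q := a * b * a⁻¹ * b⁻¹ with hq
  have h1 : a * b = q * (b * a) := by rw [hq]; group
  have h2 : mt a *ᵥ (mt b *ᵥ v) = mt q *ᵥ (mt b *ᵥ (mt a *ᵥ v)) := by
    rw [Matrix.mulVec_mulVec, Matrix.mulVec_mulVec, Matrix.mulVec_mulVec, ← mt_mul, ← mt_mul,
      ← mt_mul, h1, ← mul_assoc]
  obtain ⟨c, hc⟩ := ((mem_Q_iff _).1 h).2 _ (hb.perp (ha.perp hv))
  rw [h2, hc]
  simp [hi]

/-- Decomposition of the image of a vector. -/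
theorem mid_exp {a : MU} (ha : DV a) {v : Fin 5 → F4} (hv : v 4 = 0) {i : Fin 5} (hi : i ≠ 0) :
    (mt a *ᵥ v) i = v 1 * mt a i 1 + v 2 * mt a i 2 + v 3 * mt a i 3 := by
  obtain ⟨c, hc, h0⟩ := ha
  have h1 : mt a i 0 = 0 := by
    have := congrFun h0 i
    rw [col] at this
    simpa [hi] using this
  simp only [Matrix.mulVec, dotProduct, Fin.sum_univ_five]
  rw [h1, hv]
  ring

/-- The centre of `D / Q`. -/
theorem h0_cent {a : MU} (ha : a * r 0 = r 0 * a)
    (h : ∀ b : MU, b * r 0 = r 0 * b → a * b * a⁻¹ * b⁻¹ ∈ Q) : ∃ q ∈ Q, ∃ j : ℕ, a = q * h0 ^ j := by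
  have hD := (comm_r0_iff a).1 ha
  obtain ⟨t, ht0, ht⟩ := exists_t
  have htD : DV t := ⟨1, one_ne_zero, by rw [ht0, one_smul]⟩
  have hnD : DV n2 := ⟨1, one_ne_zero, by rw [n2_e0, one_smul]⟩
  -- the action of `t` on the middle basis vectors
  have tb : ∀ m : Fin 5 → F4, m 0 = 0 → m 4 = 0 → mt t *ᵥ m = ![0, m 2 + F4.w * m 3, m 3, 0, 0] + m := by
    intro m h0 h4
    have h1 := ht m h0 h4
    rw [← h1, add_assoc]
    ext i
    simp only [Pi.add_apply]
    rw [add_self', add_zero]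
  have t1 : mt t *ᵥ e 1 = e 1 := by
    rw [tb _ (by simp) (by simp)]
    ext i; fin_cases i <;> simp
  have t2 : mt t *ᵥ e 2 = e 1 + e 2 := by
    rw [tb _ (by simp) (by simp)]
    ext i; fin_cases i <;> simp
  have t3 : mt t *ᵥ e 3 = F4.w • e 1 + e 2 + e 3 := by
    rw [tb _ (by simp) (by simp)]
    ext i; fin_cases i <;> simp
  have ct := h t (comm_of_fix ht0)
  have cn := h n2 n2_r
  -- matrix entries of `t` in the middle
  have T : ∀ v : Fin 5 → F4, v 4 = 0 → (mt t *ᵥ v) 1 = v 1 + v 2 + F4.w * v 3 ∧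
      (mt t *ᵥ v) 2 = v 2 + v 3 ∧ (mt t *ᵥ v) 3 = v 3 := by
    intro v hv
    refine ⟨?_, ?_, ?_⟩
    · rw [mid_exp htD hv (by decide), ← congrFun (col (mt t) 1) 1, ← congrFun (col (mt t) 2) 1,
        ← congrFun (col (mt t) 3) 1, t1, t2, t3]
      simp
      ring
    · rw [mid_exp htD hv (by decide), ← congrFun (col (mt t) 1) 2, ← congrFun (col (mt t) 2) 2,
        ← congrFun (col (mt t) 3) 2, t1, t2, t3]
      simp
    · rw [mid_exp htD hv (by decide), ← congrFun (col (mt t) 1) 3, ← congrFun (col (mt t) 2) 3,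
        ← congrFun (col (mt t) 3) 3, t1, t2, t3]
      simp
  have Nn : ∀ v : Fin 5 → F4, (mt n2 *ᵥ v) 1 = v 3 ∧ (mt n2 *ᵥ v) 2 = v 2 ∧ (mt n2 *ᵥ v) 3 = v 1 := by
    intro v
    rw [mt_n2]
    simp only [Matrix.mulVec, dotProduct, Fin.sum_univ_five]
    refine ⟨?_, ?_, ?_⟩ <;> simp
  -- names
  have a1 : (mt a *ᵥ e 1) 4 = 0 := hD.perp (by simp)
  have a2 : (mt a *ᵥ e 2) 4 = 0 := hD.perp (by simp)
  have a3 : (mt a *ᵥ e 3) 4 = 0 := hD.perp (by simp)
  set x := mt a *ᵥ e 1 with hx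
  set y := mt a *ᵥ e 2 with hy
  set z := mt a *ᵥ e 3 with hz
  -- relations with `n2`
  have n1 : ∀ i, i ≠ 0 → z i = (mt n2 *ᵥ x) i := by
    intro i hi
    have := mid hD hnD cn (v := e 1) (by simp) hi
    rw [n2_e1, ← hz, ← hx] at this
    exact this
  have n2' : ∀ i, i ≠ 0 → y i = (mt n2 *ᵥ y) i := by
    intro i hi
    have := mid hD hnD cn (v := e 2) (by simp) hi
    rw [n2_e2, ← hy] at this
    exact this
  -- relations with `t`
  have s1 : ∀ i, i ≠ 0 → x i = (mt t *ᵥ x) i := by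
    intro i hi
    have := mid hD htD ct (v := e 1) (by simp) hi
    rw [t1, ← hx] at this
    exact this
  have s2 : ∀ i, i ≠ 0 → x i + y i = (mt t *ᵥ y) i := by
    intro i hi
    have := mid hD htD ct (v := e 2) (by simp) hi
    rw [t2, Matrix.mulVec_add, ← hx, ← hy] at this
    exact this
  have e1 := s1 2 (by decide)
  rw [(T x a1).2.1] at e1
  have x3 : x 3 = 0 := by
    have : x 2 + 0 = x 2 + x 3 := by rw [add_zero]; exact e1
    exact (add_left_cancel this).symm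
  have e2 := s1 1 (by decide)
  rw [(T x a1).1, x3, mul_zero, add_zero] at e2
  have x2 : x 2 = 0 := by
    have : x 1 + 0 = x 1 + x 2 := by rw [add_zero]; exact e2
    exact (add_left_cancel this).symm
  have z1 : z 1 = 0 := by rw [n1 1 (by decide), (Nn x).1, x3]
  have z2 : z 2 = 0 := by rw [n1 2 (by decide), (Nn x).2.1, x2]
  have z3 : z 3 = x 1 := by rw [n1 3 (by decide), (Nn x).2.2]
  have e3 := s2 2 (by decide)
  rw [(T y a2).2.1, x2, zero_add] at e3
  have y3 : y 3 = 0 := by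
    have : y 2 + 0 = y 2 + y 3 := by rw [add_zero]; exact e3
    exact (add_left_cancel this).symm
  have y1 : y 1 = 0 := by rw [n2' 1 (by decide), (Nn y).1, y3]
  have e4 := s2 1 (by decide)
  rw [(T y a2).1, y1, y3, mul_zero, add_zero, add_zero, zero_add] at e4
  -- the scalar
  have hx1 : x 1 ≠ 0 := by
    intro h0
    have h1 := mt_bf a (e 1) (e 3)
    rw [← hx, ← hz, bf_e] at h1
    rw [bf_def, a1, a3, x2, x3, h0] at h1
    simp [cj_zero] at h1
  obtain ⟨j, hj⟩ : ∃ j : ℕ, x 1 = F4.w ^ j := by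
    have : ∀ c : F4, c ≠ 0 → c = 1 ∨ c = F4.w ∨ c = F4.w * F4.w := by decide
    rcases this _ hx1 with h | h | h
    · exact ⟨0, by rw [h, pow_zero]⟩
    · exact ⟨1, by rw [h, pow_one]⟩
    · exact ⟨2, by rw [h, pow_two]⟩
  refine ⟨a * (h0 ^ j)⁻¹, ?_, j, by group⟩
  -- `SC` for powers of `h0`
  have hSC : ∀ j : ℕ, ∀ v : Fin 5 → F4, v 4 = 0 → ∃ c : F4, mt (h0 ^ j) *ᵥ v = F4.w ^ j • v + c • e 0 := by
    intro j
    induction j with
    | zero => intro v _; exact ⟨0, by rw [pow_zero, mt_one, Matrix.one_mulVec, pow_zero]; simp⟩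
    | succ j ih =>
      intro v hv
      obtain ⟨c, hc⟩ := SC_h0 v hv
      obtain ⟨d, hd⟩ := ih (mt h0 *ᵥ v) (DV.perp ⟨1, one_ne_zero, by rw [h0_e0, one_smul]⟩ hv)
      refine ⟨F4.w ^ j * c + d, ?_⟩
      rw [pow_succ, mt_mul, ← Matrix.mulVec_mulVec, hd, hc]
      ext i
      simp only [Pi.add_apply, Pi.smul_apply, smul_eq_mul]
      ring
  have hj0 : mt (h0 ^ j) *ᵥ e 0 = e 0 := by
    clear hj
    induction j with
    | zero => rw [pow_zero, mt_one, Matrix.one_mulVec]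
    | succ j ih => rw [pow_succ, mt_mul, ← Matrix.mulVec_mulVec, h0_e0, ih]
  have hjD : DV (h0 ^ j) := ⟨1, one_ne_zero, by rw [hj0, one_smul]⟩
  -- `a` is the scalar `w ^ j` on the middle
  obtain ⟨c0, hc0, hae0⟩ := id hD
  have ha' : ∀ v : Fin 5 → F4, v 4 = 0 → ∃ c : F4, mt a *ᵥ v = F4.w ^ j • v + c • e 0 := by
    intro v hv
    refine ⟨(mt a *ᵥ v) 0 + F4.w ^ j * v 0, ?_⟩
    have hi : ∀ i, i ≠ 0 → (mt a *ᵥ v) i = v 1 * x i + v 2 * y i + v 3 * z i := by
      intro i hi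
      rw [mid_exp hD hv hi, hx, hy, hz, col, col, col]
    ext i
    by_cases h0 : i = 0
    · subst h0
      simp
      linear_combination (-(F4.w ^ j * v 0)) * two_zero
    · rw [hi i h0, ← hj]
      simp only [Pi.add_apply, Pi.smul_apply, smul_eq_mul]
      fin_cases i
      · exact absurd rfl h0
      · change v 1 * x 1 + v 2 * y 1 + v 3 * z 1 = _
        rw [y1, z1]; simp; ring
      · change v 1 * x 2 + v 2 * y 2 + v 3 * z 2 = _
        rw [x2, z2, ← e4]; simp; ring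
      · change v 1 * x 3 + v 2 * y 3 + v 3 * z 3 = _
        rw [x3, y3, z3]; simp; ring
      · change v 1 * x 4 + v 2 * y 4 + v 3 * z 4 = _
        rw [a1, a2, a3]; simp [hv]
  set b := a * (h0 ^ j)⁻¹ with hb
  have hab : a = b * h0 ^ j := by rw [hb]; group
  have hbe0 : mt b *ᵥ e 0 = c0 • e 0 := by
    have h1 : mt (h0 ^ j)⁻¹ *ᵥ e 0 = e 0 := by
      have := mt_inv_mulVec (h0 ^ j) (e 0)
      rwa [hj0] at this
    rw [hb, mt_mul, ← Matrix.mulVec_mulVec, h1, hae0]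
  have hbD : DV b := ⟨c0, hc0, hbe0⟩
  have hbv : ∀ v : Fin 5 → F4, v 4 = 0 → ∃ c : F4, mt b *ᵥ v = v + c • e 0 := by
    intro v hv
    have hw : (mt (h0 ^ j)⁻¹ *ᵥ v) 4 = 0 := hjD.inv.perp hv
    obtain ⟨c, hc⟩ := ha' _ hw
    obtain ⟨d, hd⟩ := hSC j _ hw
    rw [mt_mulVec_inv] at hd
    refine ⟨c + d, ?_⟩
    rw [hb, mt_mul, ← Matrix.mulVec_mulVec, hc]
    ext i
    have hd' := congrFun hd i
    simp only [Pi.add_apply, Pi.smul_apply, smul_eq_mul] at hd' ⊢
    linear_combination (-1 : F4) * hd' - (d * (e 0 : Fin 5 → F4) i) * two_zero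
  -- `c0 = 1`
  have hc1 : c0 = 1 := by
    -- determinant
    have hup : ∀ i j : Fin 5, j < i → mt b i j = 0 := by
      intro i j hij
      have hj4 : j ≠ 4 := by rintro rfl; exact absurd hij (by have := i.2; simp [Fin.lt_def]; omega)
      have hi0 : i ≠ 0 := by rintro rfl; exact absurd hij (by simp)
      obtain ⟨c, hc⟩ := hbv (e j) (by simp [Ne.symm hj4])
      have := congrFun hc i
      rw [col] at this
      simpa [hij.ne', hi0] using this
    have hdiag : ∀ i : Fin 5, i ≠ 0 → i ≠ 4 → mt b i i = 1 := by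
      intro i h0 h4
      obtain ⟨c, hc⟩ := hbv (e i) (by simp [Ne.symm h4])
      have := congrFun hc i
      rw [col] at this
      simpa [h0] using this
    have hb00 : mt b 0 0 = c0 := by
      have := congrFun hbe0 0
      rw [col] at this
      simpa using this
    have hdet := mt_det b
    rw [Matrix.det_of_isUpperTriangular (fun i j hij => hup i j hij), Fin.prod_univ_five, hb00,
      hdiag 1 (by decide) (by decide), hdiag 2 (by decide) (by decide),
      hdiag 3 (by decide) (by decide)] at hdet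
    have hun := mt_bf b (e 4) (e 0)
    rw [hbe0, bf_smul_right, bf_e0, bf_e0, col] at hun
    have h5 : (e 4 : Fin 5 → F4) 4 = 1 := by simp
    rw [h5] at hun
    have : ∀ c d : F4, c * 1 * 1 * 1 * d = 1 → cj c * d = 1 → c = 1 := by decide
    exact this _ _ hdet hun
  rw [hc1, one_smul] at hbe0
  exact (mem_Q_iff _).2 ⟨hbe0, hbv⟩

end Cfsg.Agent.UFiveTwo.Model
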