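import Cfsg.Agent.UFiveTwo.ModelSub

/-!
# `PSU₅(2)`: explicit elements
-/

set_option autoImplicit false
set_option maxRecDepth 100000

open Cfsg

namespace Cfsg.Agent.UFiveTwo.Model

open Matrix Cfsg.Agent.Lib.FieldFour
open Cfsg.Agent.SylowU5.Model Cfsg.Agent.SylowU5.Basic

theorem two_zero : (2 : F4) = 0 := Raw.two_zero

/-- Values of the form on the basis. -/
theorem bf_e (i j : Fin 5) : bf (e i) (e j) = if j = Fin.rev i then 1 else 0 := by
  fin_cases i <;> fin_cases j <;> simp [bf_def, cj_zero, cj_one]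

theorem mulVec_cols (A : Matrix (Fin 5) (Fin 5) F4) (u : Fin 5 → F4) :
    A *ᵥ u = u 0 • (A *ᵥ e 0) + u 1 • (A *ᵥ e 1) + u 2 • (A *ᵥ e 2) + u 3 • (A *ᵥ e 3) +
      u 4 • (A *ᵥ e 4) := by
  ext i
  simp only [col, Matrix.mulVec, dotProduct, Fin.sum_univ_five, Pi.add_apply, Pi.smul_apply,
    smul_eq_mul]
  ring

/-- A matrix whose columns form an adapted basis is unitary. -/
theorem bf_of_cols (A : Matrix (Fin 5) (Fin 5) F4)
    (h : ∀ i j, bf (A *ᵥ e i) (A *ᵥ e j) = if j = Fin.rev i then 1 else 0) (u v : Fin 5 → F4) :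
    bf (A *ᵥ u) (A *ᵥ v) = bf u v := by
  rw [mulVec_cols A u, mulVec_cols A v]
  simp only [bf_add_left, bf_smul_left, bf_add_right, bf_smul_right, h]
  simp only [show Fin.rev (0 : Fin 5) = 4 from rfl, show Fin.rev (1 : Fin 5) = 3 from rfl,
    show Fin.rev (2 : Fin 5) = 2 from rfl, show Fin.rev (3 : Fin 5) = 1 from rfl,
    show Fin.rev (4 : Fin 5) = 0 from rfl]
  simp [bf_def]
  ring

/-! ### The Levi factor of the line -/

/-- The matrix of an element of the Levi factor of the stabilizer of the line. -/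
def lm (a b c d δ : F4) : Matrix (Fin 5) (Fin 5) F4 :=
  !![a, b, 0, 0, 0; c, d, 0, 0, 0; 0, 0, δ, 0, 0; 0, 0, 0, δ * cj a, δ * cj b;
     0, 0, 0, δ * cj c, δ * cj d]

theorem lm_det (a b c d δ : F4) (h : a * d + b * c = δ) (hδ : δ ≠ 0) : (lm a b c d δ).det = 1 := by
  have h1 : (lm a b c d δ).det = (a * d - b * c) * δ * (δ * δ) * (cj a * cj d - cj b * cj c) := by
    simp [lm, Matrix.det_succ_row_zero, Fin.sum_univ_succ, Fin.succAbove]
    ring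
  have h2 : a * d - b * c = δ := by rw [← h]; linear_combination (-b * c) * two_zero
  have h3 : cj a * cj d - cj b * cj c = cj δ := by
    rw [← h2, ← cj_mul, ← cj_mul]
    have : ∀ x y : F4, cj x - cj y = cj (x - y) := by decide
    exact this _ _
  rw [h1, h2, h3]
  revert hδ
  clear h1 h2 h3 h
  revert δ
  decide

theorem lm_bf (a b c d δ : F4) (h : a * d + b * c = δ) (hδ : δ ≠ 0) (u v : Fin 5 → F4) :
    bf (lm a b c d δ *ᵥ u) (lm a b c d δ *ᵥ v) = bf u v := by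
  have hN : δ * cj δ = 1 := nrm hδ
  have hc : cj a * cj d + cj b * cj c = cj δ := by rw [← h, cj_add, cj_mul, cj_mul]
  apply bf_of_cols
  intro i j
  rw [col, col]
  fin_cases i <;> fin_cases j <;> simp [lm, bf_def, cj_zero, cj_mul, cj_cj, Fin.ext_iff]
  · linear_combination (a * c * cj δ) * two_zero
  · linear_combination cj δ * h + hN
  · linear_combination cj δ * h + hN
  · linear_combination (b * d * cj δ) * two_zero
  · exact hN
  · linear_combination (δ * cj a * cj c) * two_zero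
  · linear_combination δ * hc + hN
  · linear_combination δ * hc + hN
  · linear_combination (δ * cj b * cj d) * two_zero

/-- The elements of the Levi factor of the stabilizer of the line. -/
def lv (a b c d δ : F4) (h : a * d + b * c = δ) (hδ : δ ≠ 0) : MU :=
  mk (lm a b c d δ) (lm_det a b c d δ h hδ) (lm_bf a b c d δ h hδ)

theorem mt_lv (a b c d δ : F4) (h : a * d + b * c = δ) (hδ : δ ≠ 0) :
    mt (lv a b c d δ h hδ) = lm a b c d δ := rfl

/-! ### The Levi factor of the point -/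

/-- The Hermitian form of dimension three. -/
def hf (a1 a2 a3 b1 b2 b3 : F4) : F4 := F4.add (F4.add (F4.mul a1 (cj b3)) (F4.mul a3 (cj b1)))
  (F4.mul a2 (cj b2))

theorem hf_eq (a1 a2 a3 b1 b2 b3 : F4) : hf a1 a2 a3 b1 b2 b3 = a1 * cj b3 + a3 * cj b1 + a2 * cj b2 := rfl

/-- The matrix of an element of the Levi factor of the stabilizer of the point. -/
def dmm (a1 a2 a3 b1 b2 b3 c1 c2 c3 : F4) : Matrix (Fin 5) (Fin 5) F4 :=
  !![1, 0, 0, 0, 0; 0, a1, b1, c1, 0; 0, a2, b2, c2, 0; 0, a3, b3, c3, 0; 0, 0, 0, 0, 1]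

/-- the cross product -/
def cr (x y z t : F4) : F4 := F4.add (F4.mul x y) (F4.mul z t)

theorem cr_eq (x y z t : F4) : cr x y z t = x * y + z * t := rfl

theorem dmm_det (a1 a2 a3 b1 b2 b3 c1 c2 c3 : F4) : (dmm a1 a2 a3 b1 b2 b3 c1 c2 c3).det =
    b1 * cr a2 c3 a3 c2 + b2 * cr a3 c1 a1 c3 + b3 * cr a1 c2 a2 c1 := by
  simp [dmm, Matrix.det_succ_row_zero, Fin.sum_univ_succ, Fin.succAbove, cr_eq]
  linear_combination (-(a1 * b3 * c2) - a3 * b2 * c1 - a2 * b1 * c3) * two_zero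

theorem dmm_bf (a1 a2 a3 b1 b2 b3 c1 c2 c3 : F4) (h1 : hf a1 a2 a3 a1 a2 a3 = 0)
    (h2 : hf c1 c2 c3 c1 c2 c3 = 0) (h3 : hf a1 a2 a3 c1 c2 c3 = 1) (h4 : hf b1 b2 b3 b1 b2 b3 = 1)
    (h5 : hf b1 b2 b3 a1 a2 a3 = 0) (h6 : hf b1 b2 b3 c1 c2 c3 = 0) (u v : Fin 5 → F4) :
    bf (dmm a1 a2 a3 b1 b2 b3 c1 c2 c3 *ᵥ u) (dmm a1 a2 a3 b1 b2 b3 c1 c2 c3 *ᵥ v) = bf u v := by
  have k3 := congrArg cj h3
  have k5 := congrArg cj h5
  have k6 := congrArg cj h6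
  simp only [hf_eq, cj_add, cj_mul, cj_cj, cj_zero, cj_one] at h1 h2 h3 h4 h5 h6 k3 k5 k6
  apply bf_of_cols
  intro i j
  rw [col, col]
  fin_cases i <;> fin_cases j <;> simp [dmm, bf_def, cj_zero, cj_one, Fin.ext_iff]
  · exact h1
  · linear_combination k5
  · exact h3
  · exact h5
  · exact h4
  · exact h6
  · linear_combination k3
  · linear_combination k6
  · exact h2

theorem chk_pair : ∀ a1 a2 a3 c1 c2 c3 : F4, hf a1 a2 a3 a1 a2 a3 = 0 → hf c1 c2 c3 c1 c2 c3 = 0 →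
    hf a1 a2 a3 c1 c2 c3 = 1 → ∃ b1 b2 b3 : F4, hf b1 b2 b3 b1 b2 b3 = 1 ∧ hf b1 b2 b3 a1 a2 a3 = 0 ∧
      hf b1 b2 b3 c1 c2 c3 = 0 ∧ F4.add (F4.add (F4.mul b1 (cr a2 c3 a3 c2)) (F4.mul b2 (cr a3 c1 a1 c3)))
        (F4.mul b3 (cr a1 c2 a2 c1)) = F4.i := by
  intro a1 a2 a3 c1 c2 c3 h1 h2 h3
  refine ⟨cj (cr a1 c2 a2 c1), cj (cr a3 c1 a1 c3), cj (cr a2 c3 a3 c2), ?_⟩
  revert h1 h2 h3
  revert a1 a2 a3 c1 c2 c3
  decide +kernel

/-- Transitivity of the stabilizer of the point on hyperbolic pairs. -/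
theorem exists_pair {a1 a2 a3 c1 c2 c3 : F4} (h1 : hf a1 a2 a3 a1 a2 a3 = 0)
    (h2 : hf c1 c2 c3 c1 c2 c3 = 0) (h3 : hf a1 a2 a3 c1 c2 c3 = 1) :
    ∃ g : MU, mt g *ᵥ e 0 = e 0 ∧ mt g *ᵥ e 1 = ![0, a1, a2, a3, 0] ∧ mt g *ᵥ e 3 = ![0, c1, c2, c3, 0] := by
  obtain ⟨b1, b2, b3, h4, h5, h6, h7⟩ := chk_pair a1 a2 a3 c1 c2 c3 h1 h2 h3
  refine ⟨mk (dmm a1 a2 a3 b1 b2 b3 c1 c2 c3) ((dmm_det _ _ _ _ _ _ _ _ _).trans h7)
    (dmm_bf _ _ _ _ _ _ _ _ _ h1 h2 h3 h4 h5 h6), ?_, ?_, ?_⟩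
  · rw [mt_mk, col]
    ext i; fin_cases i <;> simp [dmm]
  · rw [mt_mk, col]
    ext i; fin_cases i <;> simp [dmm]
  · rw [mt_mk, col]
    ext i; fin_cases i <;> simp [dmm]

/-- Every isotropic vector is in a hyperbolic pair. -/
theorem exists_partner : ∀ a1 a2 a3 : F4, hf a1 a2 a3 a1 a2 a3 = 0 → (a1 ≠ 0 ∨ a2 ≠ 0 ∨ a3 ≠ 0) →
    ∃ c1 c2 c3 : F4, hf c1 c2 c3 c1 c2 c3 = 0 ∧ hf a1 a2 a3 c1 c2 c3 = 1 := by
  decide +kernel

/-- The scalar element. -/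
def h0 : MU := mk (Matrix.diagonal ![1, F4.w, F4.w, F4.w, 1]) (by
    rw [Matrix.det_diagonal, Fin.prod_univ_five]; rfl) (by
    apply bf_of_cols
    intro i j
    rw [col, col]
    revert i j
    decide +kernel)

/-- The Weyl element. -/
def n2 : MU := mk !![1, 0, 0, 0, 0; 0, 0, 0, 1, 0; 0, 0, 1, 0, 0; 0, 1, 0, 0, 0; 0, 0, 0, 0, 1] (by
    simp [Matrix.det_succ_row_zero, Fin.sum_univ_succ, Fin.succAbove]
    decide) (by
    apply bf_of_cols
    intro i j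
    rw [col, col]
    revert i j
    decide +kernel)

/-- The element `h`. -/
def h : MU := lv F4.w 0 0 F4.w F4.v (by decide) (by decide)

end Cfsg.Agent.UFiveTwo.Model
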