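import Cfsg.Agent.UFiveTwo.ModelAut3

/-!
# `PSU₅(2)`: outer involutions
-/

set_option autoImplicit false
set_option maxRecDepth 100000

open Cfsg

namespace Cfsg.Agent.UFiveTwo.Model

open Matrix Cfsg.Agent.Lib.FieldFour
open Cfsg.Agent.SylowU5.Model Cfsg.Agent.SylowU5.Basic Cfsg.Agent.SylowU5

/-- The field automorphism on coordinates. -/
def cjR (x : Raw) : Raw := ⟨cj x.l, cj x.p, cj x.q, cj x.a, cj x.b, cj x.c, cj x.d⟩

/-- The field automorphism on codes. -/
def frN (n : ℕ) : ℕ := enc (cjR (dec n))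

theorem chk_frN : allB (fun n => Nat.ble (Nat.succ (frN n)) 1024 && beqR (dec (frN n)) (cjR (dec n))) 1024 = true := by
  decide +kernel

theorem chk_H90 : allB (fun n => imp (Nat.beq (cm n (frN n)) 0)
    (exB (fun m => Nat.beq (cm n (frN m)) m) 1024)) 1024 = true := by
  decide +kernel

theorem chk_card : countB (fun n => Nat.beq (frN n) n) 1024 = 16 := by
  decide +kernel

theorem frN_lt {n : ℕ} (hn : n < 1024) : frN n < 1024 := by
  have h := (allB_iff _ _).1 chk_frN n hn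
  rw [Bool.and_eq_true] at h
  exact Nat.le_of_ble_eq_true h.1

theorem dec_frN {n : ℕ} (hn : n < 1024) : dec (frN n) = cjR (dec n) := by
  have h := (allB_iff _ _).1 chk_frN n hn
  rw [Bool.and_eq_true] at h
  exact (beqR_iff _ _).1 h.2

/-- The field automorphism on `M0`. -/
def frM (x : M0) : M0 := ⟨frN x.n, frN_lt x.lt⟩

theorem mx_cjR (x : Raw) : mx (cjR x) = (mx x).map cj := by
  ext i j
  fin_cases i <;> fin_cases j <;> simp [mx, cjR, cj_add, cj_mul, cj_zero, cj_one]

theorem em_frM (x : M0) : em (frM x) = fr (em x) := by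
  apply mt_inj
  rw [mt_em, mt_fr, mt_em]
  change mx (dec (frN x.n)) = _
  rw [dec_frN x.lt, mx_cjR]

theorem mem_T {a : MU} : a ∈ T ↔ ∃ x : M0, em x = a := by
  constructor
  · rintro ⟨x, -, rfl⟩; exact ⟨x, rfl⟩
  · rintro ⟨x, rfl⟩; exact ⟨x, Subgroup.mem_top _, rfl⟩

theorem fr_T {t : MU} (ht : t ∈ T) : fr t ∈ T := by
  obtain ⟨x, rfl⟩ := mem_T.1 ht
  exact mem_T.2 ⟨frM x, em_frM x⟩

theorem H90 {t : MU} (ht : t ∈ T) (h : t * fr t = 1) : ∃ x ∈ T, t * fr x = x := by
  obtain ⟨x, rfl⟩ := mem_T.1 ht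
  rw [← em_frM, ← map_mul, ← map_one em] at h
  have h1 := congrArg M0.n (em_injective h)
  change cm x.n (frN x.n) = 0 at h1
  have h2 := (imp_iff _ _).1 ((allB_iff _ _).1 chk_H90 x.n x.lt) (by rw [h1]; rfl)
  obtain ⟨m, hm, h3⟩ := (exB_iff _ _).1 h2
  refine ⟨em ⟨m, hm⟩, mem_T.2 ⟨_, rfl⟩, ?_⟩
  rw [← em_frM, ← map_mul]
  congr 1
  exact M0.ext (Nat.eq_of_beq_eq_true h3)

/-- The number of fixed elements. -/
theorem card_fix : Nat.card {t : MU // t ∈ T ∧ fr t = t} = 16 := by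
  rw [← chk_card, ← M0.natCard_codes]
  symm
  refine Nat.card_congr (Equiv.ofBijective (fun x => ⟨em x.1, mem_T.2 ⟨_, rfl⟩, ?_⟩) ⟨?_, ?_⟩)
  · rw [← em_frM]
    congr 1
    exact M0.ext (Nat.eq_of_beq_eq_true x.2)
  · intro x y hxy
    exact Subtype.ext (em_injective (congrArg Subtype.val hxy))
  · rintro ⟨t, ht, hf⟩
    obtain ⟨x, rfl⟩ := mem_T.1 ht
    refine ⟨⟨x, ?_⟩, rfl⟩
    rw [← em_frM] at hf
    have := congrArg M0.n (em_injective hf)
    change frN x.n = x.n at this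
    change Nat.beq (frN x.n) x.n = true
    rw [this]
    exact Nat.beq_refl _

/-- Elements of `T`. -/
theorem mem_T_of_fix {b : MU} {l : F4} (h0 : mt b *ᵥ e 0 = e 0) (h1 : mt b *ᵥ e 1 = e 1 + l • e 0) : b ∈ T := by
  have perp : ∀ v : Fin 5 → F4, (mt b *ᵥ v) 4 = v 4 ∧ (v 4 = 0 → (mt b *ᵥ v) 3 = v 3) := by
    intro v
    have h2 := mt_bf b v (e 0)
    have h3 := mt_bf b v (e 1)
    rw [h0, bf_e0, bf_e0] at h2
    rw [h1, bf_add_right, bf_smul_right, bf_e1, bf_e1, bf_e0] at h3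
    refine ⟨h2, fun h4 => ?_⟩
    rw [h2, h4, mul_zero, add_zero] at h3
    exact h3
  set d := mt b 2 2 with hl
  have c2 := perp (e 2)
  have c3 := perp (e 3)
  have c4 := perp (e 4)
  rw [col] at c2 c3 c4
  have c0' : ∀ k, mt b k 0 = (e 0 : Fin 5 → F4) k := fun k => by rw [← h0, col]
  have c1' : ∀ k, mt b k 1 = (e 1 + l • e 0 : Fin 5 → F4) k := fun k => by rw [← h1, col]
  have m42 : mt b 4 2 = 0 := c2.1.trans (by simp)
  have m32 : mt b 3 2 = 0 := (c2.2 (by simp)).trans (by simp)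
  have m43 : mt b 4 3 = 0 := c3.1.trans (by simp)
  have m33 : mt b 3 3 = 1 := (c3.2 (by simp)).trans (by simp)
  have m44 : mt b 4 4 = 1 := c4.1.trans (by simp)
  have hup : ∀ i j : Fin 5, j < i → mt b i j = 0 := by
    intro i j hij
    fin_cases j
    · change mt b i 0 = 0
      rw [c0']
      have : i ≠ 0 := by rintro rfl; exact absurd hij (by decide)
      simp [this]
    · change mt b i 1 = 0
      rw [c1']
      have h5 : i ≠ 1 := by rintro rfl; exact absurd hij (by decide)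
      have h6 : i ≠ 0 := by rintro rfl; exact absurd hij (by decide)
      simp [h5, h6]
    · change mt b i 2 = 0
      fin_cases i
      · exact absurd hij (by decide)
      · exact absurd hij (by decide)
      · exact absurd hij (by decide)
      · exact m32
      · exact m42
    · change mt b i 3 = 0
      fin_cases i
      · exact absurd hij (by decide)
      · exact absurd hij (by decide)
      · exact absurd hij (by decide)
      · exact absurd hij (by decide)
      · exact m43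
    · exfalso
      have := i.2
      rw [Fin.lt_def] at hij
      simp at hij
      omega
  have hd : d = 1 := by
    have hdet := mt_det b
    have d0 : mt b 0 0 = 1 := by rw [c0']; simp
    have d1 : mt b 1 1 = 1 := by rw [c1']; simp
    rw [Matrix.det_of_isUpperTriangular (fun i j hij => hup i j hij), Fin.prod_univ_five, d0, d1, m33, m44,
      ← hl] at hdet
    simpa using hdet
  obtain ⟨x, hx, -⟩ := exists_em (a := b) (l := l) (p := mt b 0 2) (q := mt b 1 2) h0 h1 (by
    rw [col]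
    ext k
    fin_cases k
    · simp
    · simp
    · simp [← hl, hd]
    · simp [m32]
    · simp [m42])
  exact mem_T.2 ⟨x, hx⟩

theorem exists_elt (l p q : F4) : ∃ t ∈ T, mt t *ᵥ e 0 = e 0 ∧ mt t *ᵥ e 1 = e 1 + l • e 0 ∧
    mt t *ᵥ e 2 = e 2 + p • e 0 + q • e 1 := by
  have key : ∀ s : F4, ∃ a : F4, a + cj a = s * cj s := by decide
  obtain ⟨a, ha⟩ := key p
  obtain ⟨d, hd⟩ := key q
  obtain ⟨x, hx⟩ := exists_M0 (x := ⟨l, p, q, a, p * cj q, 0, d⟩) ⟨ha, by
    change p * cj q + cj 0 = p * cj q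
    rw [cj_zero, add_zero], hd⟩
  refine ⟨em x, mem_T.2 ⟨x, rfl⟩, ?_, ?_, ?_⟩ <;>
  · rw [mt_em, hx, col]
    ext k
    fin_cases k <;> simp [mx]

end Cfsg.Agent.UFiveTwo.Model
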