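import Cfsg.Agent.UFiveTwo.ModelOut

/-!
# `PSU₅(2)`: outer involutions are conjugate to the field automorphism
-/

set_option autoImplicit false
set_option maxRecDepth 100000

open Cfsg

namespace Cfsg.Agent.UFiveTwo.Model

open Matrix Cfsg.Agent.Lib.FieldFour
open Cfsg.Agent.SylowU5.Model Cfsg.Agent.SylowU5.Basic Cfsg.Agent.SylowU5
open Cfsg.Agent.StdEven.Syl

theorem T_vec {t : MU} (ht : t ∈ T) : mt t *ᵥ e 0 = e 0 ∧ ∃ l : F4, mt t *ᵥ e 1 = e 1 + l • e 0 := by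
  obtain ⟨x, rfl⟩ := mem_T.1 ht
  constructor
  · rw [mt_em, col]
    ext k; fin_cases k <;> simp [mx]
  · refine ⟨(dec x.n).l, ?_⟩
    rw [mt_em, col]
    ext k; fin_cases k <;> simp [mx]

theorem r_T (i : Fin 5) : r i ∈ T := U_le_T (r_U i)

theorem r_vec (i : Fin 5) (v : Fin 5 → F4) : mt (r i) *ᵥ v = v + bf v (vv i) • vv i := by
  rw [mt_r, tv_mulVec]

theorem fixv {v : Fin 5 → F4} (hv : ∀ t ∈ T, ∃ c : F4, mt t *ᵥ v = v + c • e 0) :
    v = v 0 • e 0 + v 1 • e 1 := by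
  have h3 : v 3 = 0 := by
    obtain ⟨c, hc⟩ := hv _ (r_T 1)
    rw [r_vec, vv1, bf_e1] at hc
    have := congrFun hc 1
    simpa using this
  have h4 : v 4 = 0 := by
    obtain ⟨c, hc⟩ := hv _ (r_T 2)
    have e2 : vv 2 = e 0 + e 1 := by ext i; fin_cases i <;> simp [vv]
    rw [r_vec, e2, bf_add_right, bf_e1, bf_e0, h3, add_zero] at hc
    have := congrFun hc 1
    simpa using this
  have h2 : v 2 = 0 := by
    obtain ⟨t, ht, t0, t1, t2⟩ := exists_elt 0 0 1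
    obtain ⟨c, hc⟩ := hv t ht
    have hv' : v = v 0 • e 0 + v 1 • e 1 + v 2 • e 2 := by
      ext i; fin_cases i <;> simp [h3, h4]
    rw [hv', Matrix.mulVec_add, Matrix.mulVec_add, Matrix.mulVec_smul, Matrix.mulVec_smul,
      Matrix.mulVec_smul, t0, t1, t2] at hc
    have := congrFun hc 1
    simpa using this
  ext i; fin_cases i <;> simp [h2, h3, h4]

/-- The normalizer of `T` in coordinates. -/
theorem norm_T {b : MU} (hb : ∀ t ∈ T, b⁻¹ * t * b ∈ T) : ∃ α β γ : F4, α ≠ 0 ∧ β ≠ 0 ∧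
    mt b *ᵥ e 0 = α • e 0 ∧ mt b *ᵥ e 1 = β • e 1 + γ • e 0 := by
  have key : ∀ t ∈ T, ∀ v, mt t *ᵥ (mt b *ᵥ v) = mt b *ᵥ (mt (b⁻¹ * t * b) *ᵥ v) := by
    intro t _ v
    rw [Matrix.mulVec_mulVec, Matrix.mulVec_mulVec, ← mt_mul, ← mt_mul]
    congr 2
    group
  have h1 : ∀ t ∈ T, mt t *ᵥ (mt b *ᵥ e 0) = mt b *ᵥ e 0 := by
    intro t ht
    rw [key t ht, (T_vec (hb t ht)).1]
  have h2 := fixv (v := mt b *ᵥ e 0) fun t ht => ⟨0, by rw [h1 t ht, zero_smul, add_zero]⟩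
  have h3 : (mt b *ᵥ e 0) 1 = 0 := by
    obtain ⟨t, ht, t0, t1, -⟩ := exists_elt 1 0 0
    have h4 := h1 t ht
    rw [h2, Matrix.mulVec_add, Matrix.mulVec_smul, Matrix.mulVec_smul, t0, t1] at h4
    have := congrFun h4 0
    simpa using this
  set α := (mt b *ᵥ e 0) 0 with hα
  rw [h3, zero_smul, add_zero] at h2
  have hα0 : α ≠ 0 := by
    intro h
    rw [h, zero_smul] at h2
    have h4 := mt_inv_mulVec b (e 0)
    rw [h2, Matrix.mulVec_zero] at h4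
    have := congrFun h4 0
    simp at this
  have h5 := fixv (v := mt b *ᵥ e 1) fun t ht => by
    obtain ⟨l, hl⟩ := (T_vec (hb t ht)).2
    exact ⟨l * α, by rw [key t ht, hl, Matrix.mulVec_add, Matrix.mulVec_smul, h2, smul_smul]⟩
  refine ⟨α, (mt b *ᵥ e 1) 1, (mt b *ᵥ e 1) 0, hα0, ?_, h2, ?_⟩
  · intro h
    rw [h, zero_smul, add_zero] at h5
    set γ := (mt b *ᵥ e 1) 0 with hγ
    have h6 : mt b *ᵥ (e 1 - (γ * α⁻¹) • e 0) = 0 := by
      rw [Matrix.mulVec_sub, Matrix.mulVec_smul, h2, h5, smul_smul, mul_assoc, inv_mul_cancel₀ hα0,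
        mul_one, sub_self]
    have h7 := mt_inv_mulVec b (e 1 - (γ * α⁻¹) • e 0)
    rw [h6, Matrix.mulVec_zero] at h7
    have := congrFun h7 1
    simp at this
  · conv_lhs => rw [h5]
    rw [add_comm]

/-- Diagonal elements. -/
def Dg (s : MU) (d : Fin 5 → F4) : Prop := (∀ i, d i ≠ 0) ∧ mt s = Matrix.diagonal d

theorem Dg.vec {s : MU} {d : Fin 5 → F4} (h : Dg s d) (i : Fin 5) : mt s *ᵥ e i = d i • e i := by
  rw [h.2]
  ext k
  rw [Matrix.mulVec_diagonal]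
  simp only [Pi.smul_apply, smul_eq_mul]
  by_cases hk : k = i
  · subst hk; rfl
  · simp [hk]

theorem Dg.fr {s : MU} {d : Fin 5 → F4} (h : Dg s d) : fr s = s⁻¹ := by
  rw [eq_comm, inv_eq_iff_mul_eq_one]
  apply mt_inj
  rw [mt_mul, mt_fr, mt_one, h.2]
  have : (Matrix.diagonal d).map cj = Matrix.diagonal fun i => cj (d i) := by
    rw [Matrix.diagonal_map cj_zero]
  rw [this, Matrix.diagonal_mul_diagonal, ← Matrix.diagonal_one]
  congr 1
  ext i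
  exact nrm (h.1 i)

theorem Dg.cube {s : MU} {d : Fin 5 → F4} (h : Dg s d) : s * s * s = 1 := by
  apply mt_inj
  rw [mt_mul, mt_mul, mt_one, h.2, Matrix.diagonal_mul_diagonal, Matrix.diagonal_mul_diagonal,
    ← Matrix.diagonal_one]
  congr 1
  ext i
  have : ∀ d : F4, d ≠ 0 → d * d * d = 1 := by decide
  exact this _ (h.1 i)

theorem Dg.inv_e {s : MU} {d : Fin 5 → F4} (h : Dg s d) (i : Fin 5) : mt s⁻¹ *ᵥ e i = (d i)⁻¹ • e i := by
  have h1 := mt_inv_mulVec s (e i)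
  rw [h.vec, Matrix.mulVec_smul] at h1
  have h2 : (d i)⁻¹ • (d i • (mt s⁻¹ *ᵥ e i)) = (d i)⁻¹ • e i := by rw [h1]
  rwa [smul_smul, inv_mul_cancel₀ (h.1 i), one_smul] at h2

theorem Dg.T {s : MU} {d : Fin 5 → F4} (h : Dg s d) {t : MU} (ht : t ∈ T) : s * t * s⁻¹ ∈ T := by
  obtain ⟨h0, l, h1⟩ := T_vec ht
  have key : ∀ v, mt (s * t * s⁻¹) *ᵥ v = mt s *ᵥ (mt t *ᵥ (mt s⁻¹ *ᵥ v)) := by
    intro v
    rw [Matrix.mulVec_mulVec, Matrix.mulVec_mulVec, ← mt_mul, ← mt_mul]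
  refine mem_T_of_fix (l := (d 1)⁻¹ * l * d 0) ?_ ?_
  · rw [key, h.inv_e, Matrix.mulVec_smul, h0, Matrix.mulVec_smul, h.vec, smul_smul,
      inv_mul_cancel₀ (h.1 0), one_smul]
  · rw [key, h.inv_e, Matrix.mulVec_smul, h1, Matrix.mulVec_smul, Matrix.mulVec_add,
      Matrix.mulVec_smul, h.vec, h.vec, smul_add, smul_smul, smul_smul, smul_smul, inv_mul_cancel₀ (h.1 1),
      one_smul]

theorem exists_Dg {α β : F4} (hα : α ≠ 0) (hβ : β ≠ 0) : ∃ s d, Dg s d ∧ d 0 = α ∧ d 1 = β := by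
  refine ⟨lv α 0 0 β (α * β) (by ring) (mul_ne_zero hα hβ),
    ![α, β, α * β, (α * β) * cj α, (α * β) * cj β], ⟨?_, ?_⟩, rfl, rfl⟩
  · intro i
    fin_cases i
    · exact hα
    · exact hβ
    · exact mul_ne_zero hα hβ
    · exact mul_ne_zero (mul_ne_zero hα hβ) (cj_ne hα)
    · exact mul_ne_zero (mul_ne_zero hα hβ) (cj_ne hβ)
  · rw [mt_lv]
    ext i j
    fin_cases i <;> fin_cases j <;> simp [lm, cj_zero, Matrix.diagonal]

theorem center_MU {z : MU} (hz : ∀ x, z * x = x * z) : z = 1 := by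
  have h1 : equivSU z ∈ Subgroup.center (Cfsg.SU 5 F4 2) := by
    rw [Subgroup.mem_center_iff]
    intro g
    obtain ⟨x, rfl⟩ := equivSU.surjective g
    rw [← map_mul, ← map_mul, hz]
  rw [center_SU, Subgroup.mem_bot] at h1
  exact equivSU.injective (h1.trans (map_one _).symm)

/-- An outer involutory automorphism normalizing `T` is conjugate to the field automorphism. -/
theorem exists_out {φ : MulAut MU} (h2 : ∀ x, φ (φ x) = x) (hout : ¬ ∃ b : MU, ∀ x, φ x = b * x * b⁻¹)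
    (hφ : ∀ t ∈ T, φ t ∈ T) : ∃ y : MU, (∀ t ∈ T, y * t * y⁻¹ ∈ T) ∧
      ∀ x, y * φ (y⁻¹ * x * y) * y⁻¹ = fr x := by
  obtain ⟨b, hb⟩ := (aut_MU φ).resolve_left hout
  have h3 : b * fr b = 1 := by
    apply center_MU
    intro x
    have h4 := h2 x
    rw [hb, hb, map_mul, map_mul, fr_fr, map_inv] at h4
    calc b * fr b * x = (b * (fr b * x * (fr b)⁻¹) * b⁻¹) * (b * fr b) := by group
      _ = _ := by rw [h4]
  have h4 : b ∈ Subgroup.normalizer (T : Set MU) := by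
    apply mem_normalizer_of_conj_le
    intro t ht
    have h5 := hφ _ (fr_T ht)
    rwa [hb, fr_fr] at h5
  obtain ⟨α, β, γ, hα, hβ, h5, h6⟩ := norm_T (b := b) fun t ht => conj_inv_mem_of_mem_normalizer h4 ht
  obtain ⟨s, d, hs, hd0, hd1⟩ := exists_Dg hα hβ
  have ht : b * s⁻¹ ∈ T := by
    refine mem_T_of_fix (l := (d 1)⁻¹ * γ) ?_ ?_
    · rw [mt_mul, ← Matrix.mulVec_mulVec, hs.inv_e, Matrix.mulVec_smul, h5, smul_smul, hd0,
        inv_mul_cancel₀ hα, one_smul]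
    · rw [mt_mul, ← Matrix.mulVec_mulVec, hs.inv_e, Matrix.mulVec_smul, h6, smul_add, smul_smul,
        smul_smul, hd1, inv_mul_cancel₀ hβ, one_smul]
  set t := b * s⁻¹ with ht'
  have hbt : b = t * s := by rw [ht']; group
  have hss : s * s = s⁻¹ := (inv_eq_of_mul_eq_one_left hs.cube).symm
  have h7 : t * s * fr t * s⁻¹ = 1 := by
    have h8 := h3
    rw [hbt, map_mul, hs.fr] at h8
    rw [← h8]
    group
  have h8 : (s * t * s⁻¹) * fr (s * t * s⁻¹) = 1 := by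
    rw [map_mul, map_mul, map_inv, hs.fr]
    calc s * t * s⁻¹ * (s⁻¹ * fr t * s⁻¹⁻¹) = s * t * (s⁻¹ * s⁻¹) * fr t * s := by group
      _ = s * t * s * fr t * s := by
          rw [← hss]
          calc s * t * (s * s * (s * s)) * fr t * s = s * t * ((s * s * s) * s) * fr t * s := by group
            _ = _ := by rw [hs.cube, one_mul]
      _ = s * (t * s * fr t * s⁻¹) * s * s := by group
      _ = 1 := by rw [h7, mul_one, hs.cube]
  obtain ⟨x, hx, h9⟩ := H90 (hs.T ht) h8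
  refine ⟨x⁻¹ * s, fun u hu => ?_, fun z => ?_⟩
  · have h10 : x⁻¹ * s * u * (x⁻¹ * s)⁻¹ = x⁻¹ * (s * u * s⁻¹) * x := by group
    rw [h10]
    exact mul_mem (mul_mem (inv_mem hx) (hs.T hu)) hx
  · have h10 : x⁻¹ * s * b * (fr (x⁻¹ * s))⁻¹ = 1 := by
      rw [map_mul, map_inv, hs.fr, hbt]
      calc x⁻¹ * s * (t * s) * ((fr x)⁻¹ * s⁻¹)⁻¹ = x⁻¹ * (s * t * (s * s) * fr x) := by group
        _ = x⁻¹ * (s * t * s⁻¹ * fr x) := by rw [hss]
        _ = 1 := by rw [h9, inv_mul_cancel]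
    have h11 : x⁻¹ * s * b = fr (x⁻¹ * s) := by
      rwa [mul_inv_eq_one] at h10
    rw [hb, map_mul, map_mul, map_inv]
    calc x⁻¹ * s * (b * ((fr (x⁻¹ * s))⁻¹ * fr z * fr (x⁻¹ * s)) * b⁻¹) * (x⁻¹ * s)⁻¹
        = (x⁻¹ * s * b) * (fr (x⁻¹ * s))⁻¹ * fr z * fr (x⁻¹ * s) * (x⁻¹ * s * b)⁻¹ := by group
      _ = fr z := by rw [h11]; group

/-- A 2-group of automorphisms normalizes a Sylow subgroup. -/
theorem exists_normT {P : Subgroup (MulAut MU)} (hP : IsPGroup 2 P) :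
    ∃ y : MU, ∀ φ ∈ P, ∀ t ∈ T, y * φ (y⁻¹ * t * y) * y⁻¹ ∈ T := by
  have : Fact (Nat.Prime 2) := ⟨Nat.prime_two⟩
  obtain ⟨S, hS⟩ := hP.nonempty_fixed_point_of_prime_not_dvd_card (Sylow 2 MU) (by
    have h1 := card_sylow_modEq_one 2 MU
    intro h2
    have h3 : (Nat.card (Sylow 2 MU)) % 2 = 1 % 2 := h1
    omega)
  obtain ⟨S0, hS0⟩ := isSyl_T.exists_sylow
  obtain ⟨y, hy⟩ := MulAction.exists_smul_eq MU S S0
  refine ⟨y, fun φ hφ t ht => ?_⟩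
  have h1 : ∀ x : MU, x ∈ T ↔ y⁻¹ * x * y ∈ S := by
    intro x
    rw [← hS0, ← hy]
    constructor
    · rintro ⟨z, hz, rfl⟩
      have : y⁻¹ * (y * z * y⁻¹) * y = z := by group
      change y⁻¹ * (y * z * y⁻¹) * y ∈ S
      rw [this]; exact hz
    · intro h
      refine ⟨_, h, ?_⟩
      change y * (y⁻¹ * x * y) * y⁻¹ = x
      group
  rw [h1] at ht ⊢
  have h2 : φ (y⁻¹ * t * y) ∈ S := by
    have h3 := hS ⟨φ, hφ⟩
    have h4 : (⟨φ, hφ⟩ : P) • S = S := h3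
    rw [← h4]
    exact ⟨_, ht, rfl⟩
  have h3 : y⁻¹ * (y * φ (y⁻¹ * t * y) * y⁻¹) * y = φ (y⁻¹ * t * y) := by group
  rw [h3]
  exact h2

end Cfsg.Agent.UFiveTwo.Model
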