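import Cfsg.Agent.UFiveTwo.ModelOut2

/-!
# `PSU₅(2)`: centralizers of outer involutions; elementary abelian subgroups of the Sylow 2-subgroup
-/

set_option autoImplicit false
set_option maxRecDepth 100000

open Cfsg

namespace Cfsg.Agent.UFiveTwo.Model

open Matrix Cfsg.Agent.Lib.FieldFour
open Cfsg.Agent.SylowU5.Model Cfsg.Agent.SylowU5.Basic Cfsg.Agent.SylowU5
open Cfsg.Agent.StdEven.Syl

/-- `φ` is inner. -/
def Inn (φ : MulAut MU) : Prop := ∃ b : MU, ∀ x, φ x = b * x * b⁻¹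

theorem not_inn_fr : ¬ Inn fr := by
  rintro ⟨c, hc⟩
  have h1 : ∀ i, ∃ μ : F4, μ ≠ 0 ∧ mt c *ᵥ vv i = μ • cv (vv i) := by
    intro i
    have h2 := hc (r i)
    rw [eq_comm, mul_inv_eq_iff_eq_mul] at h2
    have h3 := congrArg mt h2
    rw [mt_mul, mt_mul, mt_fr_r, mt_r, tv_conj] at h3
    have hne : cv (vv i) ≠ 0 := by
      intro h
      apply vv_ne i
      rw [← cv_cv (vv i), h]
      ext k
      exact cj_zero
    exact tv_inj_of hne (cancel_mt h3).symm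
  choose μ hμ0 hμ using h1
  have c0 : cv (vv 0) = vv 0 := by ext i; fin_cases i <;> rfl
  have c1 : cv (vv 1) = vv 1 := by ext i; fin_cases i <;> rfl
  have c2 : cv (vv 2) = vv 2 := by ext i; fin_cases i <;> rfl
  have c3 : cv (vv 3) = e 0 + F4.w • e 1 := by ext i; fin_cases i <;> rfl
  have c3' : vv 3 = e 0 + F4.v • e 1 := by ext i; fin_cases i <;> rfl
  obtain ⟨h2, h3⟩ := scalar_of (μ := μ) (b := c) (by
    rintro i (rfl | rfl | rfl)
    · rw [hμ 0, c0]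
    · rw [hμ 1, c1]
    · rw [hμ 2, c2])
  have h4 := hμ 3
  rw [c3, c3', Matrix.mulVec_add, Matrix.mulVec_smul, h2, h3] at h4
  have h5 := congrFun h4 0
  have h6 := congrFun h4 1
  simp at h5 h6
  rw [h5] at h6
  have : ∀ c : F4, c ≠ 0 → F4.v * c = c * F4.w → False := by decide
  exact this _ (hμ0 3) h6

theorem inn_conj {φ : MulAut MU} (y : MU) : Inn (MulAut.conj y * φ * (MulAut.conj y)⁻¹) ↔ Inn φ := by
  have key : ∀ {φ : MulAut MU} (y : MU), Inn φ → Inn (MulAut.conj y * φ * (MulAut.conj y)⁻¹) := by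
    rintro φ y ⟨b, hb⟩
    refine ⟨y * b * y⁻¹, fun x => ?_⟩
    change y * φ (y⁻¹ * x * y) * y⁻¹ = _
    rw [hb]; group
  refine ⟨fun h => ?_, key y⟩
  have h1 := key y⁻¹ h
  have h2 : MulAut.conj y⁻¹ * (MulAut.conj y * φ * (MulAut.conj y)⁻¹) * (MulAut.conj y⁻¹)⁻¹ = φ := by
    rw [map_inv]; group
  rwa [h2] at h1

/-- An outer involution is conjugate to the field automorphism. -/
theorem out_fr {φ : MulAut MU} (h2 : φ * φ = 1) (hout : ¬ Inn φ) :
    ∃ y : MU, MulAut.conj y * φ * (MulAut.conj y)⁻¹ = fr := by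
  have hP : IsPGroup 2 (Subgroup.zpowers φ) := by
    rw [IsPGroup.iff_card]
    rw [Nat.card_zpowers]
    have h3 : orderOf φ ∣ 2 := orderOf_dvd_of_pow_eq_one (by rw [pow_two, h2])
    rcases (Nat.dvd_prime Nat.prime_two).1 h3 with h | h
    · exact ⟨0, h⟩
    · exact ⟨1, h⟩
  obtain ⟨y1, h3⟩ := exists_normT hP
  have h4 := h3 φ (Subgroup.mem_zpowers φ)
  obtain ⟨y2, -, h5⟩ := exists_out (φ := MulAut.conj y1 * φ * (MulAut.conj y1)⁻¹) (fun x => by
    have h6 : (MulAut.conj y1 * φ * (MulAut.conj y1)⁻¹) * (MulAut.conj y1 * φ * (MulAut.conj y1)⁻¹) = 1 := by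
      calc _ = MulAut.conj y1 * (φ * φ) * (MulAut.conj y1)⁻¹ := by group
        _ = 1 := by rw [h2]; group
    exact DFunLike.congr_fun h6 x) (fun h => hout ((inn_conj y1).1 h)) h4
  refine ⟨y2 * y1, ?_⟩
  have h6 : MulAut.conj y2 * (MulAut.conj y1 * φ * (MulAut.conj y1)⁻¹) * (MulAut.conj y2)⁻¹ = fr := by
    ext1 x
    exact h5 x
  rw [← h6, map_mul]
  group

/-- Outer involutions are conjugate. -/
theorem out_conj {φ ψ : MulAut MU} (h2 : φ * φ = 1) (hout : ¬ Inn φ) (h2' : ψ * ψ = 1) (hout' : ¬ Inn ψ) :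
    ∃ y : MU, MulAut.conj y * φ * (MulAut.conj y)⁻¹ = ψ := by
  obtain ⟨y, hy⟩ := out_fr h2 hout
  obtain ⟨z, hz⟩ := out_fr h2' hout'
  refine ⟨z⁻¹ * y, ?_⟩
  rw [← hy] at hz
  calc MulAut.conj (z⁻¹ * y) * φ * (MulAut.conj (z⁻¹ * y))⁻¹ =
      (MulAut.conj z)⁻¹ * (MulAut.conj y * φ * (MulAut.conj y)⁻¹) * MulAut.conj z := by
        rw [map_mul, map_inv]; group
    _ = ψ := by rw [← hz]; group

/-! ### The outer involution centralizing the Levi factor -/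

/-- The matrix `(0 3)(1 4)`. -/
def b0 : MU := mk !![0, 0, 0, 1, 0; 0, 0, 0, 0, 1; 0, 0, 1, 0, 0; 1, 0, 0, 0, 0; 0, 1, 0, 0, 0] (by
  simp [Matrix.det_succ_row_zero, Fin.sum_univ_succ, Fin.succAbove]
  ring) (by
  apply bf_of_cols
  intro i j
  rw [col, col]
  fin_cases i <;> fin_cases j <;> simp [bf_def, cj_zero, cj_one, Fin.ext_iff])

theorem mt_b0 : mt b0 = !![0, 0, 0, 1, 0; 0, 0, 0, 0, 1; 0, 0, 1, 0, 0; 1, 0, 0, 0, 0; 0, 1, 0, 0, 0] := rfl

theorem b0_sq : b0 * b0 = 1 := by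
  apply mt_inj
  rw [mt_mul, mt_b0, mt_one]
  decide

theorem fr_b0 : fr b0 = b0 := by
  apply mt_inj
  rw [mt_fr, mt_b0]
  decide

/-- the outer involution -/
def φ0 : MulAut MU := MulAut.conj b0 * fr

theorem φ0_apply (x : MU) : φ0 x = b0 * fr x * b0⁻¹ := rfl

theorem φ0_sq : φ0 * φ0 = 1 := by
  ext1 x
  change φ0 (φ0 x) = x
  rw [φ0_apply, φ0_apply, map_mul, map_mul, map_inv, fr_b0, fr_fr]
  calc b0 * (b0 * x * b0⁻¹) * b0⁻¹ = (b0 * b0) * x * (b0 * b0)⁻¹ := by group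
    _ = x := by rw [b0_sq]; group

theorem not_inn_φ0 : ¬ Inn φ0 := by
  rintro ⟨b, hb⟩
  apply not_inn_fr
  refine ⟨b0⁻¹ * b, fun x => ?_⟩
  have := hb x
  rw [φ0_apply] at this
  calc fr x = b0⁻¹ * (b0 * fr x * b0⁻¹) * b0 := by group
    _ = _ := by rw [this]; group

theorem φ0_lvS (g : SL2) : φ0 (lvS g) = lvS g := by
  rw [φ0_apply, mul_inv_eq_iff_eq_mul]
  apply mt_inj
  rw [mt_mul, mt_mul, mt_fr, mt_lvS, mt_b0]
  ext i j
  rw [Matrix.mul_apply, Matrix.mul_apply, Fin.sum_univ_five, Fin.sum_univ_five]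
  fin_cases i <;> fin_cases j <;> simp [lm, cj_zero, cj_one, cj_cj]

theorem φ0_l (σ : alternatingGroup (Fin 5)) : φ0 (l σ) = l σ := φ0_lvS _

theorem l_injective : Function.Injective l := by
  intro σ τ h
  have h1 : ∀ i, r ((σ : Equiv.Perm (Fin 5)) i) = r ((τ : Equiv.Perm (Fin 5)) i) := by
    intro i
    rw [← l_r, ← l_r, h]
  apply Subtype.ext
  ext i : 1
  exact r_injective (h1 i)

/-- (outB) -/
theorem outB_model {φ : MulAut MU} (h2 : φ * φ = 1) (hout : ¬ Inn φ) :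
    ∃ l' : alternatingGroup (Fin 5) →* MU, Function.Injective l' ∧ (∀ σ, φ (l' σ) = l' σ) ∧
      ∀ w : MU, w * w = 1 → φ w = w → ∃ c : MU, ∀ x, c * φ (c⁻¹ * x * c) * c⁻¹ = φ (w * x * w⁻¹) := by
  obtain ⟨y, hy⟩ := out_conj h2 hout φ0_sq not_inn_φ0
  refine ⟨(MulAut.conj y⁻¹).toMonoidHom.comp l, fun σ τ h => l_injective ((MulAut.conj y⁻¹).injective h),
    fun σ => ?_, fun w hw hφw => ?_⟩
  · change φ (y⁻¹ * l σ * y⁻¹⁻¹) = y⁻¹ * l σ * y⁻¹⁻¹
    have h3 := DFunLike.congr_fun hy (l σ)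
    rw [φ0_l] at h3
    change y * φ (y⁻¹ * l σ * y) * y⁻¹ = l σ at h3
    rw [inv_inv]
    calc φ (y⁻¹ * l σ * y) = y⁻¹ * (y * φ (y⁻¹ * l σ * y) * y⁻¹) * y := by group
      _ = _ := by rw [h3]
  · have hcomm : φ * MulAut.conj w = MulAut.conj w * φ := by
      ext1 x
      change φ (w * x * w⁻¹) = w * φ x * w⁻¹
      rw [map_mul, map_mul, map_inv, hφw]
    have hw2 : MulAut.conj w * MulAut.conj w = 1 := by rw [← map_mul, hw, map_one]
    obtain ⟨c, hc⟩ := out_conj (ψ := φ * MulAut.conj w) h2 hout (by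
      calc φ * MulAut.conj w * (φ * MulAut.conj w) = φ * (MulAut.conj w * φ) * MulAut.conj w := by group
        _ = (φ * φ) * (MulAut.conj w * MulAut.conj w) := by rw [← hcomm]; group
        _ = 1 := by rw [h2, hw2, one_mul]) (by
      rintro ⟨b, hb⟩
      apply hout
      refine ⟨b * w⁻¹, fun x => ?_⟩
      have h3 : φ (w * (w⁻¹ * x * w) * w⁻¹) = b * (w⁻¹ * x * w) * b⁻¹ := hb (w⁻¹ * x * w)
      have h4 : w * (w⁻¹ * x * w) * w⁻¹ = x := by group
      rw [h4] at h3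
      rw [h3]; group)
    exact ⟨c, fun x => DFunLike.congr_fun hc x⟩

/-- (outC) -/
theorem outC_model {φ : MulAut MU} (h2 : φ * φ = 1) (hout : ¬ Inn φ) {Y : Subgroup (MulAut MU)}
    (hY : IsPGroup 2 Y) (hc : ∀ ψ ∈ Y, ψ * φ = φ * ψ) : Nat.card Y ≤ 32 := by
  have : Fact (Nat.Prime 2) := ⟨Nat.prime_two⟩
  have hφ : IsPGroup 2 (Subgroup.zpowers φ) := by
    rw [IsPGroup.iff_card]
    rw [Nat.card_zpowers]
    have h3 : orderOf φ ∣ 2 := orderOf_dvd_of_pow_eq_one (by rw [pow_two, h2])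
    rcases (Nat.dvd_prime Nat.prime_two).1 h3 with h | h
    · exact ⟨0, h⟩
    · exact ⟨1, h⟩
  have hP : IsPGroup 2 (Y ⊔ Subgroup.zpowers φ : Subgroup (MulAut MU)) := by
    refine hY.to_sup_of_normal_right' hφ fun ψ hψ => ?_
    apply Subgroup.centralizer_le_normalizer
    rw [Subgroup.mem_centralizer_iff]
    intro z hz
    obtain ⟨k, rfl⟩ := Subgroup.mem_zpowers_iff.1 hz
    have h3 : Commute ψ φ := hc ψ hψ
    exact (h3.zpow_right k).eq.symm
  obtain ⟨y1, h3⟩ := exists_normT hP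
  obtain ⟨y2, h4, h5⟩ := exists_out (φ := MulAut.conj y1 * φ * (MulAut.conj y1)⁻¹) (fun x => by
    have h6 : (MulAut.conj y1 * φ * (MulAut.conj y1)⁻¹) * (MulAut.conj y1 * φ * (MulAut.conj y1)⁻¹) = 1 := by
      calc _ = MulAut.conj y1 * (φ * φ) * (MulAut.conj y1)⁻¹ := by group
        _ = 1 := by rw [h2]; group
    exact DFunLike.congr_fun h6 x) (fun h => hout ((inn_conj y1).1 h))
    (h3 φ (Subgroup.mem_sup_right (Subgroup.mem_zpowers φ)))
  have h6 : MulAut.conj y2 * (MulAut.conj y1 * φ * (MulAut.conj y1)⁻¹) * (MulAut.conj y2)⁻¹ = fr := by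
    ext1 x
    exact h5 x
  set y := y2 * y1 with hy
  have h7 : MulAut.conj y * φ * (MulAut.conj y)⁻¹ = fr := by
    rw [← h6, hy, map_mul]
    group
  -- `y ψ y⁻¹` normalizes `T`
  have hy2 : y2 ∈ Subgroup.normalizer (T : Set MU) := mem_normalizer_of_conj_le h4
  have h8 : ∀ ψ ∈ Y, ∀ t ∈ T, y * ψ (y⁻¹ * t * y) * y⁻¹ ∈ T := by
    intro ψ hψ t ht
    have h9 := h4 _ (h3 ψ (Subgroup.mem_sup_left hψ) (y2⁻¹ * t * y2) (conj_inv_mem_of_mem_normalizer hy2 ht))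
    have h10 : y⁻¹ * t * y = y1⁻¹ * (y2⁻¹ * t * y2) * y1 := by rw [hy]; group
    rw [h10, hy]
    have h11 : y2 * y1 * ψ (y1⁻¹ * (y2⁻¹ * t * y2) * y1) * (y2 * y1)⁻¹ =
      y2 * (y1 * ψ (y1⁻¹ * (y2⁻¹ * t * y2) * y1) * y1⁻¹) * y2⁻¹ := by group
    rw [h11]
    exact h9
  -- inner elements
  have h9 : ∀ ψ ∈ Y, Inn ψ → ∃ t : {t : MU // t ∈ T ∧ fr t = t}, ψ = MulAut.conj (y⁻¹ * t * y) := by
    rintro ψ hψ ⟨m, hm⟩
    have hψm : ψ = MulAut.conj m := by ext1 x; exact hm x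
    have hm' : ∀ x, y * ψ (y⁻¹ * x * y) * y⁻¹ = (y * m * y⁻¹) * x * (y * m * y⁻¹)⁻¹ := by
      intro x; rw [hm]; group
    -- fixed
    have hfix : fr (y * m * y⁻¹) = y * m * y⁻¹ := by
      have h10 := hc ψ hψ
      have h11 : MulAut.conj (y * m * y⁻¹) * fr = fr * MulAut.conj (y * m * y⁻¹) := by
        rw [← h7, map_mul, map_mul, map_inv, ← hψm]
        calc MulAut.conj y * ψ * (MulAut.conj y)⁻¹ * (MulAut.conj y * φ * (MulAut.conj y)⁻¹) =
            MulAut.conj y * (ψ * φ) * (MulAut.conj y)⁻¹ := by group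
          _ = _ := by rw [h10]; group
      have h12 : (y * m * y⁻¹)⁻¹ * fr (y * m * y⁻¹) = 1 := by
        apply center_MU
        intro x
        have h13 := DFunLike.congr_fun h11 (fr x)
        change (y * m * y⁻¹) * fr (fr x) * (y * m * y⁻¹)⁻¹ = fr ((y * m * y⁻¹) * fr x * (y * m * y⁻¹)⁻¹) at h13
        rw [fr_fr, map_mul, map_mul fr (y * m * y⁻¹), map_inv fr (y * m * y⁻¹), fr_fr] at h13
        set k := y * m * y⁻¹
        calc k⁻¹ * fr k * x = k⁻¹ * (fr k * x * (fr k)⁻¹) * fr k := by group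
          _ = k⁻¹ * (k * x * k⁻¹) * fr k := by rw [h13]
          _ = _ := by group
      exact (inv_mul_eq_one.1 h12).symm
    -- in `T`
    have hmT : y * m * y⁻¹ ∈ T := by
      have h10 : y * m * y⁻¹ ∈ Subgroup.normalizer (T : Set MU) := by
        apply mem_normalizer_of_conj_le
        intro t ht
        rw [← hm']
        exact h8 ψ hψ t ht
      have h11 : IsPGroup 2 (Subgroup.zpowers (y * m * y⁻¹)) := by
        obtain ⟨k, hk⟩ := hY ⟨ψ, hψ⟩
        have h12 : ψ ^ 2 ^ k = 1 := congrArg Subtype.val hk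
        rw [hψm, ← map_pow] at h12
        have h13 : m ^ 2 ^ k = 1 := by
          apply center_MU
          intro x
          have := DFunLike.congr_fun h12 x
          change m ^ 2 ^ k * x * (m ^ 2 ^ k)⁻¹ = x at this
          exact mul_inv_eq_iff_eq_mul.1 this
        rw [IsPGroup.iff_card, Nat.card_zpowers]
        have h14 : orderOf (y * m * y⁻¹) ∣ 2 ^ k := orderOf_dvd_of_pow_eq_one (by
          rw [conj_pow, h13]; group)
        obtain ⟨j, -, hj⟩ := (Nat.dvd_prime_pow Nat.prime_two).1 h14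
        exact ⟨j, hj⟩
      have h12 : IsPGroup 2 (Subgroup.zpowers (y * m * y⁻¹) ⊔ T : Subgroup MU) :=
        h11.to_sup_of_normal_right' isPGroup_T (by rw [Subgroup.zpowers_le]; exact h10)
      have h13 := isSyl_T.max _ h12 le_top le_sup_right
      rw [← h13]
      exact Subgroup.mem_sup_left (Subgroup.mem_zpowers _)
    refine ⟨⟨y * m * y⁻¹, hmT, hfix⟩, ?_⟩
    rw [hψm]
    congr 1
    change m = y⁻¹ * (y * m * y⁻¹) * y
    group
  -- counting
  have hS : Nat.card {t : MU // t ∈ T ∧ fr t = t} = 16 := card_fix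
  by_cases hall : ∀ ψ ∈ Y, Inn ψ
  · choose g hg using h9
    have h10 : Nat.card Y ≤ Nat.card {t : MU // t ∈ T ∧ fr t = t} := by
      apply Nat.card_le_card_of_injective (fun ψ : Y => g ψ.1 ψ.2 (hall _ ψ.2))
      intro ψ ψ' h
      apply Subtype.ext
      rw [hg ψ.1 ψ.2 (hall _ ψ.2), hg ψ'.1 ψ'.2 (hall _ ψ'.2)]
      have h' : g ψ.1 ψ.2 (hall _ ψ.2) = g ψ'.1 ψ'.2 (hall _ ψ'.2) := h
      rw [h']
    omega
  · push Not at hall
    obtain ⟨ψ1, hψ1, hout1⟩ := hall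
    have h10 : ∀ ψ : Y, ∃ z : Bool × {t : MU // t ∈ T ∧ fr t = t},
        ψ.1 = (bif z.1 then 1 else ψ1) * MulAut.conj (y⁻¹ * z.2 * y) := by
      intro ψ
      by_cases hψ : Inn ψ.1
      · obtain ⟨t, ht⟩ := h9 _ ψ.2 hψ
        exact ⟨(true, t), by rw [cond_true, one_mul]; exact ht⟩
      · have h11 : Inn (ψ1⁻¹ * ψ.1) := by
          have h12 : ¬ Inn ψ1⁻¹ := by
            rintro ⟨b, hb⟩
            apply hout1
            refine ⟨b⁻¹, fun x => ?_⟩
            have := hb (ψ1 x)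
            have h13 : ψ1⁻¹ (ψ1 x) = x := by
              change (ψ1⁻¹ * ψ1) x = x
              rw [inv_mul_cancel]; rfl
            rw [h13] at this
            calc ψ1 x = b⁻¹ * (b * ψ1 x * b⁻¹) * b := by group
              _ = b⁻¹ * x * b⁻¹⁻¹ := by rw [← this, inv_inv]
          obtain ⟨b, hb⟩ := mInd h12 hψ
          exact ⟨b, hb⟩
        obtain ⟨t, ht⟩ := h9 _ (mul_mem (inv_mem hψ1) ψ.2) h11
        refine ⟨(false, t), ?_⟩
        rw [cond_false, ← ht, mul_inv_cancel_left]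
    choose g hg using h10
    have h11 : Nat.card Y ≤ Nat.card (Bool × {t : MU // t ∈ T ∧ fr t = t}) := by
      apply Nat.card_le_card_of_injective g
      intro ψ ψ' h
      apply Subtype.ext
      rw [hg, hg ψ', h]
    rw [Nat.card_prod, hS] at h11
    simpa using h11

/-! ### Elementary abelian subgroups -/

/-- (elem) -/
theorem elem_model {E : Subgroup MU} (hE : E ≤ T) (h2 : ∀ x ∈ E, x * x = 1) (h16 : 16 ≤ Nat.card E) :
    E ≤ Subgroup.closure (Set.range r) := by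
  have : Fact (Nat.Prime 2) := ⟨Nat.prime_two⟩
  have hclos : Subgroup.closure (Set.range r) = hT.E := (Elem.E_eq_closure hT).symm
  rw [hclos]
  have hP : IsPGroup 2 E := isPGroup_T.to_le hE
  obtain ⟨n, hn⟩ := IsPGroup.iff_card.1 hP
  have hn4 : 4 ≤ n := by
    rw [hn] at h16
    by_contra h
    have : 2 ^ n ≤ 2 ^ 3 := Nat.pow_le_pow_right (by norm_num) (by omega)
    omega
  intro x hx
  have h3 : orderOf (⟨x, hx⟩ : E) ∣ 2 := orderOf_dvd_of_pow_eq_one (by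
    rw [pow_two]; exact Subtype.ext (h2 x hx))
  obtain ⟨j, hj1, hj⟩ : ∃ j, j ≤ 4 ∧ Nat.card (Subgroup.zpowers (⟨x, hx⟩ : E)) = 2 ^ j := by
    rw [Nat.card_zpowers]
    rcases (Nat.dvd_prime Nat.prime_two).1 h3 with h | h
    · exact ⟨0, by norm_num, h⟩
    · exact ⟨1, by norm_num, h⟩
  obtain ⟨K, hK, hle⟩ := Sylow.exists_subgroup_card_pow_prime_le 2 (m := 4)
    (by rw [hn]; exact pow_dvd_pow 2 hn4) (Subgroup.zpowers (⟨x, hx⟩ : E)) hj hj1
  have h4 : K.map E.subtype = hT.E := by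
    apply hT.E_unique
    · rintro _ ⟨z, -, rfl⟩; exact hE z.2
    · rintro _ ⟨z, -, rfl⟩; exact h2 _ z.2
    · rw [Nat.card_congr (K.equivMapOfInjective E.subtype E.subtype_injective).symm.toEquiv, hK]
      norm_num
  rw [← h4]
  exact ⟨⟨x, hx⟩, hle (Subgroup.mem_zpowers _), rfl⟩

/-- (into) -/
theorem into_model {x : MU} (h2 : x * x = 1) : ∃ a : MU, a * x * a⁻¹ ∈ Subgroup.closure (Set.range r) := by
  have hclos : Subgroup.closure (Set.range r) = hT.E := (Elem.E_eq_closure hT).symm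
  have hP : IsPGroup 2 (Subgroup.zpowers x) := by
    rw [IsPGroup.iff_card, Nat.card_zpowers]
    have h3 : orderOf x ∣ 2 := orderOf_dvd_of_pow_eq_one (by rw [pow_two, h2])
    rcases (Nat.dvd_prime Nat.prime_two).1 h3 with h | h
    · exact ⟨0, h⟩
    · exact ⟨1, h⟩
  obtain ⟨n, -, hn⟩ := isSyl_T.exists_conj hP le_top
  have h3 := hn x (Subgroup.mem_zpowers x)
  have h4 : (n * x * n⁻¹) * (n * x * n⁻¹) = 1 := by
    calc _ = n * (x * x) * n⁻¹ := by group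
      _ = 1 := by rw [h2]; group
  rcases hT.invol _ h3 h4 with h5 | h5
  · exact ⟨n, by rw [hclos]; exact h5⟩
  · by_cases h6 : n * x * n⁻¹ = 1
    · exact ⟨n, by rw [h6]; exact one_mem _⟩
    by_cases h7 : n * x * n⁻¹ = r 0
    · exact ⟨n, by rw [h7]; exact r_mem_clos 0⟩
    obtain ⟨a, -, i, j, -, -, -, h8⟩ := Q_inv h5 h4 h6 h7
    refine ⟨a⁻¹ * n, ?_⟩
    have h9 : a⁻¹ * n * x * (a⁻¹ * n)⁻¹ = a⁻¹ * (n * x * n⁻¹) * a := by group
    rw [h9, h8]
    have h10 : a⁻¹ * (a * (r i * r j) * a⁻¹) * a = r i * r j := by group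
    rw [h10]
    exact mul_mem (r_mem_clos i) (r_mem_clos j)

end Cfsg.Agent.UFiveTwo.Model
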