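import Cfsg.Agent.UFiveTwo.ModelTools

/-!
# `PSU₅(2)`: the subgroups `U`, `Q` and the stabilizers
-/

set_option autoImplicit false
set_option maxRecDepth 100000

open Cfsg

namespace Cfsg.Agent.UFiveTwo.Model

open Matrix Cfsg.Agent.Lib.FieldFour
open Cfsg.Agent.SylowU5.Model

theorem bf_col (a : MU) (i j : Fin 5) : bf (fun k => mt a k i) (fun k => mt a k j) = bf (e i) (e j) := by
  rw [← col, ← col, mt_bf]

theorem cj_ne {c : F4} (hc : c ≠ 0) : cj c ≠ 0 := by revert c; decide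

/-- The stabilizer of the point. -/
def DV (a : MU) : Prop := ∃ c : F4, c ≠ 0 ∧ mt a *ᵥ e 0 = c • e 0

theorem DV.one : DV 1 := ⟨1, one_ne_zero, by rw [mt_one, Matrix.one_mulVec, one_smul]⟩

theorem DV.mul {a b : MU} (ha : DV a) (hb : DV b) : DV (a * b) := by
  obtain ⟨c, hc, h1⟩ := ha
  obtain ⟨d, hd, h2⟩ := hb
  refine ⟨d * c, mul_ne_zero hd hc, ?_⟩
  rw [mt_mul, ← Matrix.mulVec_mulVec, h2, Matrix.mulVec_smul, h1, smul_smul]

theorem DV.inv {a : MU} (ha : DV a) : DV a⁻¹ := by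
  obtain ⟨c, hc, h1⟩ := ha
  refine ⟨c⁻¹, inv_ne_zero hc, ?_⟩
  have h2 := mt_inv_mulVec a (e 0)
  rw [h1, Matrix.mulVec_smul] at h2
  have h3 : c⁻¹ • (c • (mt a⁻¹ *ᵥ e 0)) = c⁻¹ • e 0 := by rw [h2]
  rwa [smul_smul, inv_mul_cancel₀ hc, one_smul] at h3

theorem DV.perp {a : MU} (ha : DV a) {v : Fin 5 → F4} (hv : v 4 = 0) : (mt a *ᵥ v) 4 = 0 := by
  obtain ⟨c, hc, h1⟩ := ha
  have h2 := mt_bf a v (e 0)
  rw [h1, bf_smul_right, bf_e0, bf_e0, hv] at h2
  exact (mul_eq_zero.1 h2).resolve_left (cj_ne hc)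

theorem tv_inj_of {v w : Fin 5 → F4} (hv : v ≠ 0) (h : tv v = tv w) : ∃ c : F4, c ≠ 0 ∧ w = c • v := by
  -- choose `x` with `bf x v ≠ 0`
  obtain ⟨x, hx⟩ : ∃ x, bf x v ≠ 0 := by
    by_contra hcon
    push Not at hcon
    apply hv
    ext i
    have h1 := hcon (e (Fin.rev i))
    fin_cases i
    · have : bf (e 4) v = cj (v 0) := by rw [← cj_bf, bf_e4]
      have h2 : cj (v 0) = 0 := this ▸ h1
      have h3 := congrArg cj h2
      rwa [cj_cj, cj_zero] at h3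
    · have : bf (e 3) v = cj (v 1) := by rw [← cj_bf, bf_e3]
      have h2 : cj (v 1) = 0 := this ▸ h1
      have h3 := congrArg cj h2
      rwa [cj_cj, cj_zero] at h3
    · have : bf (e 2) v = cj (v 2) := by rw [← cj_bf, bf_e2]
      have h2 : cj (v 2) = 0 := this ▸ h1
      have h3 := congrArg cj h2
      rwa [cj_cj, cj_zero] at h3
    · have : bf (e 1) v = cj (v 3) := by rw [← cj_bf, bf_e1]
      have h2 : cj (v 3) = 0 := this ▸ h1
      have h3 := congrArg cj h2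
      rwa [cj_cj, cj_zero] at h3
    · have : bf (e 0) v = cj (v 4) := by rw [← cj_bf, bf_e0]
      have h2 : cj (v 4) = 0 := this ▸ h1
      have h3 := congrArg cj h2
      rwa [cj_cj, cj_zero] at h3
  have h1 : tv v *ᵥ x = tv w *ᵥ x := by rw [h]
  rw [tv_mulVec, tv_mulVec, add_left_cancel_iff] at h1
  -- `bf x v • v = bf x w • w`
  have h2 : bf x w ≠ 0 := by
    intro h2
    rw [h2, zero_smul] at h1
    rcases smul_eq_zero.1 h1 with h3 | h3
    · exact hx h3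
    · exact hv h3
  refine ⟨(bf x w)⁻¹ * bf x v, mul_ne_zero (inv_ne_zero h2) hx, ?_⟩
  rw [← smul_smul, h1, smul_smul, inv_mul_cancel₀ h2, one_smul]

theorem comm_r0_iff (a : MU) : a * r 0 = r 0 * a ↔ DV a := by
  have h0 : vv 0 = e 0 := by ext i; fin_cases i <;> rfl
  have h1 : a * r 0 = r 0 * a ↔ a * r 0 * a⁻¹ = r 0 := by
    rw [mul_inv_eq_iff_eq_mul]
  rw [h1, conj_r_iff, h0]
  constructor
  · intro h
    have h2 : (e 0 : Fin 5 → F4) ≠ 0 := by
      intro h3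
      have := congrFun h3 0
      simp at this
    obtain ⟨c, hc, h3⟩ := tv_inj_of h2 h.symm
    exact ⟨c, hc, h3⟩
  · rintro ⟨c, hc, h2⟩
    rw [h2, tv_smul hc]

/-- The radical of the stabilizer of the point. -/
def QV (a : MU) : Prop := mt a *ᵥ e 0 = e 0 ∧ ∀ v : Fin 5 → F4, v 4 = 0 → ∃ c : F4, mt a *ᵥ v = v + c • e 0

theorem QV.conj {a q : MU} (ha : DV a) (hq : QV q) : QV (a * q * a⁻¹) := by
  obtain ⟨c, hc, h1⟩ := ha.inv
  have key : ∀ v, mt (a * q * a⁻¹) *ᵥ v = mt a *ᵥ (mt q *ᵥ (mt a⁻¹ *ᵥ v)) := by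
    intro v
    rw [Matrix.mulVec_mulVec, Matrix.mulVec_mulVec, ← mt_mul, ← mt_mul]
  constructor
  · rw [key, h1, Matrix.mulVec_smul, hq.1, ← h1, mt_mulVec_inv]
  · intro v hv
    obtain ⟨d, hd⟩ := hq.2 _ (ha.inv.perp hv)
    obtain ⟨f, hf, h2⟩ := ha
    refine ⟨d * f, ?_⟩
    rw [key, hd, Matrix.mulVec_add, mt_mulVec_inv, Matrix.mulVec_smul, h2, smul_smul]

/-- The radical of the stabilizer of the line. -/
def UV (a : MU) : Prop := mt a *ᵥ e 0 = e 0 ∧ mt a *ᵥ e 1 = e 1 ∧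
  ∀ v : Fin 5 → F4, v 3 = 0 → v 4 = 0 → ∃ c d : F4, mt a *ᵥ v = v + c • e 0 + d • e 1

/-- The stabilizer of the line. -/
def LV (a : MU) : Prop := (∃ c d : F4, mt a *ᵥ e 0 = c • e 0 + d • e 1) ∧
  ∃ c d : F4, mt a *ᵥ e 1 = c • e 0 + d • e 1

theorem LV.perp {a : MU} (ha : LV a⁻¹) {v : Fin 5 → F4} (h3 : v 3 = 0) (h4 : v 4 = 0) :
    (mt a *ᵥ v) 3 = 0 ∧ (mt a *ᵥ v) 4 = 0 := by
  obtain ⟨⟨c, d, h1⟩, ⟨c', d', h2⟩⟩ := ha
  have e1 := mt_bf a v (mt a⁻¹ *ᵥ e 0)
  have e2 := mt_bf a v (mt a⁻¹ *ᵥ e 1)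
  rw [mt_mulVec_inv] at e1 e2
  rw [h1, bf_add_right, bf_smul_right, bf_smul_right, bf_e0, bf_e0, bf_e1, h3, h4] at e1
  rw [h2, bf_add_right, bf_smul_right, bf_smul_right, bf_e0, bf_e1, bf_e1, h3, h4] at e2
  exact ⟨by simpa using e2, by simpa using e1⟩

theorem UV.conj {a q : MU} (ha : LV a) (ha' : LV a⁻¹) (hq : UV q) : UV (a * q * a⁻¹) := by
  have key : ∀ v, mt (a * q * a⁻¹) *ᵥ v = mt a *ᵥ (mt q *ᵥ (mt a⁻¹ *ᵥ v)) := by
    intro v
    rw [Matrix.mulVec_mulVec, Matrix.mulVec_mulVec, ← mt_mul, ← mt_mul]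
  have hW : ∀ c d : F4, mt q *ᵥ (c • e 0 + d • e 1) = c • e 0 + d • e 1 := by
    intro c d
    rw [Matrix.mulVec_add, Matrix.mulVec_smul, Matrix.mulVec_smul, hq.1, hq.2.1]
  have ha'2 : LV (a⁻¹)⁻¹ := by rw [inv_inv]; exact ha
  obtain ⟨⟨c, d, h1⟩, ⟨c', d', h2⟩⟩ := ha'
  refine ⟨?_, ?_, ?_⟩
  · rw [key, h1, hW, ← h1, mt_mulVec_inv]
  · rw [key, h2, hW, ← h2, mt_mulVec_inv]
  · intro v h3 h4
    obtain ⟨h5, h6⟩ := LV.perp ha'2 h3 h4
    obtain ⟨s, t, h7⟩ := hq.2.2 _ h5 h6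
    obtain ⟨⟨c, d, h1⟩, ⟨c', d', h2⟩⟩ := ha
    refine ⟨s * c + t * c', s * d + t * d', ?_⟩
    rw [key, h7, Matrix.mulVec_add, Matrix.mulVec_add, mt_mulVec_inv, Matrix.mulVec_smul,
      Matrix.mulVec_smul, h1, h2]
    ext i
    simp only [Pi.add_apply, Pi.smul_apply, smul_eq_mul]
    ring

/-! ### Coordinates -/

theorem chk_V : allB (fun n => Bool.xor (Bool.not (fV n)) (beqF (dec n).l F4.o)) 1024 = true := by
  decide +kernel

theorem chk_Q : allB (fun n => Bool.xor (Bool.not (fQ n)) (beqF (dec n).q F4.o && beqF (dec n).d F4.o))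
    1024 = true := by
  decide +kernel

theorem chk_enc' : ∀ l p q a b d : F4, a + cj a = p * cj p → d + cj d = q * cj q →
    enc ⟨l, p, q, a, b, cj (b + p * cj q), d⟩ < 1024 ∧
      dec (enc ⟨l, p, q, a, b, cj (b + p * cj q), d⟩) = ⟨l, p, q, a, b, cj (b + p * cj q), d⟩ := by
  decide +kernel

theorem exists_M0 {x : Raw} (hx : Valid x) : ∃ y : M0, dec y.n = x := by
  obtain ⟨h1, h2, h3⟩ := hx
  have h4 : x.c = cj (x.b + x.p * cj x.q) := by
    rw [← h2, ← add_assoc, SylowU5.Model.add_self, zero_add, cj_cj]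
  obtain ⟨h5, h6⟩ := chk_enc' x.l x.p x.q x.a x.b x.d h1 h3
  refine ⟨⟨_, h5⟩, ?_⟩
  change dec (enc _) = x
  rw [h6, ← h4]

theorem add_eq_zero' {x y : F4} (h : x + y = 0) : y = x := by
  have := SylowU5.Model.add_self x
  have h2 : y = (x + x) + y := by rw [this, zero_add]
  rw [h2, add_assoc, h, add_zero]

/-- An element which is upper unitriangular on the first three basis vectors lies in the Sylow subgroup. -/
theorem exists_em {a : MU} {l p q : F4} (h0 : mt a *ᵥ e 0 = e 0) (h1 : mt a *ᵥ e 1 = e 1 + l • e 0)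
    (h2 : mt a *ᵥ e 2 = e 2 + p • e 0 + q • e 1) :
    ∃ x : M0, em x = a ∧ (dec x.n).l = l ∧ (dec x.n).p = p ∧ (dec x.n).q = q := by
  have g : ∀ i j, bf (mt a *ᵥ e i) (mt a *ᵥ e j) = bf (e i) (e j) := fun i j => mt_bf a _ _
  set u := mt a *ᵥ e 3 with hu
  set v := mt a *ᵥ e 4 with hv
  -- the third column
  have a1 : u 4 = 0 := by
    have := g 3 0
    rw [h0, bf_e0, bf_e0] at this
    exact this.trans (by simp)
  have a2 : u 3 = 1 := by
    have := g 3 1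
    rw [h1, bf_add_right, bf_smul_right, bf_e1, bf_e0, bf_e1, ← hu, a1, mul_zero, add_zero] at this
    simpa using this
  have a3 : u 2 = cj q := by
    have := g 3 2
    rw [h2, bf_add_right, bf_add_right, bf_smul_right, bf_smul_right, bf_e2, bf_e0, bf_e1, bf_e2, ← hu,
      a1, a2, mul_zero, add_zero, mul_one] at this
    have h3 : (e 3 : Fin 5 → F4) 2 = 0 := by simp
    rw [h3] at this
    exact (add_eq_zero' this).symm
  have b1 : v 4 = 1 := by
    have := g 4 0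
    rw [h0, bf_e0, bf_e0] at this
    exact this.trans (by simp)
  have b2 : v 3 = cj l := by
    have := g 4 1
    rw [h1, bf_add_right, bf_smul_right, bf_e1, bf_e0, bf_e1, ← hv, b1, mul_one] at this
    have h3 : (e 4 : Fin 5 → F4) 3 = 0 := by simp
    rw [h3] at this
    exact (add_eq_zero' this).symm
  have b3 : v 2 = cj p + cj q * cj l := by
    have := g 4 2
    rw [h2, bf_add_right, bf_add_right, bf_smul_right, bf_smul_right, bf_e2, bf_e0, bf_e1, bf_e2, ← hv,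
      b1, b2, mul_one] at this
    have h3 : (e 4 : Fin 5 → F4) 2 = 0 := by simp
    rw [h3, add_assoc] at this
    exact (add_eq_zero' this).symm
  -- the relations
  have r1 : u 1 + cj (u 1) = q * cj q := by
    have := g 3 3
    rw [← hu, bf_def, a1, a2, a3, cj_zero, cj_one, cj_cj] at this
    have h3 : bf (e 3) (e 3) = 0 := by simp [bf_def, cj_zero]
    rw [h3] at this
    have h4 := add_eq_zero' this
    rw [mul_comm q, h4]
    ring
  have r2 : u 0 + u 1 * l + cj (v 1) + cj q * (p + q * l) = 0 := by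
    have := g 3 4
    rw [← hu, ← hv, bf_def, a1, a2, a3, b1, b2, b3, cj_one, cj_cj, cj_add, cj_mul, cj_cj, cj_cj,
      cj_cj] at this
    have h3 : bf (e 3) (e 4) = 0 := by simp [bf_def, cj_zero]
    rw [h3] at this
    rw [← this]
    ring
  have r3 : v 0 + cj (v 0) + v 1 * l + cj l * cj (v 1) + (cj p + cj q * cj l) * (p + q * l) = 0 := by
    have := g 4 4
    rw [← hv, bf_def, b1, b2, b3, cj_one, cj_cj, cj_add, cj_mul, cj_cj, cj_cj, cj_cj] at this
    have h3 : bf (e 4) (e 4) = 0 := by simp [bf_def, cj_zero]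
    rw [h3] at this
    rw [← this]
    ring
  -- the coordinates
  let x : Raw := ⟨l, p, q, v 0 + u 0 * cj l, u 0, v 1 + u 1 * cj l, u 1⟩
  have t2 : (2 : F4) = 0 := Raw.two_zero
  have c1 : cj (u 1) = u 1 + q * cj q := by
    rw [← r1, ← add_assoc, SylowU5.Model.add_self, zero_add]
  have c2 : cj (v 1) = u 0 + u 1 * l + cj q * (p + q * l) := by
    have : cj (v 1) + (u 0 + u 1 * l + cj q * (p + q * l)) = 0 := by rw [← r2]; ring
    exact (add_eq_zero' this).symm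
  have c3 : cj (u 0) = v 1 + cj (u 1) * cj l + q * (cj p + cj q * cj l) := by
    have h := congrArg cj c2
    rw [cj_cj, cj_add, cj_add, cj_mul, cj_mul, cj_cj, cj_add, cj_mul] at h
    rw [h]
    linear_combination (-(cj (u 1) * cj l) - (q * (cj p + cj q * cj l))) * t2
  have hx : Valid x := by
    refine ⟨?_, ?_, ?_⟩
    · change v 0 + u 0 * cj l + cj (v 0 + u 0 * cj l) = p * cj p
      rw [cj_add, cj_mul, cj_cj, c3, c1]
      rw [c2] at r3
      linear_combination r3 - (p * cj p + cj l * cj q * p) * t2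
    · change u 0 + cj (v 1 + u 1 * cj l) = p * cj q
      rw [cj_add, cj_mul, cj_cj, c1, c2]
      linear_combination (u 0 + u 1 * l + q * cj q * l) * t2
    · exact r1
  obtain ⟨y, hy⟩ := exists_M0 hx
  refine ⟨y, ?_, by rw [hy], by rw [hy], by rw [hy]⟩
  apply mt_inj
  rw [mt_em, hy]
  have k0 : ∀ k, mt a k 0 = (e 0 : Fin 5 → F4) k := fun k => by rw [← h0, col]
  have k1 : ∀ k, mt a k 1 = (e 1 + l • e 0 : Fin 5 → F4) k := fun k => by rw [← h1, col]
  have k2 : ∀ k, mt a k 2 = (e 2 + p • e 0 + q • e 1 : Fin 5 → F4) k := fun k => by rw [← h2, col]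
  have k3 : ∀ k, mt a k 3 = u k := fun k => by rw [hu, col]
  have k4 : ∀ k, mt a k 4 = v k := fun k => by rw [hv, col]
  ext i j
  fin_cases j
  · change mx x i 0 = mt a i 0
    rw [k0]
    fin_cases i <;> simp [mx]
  · change mx x i 1 = mt a i 1
    rw [k1]
    fin_cases i <;> simp [mx, x]
  · change mx x i 2 = mt a i 2
    rw [k2]
    fin_cases i <;> simp [mx, x]
  · change mx x i 3 = mt a i 3
    rw [k3]
    fin_cases i <;> simp [mx, x, a1, a2, a3]
  · change mx x i 4 = mt a i 4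
    rw [k4]
    fin_cases i
    · change v 0 + u 0 * cj l + u 0 * cj l = v 0
      rw [add_assoc, SylowU5.Model.add_self, add_zero]
    · change v 1 + u 1 * cj l + u 1 * cj l = v 1
      rw [add_assoc, SylowU5.Model.add_self, add_zero]
    · simp [mx, x, b3]
    · simp [mx, x, b2]
    · simp [mx, x, b1]

end Cfsg.Agent.UFiveTwo.Model
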