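import Cfsg.Agent.UFiveTwo.ModelElem

/-!
# `PSU₅(2)`: the group `Q` in vector coordinates
-/

set_option autoImplicit false
set_option maxRecDepth 100000

open Cfsg

namespace Cfsg.Agent.UFiveTwo.Model

open Matrix Cfsg.Agent.Lib.FieldFour
open Cfsg.Agent.SylowU5.Model Cfsg.Agent.SylowU5.Basic

theorem add_self' (x : F4) : x + x = 0 := SylowU5.Model.add_self x

/-- The coordinates of an element of `Q`. -/
structure QD (q : MU) (m : Fin 5 → F4) (α : F4) : Prop where
  m0 : m 0 = 0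
  m4 : m 4 = 0
  h0 : mt q *ᵥ e 0 = e 0
  hp : ∀ x : Fin 5 → F4, x 4 = 0 → mt q *ᵥ x = x + bf x m • e 0
  h4 : mt q *ᵥ e 4 = e 4 + m + α • e 0

theorem QD.ext {q q' : MU} {m : Fin 5 → F4} {α : F4} (h : QD q m α) (h' : QD q' m α) : q = q' := by
  apply mt_ext
  intro i
  by_cases hi : i = 4
  · subst hi
    rw [h.h4, h'.h4]
  · have h1 : (e i : Fin 5 → F4) 4 = 0 := by
      simp [e, Ne.symm hi]
    rw [h.hp _ h1, h'.hp _ h1]

theorem QD.qv {q : MU} {m : Fin 5 → F4} {α : F4} (h : QD q m α) : QV q :=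
  ⟨h.h0, fun v hv => ⟨_, h.hp v hv⟩⟩

theorem QD.mem {q : MU} {m : Fin 5 → F4} {α : F4} (h : QD q m α) : q ∈ Q := (mem_Q_iff q).2 h.qv

theorem QD.mul {q q' : MU} {m m' : Fin 5 → F4} {α α' : F4} (h : QD q m α) (h' : QD q' m' α') :
    QD (q * q') (m + m') (α + α' + bf m' m) where
  m0 := by rw [Pi.add_apply, h.m0, h'.m0, add_zero]
  m4 := by rw [Pi.add_apply, h.m4, h'.m4, add_zero]
  h0 := by rw [mt_mul, ← Matrix.mulVec_mulVec, h'.h0, h.h0]
  hp x hx := by
    rw [mt_mul, ← Matrix.mulVec_mulVec, h'.hp x hx, Matrix.mulVec_add, Matrix.mulVec_smul, h.h0,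
      h.hp x hx, bf_add_right, add_smul, add_assoc]
  h4 := by
    rw [mt_mul, ← Matrix.mulVec_mulVec, h'.h4, Matrix.mulVec_add, Matrix.mulVec_add,
      Matrix.mulVec_smul, h.h0, h.h4, h.hp m' h'.m4]
    ext i
    simp only [Pi.add_apply, Pi.smul_apply, smul_eq_mul]
    ring

/-- The defining relation. -/
theorem QD.rel {q : MU} {m : Fin 5 → F4} {α : F4} (h : QD q m α) : α + cj α = bf m m := by
  have h1 := mt_bf q (e 4) (e 4)
  rw [h.h4] at h1
  simp only [bf_add_left, bf_add_right, bf_smul_left, bf_smul_right, bf_e0, bf_e4] at h1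
  have h2 : bf (e 0) m = 0 := by rw [← cj_bf, bf_e0, h.m4, cj_zero]
  have h3 : bf (e 4) m = 0 := by rw [← cj_bf, bf_e4, h.m0, cj_zero]
  have h4 : bf (e 0) (e 4) = 1 := by rw [bf_e]; rfl
  rw [h2, h3] at h1
  simp [h.m0, h.m4] at h1
  have h5 : bf m m + (α + cj α) = 0 := by rw [← h1]; ring
  exact add_eq_zero' h5

theorem QD_em {x : M0} (hx : x ∈ M0.Q) :
    QD (em x) ![0, cj (dec x.n).b, cj (dec x.n).p, cj (dec x.n).l, 0]
      ((dec x.n).a + (dec x.n).b * cj (dec x.n).l) := by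
  obtain ⟨hq, hd⟩ := (Q_iff x).1 hx
  have h0 : mt (em x) *ᵥ e 0 = e 0 := by
    rw [mt_em, col]
    ext i; fin_cases i <;> simp [mx]
  obtain ⟨v1, v2, v3⟩ := valid_dec x
  rw [hq, cj_zero, mul_zero] at v2
  have hc : (dec x.n).c = cj (dec x.n).b := by
    have := congrArg cj (add_eq_zero' v2)
    rwa [cj_cj] at this
  refine ⟨rfl, rfl, h0, ?_, ?_⟩
  · intro v hv
    rw [mt_em]
    ext i
    simp only [Matrix.mulVec, dotProduct, Fin.sum_univ_five]
    fin_cases i <;> simp [mx, hq, hd, hv, cj_zero, bf_def, cj_cj]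
    ring
  · rw [mt_em, col]
    ext i
    fin_cases i <;> simp [mx, hq, hd, hc, cj_zero] <;> rfl

theorem exists_QD {q : MU} (hq : q ∈ Q) : ∃ m α, QD q m α := by
  obtain ⟨x, hx, rfl⟩ := hq
  exact ⟨_, _, QD_em hx⟩

theorem Q_sub {q : MU} (hq : q ∈ Q) : QV q := (mem_Q_iff q).1 hq

theorem QD_one : QD 1 0 0 where
  m0 := rfl
  m4 := rfl
  h0 := by rw [mt_one, Matrix.one_mulVec]
  hp x hx := by
    rw [mt_one, Matrix.one_mulVec]
    have : bf x 0 = 0 := by simp [bf_def, cj_zero]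
    rw [this, zero_smul, add_zero]
  h4 := by rw [mt_one, Matrix.one_mulVec, zero_smul, add_zero, add_zero]

theorem vv0 : vv 0 = e 0 := by ext i; fin_cases i <;> rfl

theorem QD_r0 : QD (r 0) 0 1 where
  m0 := rfl
  m4 := rfl
  h0 := by
    rw [mt_r, tv_mulVec, vv0, bf_e0]
    simp
  hp x hx := by
    rw [mt_r, tv_mulVec, vv0, bf_e0, hx]
    have : bf x 0 = 0 := by simp [bf_def, cj_zero]
    rw [this]
  h4 := by
    rw [mt_r, tv_mulVec, vv0, bf_e0]
    simp

/-- The vector determines the element up to the centre. -/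
theorem QD.eq_or {q q' : MU} {m : Fin 5 → F4} {α α' : F4} (h : QD q m α) (h' : QD q' m α') :
    q' = q ∨ q' = q * r 0 := by
  have h1 := h.rel
  have h2 := h'.rel
  have h3 : α' = α ∨ α' = α + 1 := by
    rw [← h1] at h2
    clear h h' h1
    revert h2
    revert α α'
    decide
  rcases h3 with rfl | rfl
  · exact Or.inl (h'.ext h)
  · right
    have h4 := h.mul QD_r0
    have h5 : bf 0 m = 0 := by simp [bf_def]
    rw [add_zero, h5, add_zero] at h4
    exact h'.ext h4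

theorem QD.sq {q : MU} {m : Fin 5 → F4} {α : F4} (h : QD q m α) : QD (q * q) 0 (bf m m) := by
  have h1 := h.mul h
  have h2 : m + m = 0 := by ext i; exact add_self' _
  rwa [h2, add_self', zero_add] at h1

theorem QD.alpha {q : MU} {m : Fin 5 → F4} {α α' : F4} (h : QD q m α) (h' : QD q m α') : α = α' := by
  have h1 := h.h4
  rw [h'.h4] at h1
  have h2 := congrFun h1 0
  have h3 : (e 4 : Fin 5 → F4) 0 = 0 := by simp
  simp [h.m0] at h2
  exact h2.symm

theorem QD.vec {q : MU} {m m' : Fin 5 → F4} {α α' : F4} (h : QD q m α) (h' : QD q m' α') : m = m' := by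
  have h1 := h.h4
  rw [h'.h4] at h1
  ext i
  have h2 := congrFun h1 i
  by_cases hi : i = 0
  · subst hi; rw [h.m0, h'.m0]
  · by_cases hi4 : i = 4
    · subst hi4; rw [h.m4, h'.m4]
    · simp [hi, hi4] at h2
      exact h2.symm

theorem sq_eq_one_iff {q : MU} {m : Fin 5 → F4} {α : F4} (h : QD q m α) : q * q = 1 ↔ bf m m = 0 := by
  constructor
  · intro h1
    have h2 := h.sq
    rw [h1] at h2
    exact h2.alpha QD_one
  · intro h1
    have h2 := h.sq
    rw [h1] at h2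
    exact h2.ext QD_one

theorem comm_iff {q q' : MU} {m m' : Fin 5 → F4} {α α' : F4} (h : QD q m α) (h' : QD q' m' α') :
    q * q' = q' * q ↔ bf m m' + bf m' m = 0 := by
  have h1 := h.mul h'
  have h2 := h'.mul h
  rw [add_comm m' m] at h2
  constructor
  · intro h3
    rw [h3] at h1
    have h4 := h1.alpha h2
    have h5 : bf m' m = bf m m' := by
      rw [add_comm α' α] at h4
      exact add_left_cancel h4
    rw [h5, add_self']
  · intro h3
    have h4 := add_eq_zero' h3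
    rw [h4] at h1
    rw [add_comm α' α] at h2
    exact h1.ext h2

/-- The commutator. -/
theorem comm_eq_iff {q q' : MU} {m m' : Fin 5 → F4} {α α' : F4} (h : QD q m α) (h' : QD q' m' α') :
    q * q' * q⁻¹ * q'⁻¹ = r 0 ↔ bf m m' + bf m' m = 1 := by
  have h1 := h.mul h'
  have h2 := h'.mul h
  have h3 := QD_r0.mul h2
  have h4 : bf (m' + m) 0 = 0 := by simp [bf_def, cj_zero]
  rw [zero_add, h4, add_zero, add_comm m' m] at h3
  have h5 : q * q' * q⁻¹ * q'⁻¹ = r 0 ↔ q * q' = r 0 * (q' * q) := by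
    rw [mul_inv_eq_iff_eq_mul, mul_inv_eq_iff_eq_mul, mul_assoc (r 0)]
  rw [h5]
  constructor
  · intro h6
    rw [h6] at h1
    have h7 := h1.alpha h3
    have h8 : bf m' m = 1 + bf m m' := by
      have : α + α' + bf m' m = α + α' + (1 + bf m m') := by rw [h7]; ring
      exact add_left_cancel this
    rw [h8]
    linear_combination bf m m' * two_zero
  · intro h6
    have h8 : bf m' m = 1 + bf m m' := by
      rw [← h6]; linear_combination (-bf m m') * two_zero
    rw [h8] at h1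
    have h7 : α + α' + (1 + bf m m') = 1 + (α' + α + bf m m') := by ring
    rw [h7] at h1
    exact h1.ext h3

/-- Conjugation. -/
theorem QD.conj {a q : MU} {m : Fin 5 → F4} {α c : F4} (h : QD q m α) (hc : c ≠ 0)
    (ha : mt a *ᵥ e 0 = c • e 0) : ∃ m' α', QD (a * q * a⁻¹) m' α' ∧
      ∀ i, i ≠ 0 → m' i = cj c * (mt a *ᵥ m) i := by
  have hD : DV a := ⟨c, hc, ha⟩
  obtain ⟨m', α', h'⟩ := exists_QD ((mem_Q_iff _).2 (QV.conj hD h.qv))
  refine ⟨m', α', h', ?_⟩
  have key : ∀ x : Fin 5 → F4, x 4 = 0 → bf x m' = bf x (cj c • (mt a *ᵥ m)) := by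
    intro x hx
    have h1 := h'.hp x hx
    have h2 : mt (a * q * a⁻¹) *ᵥ x = mt a *ᵥ (mt q *ᵥ (mt a⁻¹ *ᵥ x)) := by
      rw [Matrix.mulVec_mulVec, Matrix.mulVec_mulVec, ← mt_mul, ← mt_mul]
    rw [h2, h.hp _ (hD.inv.perp hx), Matrix.mulVec_add, mt_mulVec_inv, Matrix.mulVec_smul, ha,
      add_left_cancel_iff] at h1
    have h3 := mt_bf a (mt a⁻¹ *ᵥ x) m
    rw [mt_mulVec_inv] at h3
    rw [← h3] at h1
    have h4 := congrFun h1 0
    simp at h4
    rw [bf_smul_right, cj_cj, mul_comm]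
    exact h4.symm
  have hma : (mt a *ᵥ m) 4 = 0 := hD.perp h.m4
  intro i hi
  have h5 : ∀ (j : Fin 5), j ≠ 4 → cj (m' (Fin.rev j)) = cj (cj c * (mt a *ᵥ m) (Fin.rev j)) := by
    intro j hj
    have h6 := key (e j) (by simp [Ne.symm hj])
    have h7 : ∀ v : Fin 5 → F4, bf (e j) v = cj (v (Fin.rev j)) := by
      intro v
      rw [← cj_bf]
      fin_cases j
      · exact congrArg cj (bf_e0 v)
      · exact congrArg cj (bf_e1 v)
      · exact congrArg cj (bf_e2 v)
      · exact congrArg cj (bf_e3 v)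
      · exact congrArg cj (bf_e4 v)
    rw [h7, h7] at h6
    exact h6
  have h8 := h5 (Fin.rev i) (by
    intro h9
    apply hi
    rw [← Fin.rev_rev i, h9]
    rfl)
  rw [Fin.rev_rev] at h8
  have h9 := congrArg cj h8
  rwa [cj_cj, cj_cj] at h9

end Cfsg.Agent.UFiveTwo.Model
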