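import Cfsg.Agent.UFiveTwo.ModelPar

/-!
# `PSU₅(2)`: the subgroups `U`, `Q` in coordinates
-/

set_option autoImplicit false
set_option maxRecDepth 100000

open Cfsg

namespace Cfsg.Agent.UFiveTwo.Model

open Matrix Cfsg.Agent.Lib.FieldFour
open Cfsg.Agent.SylowU5.Model Cfsg.Agent.SylowU5.Basic

theorem V_iff (x : M0) : x ∈ M0.V ↔ (dec x.n).l = 0 := by
  have h := (allB_iff _ _).1 chk_V x.n x.lt
  have h1 : x ∈ M0.V ↔ fV x.n = true := Iff.rfl
  rw [h1]
  have h2 : beqF (dec x.n).l F4.o = true ↔ (dec x.n).l = 0 := beqF_iff _ _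
  rw [← h2]
  cases hf : fV x.n <;> cases hg : beqF (dec x.n).l F4.o <;> simp [hf, hg] at h ⊢

theorem Q_iff (x : M0) : x ∈ M0.Q ↔ (dec x.n).q = 0 ∧ (dec x.n).d = 0 := by
  have h := (allB_iff _ _).1 chk_Q x.n x.lt
  have h1 : x ∈ M0.Q ↔ fQ x.n = true := Iff.rfl
  rw [h1]
  have h2 : beqF (dec x.n).q F4.o = true ↔ (dec x.n).q = 0 := beqF_iff _ _
  have h3 : beqF (dec x.n).d F4.o = true ↔ (dec x.n).d = 0 := beqF_iff _ _
  rw [← h2, ← h3]
  cases hf : fQ x.n <;> cases hg : beqF (dec x.n).q F4.o <;> cases hk : beqF (dec x.n).d F4.o <;>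
    simp [hf, hg, hk] at h ⊢

/-- `U` -/
def U : Subgroup MU := M0.V.map em
/-- `Q` -/
def Q : Subgroup MU := M0.Q.map em
/-- The Sylow subgroup. -/
def T : Subgroup MU := (⊤ : Subgroup M0).map em

/-- The structure of the Sylow 2-subgroup. -/
noncomputable def hT : U5T T := M0.u5T.map em em_injective

theorem mem_U_iff (a : MU) : a ∈ U ↔ UV a := by
  constructor
  · rintro ⟨x, hx, rfl⟩
    have hl : (dec x.n).l = 0 := (V_iff x).1 hx
    refine ⟨?_, ?_, fun v h3 h4 => ⟨(dec x.n).p * v 2, (dec x.n).q * v 2, ?_⟩⟩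
    · rw [mt_em, col]
      ext i; fin_cases i <;> simp [mx]
    · rw [mt_em, col]
      ext i; fin_cases i <;> simp [mx, hl]
    · rw [mt_em]
      ext i
      simp only [Matrix.mulVec, dotProduct, Fin.sum_univ_five]
      fin_cases i <;> simp [mx, hl, h3, h4]
  · intro h
    obtain ⟨c, d, h2⟩ := h.2.2 (e 2) (by simp) (by simp)
    obtain ⟨x, rfl, h3, -, -⟩ := exists_em (l := 0) h.1 (by rw [h.2.1, zero_smul, add_zero]) h2
    exact ⟨x, (V_iff x).2 h3, rfl⟩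

theorem mem_Q_iff (a : MU) : a ∈ Q ↔ QV a := by
  constructor
  · rintro ⟨x, hx, rfl⟩
    obtain ⟨hq, hd⟩ := (Q_iff x).1 hx
    refine ⟨?_, fun v h4 => ⟨(dec x.n).l * v 1 + (dec x.n).p * v 2 + (dec x.n).b * v 3, ?_⟩⟩
    · rw [mt_em, col]
      ext i; fin_cases i <;> simp [mx]
    · rw [mt_em]
      ext i
      simp only [Matrix.mulVec, dotProduct, Fin.sum_univ_five]
      fin_cases i <;> simp [mx, hq, hd, h4, cj_zero]
      ring
  · intro h
    obtain ⟨c1, h1⟩ := h.2 (e 1) (by simp)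
    obtain ⟨c2, h2⟩ := h.2 (e 2) (by simp)
    obtain ⟨c3, h3⟩ := h.2 (e 3) (by simp)
    obtain ⟨x, rfl, h4, h5, h6⟩ := exists_em (p := c2) (q := 0) h.1 h1 (by rw [h2, zero_smul, add_zero])
    refine ⟨x, (Q_iff x).2 ⟨h6, ?_⟩, rfl⟩
    have := congrFun h3 1
    rw [mt_em, col] at this
    simpa [mx] using this

end Cfsg.Agent.UFiveTwo.Model
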