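import Cfsg.Agent.UFiveTwo.ModelBasic

/-!
# `PSU₅(2)`: transvections, the parabolic subgroups, coordinates
-/

set_option autoImplicit false
set_option maxRecDepth 10000

open Cfsg

namespace Cfsg.Agent.UFiveTwo.Model

open Matrix Cfsg.Agent.Lib.FieldFour
open Cfsg.Agent.SylowU5.Model

/-- the basis -/
abbrev e (i : Fin 5) : Fin 5 → F4 := Pi.single i 1

theorem bf_def (u v : Fin 5 → F4) : bf u v =
    u 0 * cj (v 4) + u 4 * cj (v 0) + u 1 * cj (v 3) + u 3 * cj (v 1) + u 2 * cj (v 2) := rfl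

theorem bf_add_left (u v w : Fin 5 → F4) : bf (u + v) w = bf u w + bf v w := by
  simp only [bf_def, Pi.add_apply]; ring

theorem bf_smul_left (c : F4) (v w : Fin 5 → F4) : bf (c • v) w = c * bf v w := by
  simp only [bf_def, Pi.smul_apply, smul_eq_mul]; ring

theorem bf_add_right (u v w : Fin 5 → F4) : bf u (v + w) = bf u v + bf u w := by
  simp only [bf_def, Pi.add_apply, cj_add]; ring

theorem bf_smul_right (c : F4) (v w : Fin 5 → F4) : bf v (c • w) = cj c * bf v w := by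
  simp only [bf_def, Pi.smul_apply, smul_eq_mul, cj_mul]; ring

theorem cj_bf (u v : Fin 5 → F4) : cj (bf u v) = bf v u := by
  simp only [bf_def, cj_add, cj_mul, cj_cj]; ring

theorem col (A : Matrix (Fin 5) (Fin 5) F4) (i : Fin 5) : A *ᵥ e i = fun k => A k i := by
  ext k
  simp [e]

theorem bf_e0 (v : Fin 5 → F4) : bf v (e 0) = v 4 := by
  simp [bf_def, e, cj_zero, cj_one]
theorem bf_e1 (v : Fin 5 → F4) : bf v (e 1) = v 3 := by
  simp [bf_def, e, cj_zero, cj_one]
theorem bf_e2 (v : Fin 5 → F4) : bf v (e 2) = v 2 := by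
  simp [bf_def, e, cj_zero, cj_one]
theorem bf_e3 (v : Fin 5 → F4) : bf v (e 3) = v 1 := by
  simp [bf_def, e, cj_zero, cj_one]
theorem bf_e4 (v : Fin 5 → F4) : bf v (e 4) = v 0 := by
  simp [bf_def, e, cj_zero, cj_one]

theorem mt_ext {a b : MU} (h : ∀ i, mt a *ᵥ e i = mt b *ᵥ e i) : a = b := by
  apply mt_inj
  ext i j
  have h1 := congrFun (h j) i
  rw [col, col] at h1
  exact h1

/-! ### Transvections -/

/-- The transvection with centre `v`. -/
def tv (v : Fin 5 → F4) : Matrix (Fin 5) (Fin 5) F4 :=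
  Matrix.of fun i j => (if i = j then 1 else 0) + v i * cj (v (Fin.rev j))

theorem tv_mulVec (v x : Fin 5 → F4) : tv v *ᵥ x = x + bf x v • v := by
  ext i
  simp only [Matrix.mulVec, dotProduct, Fin.sum_univ_five, tv, Matrix.of_apply, Pi.add_apply,
    Pi.smul_apply, smul_eq_mul, bf_def]
  have h0 : Fin.rev (0 : Fin 5) = 4 := rfl
  have h1 : Fin.rev (1 : Fin 5) = 3 := rfl
  have h2 : Fin.rev (2 : Fin 5) = 2 := rfl
  have h3 : Fin.rev (3 : Fin 5) = 1 := rfl
  have h4 : Fin.rev (4 : Fin 5) = 0 := rfl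
  rw [h0, h1, h2, h3, h4]
  fin_cases i <;> simp <;> ring

theorem tv_conj (a : MU) (v : Fin 5 → F4) : mt a * tv v = tv (mt a *ᵥ v) * mt a := by
  ext i j
  have h : (mt a * tv v) *ᵥ e j = (tv (mt a *ᵥ v) * mt a) *ᵥ e j := by
    rw [← Matrix.mulVec_mulVec, ← Matrix.mulVec_mulVec, tv_mulVec, tv_mulVec, mt_bf,
      Matrix.mulVec_add, Matrix.mulVec_smul]
  have h1 := congrFun h i
  rw [col, col] at h1
  exact h1

theorem nrm {c : F4} (hc : c ≠ 0) : c * cj c = 1 := by revert c; decide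

theorem tv_smul {c : F4} (hc : c ≠ 0) (v : Fin 5 → F4) : tv (c • v) = tv v := by
  ext i j
  simp only [tv, Matrix.of_apply, Pi.smul_apply, smul_eq_mul, cj_mul]
  have := nrm hc
  linear_combination (v i * cj (v (Fin.rev j))) * this

/-- The vectors of the five points of the line. -/
def vv : Fin 5 → (Fin 5 → F4) :=
  ![![1, 0, 0, 0, 0], ![0, 1, 0, 0, 0], ![1, 1, 0, 0, 0], ![1, F4.v, 0, 0, 0], ![1, F4.w, 0, 0, 0]]

/-- The five transvections. -/
def r (i : Fin 5) : MU := em (M0.d i)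

theorem mt_r (i : Fin 5) : mt (r i) = tv (vv i) := by
  revert i
  decide +kernel

theorem conj_r_iff (a : MU) (i j : Fin 5) :
    a * r i * a⁻¹ = r j ↔ tv (mt a *ᵥ vv i) = tv (vv j) := by
  rw [mul_inv_eq_iff_eq_mul]
  constructor
  · intro h
    have h1 := congrArg mt h
    rw [mt_mul, mt_mul, mt_r, mt_r, tv_conj] at h1
    have h2 : mt a * mt a⁻¹ = 1 := by rw [← mt_mul, mul_inv_cancel, mt_one]
    calc tv (mt a *ᵥ vv i) = tv (mt a *ᵥ vv i) * mt a * mt a⁻¹ := by
          rw [Matrix.mul_assoc, h2, Matrix.mul_one]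
      _ = _ := by rw [h1, Matrix.mul_assoc, h2, Matrix.mul_one]
  · intro h
    apply mt_inj
    rw [mt_mul, mt_mul, mt_r, mt_r, tv_conj, h]

end Cfsg.Agent.UFiveTwo.Model
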