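import Cfsg.Agent.UFiveTwo.ModelAlt
import Cfsg.Agent.SylowU5.Elem

/-!
# `PSU₅(2)`: facts on `U`
-/

set_option autoImplicit false
set_option maxRecDepth 100000

open Cfsg

namespace Cfsg.Agent.UFiveTwo.Model

open Matrix Cfsg.Agent.Lib.FieldFour
open Cfsg.Agent.SylowU5.Model Cfsg.Agent.SylowU5.Basic Cfsg.Agent.SylowU5

theorem clos : Subgroup.closure (Set.range r) = M0.E.map em := (Elem.E_eq_closure hT).symm

theorem hT_d (i : Fin 5) : hT.d i = r i := rfl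

theorem r_sq (i : Fin 5) : r i * r i = 1 := Elem.d_sq hT i
theorem r_comm (i j : Fin 5) : r i * r j = r j * r i := Elem.d_comm hT i j
theorem r_prod : r 0 * r 1 * r 2 * r 3 * r 4 = 1 := hT.d_prod
theorem r_ne (i : Fin 5) : r i ≠ 1 := hT.d_ne_one i
theorem U_le_T : U ≤ T := hT.V_le
theorem Q_le_T : Q ≤ T := hT.Q_le
theorem r_U (i : Fin 5) : r i ∈ U := hT.E_le (hT.d_mem i)
theorem r_mem_clos (i : Fin 5) : r i ∈ Subgroup.closure (Set.range r) := Subgroup.subset_closure ⟨i, rfl⟩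
theorem clos_le : Subgroup.closure (Set.range r) ≤ U := (Subgroup.closure_le _).2 (by
  rintro _ ⟨i, rfl⟩; exact r_U i)
theorem U_clos {u : MU} (hu : u ∈ U) {v : MU} (hv : v ∈ Subgroup.closure (Set.range r)) :
    u * v = v * u := (hT.mem_V_iff u (U_le_T hu)).1 hu v (by
      have h := Elem.E_eq_closure hT
      rw [h]; exact hv)
theorem U_r {u : MU} (hu : u ∈ U) (i : Fin 5) : u * r i = r i * u := U_clos hu (r_mem_clos i)
theorem U_one {u : MU} (hu : u ∈ U) (h1 : u * u = 1) : u ∈ Subgroup.closure (Set.range r) := by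
  have h := hT.V_invol u hu h1
  rw [Elem.E_eq_closure hT] at h
  exact h
theorem U_sq {u : MU} (hu : u ∈ U) : u * u = 1 ∨ ∃ i, u * u = r i := by
  by_cases h : u ∈ hT.E
  · exact Or.inl (hT.E_sq u h)
  · exact Or.inr (hT.V_sq u hu h)
theorem U_exists (i : Fin 5) : ∃ u ∈ U, u * u = r i := hT.V_sq_ex i

/-! ### The element `h` -/

theorem mt_h : mt h = lm F4.w 0 0 F4.w F4.v := rfl

theorem h_pow : h ^ 3 = 1 := by
  have h1 : h ^ 3 = h * h * h := by rw [pow_succ, pow_two]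
  rw [h1]
  apply mt_inj
  rw [mt_mul, mt_mul, mt_h, mt_one]
  decide +kernel

theorem h_ne : h ≠ 1 := by
  intro h1
  have h2 := congrFun (congrFun (congrArg mt h1) 0) 0
  rw [mt_h, mt_one] at h2
  revert h2
  decide

theorem h_vec (x y : F4) : mt h *ᵥ (x • e 0 + y • e 1) = F4.w • (x • e 0 + y • e 1) := by
  rw [mt_h, Matrix.mulVec_add, Matrix.mulVec_smul, Matrix.mulVec_smul, col, col]
  ext i
  fin_cases i <;> simp [lm] <;> ring

theorem h_e2 : mt h *ᵥ e 2 = F4.v • e 2 := by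
  rw [mt_h, col]
  ext i
  fin_cases i <;> simp [lm]

theorem h_r (i : Fin 5) : h * r i = r i * h := by
  have h1 : h * r i * h⁻¹ = r i := by
    rw [conj_r_iff, vv_eq i, h_vec, tv_smul (by decide)]
  exact mul_inv_eq_iff_eq_mul.1 h1

theorem h_lvS (g : SL2) : h * lvS g = lvS g * h := by
  apply mt_inj
  rw [mt_mul, mt_mul, mt_h, mt_lvS]
  ext i j
  rw [Matrix.mul_apply, Matrix.mul_apply, Fin.sum_univ_five, Fin.sum_univ_five]
  fin_cases i <;> fin_cases j <;> simp [lm, cj_zero, mul_comm, mul_left_comm]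

theorem h_l (σ : alternatingGroup (Fin 5)) : h * l σ = l σ * h := h_lvS _

theorem LV_h : LV h := by
  have h1 := h_vec 1 0
  have h2 := h_vec 0 1
  refine ⟨⟨F4.w, 0, ?_⟩, ⟨0, F4.w, ?_⟩⟩
  · simpa using h1
  · simpa using h2

theorem LV_inv_of {a : MU} (h : LV a) (n : ℕ) (ha : a ^ (n + 1) = 1) : LV a⁻¹ := by
  have hmul : ∀ {a b : MU}, LV a → LV b → LV (a * b) := by
    rintro a b ⟨⟨c, d, h1⟩, ⟨c', d', h2⟩⟩ ⟨⟨s, t, h3⟩, ⟨s', t', h4⟩⟩
    constructor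
    · refine ⟨s * c + t * c', s * d + t * d', ?_⟩
      rw [mt_mul, ← Matrix.mulVec_mulVec, h3, Matrix.mulVec_add, Matrix.mulVec_smul,
        Matrix.mulVec_smul, h1, h2]
      ext i
      simp only [Pi.add_apply, Pi.smul_apply, smul_eq_mul]
      ring
    · refine ⟨s' * c + t' * c', s' * d + t' * d', ?_⟩
      rw [mt_mul, ← Matrix.mulVec_mulVec, h4, Matrix.mulVec_add, Matrix.mulVec_smul,
        Matrix.mulVec_smul, h1, h2]
      ext i
      simp only [Pi.add_apply, Pi.smul_apply, smul_eq_mul]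
      ring
  have h1 : a⁻¹ = a ^ n := by
    rw [pow_succ] at ha
    exact (eq_inv_of_mul_eq_one_left ha).symm
  rw [h1]
  clear h1 ha
  induction n with
  | zero =>
    rw [pow_zero]
    refine ⟨⟨1, 0, ?_⟩, ⟨0, 1, ?_⟩⟩
    · rw [mt_one, Matrix.one_mulVec]; simp
    · rw [mt_one, Matrix.one_mulVec]; simp
  | succ n ih => rw [pow_succ]; exact hmul ih h

theorem LV_inv {a : MU} (h : LV a) : LV a⁻¹ := by
  have h1 := orderOf_pos a
  refine LV_inv_of h (orderOf a - 1) ?_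
  rw [Nat.sub_add_cancel h1, pow_orderOf_eq_one]

theorem U_conj {a : MU} (ha : LV a) {u : MU} (hu : u ∈ U) : a * u * a⁻¹ ∈ U :=
  (mem_U_iff _).2 (UV.conj ha (LV_inv ha) ((mem_U_iff _).1 hu))

theorem LV_lvS (g : SL2) : LV (lvS g) := by
  have h1 := lvS_vec g 1 0
  have h2 := lvS_vec g 0 1
  refine ⟨⟨g.1 0 0, g.1 1 0, ?_⟩, ⟨g.1 0 1, g.1 1 1, ?_⟩⟩
  · simpa using h1
  · simpa using h2

/-! ### Coordinates on `U` -/

/-- The coordinates of an element of `U`. -/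
def UD (u : MU) (p q : F4) : Prop := u ∈ U ∧ mt u *ᵥ e 2 = e 2 + p • e 0 + q • e 1

theorem exists_UD {u : MU} (hu : u ∈ U) : ∃ p q, UD u p q := by
  obtain ⟨p, q, h⟩ := ((mem_U_iff u).1 hu).2.2 (e 2) (by simp) (by simp)
  exact ⟨p, q, hu, h⟩

theorem UD.mul {u u' : MU} {p q p' q' : F4} (h : UD u p q) (h' : UD u' p' q') :
    UD (u * u') (p + p') (q + q') := by
  refine ⟨mul_mem h.1 h'.1, ?_⟩
  have h1 := (mem_U_iff u).1 h.1
  rw [mt_mul, ← Matrix.mulVec_mulVec, h'.2, Matrix.mulVec_add, Matrix.mulVec_add,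
    Matrix.mulVec_smul, Matrix.mulVec_smul, h1.1, h1.2.1, h.2]
  ext i
  simp only [Pi.add_apply, Pi.smul_apply, smul_eq_mul]
  ring

theorem UD.uniq {u : MU} {p q p' q' : F4} (h : UD u p q) (h' : UD u p' q') : p = p' ∧ q = q' := by
  have h1 := h.2
  rw [h'.2] at h1
  have h2 := congrFun h1 0
  have h3 := congrFun h1 1
  simp at h2 h3
  exact ⟨h2.symm, h3.symm⟩

theorem UD_one : UD 1 0 0 := ⟨one_mem _, by rw [mt_one, Matrix.one_mulVec]; simp⟩

theorem UD.inv {u : MU} {p q : F4} (h : UD u p q) : UD u⁻¹ p q := by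
  obtain ⟨p', q', h'⟩ := exists_UD (inv_mem h.1)
  have h1 := h.mul h'
  rw [mul_inv_cancel] at h1
  obtain ⟨h2, h3⟩ := h1.uniq UD_one
  have h4 := add_eq_zero' h2
  have h5 := add_eq_zero' h3
  rw [h4, h5] at h'
  exact h'

theorem chk_E : allB (fun n => imp (beqF (dec n).l F4.o && (beqF (dec n).p F4.o && beqF (dec n).q F4.o))
    (fE n)) 1024 = true := by decide +kernel

theorem UD.mem_clos {u : MU} (h : UD u 0 0) : u ∈ Subgroup.closure (Set.range r) := by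
  obtain ⟨x, hx, rfl⟩ := h.1
  obtain ⟨y, hy, h1, h2, h3⟩ := exists_em (a := em x) (l := 0) ((mem_U_iff _).1 h.1).1
    (by rw [((mem_U_iff _).1 h.1).2.1, zero_smul, add_zero]) h.2
  have hyx : y = x := em_injective hy
  subst hyx
  rw [clos]
  refine ⟨y, ?_, rfl⟩
  have h4 := (allB_iff _ _).1 chk_E y.n y.lt
  rw [imp_iff] at h4
  apply h4
  rw [Bool.and_eq_true, Bool.and_eq_true, beqF_iff, beqF_iff, beqF_iff]
  exact ⟨h1, h2, h3⟩

theorem UD.conj_h {u : MU} {p q : F4} (hu : UD u p q) : UD (h * u * h⁻¹) (F4.v * p) (F4.v * q) := by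
  refine ⟨U_conj LV_h hu.1, ?_⟩
  have h1 : mt h⁻¹ *ᵥ e 2 = F4.w • e 2 := by
    have h2 := mt_inv_mulVec h (e 2)
    rw [h_e2, Matrix.mulVec_smul] at h2
    have h3 : F4.w • (F4.v • (mt h⁻¹ *ᵥ e 2)) = F4.w • e 2 := by rw [h2]
    rw [smul_smul] at h3
    have h4 : F4.w * F4.v = 1 := rfl
    rwa [h4, one_smul] at h3
  have key : mt (h * u * h⁻¹) *ᵥ e 2 = mt h *ᵥ (mt u *ᵥ (mt h⁻¹ *ᵥ e 2)) := by
    rw [Matrix.mulVec_mulVec, Matrix.mulVec_mulVec, ← mt_mul, ← mt_mul]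
  rw [key, h1, Matrix.mulVec_smul, hu.2, Matrix.mulVec_smul, add_assoc, Matrix.mulVec_add, h_e2, h_vec]
  have h5 : F4.w * F4.v = 1 := rfl
  have h6 : F4.w * F4.w = F4.v := rfl
  rw [smul_add, smul_smul, smul_smul, h5, h6, one_smul, smul_add, smul_smul, smul_smul, ← add_assoc]

theorem UD.conj_pow {u : MU} {p q : F4} (hu : UD u p q) (k : ℕ) :
    UD (h ^ k * u * (h ^ k)⁻¹) (F4.v ^ k * p) (F4.v ^ k * q) := by
  induction k with
  | zero => simpa using hu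
  | succ k ih =>
    have h1 := ih.conj_h
    have h2 : h ^ (k + 1) * u * (h ^ (k + 1))⁻¹ = h * (h ^ k * u * (h ^ k)⁻¹) * h⁻¹ := by
      rw [pow_succ']; group
    rw [h2, pow_succ' F4.v k, mul_assoc F4.v, mul_assoc F4.v]
    exact h1

theorem chk_line : ∀ p q p' q' : F4, p * cj p = p' * cj p' → p * cj q = p' * cj q' → q * cj q = q' * cj q' →
    (p = 0 ∧ q = 0) ∨ (p' = p ∧ q' = q) ∨ (p' = F4.v * p ∧ q' = F4.v * q) ∨
      (p' = F4.v * (F4.v * p) ∧ q' = F4.v * (F4.v * q)) := by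
  decide +kernel

theorem chk_line' {p q p' q' : F4} (h1 : p * cj p = p' * cj p') (h2 : p * cj q = p' * cj q')
    (h3 : q * cj q = q' * cj q') :
    (p = 0 ∧ q = 0) ∨ ∃ k : ℕ, p' = F4.v ^ k * p ∧ q' = F4.v ^ k * q := by
  rcases chk_line p q p' q' h1 h2 h3 with h | h | h | h
  · exact Or.inl h
  · exact Or.inr ⟨0, by rw [pow_zero, one_mul]; exact h.1, by rw [pow_zero, one_mul]; exact h.2⟩
  · exact Or.inr ⟨1, by rw [pow_one]; exact h.1, by rw [pow_one]; exact h.2⟩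
  · exact Or.inr ⟨2, by rw [pow_two, mul_assoc]; exact h.1, by rw [pow_two, mul_assoc]; exact h.2⟩

theorem raw_sq {x : M0} (hx : (dec x.n).l = 0) : (dec (x * x).n).a = (dec x.n).p * cj (dec x.n).p ∧
    (dec (x * x).n).b = (dec x.n).p * cj (dec x.n).q ∧
    (dec (x * x).n).d = (dec x.n).q * cj (dec x.n).q := by
  rw [M0.dec_mul, Raw.mul_def]
  simp only [Raw.mul, hx, cj_zero, zero_mul, add_zero]
  refine ⟨?_, ?_, ?_⟩
  · rw [add_self', zero_add]
  · rw [add_self', zero_add]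
  · rw [add_self', zero_add]

theorem U_line {u u' : MU} (hu : u ∈ U) (hu' : u' ∈ U) (h1 : u * u = u' * u') (h2 : u * u ≠ 1) :
    ∃ k : ℕ, ∃ v ∈ Subgroup.closure (Set.range r), u' = h ^ k * u * (h ^ k)⁻¹ * v := by
  obtain ⟨p, q, hd⟩ := exists_UD hu
  obtain ⟨p', q', hd'⟩ := exists_UD hu'
  obtain ⟨x, hx, l1, l2, l3⟩ := exists_em (a := u) (l := 0) ((mem_U_iff _).1 hu).1
    (by rw [((mem_U_iff _).1 hu).2.1, zero_smul, add_zero]) hd.2
  obtain ⟨y, hy, m1, m2, m3⟩ := exists_em (a := u') (l := 0) ((mem_U_iff _).1 hu').1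
    (by rw [((mem_U_iff _).1 hu').2.1, zero_smul, add_zero]) hd'.2
  subst hx
  subst hy
  rw [← map_mul, ← map_mul] at h1
  have h3 := em_injective h1
  obtain ⟨a1, a2, a3⟩ := raw_sq l1
  obtain ⟨b1, b2, b3⟩ := raw_sq m1
  rw [← h3, l2, m2] at *
  rw [l3] at a2 a3
  rw [m3] at b2 b3
  rcases chk_line' (a1.symm.trans b1) (a2.symm.trans b2) (a3.symm.trans b3) with
    ⟨h4, h5⟩ | ⟨k, h4, h5⟩
  · exfalso
    apply h2
    rw [h4, h5] at hd
    have h6 := hd.mem_clos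
    rw [clos] at h6
    exact hT.E_sq _ h6
  · refine ⟨k, (h ^ k * em x * (h ^ k)⁻¹)⁻¹ * em y, ?_, by group⟩
    apply UD.mem_clos
    have h6 := (hd.conj_pow k).inv.mul hd'
    rw [h4, h5, add_self', add_self'] at h6
    exact h6

theorem U_fix {u : MU} (hu : u ∈ U) (h1 : h * u = u * h) : u ∈ Subgroup.closure (Set.range r) := by
  obtain ⟨p, q, hd⟩ := exists_UD hu
  have h2 := hd.conj_h
  have h3 : h * u * h⁻¹ = u := by rw [h1]; group
  rw [h3] at h2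
  obtain ⟨h4, h5⟩ := hd.uniq h2
  have h6 : ∀ x : F4, x = F4.v * x → x = 0 := by decide
  rw [h6 p h4, h6 q h5] at hd
  exact hd.mem_clos

theorem U_comm {u : MU} (hu : u ∈ U) : ∃ u' ∈ U, ∃ v ∈ Subgroup.closure (Set.range r),
    u = u'⁻¹ * (h * u' * h⁻¹) * v := by
  obtain ⟨p, q, hd⟩ := exists_UD hu
  have h1 := hd.conj_h
  have h2 := h1.conj_h
  refine ⟨h * u * h⁻¹, h1.1, (((h * u * h⁻¹)⁻¹ * (h * (h * u * h⁻¹) * h⁻¹)))⁻¹ * u, ?_, by group⟩
  apply UD.mem_clos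
  have h3 := (h1.inv.mul h2).inv.mul hd
  have h4 : ∀ x : F4, F4.v * x + F4.v * (F4.v * x) + x = 0 := by decide
  rw [h4, h4] at h3
  exact h3

end Cfsg.Agent.UFiveTwo.Model
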