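import Cfsg.Agent.UFiveTwo.VFacts

/-!
# S1778, type `U₅(2)`: a fusing element commuting with `h`

If `x` commutes with `V` and `x t x⁻¹ = t v ≠ t` then some `g` commuting with `V` and `h` has `g t g⁻¹ = t v' ≠ t`.
-/

set_option autoImplicit false
set_option linter.unusedSectionVars false

namespace Cfsg.Agent.UFiveTwo.Mover

open Subgroup

universe u

variable {X : Type u} [Group X] {A : Subgroup X} (F : Flag A) {t : X}

theorem hpow_U (j : ℕ) {u : X} (hu : u ∈ F.U) : F.h ^ j * u * (F.h ^ j)⁻¹ ∈ F.U := by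
  induction j generalizing u with
  | zero => simpa using hu
  | succ m ih =>
    have h3 : F.h ^ (m + 1) * u * (F.h ^ (m + 1))⁻¹ = F.h * (F.h ^ m * u * (F.h ^ m)⁻¹) * F.h⁻¹ := by
      rw [pow_succ']; group
    rw [h3]; exact F.U_h _ (ih hu)

/-- 2-elements of `U⟨h⟩` lie in `U`. -/
theorem two_mem {u : X} (hu : u ∈ F.U) {j k : ℕ} (hk : (u * F.h ^ j) ^ 2 ^ k = 1) : F.h ^ j = 1 := by
  have key : ∀ n : ℕ, ∃ u' ∈ F.U, (u * F.h ^ j) ^ n = u' * F.h ^ (j * n) := by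
    intro n
    induction n with
    | zero => exact ⟨1, one_mem _, by simp⟩
    | succ n ih =>
      obtain ⟨u', hu', h1⟩ := ih
      refine ⟨u' * (F.h ^ (j * n) * u * (F.h ^ (j * n))⁻¹), mul_mem hu' (hpow_U F _ hu), ?_⟩
      rw [pow_succ, h1, mul_add, mul_one, pow_add]; group
  obtain ⟨u', hu', h1⟩ := key (2 ^ k)
  rw [hk] at h1
  have h2 : F.h ^ (j * 2 ^ k) ∈ F.U := by
    have : F.h ^ (j * 2 ^ k) = u'⁻¹ := eq_inv_of_mul_eq_one_right h1.symm
    rw [this]; exact inv_mem hu'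
  have h3 : F.h ^ (j * 2 ^ k) = 1 := by
    have hl : (F.h ^ (j * 2 ^ k)) ^ 2 ^ 8 = 1 := by
      rw [← F.card_U]
      have h4 : (⟨_, h2⟩ : F.U) ^ Nat.card F.U = 1 := pow_card_eq_one'
      exact congrArg Subtype.val h4
    have h4 : (F.h ^ (j * 2 ^ k)) ^ 3 = 1 := by rw [← pow_mul, mul_comm, pow_mul, F.h_pow, one_pow]
    rw [← orderOf_eq_one_iff]
    exact Nat.eq_one_of_dvd_coprimes (by norm_num) (orderOf_dvd_of_pow_eq_one hl) (orderOf_dvd_of_pow_eq_one h4)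
  rw [← orderOf_eq_one_iff]
  have h5 : orderOf (F.h ^ j) ∣ 2 ^ k := orderOf_dvd_of_pow_eq_one (by rw [← pow_mul]; exact h3)
  have h6 : orderOf (F.h ^ j) ∣ 3 := orderOf_dvd_of_pow_eq_one (by rw [← pow_mul, mul_comm, pow_mul, F.h_pow, one_pow])
  exact Nat.eq_one_of_dvd_coprimes (Nat.Coprime.pow_left k (by norm_num)) h5 h6

variable (tt : t * t = 1) (tA : ∀ a ∈ A, t * a = a * t) (tnA : t ∉ A)
variable (cV : ∀ g : X, g * t = t * g → (∀ i, g * F.r i = F.r i * g) →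
  ∃ e, (e = 1 ∨ e = t) ∧ ∃ u ∈ F.U, ∃ j : ℕ, g = e * u * F.h ^ j)

include tt tA tnA cV

/-- **The mover.** -/
theorem exists_mover {x v : X} (hx : ∀ i, x * F.r i = F.r i * x) (hv : v ∈ F.V) (hv1 : v ≠ 1)
    (hxt : x * t * x⁻¹ = t * v) :
    ∃ g : X, g * F.h = F.h * g ∧ (∀ i, g * F.r i = F.r i * g) ∧
      ∃ v ∈ closure (Set.range F.r), v ≠ 1 ∧ g * t * g⁻¹ = t * v := by
  have hvv := F.V_sq hv
  have hxV : ∀ w ∈ F.V, x * w = w * x := fun w hw => F.comm_V hx hw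
  have htV : ∀ w ∈ F.V, t * w = w * t := fun w hw => tA w (F.V_le hw)
  -- `x⁻¹ t x = t v`
  have hxt' : x⁻¹ * t * x = t * v := by
    have h1 : t = x⁻¹ * t * x * v := by
      calc t = x⁻¹ * (x * t * x⁻¹) * x := by group
        _ = x⁻¹ * (t * v) * x := by rw [hxt]
        _ = x⁻¹ * t * (v * x) := by group
        _ = x⁻¹ * t * (x * v) := by rw [hxV v hv]
        _ = x⁻¹ * t * x * v := by group
    calc x⁻¹ * t * x = x⁻¹ * t * x * (v * v) := by rw [hvv, mul_one]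
      _ = (x⁻¹ * t * x * v) * v := by group
      _ = t * v := by rw [← h1]
  -- conjugates by `x` of elements commuting with `t` and `V`
  have hcx : ∀ y : X, y * t = t * y → (∀ i, y * F.r i = F.r i * y) →
      (x * y * x⁻¹) * t = t * (x * y * x⁻¹) ∧ ∀ i, (x * y * x⁻¹) * F.r i = F.r i * (x * y * x⁻¹) := by
    intro y hyt hyr
    have hyV : y * v = v * y := F.comm_V hyr hv
    constructor
    · have h1 : t = x * (t * v) * x⁻¹ := by rw [← hxt']; group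
      calc x * y * x⁻¹ * t = x * y * x⁻¹ * (x * (t * v) * x⁻¹) := by rw [← h1]
        _ = x * ((y * t) * v) * x⁻¹ := by group
        _ = x * (t * (y * v)) * x⁻¹ := by rw [hyt]; group
        _ = x * (t * v) * x⁻¹ * (x * y * x⁻¹) := by rw [hyV]; group
        _ = t * (x * y * x⁻¹) := by rw [← h1]
    · intro i
      have h1 := hx i
      have h2 : x⁻¹ * F.r i = F.r i * x⁻¹ := by
        calc x⁻¹ * F.r i = x⁻¹ * (F.r i * x) * x⁻¹ := by group
          _ = x⁻¹ * (x * F.r i) * x⁻¹ := by rw [h1]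
          _ = F.r i * x⁻¹ := by group
      calc x * y * x⁻¹ * F.r i = x * (y * (x⁻¹ * F.r i)) := by group
        _ = x * (y * F.r i) * x⁻¹ := by rw [h2]; group
        _ = (x * F.r i) * y * x⁻¹ := by rw [hyr]; group
        _ = F.r i * (x * y * x⁻¹) := by rw [h1]; group
  have hcx' : ∀ y : X, y * t = t * y → (∀ i, y * F.r i = F.r i * y) →
      (x⁻¹ * y * x) * t = t * (x⁻¹ * y * x) ∧ ∀ i, (x⁻¹ * y * x) * F.r i = F.r i * (x⁻¹ * y * x) := by
    intro y hyt hyr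
    have hyV : y * v = v * y := F.comm_V hyr hv
    constructor
    · have h1 : t = x⁻¹ * (t * v) * x := by rw [← hxt]; group
      calc x⁻¹ * y * x * t = x⁻¹ * y * x * (x⁻¹ * (t * v) * x) := by rw [← h1]
        _ = x⁻¹ * ((y * t) * v) * x := by group
        _ = x⁻¹ * (t * (y * v)) * x := by rw [hyt]; group
        _ = x⁻¹ * (t * v) * x * (x⁻¹ * y * x) := by rw [hyV]; group
        _ = t * (x⁻¹ * y * x) := by rw [← h1]
    · intro i
      have h1 := hx i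
      have h2 : x⁻¹ * F.r i = F.r i * x⁻¹ := by
        calc x⁻¹ * F.r i = x⁻¹ * (F.r i * x) * x⁻¹ := by group
          _ = x⁻¹ * (x * F.r i) * x⁻¹ := by rw [h1]
          _ = F.r i * x⁻¹ := by group
      calc x⁻¹ * y * x * F.r i = x⁻¹ * y * (x * F.r i) := by group
        _ = x⁻¹ * (y * F.r i) * x := by rw [h1]; group
        _ = (x⁻¹ * F.r i) * y * x := by rw [hyr]; group
        _ = F.r i * (x⁻¹ * y * x) := by rw [h2]; group
  have hht : F.h * t = t * F.h := (tA _ F.h_mem).symm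
  -- choose `σ` moving `v`
  obtain ⟨σ, hσ⟩ := F.exists_moved hv hv1
  set l := F.l σ with hl
  have hlA : l ∈ A := F.l_mem σ
  have hlt : l * t = t * l := (tA _ hlA).symm
  have hlt' : l⁻¹ * t = t * l⁻¹ := (tA _ (inv_mem hlA)).symm
  have hlh : l * F.h = F.h * l := (F.h_l σ).symm
  have hlh' : l⁻¹ * F.h = F.h * l⁻¹ := by
    calc l⁻¹ * F.h = l⁻¹ * (F.h * l) * l⁻¹ := by group
      _ = l⁻¹ * (l * F.h) * l⁻¹ := by rw [hlh]
      _ = F.h * l⁻¹ := by group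
  have hlinv : l⁻¹ = F.l σ⁻¹ := by rw [hl, map_inv]
  have hlhj : ∀ j : ℕ, l⁻¹ * F.h ^ j = F.h ^ j * l⁻¹ := fun j => (Commute.pow_right hlh' j)
  have hlV : ∀ w ∈ F.V, l * w * l⁻¹ ∈ F.V := by
    intro w hw
    obtain ⟨s, rfl⟩ := F.exists_v hw
    rw [hl, F.l_v]; exact F.v_mem _
  have hlV' : ∀ w ∈ F.V, l⁻¹ * w * l ∈ F.V := by
    intro w hw
    obtain ⟨s, rfl⟩ := F.exists_v hw
    have : l⁻¹ * F.v s * l = F.l σ⁻¹ * F.v s * (F.l σ⁻¹)⁻¹ := by rw [← hlinv]; group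
    rw [this, F.l_v]; exact F.v_mem _
  have hlU : ∀ w ∈ F.U, l * w * l⁻¹ ∈ F.U := fun w hw => F.U_l w hw σ
  have hlU' : ∀ w ∈ F.U, l⁻¹ * w * l ∈ F.U := by
    intro w hw
    have h1 := F.U_l w hw σ⁻¹
    rw [← hlinv, inv_inv] at h1; exact h1
  set m := l * x * l⁻¹ * x⁻¹ with hm
  -- `m` commutes with `V`
  have hmr : ∀ w ∈ F.V, m * w = w * m := by
    intro w hw
    have h1 : x⁻¹ * w = w * x⁻¹ := by
      calc x⁻¹ * w = x⁻¹ * (w * x) * x⁻¹ := by group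
        _ = x⁻¹ * (x * w) * x⁻¹ := by rw [hxV w hw]
        _ = w * x⁻¹ := by group
    have h2 := hxV _ (hlV' w hw)
    calc m * w = l * x * l⁻¹ * (x⁻¹ * w) := by rw [hm]; group
      _ = l * (x * (l⁻¹ * w * l)) * l⁻¹ * x⁻¹ := by rw [h1]; group
      _ = l * (l⁻¹ * w * l * x) * l⁻¹ * x⁻¹ := by rw [h2]
      _ = w * m := by rw [hm]; group
  -- `m t m⁻¹`
  have hmt : m * t * m⁻¹ = t * (l * v * l⁻¹ * v) := by
    have hlv := hlV' v hv
    have h1 : x * (t * (l⁻¹ * v * l)) * x⁻¹ = t * v * (l⁻¹ * v * l) := by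
      calc x * (t * (l⁻¹ * v * l)) * x⁻¹ = x * t * ((l⁻¹ * v * l) * x⁻¹) := by group
        _ = x * t * (x⁻¹ * (x * (l⁻¹ * v * l)) * x⁻¹) := by group
        _ = x * t * (x⁻¹ * (l⁻¹ * v * l * x) * x⁻¹) := by rw [hxV _ hlv]
        _ = (x * t * x⁻¹) * (l⁻¹ * v * l) := by group
        _ = t * v * (l⁻¹ * v * l) := by rw [hxt]
    calc m * t * m⁻¹ = l * x * (l⁻¹ * (x⁻¹ * t * x) * l) * x⁻¹ * l⁻¹ := by rw [hm]; group
      _ = l * x * ((l⁻¹ * t) * v * l) * x⁻¹ * l⁻¹ := by rw [hxt']; group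
      _ = l * (x * (t * (l⁻¹ * v * l)) * x⁻¹) * l⁻¹ := by rw [hlt']; group
      _ = (l * t) * v * (l⁻¹ * v * l) * l⁻¹ := by rw [h1]; group
      _ = t * (l * v * l⁻¹ * v) := by rw [hlt]; group
  -- `m h m⁻¹ ∈ ⟨t⟩ U h`
  obtain ⟨e, he, u, hu, hmh⟩ : ∃ e, (e = 1 ∨ e = t) ∧ ∃ u ∈ F.U, m * F.h * m⁻¹ = e * u * F.h := by
    obtain ⟨c1, c2⟩ := hcx' F.h hht F.h_r
    obtain ⟨e1, he1, u1, hu1, j1, h1⟩ := cV _ c1 c2
    have e1A : ∀ a ∈ A, e1 * a = a * e1 := by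
      intro a ha
      rcases he1 with h | h
      · rw [h, one_mul, mul_one]
      · rw [h]; exact tA a ha
    set u2 := l⁻¹ * u1 * l * u1⁻¹ with hu2
    have hu2U : u2 ∈ F.U := mul_mem (hlU' u1 hu1) (inv_mem hu1)
    have e1l : l⁻¹ * e1 = e1 * l⁻¹ := (e1A _ (inv_mem hlA)).symm
    have h2 : l⁻¹ * (e1 * u1 * F.h ^ j1) * l = u2 * (e1 * u1 * F.h ^ j1) := by
      have h3 := e1A _ (F.U_le hu2U)
      calc l⁻¹ * (e1 * u1 * F.h ^ j1) * l = (l⁻¹ * e1) * u1 * F.h ^ j1 * l := by group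
        _ = e1 * (l⁻¹ * u1) * (F.h ^ j1 * l⁻¹⁻¹) := by rw [e1l]; group
        _ = e1 * (l⁻¹ * u1) * (l⁻¹⁻¹ * (l⁻¹ * F.h ^ j1) * l⁻¹⁻¹) := by group
        _ = e1 * (l⁻¹ * u1) * (l⁻¹⁻¹ * (F.h ^ j1 * l⁻¹) * l⁻¹⁻¹) := by rw [hlhj]
        _ = (e1 * u2) * u1 * F.h ^ j1 := by rw [hu2]; group
        _ = u2 * (e1 * u1 * F.h ^ j1) := by rw [h3]; group
    -- conjugate `u2` by `x`
    have hu2t : u2 * t = t * u2 := (tA _ (F.U_le hu2U)).symm
    obtain ⟨d1, d2⟩ := hcx u2 hu2t (F.U_r u2 hu2U)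
    obtain ⟨e3, he3, u3, hu3, j3, h3⟩ := cV _ d1 d2
    have e3A : ∀ a ∈ A, e3 * a = a * e3 := by
      intro a ha
      rcases he3 with h | h
      · rw [h, one_mul, mul_one]
      · rw [h]; exact tA a ha
    have e32 : e3 * e3 = 1 := by
      rcases he3 with h | h
      · rw [h, one_mul]
      · rw [h]; exact tt
    have hj3 : F.h ^ j3 = 1 := by
      apply two_mem F hu3 (k := 9)
      have h4 : (x * u2 * x⁻¹) ^ 2 ^ 9 = 1 := by
        have h5 : u2 ^ 2 ^ 8 = 1 := by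
          rw [← F.card_U]
          have h4 : (⟨_, hu2U⟩ : F.U) ^ Nat.card F.U = 1 := pow_card_eq_one'
          exact congrArg Subtype.val h4
        rw [conj_pow, pow_succ, pow_mul, h5, one_pow, mul_one, mul_inv_cancel]
      have h5 : Commute e3 (u3 * F.h ^ j3) := e3A _ (mul_mem (F.U_le hu3) (pow_mem F.h_mem j3))
      rw [h3, mul_assoc, h5.mul_pow] at h4
      have h6 : e3 ^ 2 ^ 9 = 1 := by
        rw [show (2 : ℕ) ^ 9 = 2 * 2 ^ 8 by norm_num, pow_mul, pow_two, e32, one_pow]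
      rwa [h6, one_mul] at h4
    rw [hj3, mul_one] at h3
    have e3l : l * e3 = e3 * l := (e3A _ hlA).symm
    refine ⟨e3, he3, l * u3 * l⁻¹, hlU u3 hu3, ?_⟩
    calc m * F.h * m⁻¹ = l * x * (l⁻¹ * (x⁻¹ * F.h * x) * l) * x⁻¹ * l⁻¹ := by rw [hm]; group
      _ = l * (x * (u2 * (x⁻¹ * F.h * x)) * x⁻¹) * l⁻¹ := by rw [h1, h2]; group
      _ = l * ((x * u2 * x⁻¹) * F.h) * l⁻¹ := by group
      _ = (l * e3) * u3 * (F.h * l⁻¹) := by rw [h3]; group
      _ = e3 * (l * u3) * (l⁻¹ * F.h) := by rw [e3l, hlh']; group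
      _ = e3 * (l * u3 * l⁻¹) * F.h := by group
  -- `(e u h)³ = 1`
  have hcube : (e * u * F.h) ^ 3 = 1 := by
    rw [← hmh, conj_pow, F.h_pow, mul_one, mul_inv_cancel]
  have huhA : u * F.h ∈ A := mul_mem (F.U_le hu) F.h_mem
  have he1 : e = 1 := by
    rcases he with h | h
    · exact h
    · exfalso
      apply tnA
      rw [h, mul_assoc] at hcube
      have h1 : Commute t (u * F.h) := tA _ huhA
      rw [h1.mul_pow] at hcube
      have h2 : t ^ 3 = t := by rw [pow_succ, pow_two, tt, one_mul]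
      rw [h2] at hcube
      rw [eq_inv_of_mul_eq_one_left hcube]
      exact inv_mem (pow_mem huhA 3)
  rw [he1, one_mul] at hcube hmh
  obtain ⟨u', hu', v', hv', huv⟩ := F.U_comm u hu
  have hv'V : v' ∈ F.V := hv'
  have h1 : u * F.h = u'⁻¹ * F.h * u' * v' := by
    have h2 := F.h_V hv'V
    calc u * F.h = u'⁻¹ * (F.h * u' * F.h⁻¹) * (v' * F.h) := by rw [huv]; group
      _ = u'⁻¹ * (F.h * u' * F.h⁻¹) * (F.h * v') := by rw [h2]
      _ = u'⁻¹ * F.h * u' * v' := by group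
  have hv'1 : v' = 1 := by
    have h2 : Commute (u'⁻¹ * F.h * u') v' := by
      have h3 := F.U_V hu' hv'V
      have h4 := F.h_V hv'V
      have h5 : u'⁻¹ * v' = v' * u'⁻¹ := F.U_V (inv_mem hu') hv'V
      show u'⁻¹ * F.h * u' * v' = v' * (u'⁻¹ * F.h * u')
      calc u'⁻¹ * F.h * u' * v' = u'⁻¹ * F.h * (u' * v') := by group
        _ = u'⁻¹ * (F.h * v') * u' := by rw [h3]; group
        _ = (u'⁻¹ * v') * F.h * u' := by rw [h4]; group
        _ = v' * (u'⁻¹ * F.h * u') := by rw [h5]; group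
    rw [h1, h2.mul_pow] at hcube
    have h3 : (u'⁻¹ * F.h * u') ^ 3 = 1 := by
      have : u'⁻¹ * F.h * u' = u'⁻¹ * F.h * u'⁻¹⁻¹ := by rw [inv_inv]
      rw [this, conj_pow, F.h_pow]; group
    rw [h3, one_mul, pow_succ, pow_two, F.V_sq hv'V, one_mul] at hcube
    exact hcube
  rw [hv'1, mul_one] at h1
  have hu't : u' * t = t * u' := (tA _ (F.U_le hu')).symm
  refine ⟨u' * m, ?_, ?_, l * v * l⁻¹ * v, mul_mem (hlV v hv) hv, ?_, ?_⟩
  · have h2 : m * F.h = u * F.h * m := by rw [← hmh]; group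
    calc u' * m * F.h = u' * (u * F.h * m) := by rw [mul_assoc, h2]
      _ = u' * (u'⁻¹ * F.h * u') * m := by rw [h1]; group
      _ = F.h * (u' * m) := by group
  · intro i
    have h2 := hmr _ (F.r_V i)
    have h3 := F.U_r u' hu' i
    calc u' * m * F.r i = u' * (F.r i * m) := by rw [mul_assoc, h2]
      _ = (u' * F.r i) * m := by group
      _ = F.r i * (u' * m) := by rw [h3]; group
  · intro h2
    apply hσ
    have h3 : l * v * l⁻¹ = v⁻¹ := eq_inv_of_mul_eq_one_left h2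
    rw [h3]; exact F.V_inv hv
  · have h3 : u' * (l * v * l⁻¹ * v) = l * v * l⁻¹ * v * u' := F.U_V hu' (mul_mem (hlV v hv) hv)
    calc u' * m * t * (u' * m)⁻¹ = u' * (m * t * m⁻¹) * u'⁻¹ := by group
      _ = (u' * t) * (l * v * l⁻¹ * v) * u'⁻¹ := by rw [hmt]; group
      _ = t * (u' * (l * v * l⁻¹ * v)) * u'⁻¹ := by rw [hu't]; group
      _ = t * (l * v * l⁻¹ * v) := by rw [h3]; group

end Cfsg.Agent.UFiveTwo.Mover
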