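import Cfsg.Agent.UFiveTwo.Env
import Mathlib.Tactic
import Mathlib.Combinatorics.Pigeonhole

/-!
# S1778, type `U₅(2)`, section 5: the abstract computation for `c = 1`

`Tv t w z Q x g`: `g` acts on `⟨t, w⟩ Q` by `t ↦ t x`, `w ↦ w x`, `q ↦ q (w t x)^[x,q]`.
For two such pairs `(x, g)`, `(y, g')` with `[x, y] = z` the element `n = g g' g⁻¹` swaps `t` and `w` (mod `z`) and
acts on `Q` by `q ↦ q (x y)^[xy,q]`.
-/

set_option autoImplicit false

namespace Cfsg.Agent.UFiveTwo.NoC1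

open Subgroup

universe u

variable {X : Type u} [Group X]

/-- The frame `⟨t, w⟩ Q` of the case `c = 1`. -/
structure Fr (t w z : X) (Q : Subgroup X) : Prop where
  tt : t * t = 1
  ww : w * w = 1
  zz : z * z = 1
  z1 : z ≠ 1
  zt : z * t = t * z
  zw : z * w = w * z
  wt : w * t = t * (w * z)
  zQ : z ∈ Q
  Qz : ∀ q ∈ Q, q * z = z * q
  Qt : ∀ q ∈ Q, q * t = t * q
  Qw : ∀ q ∈ Q, q * w = w * q
  Qc : ∀ q ∈ Q, ∀ q' ∈ Q, q * q' = q' * q ∨ q * q' = q' * (q * z)

/-- `g` acts on `⟨t, w⟩ Q` by `t ↦ t x`, `w ↦ w x`, `q ↦ q (w t x)^[x,q]`. -/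
structure Tv (t w z : X) (Q : Subgroup X) (x g : X) : Prop where
  xQ : x ∈ Q
  xx : x * x = 1
  gz : g * z = z * g
  gt : g * t * g⁻¹ = t * x
  gw : g * w * g⁻¹ = w * x
  g0 : ∀ q ∈ Q, q * x = x * q → g * q * g⁻¹ = q
  g1 : ∀ q ∈ Q, q * x ≠ x * q → g * q * g⁻¹ = q * (w * (t * x))

/-- conjugation by an element normalizing everything -/
theorem Tv.conj {t w z : X} {Q : Subgroup X} {x g a : X} (h : Tv t w z Q x g) (az : a * z = z * a)
    (at' : a * t = t * a) (aw : a * w = w * a) (aQ : ∀ q ∈ Q, a * q * a⁻¹ ∈ Q) (aQ' : ∀ q ∈ Q, a⁻¹ * q * a ∈ Q) :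
    Tv t w z Q (a * x * a⁻¹) (a * g * a⁻¹) := by
  have az' : a⁻¹ * z = z * a⁻¹ := by
    rw [eq_mul_inv_iff_mul_eq, mul_assoc, ← az, inv_mul_cancel_left]
  have at'' : a⁻¹ * t * a = t := by rw [mul_assoc, ← at', inv_mul_cancel_left]
  have aw'' : a⁻¹ * w * a = w := by rw [mul_assoc, ← aw, inv_mul_cancel_left]
  have e1 : ∀ y : X, (a * g * a⁻¹) * y * (a * g * a⁻¹)⁻¹ = a * (g * (a⁻¹ * y * a) * g⁻¹) * a⁻¹ := by
    intro y; group
  refine ⟨aQ x h.xQ, ?_, ?_, ?_, ?_, ?_, ?_⟩
  · have : a * x * a⁻¹ * (a * x * a⁻¹) = a * (x * x) * a⁻¹ := by group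
    rw [this, h.xx]; group
  · calc a * g * a⁻¹ * z = a * (g * (a⁻¹ * z)) := by group
      _ = a * ((g * z) * a⁻¹) := by rw [az']; group
      _ = a * z * g * a⁻¹ := by rw [h.gz]; group
      _ = z * (a * g * a⁻¹) := by rw [az]; group
  · rw [e1, at'', h.gt]
    calc a * (t * x) * a⁻¹ = (a * t) * x * a⁻¹ := by group
      _ = t * (a * x * a⁻¹) := by rw [at']; group
  · rw [e1, aw'', h.gw]
    calc a * (w * x) * a⁻¹ = (a * w) * x * a⁻¹ := by group
      _ = w * (a * x * a⁻¹) := by rw [aw]; group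
  · intro q hq hc
    have hc' : (a⁻¹ * q * a) * x = x * (a⁻¹ * q * a) := by
      calc (a⁻¹ * q * a) * x = a⁻¹ * (q * (a * x * a⁻¹)) * a := by group
        _ = a⁻¹ * ((a * x * a⁻¹) * q) * a := by rw [hc]
        _ = x * (a⁻¹ * q * a) := by group
    rw [e1, h.g0 _ (aQ' q hq) hc']; group
  · intro q hq hc
    have hc' : (a⁻¹ * q * a) * x ≠ x * (a⁻¹ * q * a) := by
      intro h'
      apply hc
      calc q * (a * x * a⁻¹) = a * ((a⁻¹ * q * a) * x) * a⁻¹ := by group
        _ = a * (x * (a⁻¹ * q * a)) * a⁻¹ := by rw [h']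
        _ = (a * x * a⁻¹) * q := by group
    rw [e1, h.g1 _ (aQ' q hq) hc']
    calc a * (a⁻¹ * q * a * (w * (t * x))) * a⁻¹ = q * ((a * w) * (t * x)) * a⁻¹ := by group
      _ = q * (w * (a * t) * x) * a⁻¹ := by rw [aw]; group
      _ = q * (w * (t * (a * x * a⁻¹))) := by rw [at']; group

section N

variable {t w z : X} {Q : Subgroup X} {x g y g' : X}

/-- Inverse images under `g`. -/
theorem Tv.inv_t (F : Fr t w z Q) (h : Tv t w z Q x g) : g⁻¹ * t * g = t * x := by
  have : g * (t * x) * g⁻¹ = t := by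
    calc g * (t * x) * g⁻¹ = (g * t * g⁻¹) * (g * x * g⁻¹) := by group
      _ = t * (x * x) := by rw [h.gt, h.g0 x h.xQ rfl]; group
      _ = t := by rw [h.xx, mul_one]
  calc g⁻¹ * t * g = g⁻¹ * (g * (t * x) * g⁻¹) * g := by rw [this]
    _ = t * x := by group

theorem Tv.inv_w (F : Fr t w z Q) (h : Tv t w z Q x g) : g⁻¹ * w * g = w * x := by
  have : g * (w * x) * g⁻¹ = w := by
    calc g * (w * x) * g⁻¹ = (g * w * g⁻¹) * (g * x * g⁻¹) := by group
      _ = w * (x * x) := by rw [h.gw, h.g0 x h.xQ rfl]; group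
      _ = w := by rw [h.xx, mul_one]
  calc g⁻¹ * w * g = g⁻¹ * (g * (w * x) * g⁻¹) * g := by rw [this]
    _ = w * x := by group

theorem Tv.inv_q (h : Tv t w z Q x g) {q : X} (hq : q ∈ Q) (hc : q * x = x * q) : g⁻¹ * q * g = q := by
  calc g⁻¹ * q * g = g⁻¹ * (g * q * g⁻¹) * g := by rw [h.g0 q hq hc]
    _ = q := by group

/-- `w t w t = z` etc. -/
theorem Fr.wtwt (F : Fr t w z Q) : w * (t * (w * t)) = z := by
  rw [F.wt]
  calc w * (t * (t * (w * z))) = w * ((t * t) * (w * z)) := by group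
    _ = (w * w) * z := by rw [F.tt]; group
    _ = z := by rw [F.ww, one_mul]

theorem Fr.xwtx (F : Fr t w z Q) {x : X} (hx : x ∈ Q) : x * (w * (t * x)) = w * (t * (x * x)) := by
  calc x * (w * (t * x)) = (x * w) * (t * x) := by group
    _ = w * ((x * t) * x) := by rw [F.Qw x hx]; group
    _ = w * (t * (x * x)) := by rw [F.Qt x hx]; group

theorem Tv.inv_q1 (F : Fr t w z Q) (h : Tv t w z Q x g) {q : X} (hq : q ∈ Q) (hc : q * x ≠ x * q) :
    g⁻¹ * q * g = q * (w * (t * (x * z))) := by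
  have hx := h.xQ
  have hxx : ∀ v : X, x * (x * v) = v := fun v => by rw [← mul_assoc, h.xx, one_mul]
  have : g * (q * (w * (t * (x * z)))) * g⁻¹ = q := by
    calc g * (q * (w * (t * (x * z)))) * g⁻¹
        = (g * q * g⁻¹) * ((g * w * g⁻¹) * ((g * t * g⁻¹) * ((g * x * g⁻¹) * (g * z * g⁻¹)))) := by group
      _ = (q * (w * (t * x))) * ((w * x) * ((t * x) * (x * z))) := by
          rw [h.g1 q hq hc, h.gw, h.gt, h.g0 x hx rfl, h.gz, mul_inv_cancel_right]
      _ = q * (w * (t * ((x * w) * (x * (t * (x * (x * z))))))) := by group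
      _ = q * (w * (t * (w * (x * ((x * t) * z))))) := by rw [F.Qw x hx, hxx]; group
      _ = q * (w * (t * (w * (x * (x * (t * z)))))) := by
          rw [F.Qt x hx, h.g0 x hx rfl |> fun _ => (F.Qt x hx).symm]; group
      _ = q * ((w * (t * (w * t))) * z) := by rw [hxx]; group
      _ = q := by rw [F.wtwt, F.zz, mul_one]
  calc g⁻¹ * q * g = g⁻¹ * (g * (q * (w * (t * (x * z)))) * g⁻¹) * g := by rw [this]
    _ = q * (w * (t * (x * z))) := by group

/-- `n = g g' g⁻¹` acts on `⟨t, w⟩ Q` in the following way. -/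
structure Nn (t w z : X) (Q : Subgroup X) (u n : X) : Prop where
  uQ : u ∈ Q
  nz : n * z = z * n
  nt : n * t * n⁻¹ = w
  nw : n * w * n⁻¹ = t * z
  n0 : ∀ q ∈ Q, q * u = u * q → n * q * n⁻¹ = q
  n1 : ∀ q ∈ Q, q * u ≠ u * q → n * q * n⁻¹ = q * u

theorem nn (F : Fr t w z Q) (h : Tv t w z Q x g) (h' : Tv t w z Q y g') (hxy : y * x ≠ x * y) :
    Nn t w z Q (x * y) (g * g' * g⁻¹) := by
  have hx := h.xQ
  have hy := h'.xQ
  have hyx : y * x = x * (y * z) := (F.Qc y hy x hx).resolve_left hxy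
  have hxy' : x * y ≠ y * x := fun e => hxy e.symm
  -- rules
  have tt : ∀ v, t * (t * v) = v := fun v => by rw [← mul_assoc, F.tt, one_mul]
  have ww : ∀ v, w * (w * v) = v := fun v => by rw [← mul_assoc, F.ww, one_mul]
  have zz : ∀ v, z * (z * v) = v := fun v => by rw [← mul_assoc, F.zz, one_mul]
  have xx : ∀ v, x * (x * v) = v := fun v => by rw [← mul_assoc, h.xx, one_mul]
  have yy : ∀ v, y * (y * v) = v := fun v => by rw [← mul_assoc, h'.xx, one_mul]
  have swp : ∀ {a b c : X}, a * b = b * c → ∀ v, a * (b * v) = b * (c * v) := by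
    intro a b c e v; rw [← mul_assoc, e, mul_assoc]
  have swp2 : ∀ {a b c d : X}, a * b = b * (c * d) → ∀ v, a * (b * v) = b * (c * (d * v)) := by
    intro a b c d e v; rw [← mul_assoc, e, mul_assoc, mul_assoc]
  have zt := F.zt
  have zw := F.zw
  have wt := F.wt
  have zx : z * x = x * z := (F.Qz x hx).symm
  have zy : z * y = y * z := (F.Qz y hy).symm
  have xt := F.Qt x hx
  have yt := F.Qt y hy
  have xw := F.Qw x hx
  have yw := F.Qw y hy
  have gt : MulAut.conj g t = t * x := h.gt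
  have gw : MulAut.conj g w = w * x := h.gw
  have gx : MulAut.conj g x = x := h.g0 x hx rfl
  have gy : MulAut.conj g y = y * (w * (t * x)) := h.g1 y hy hxy
  have gz : MulAut.conj g z = z := by rw [MulAut.conj_apply, h.gz, mul_inv_cancel_right]
  have g't : MulAut.conj g' t = t * y := h'.gt
  have g'w : MulAut.conj g' w = w * y := h'.gw
  have g'x : MulAut.conj g' x = x * (w * (t * y)) := h'.g1 x hx hxy'
  have g'y : MulAut.conj g' y = y := h'.g0 y hy rfl
  have g'z : MulAut.conj g' z = z := by rw [MulAut.conj_apply, h'.gz, mul_inv_cancel_right]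
  have key : ∀ a b : X, g⁻¹ * a * g = b →
      (g * g' * g⁻¹) * a * (g * g' * g⁻¹)⁻¹ = MulAut.conj g (MulAut.conj g' b) := by
    intro a b e; rw [← e, MulAut.conj_apply, MulAut.conj_apply]; group
  refine ⟨Q.mul_mem hx hy, ?_, ?_, ?_, ?_, ?_⟩
  · have e1 : g⁻¹ * z = z * g⁻¹ := by rw [eq_mul_inv_iff_mul_eq, mul_assoc, ← h.gz, inv_mul_cancel_left]
    rw [mul_assoc, e1, ← mul_assoc, mul_assoc g g' z, h'.gz, ← mul_assoc g z g', h.gz]
    simp only [mul_assoc]
  · rw [key t _ (h.inv_t F)]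
    simp only [map_mul, gt, gw, gx, gy, gz, g't, g'w, g'x, g'y, g'z]
    simp only [mul_assoc, tt, ww, zz, xx, yy, zt, swp zt, zw, swp zw, wt, swp2 wt, zx, swp zx, zy, swp zy, xt, swp xt,
      yt, swp yt, xw, swp xw, yw, swp yw, hyx, swp2 hyx, F.tt, F.ww, F.zz, h.xx, h'.xx, mul_one]
  · rw [key w _ (h.inv_w F)]
    simp only [map_mul, gt, gw, gx, gy, gz, g't, g'w, g'x, g'y, g'z]
    simp only [mul_assoc, tt, ww, zz, xx, yy, zt, swp zt, zw, swp zw, wt, swp2 wt, zx, swp zx, zy, swp zy, xt, swp xt,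
      yt, swp yt, xw, swp xw, yw, swp yw, hyx, swp2 hyx, F.tt, F.ww, F.zz, h.xx, h'.xx, mul_one]
  · intro q hq hc
    have qt := F.Qt q hq
    have qw := F.Qw q hq
    have zq : z * q = q * z := (F.Qz q hq).symm
    by_cases h1 : q * x = x * q
    · have h2 : q * y = y * q := by
        have e : q * (x * y) = x * (y * q) := by rw [hc, mul_assoc]
        rw [← mul_assoc, h1, mul_assoc] at e
        exact mul_left_cancel e
      rw [key q _ (h.inv_q hq h1)]
      have g'q : MulAut.conj g' q = q := h'.g0 q hq h2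
      have gq : MulAut.conj g q = q := h.g0 q hq h1
      rw [g'q, gq]
    · have h2 : q * y ≠ y * q := by
        intro h2
        apply h1
        have e : (q * x) * y = (x * q) * y := by
          rw [mul_assoc, hc, mul_assoc, mul_assoc, h2]
        exact mul_right_cancel e
      rw [key q _ (h.inv_q1 F hq h1)]
      have g'q : MulAut.conj g' q = q * (w * (t * y)) := h'.g1 q hq h2
      have gq : MulAut.conj g q = q * (w * (t * x)) := h.g1 q hq h1
      simp only [map_mul, gt, gw, gx, gy, gz, g't, g'w, g'x, g'y, g'z, g'q, gq]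
      simp only [mul_assoc, tt, ww, zz, xx, yy, zt, swp zt, zw, swp zw, wt, swp2 wt, zx, swp zx, zy, swp zy, xt,
        swp xt, yt, swp yt, xw, swp xw, yw, swp yw, hyx, swp2 hyx, F.tt, F.ww, F.zz, h.xx, h'.xx, mul_one]
  · intro q hq hc
    have qt := F.Qt q hq
    have qw := F.Qw q hq
    have zq : z * q = q * z := (F.Qz q hq).symm
    by_cases h1 : q * x = x * q
    · have h2 : q * y ≠ y * q := by
        intro h2
        apply hc
        rw [← mul_assoc, h1, mul_assoc, h2, mul_assoc]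
      rw [key q _ (h.inv_q hq h1)]
      have g'q : MulAut.conj g' q = q * (w * (t * y)) := h'.g1 q hq h2
      have gq : MulAut.conj g q = q := h.g0 q hq h1
      simp only [map_mul, gt, gw, gx, gy, gz, g't, g'w, g'x, g'y, g'z, g'q, gq]
      simp only [mul_assoc, tt, ww, zz, xx, yy, zt, swp zt, zw, swp zw, wt, swp2 wt, zx, swp zx, zy, swp zy, xt,
        swp xt, yt, swp yt, xw, swp xw, yw, swp yw, hyx, swp2 hyx, F.tt, F.ww, F.zz, h.xx, h'.xx, mul_one]
    · have h2 : q * y = y * q := by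
        by_contra h2
        apply hc
        have e1 : q * x = x * (q * z) := (F.Qc q hq x hx).resolve_left h1
        have e2 : q * y = y * (q * z) := (F.Qc q hq y hy).resolve_left h2
        calc q * (x * y) = (q * x) * y := by rw [mul_assoc]
          _ = x * (q * (z * y)) := by rw [e1]; simp only [mul_assoc]
          _ = x * ((q * y) * z) := by rw [zy]; simp only [mul_assoc]
          _ = x * (y * (q * (z * z))) := by rw [e2]; simp only [mul_assoc]
          _ = x * y * q := by rw [F.zz, mul_one]; simp only [mul_assoc]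
      rw [key q _ (h.inv_q1 F hq h1)]
      have g'q : MulAut.conj g' q = q := h'.g0 q hq h2
      have gq : MulAut.conj g q = q * (w * (t * x)) := h.g1 q hq h1
      simp only [map_mul, gt, gw, gx, gy, gz, g't, g'w, g'x, g'y, g'z, g'q, gq]
      simp only [mul_assoc, tt, ww, zz, xx, yy, zt, swp zt, zw, swp zw, wt, swp2 wt, zx, swp zx, zy, swp zy, xt,
        swp xt, yt, swp yt, xw, swp xw, yw, swp yw, hyx, swp2 hyx, F.tt, F.ww, F.zz, h.xx, h'.xx, mul_one]

end N

end Cfsg.Agent.UFiveTwo.NoC1
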