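import Cfsg.Agent.UFiveTwo.NoC1

/-!
# S1778, type `U₅(2)`, section 5: the end of the case `c = 1`

An element `n` swapping `t` and `w` and acting on `Q` by a "reflection" `q ↦ q u^[q,u]` cannot exist.
-/

set_option autoImplicit false

namespace Cfsg.Agent.UFiveTwo.NoC1

open Subgroup

universe u

variable {X : Type u} [Group X]

/-- `a ≡ b` modulo `z`. -/
def Eq2 (z a b : X) : Prop := a = b ∨ a = b * z

namespace Eq2

variable {z a b c d : X}

theorem refl (z a : X) : Eq2 z a a := Or.inl rfl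

theorem symm (zz : z * z = 1) (h : Eq2 z a b) : Eq2 z b a := by
  rcases h with h | h
  · exact Or.inl h.symm
  · right; rw [h, mul_assoc, zz, mul_one]

theorem trans (zz : z * z = 1) (h : Eq2 z a b) (h' : Eq2 z b c) : Eq2 z a c := by
  rcases h with h | h
  · rw [h]; exact h'
  · rcases h' with h' | h'
    · right; rw [h, h']
    · left; rw [h, h', mul_assoc, zz, mul_one]

theorem mul (zz : z * z = 1) (h : Eq2 z a b) (h' : Eq2 z c d) (hd : z * d = d * z) : Eq2 z (a * c) (b * d) := by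
  have hzd : z * (d * z) = d := by rw [← mul_assoc, hd, mul_assoc, zz, mul_one]
  rcases h with h | h <;> rcases h' with h' | h'
  · left; rw [h, h']
  · right; rw [h, h', mul_assoc]
  · right; rw [h, h', mul_assoc, hd, mul_assoc]
  · left; rw [h, h', mul_assoc, hzd]

theorem conj (g : X) (hg : g * z = z * g) (h : Eq2 z a b) : Eq2 z (g * a * g⁻¹) (g * b * g⁻¹) := by
  rcases h with h | h
  · left; rw [h]
  · right
    rw [h]
    have e : z * g⁻¹ = g⁻¹ * z := by
      rw [mul_inv_eq_iff_eq_mul, mul_assoc, ← hg, inv_mul_cancel_left]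
    calc g * (b * z) * g⁻¹ = g * b * (z * g⁻¹) := by group
      _ = g * b * g⁻¹ * z := by rw [e]; group

end Eq2

section Bilin

variable {z : X} {Q : Subgroup X}

/-- Facts on `Q` used for bilinearity of the commutator. -/
theorem comm_of_not_not (zz : z * z = 1) (Qz : ∀ q ∈ Q, q * z = z * q)
    (Qc : ∀ q ∈ Q, ∀ q' ∈ Q, q * q' = q' * q ∨ q * q' = q' * (q * z)) {a b u : X} (ha : a ∈ Q) (hb : b ∈ Q)
    (hu : u ∈ Q) (h1 : a * u ≠ u * a) (h2 : b * u ≠ u * b) : (a⁻¹ * b) * u = u * (a⁻¹ * b) := by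
  have e1 : a * u = u * (a * z) := (Qc a ha u hu).resolve_left h1
  have e2 : b * u = u * (b * z) := (Qc b hb u hu).resolve_left h2
  have e3 : a⁻¹ * u = u * (a⁻¹ * z) := by
    have h3 : u = a⁻¹ * (u * (a * z)) := by rw [← e1, inv_mul_cancel_left]
    have h4 : u * a⁻¹ = a⁻¹ * (u * z) := by
      calc u * a⁻¹ = a⁻¹ * (u * (a * z)) * a⁻¹ := by rw [← h3]
        _ = a⁻¹ * u * (a * z) * a⁻¹ := by group
        _ = a⁻¹ * u * (z * a) * a⁻¹ := by rw [Qz a ha]
        _ = a⁻¹ * (u * z) := by group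
    calc a⁻¹ * u = a⁻¹ * (u * (z * z)) := by rw [zz, mul_one]
      _ = (a⁻¹ * (u * z)) * z := by group
      _ = u * (a⁻¹ * z) := by rw [← h4, mul_assoc]
  calc (a⁻¹ * b) * u = a⁻¹ * (u * (b * z)) := by rw [mul_assoc, e2]
    _ = (a⁻¹ * u) * (b * z) := by rw [mul_assoc]
    _ = u * (a⁻¹ * (z * b * z)) := by rw [e3]; group
    _ = u * (a⁻¹ * (b * (z * z))) := by rw [← Qz b hb, mul_assoc]
    _ = u * (a⁻¹ * b) := by rw [zz, mul_one]

theorem comm_of_comm {a b u : X} (h1 : a * u = u * a) (h2 : b * u = u * b) : (a⁻¹ * b) * u = u * (a⁻¹ * b) := by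
  have e3 : a⁻¹ * u = u * a⁻¹ := by
    rw [eq_mul_inv_iff_mul_eq, mul_assoc, ← h1, inv_mul_cancel_left]
  rw [mul_assoc, h2, ← mul_assoc, e3, mul_assoc]

/-- There is an element of `Q` outside `⟨z⟩` commuting with two given elements. -/
theorem exists_comm_two (zz : z * z = 1) (Qz : ∀ q ∈ Q, q * z = z * q)
    (Qc : ∀ q ∈ Q, ∀ q' ∈ Q, q * q' = q' * q ∨ q * q' = q' * (q * z)) (hcard : Nat.card Q = 2 ^ 7) {u v : X}
    (hu : u ∈ Q) (hv : v ∈ Q) : ∃ q ∈ Q, q ≠ 1 ∧ q ≠ z ∧ q * u = u * q ∧ q * v = v * q := by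
  classical
  have hfin : Finite Q := Nat.finite_of_card_ne_zero (by rw [hcard]; norm_num)
  letI := Fintype.ofFinite Q
  have hc : Fintype.card Q = 2 ^ 7 := by rw [← Nat.card_eq_fintype_card, hcard]
  let f : Q → Bool × Bool := fun q => (decide ((q : X) * u = u * q), decide ((q : X) * v = v * q))
  obtain ⟨y, hy⟩ := Fintype.exists_lt_card_fiber_of_mul_lt_card (f := f) (n := 2) (by
    rw [hc]; simp)
  rw [Finset.two_lt_card] at hy
  obtain ⟨a, ha, b, hb, c, hc', hab, hac, hbc⟩ := hy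
  simp only [Finset.mem_filter, Finset.mem_univ, true_and] at ha hb hc'
  have key : ∀ b : Q, f b = y → ((a : X)⁻¹ * b) * u = u * ((a : X)⁻¹ * b) ∧
      ((a : X)⁻¹ * b) * v = v * ((a : X)⁻¹ * b) := by
    intro b hb
    have hfab : f a = f b := by rw [ha, hb]
    simp only [f, Prod.mk.injEq, decide_eq_decide] at hfab
    constructor
    · by_cases h1 : (a : X) * u = u * a
      · exact comm_of_comm h1 (hfab.1.mp h1)
      · exact comm_of_not_not zz Qz Qc a.2 b.2 hu h1 (fun h2 => h1 (hfab.1.mpr h2))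
    · by_cases h1 : (a : X) * v = v * a
      · exact comm_of_comm h1 (hfab.2.mp h1)
      · exact comm_of_not_not zz Qz Qc a.2 b.2 hv h1 (fun h2 => h1 (hfab.2.mpr h2))
  have ne1 : ∀ b : Q, a ≠ b → (a : X)⁻¹ * b ≠ 1 := by
    intro b hb h
    rw [inv_mul_eq_one] at h
    exact hb (Subtype.ext h)
  by_cases h : (a : X)⁻¹ * b = z
  · refine ⟨(a : X)⁻¹ * c, Q.mul_mem (Q.inv_mem a.2) c.2, ne1 c hac, ?_, (key c hc').1, (key c hc').2⟩
    intro h'
    apply hbc
    rw [← h] at h'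
    exact (Subtype.ext (mul_left_cancel h')).symm
  · exact ⟨(a : X)⁻¹ * b, Q.mul_mem (Q.inv_mem a.2) b.2, ne1 b hab, h, (key b hb).1, (key b hb).2⟩

end Bilin

theorem comm_inv_of {a b : X} (h : a * b = b * a) : a⁻¹ * b = b * a⁻¹ := by
  rw [eq_mul_inv_iff_mul_eq, mul_assoc, ← h, inv_mul_cancel_left]

/-- The end of the case `c = 1`. -/
theorem false_of_nn {A : Subgroup X} {t : X} (E : Env A t) {w : X} (F : Fr t w (E.r 0) E.Q)
    (hwD : ∀ a ∈ A, a * E.r 0 = E.r 0 * a → a * w = w * a) {u n : X} (N : Nn t w (E.r 0) E.Q u n) (hu1 : u ≠ 1)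
    (huz : u ≠ E.r 0) : False := by
  set z := E.r 0 with hz
  have zz := F.zz
  have uQ := N.uQ
  -- conjugation by `n` on the centralizer of `t` and `w`
  have cj : ∀ s : X, s * t = t * s → s * w = w * s →
      (n * s * n⁻¹) * t = t * (n * s * n⁻¹) ∧ (n * s * n⁻¹) * w = w * (n * s * n⁻¹) := by
    intro s hst hsw
    have e1 : (n * s * n⁻¹) * w = w * (n * s * n⁻¹) := by
      rw [← N.nt]
      calc n * s * n⁻¹ * (n * t * n⁻¹) = n * (s * t) * n⁻¹ := by group
        _ = n * (t * s) * n⁻¹ := by rw [hst]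
        _ = n * t * n⁻¹ * (n * s * n⁻¹) := by group
    have e2 : (n * s * n⁻¹) * (t * z) = (t * z) * (n * s * n⁻¹) := by
      rw [← N.nw]
      calc n * s * n⁻¹ * (n * w * n⁻¹) = n * (s * w) * n⁻¹ := by group
        _ = n * (w * s) * n⁻¹ := by rw [hsw]
        _ = n * w * n⁻¹ * (n * s * n⁻¹) := by group
    have hzz : (n * s * n⁻¹) * z = z * (n * s * n⁻¹) := by
      have hs : s * z = z * s := by
        have := F.wtwt
        rw [← this]
        calc s * (w * (t * (w * t))) = (s * w) * (t * (w * t)) := by group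
          _ = w * ((s * t) * (w * t)) := by rw [hsw]; group
          _ = w * (t * ((s * w) * t)) := by rw [hst]; group
          _ = w * (t * (w * (s * t))) := by rw [hsw]; group
          _ = w * (t * (w * t)) * s := by rw [hst]; group
      calc n * s * n⁻¹ * z = n * s * (n⁻¹ * z) := by group
        _ = n * (s * z) * n⁻¹ := by rw [comm_inv_of N.nz]; group
        _ = (n * z) * s * n⁻¹ := by rw [hs]; group
        _ = z * (n * s * n⁻¹) := by rw [N.nz]; group
    refine ⟨?_, e1⟩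
    have e3 : (n * s * n⁻¹) * t * z = t * (n * s * n⁻¹) * z := by
      calc (n * s * n⁻¹) * t * z = (n * s * n⁻¹) * (t * z) := by group
        _ = t * (z * (n * s * n⁻¹)) := by rw [e2]; group
        _ = t * (n * s * n⁻¹) * z := by rw [← hzz]; group
    exact mul_right_cancel e3
  have nw' : n⁻¹ * w * n = t := by rw [← N.nt]; group
  have nt' : n⁻¹ * t * n = w * z := by
    have h1 : n * (w * z) * n⁻¹ = t := by
      calc n * (w * z) * n⁻¹ = n * w * (z * n⁻¹) := by group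
        _ = (n * w * n⁻¹) * z := by rw [← comm_inv_of N.nz]; group
        _ = t := by rw [N.nw, mul_assoc, zz, mul_one]
    calc n⁻¹ * t * n = n⁻¹ * (n * (w * z) * n⁻¹) * n := by rw [h1]
      _ = w * z := by group
  have szof : ∀ s : X, s * t = t * s → s * w = w * s → s * z = z * s := by
    intro s hst hsw
    have := F.wtwt
    rw [← this]
    calc s * (w * (t * (w * t))) = (s * w) * (t * (w * t)) := by group
      _ = w * ((s * t) * (w * t)) := by rw [hsw]; group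
      _ = w * (t * ((s * w) * t)) := by rw [hst]; group
      _ = w * (t * (w * (s * t))) := by rw [hsw]; group
      _ = w * (t * (w * t)) * s := by rw [hst]; group
  have cj' : ∀ s : X, s * t = t * s → s * w = w * s →
      (n⁻¹ * s * n) * t = t * (n⁻¹ * s * n) ∧ (n⁻¹ * s * n) * w = w * (n⁻¹ * s * n) := by
    intro s hst hsw
    have e1 : (n⁻¹ * s * n) * t = t * (n⁻¹ * s * n) := by
      rw [← nw']
      calc n⁻¹ * s * n * (n⁻¹ * w * n) = n⁻¹ * (s * w) * n := by group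
        _ = n⁻¹ * (w * s) * n := by rw [hsw]
        _ = n⁻¹ * w * n * (n⁻¹ * s * n) := by group
    have e2 : (n⁻¹ * s * n) * (w * z) = (w * z) * (n⁻¹ * s * n) := by
      rw [← nt']
      calc n⁻¹ * s * n * (n⁻¹ * t * n) = n⁻¹ * (s * t) * n := by group
        _ = n⁻¹ * (t * s) * n := by rw [hst]
        _ = n⁻¹ * t * n * (n⁻¹ * s * n) := by group
    have hs := szof s hst hsw
    have hzz : (n⁻¹ * s * n) * z = z * (n⁻¹ * s * n) := by
      calc n⁻¹ * s * n * z = n⁻¹ * s * (n * z) := by group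
        _ = n⁻¹ * (s * z) * n := by rw [N.nz]; group
        _ = (n⁻¹ * z) * s * n := by rw [hs]; group
        _ = z * (n⁻¹ * s * n) := by rw [comm_inv_of N.nz]; group
    refine ⟨e1, ?_⟩
    have e3 : (n⁻¹ * s * n) * w * z = w * (n⁻¹ * s * n) * z := by
      calc (n⁻¹ * s * n) * w * z = (n⁻¹ * s * n) * (w * z) := by group
        _ = w * (z * (n⁻¹ * s * n)) := by rw [e2]; group
        _ = w * (n⁻¹ * s * n) * z := by rw [← hzz]; group
    exact mul_right_cancel e3
  have odd_conj : ∀ s : X, Odd (orderOf s) → Odd (orderOf (n⁻¹ * s * n)) := by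
    intro s hs
    have e : n⁻¹ * s * n = MulAut.conj n⁻¹ s := by simp
    rw [e, MulEquiv.orderOf_eq]; exact hs
  have odd_conj' : ∀ s : X, Odd (orderOf s) → Odd (orderOf (n * s * n⁻¹)) := by
    intro s hs
    have e : n * s * n⁻¹ = MulAut.conj n s := by simp
    rw [e, MulEquiv.orderOf_eq]; exact hs
  -- `n` normalizes `Q`
  have nQ : ∀ q ∈ E.Q, n * q * n⁻¹ ∈ E.Q := by
    intro q hq
    by_cases hc : q * u = u * q
    · rw [N.n0 q hq hc]; exact hq
    · rw [N.n1 q hq hc]; exact E.Q.mul_mem hq uQ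
  -- the element `h1`
  set h1 := n * E.h0 * n⁻¹ with hh1
  have h0t : E.h0 * t = t * E.h0 := (E.t_A _ E.h0_mem).symm
  have h0w : E.h0 * w = w * E.h0 := hwD _ E.h0_mem E.h0_r
  have h0odd : Odd (orderOf E.h0) := by
    have : orderOf E.h0 ∣ 3 := orderOf_dvd_of_pow_eq_one E.h0_pow
    exact Odd.of_dvd_nat (by decide) this
  have h1t := (cj _ h0t h0w).1
  have h1w := (cj _ h0t h0w).2
  have h1A : h1 ∈ A := E.odd_mem _ h1t (odd_conj' _ h0odd)
  have h1z : h1 * z = z * h1 := szof _ h1t h1w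
  have Qn : ∀ b ∈ A, b * z = z * b → ∀ q ∈ E.Q, b⁻¹ * q * b ∈ E.Q := by
    intro b hb hbz q hq
    have := E.Q_conj b⁻¹ (A.inv_mem hb) (comm_inv_of hbz) q hq
    rwa [inv_inv] at this
  -- commutators with `h1`
  have hcomm : ∀ b ∈ A ⊓ centralizer {z}, b * h1 * b⁻¹ * h1⁻¹ ∈ E.Q := by
    have hcl : ∀ b ∈ closure {x : X | x ∈ A ⊓ centralizer {z} ∧ Odd (orderOf x)},
        (b ∈ A ∧ b * z = z * b) ∧ b * h1 * b⁻¹ * h1⁻¹ ∈ E.Q := by
      intro b hb
      induction hb using closure_induction with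
      | mem b hb =>
        obtain ⟨⟨hbA, hbz⟩, hodd⟩ := hb
        have hbz' : b * z = z * b := (mem_centralizer_singleton_iff.mp hbz)
        refine ⟨⟨hbA, hbz'⟩, ?_⟩
        have hbt : b * t = t * b := (E.t_A _ hbA).symm
        have hbw : b * w = w * b := hwD _ hbA hbz'
        obtain ⟨k1, k2⟩ := cj' b hbt hbw
        have k3 : n⁻¹ * b * n ∈ A := E.odd_mem _ k1 (odd_conj _ hodd)
        have k4 := E.h0_comm _ k3 (szof _ k1 k2)
        have k5 := nQ _ k4
        have e : n * (n⁻¹ * b * n * E.h0 * (n⁻¹ * b * n)⁻¹ * E.h0⁻¹) * n⁻¹ = b * h1 * b⁻¹ * h1⁻¹ := by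
          rw [hh1]; group
        rwa [e] at k5
      | one => exact ⟨⟨A.one_mem, by simp⟩, by simp [E.Q.one_mem]⟩
      | mul b c _ _ ihb ihc =>
        refine ⟨⟨A.mul_mem ihb.1.1 ihc.1.1, by rw [mul_assoc, ihc.1.2, ← mul_assoc, ihb.1.2, mul_assoc]⟩, ?_⟩
        have e : (b * c) * h1 * (b * c)⁻¹ * h1⁻¹ = (b * (c * h1 * c⁻¹ * h1⁻¹) * b⁻¹) * (b * h1 * b⁻¹ * h1⁻¹) := by
          group
        rw [e]
        exact E.Q.mul_mem (E.Q_conj b ihb.1.1 ihb.1.2 _ ihc.2) ihb.2
      | inv b _ ihb =>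
        refine ⟨⟨A.inv_mem ihb.1.1, comm_inv_of ihb.1.2⟩, ?_⟩
        have e : b⁻¹ * h1 * b⁻¹⁻¹ * h1⁻¹ = b⁻¹ * (b * h1 * b⁻¹ * h1⁻¹)⁻¹ * b := by group
        rw [e]
        exact Qn b ihb.1.1 ihb.1.2 _ (E.Q.inv_mem ihb.2)
    intro b hb
    exact (hcl b (E.D_gen hb)).2
  have hcomm' : ∀ b ∈ A, b * z = z * b → h1 * b * h1⁻¹ * b⁻¹ ∈ E.Q := by
    intro b hb hbz
    have k := E.Q.inv_mem (hcomm b ⟨hb, mem_centralizer_singleton_iff.mpr hbz⟩)
    have e : (b * h1 * b⁻¹ * h1⁻¹)⁻¹ = h1 * b * h1⁻¹ * b⁻¹ := by group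
    rwa [e] at k
  obtain ⟨q', hq', j, hj⟩ := E.h0_cent h1 h1A h1z hcomm'
  have h0Q : ∀ q ∈ E.Q, E.h0 * q * E.h0⁻¹ ∈ E.Q := E.Q_conj _ E.h0_mem E.h0_r
  have h0Q' : ∀ q ∈ E.Q, E.h0⁻¹ * q * E.h0 ∈ E.Q := Qn _ E.h0_mem E.h0_r
  have h0jQ : ∀ k : ℕ, ∀ q ∈ E.Q, E.h0 ^ k * q * (E.h0 ^ k)⁻¹ ∈ E.Q := by
    intro k
    induction k with
    | zero => intro q hq; simpa using hq
    | succ k ih =>
      intro q hq
      have := ih _ (h0Q q hq)
      have e : E.h0 ^ (k + 1) * q * (E.h0 ^ (k + 1))⁻¹ = E.h0 ^ k * (E.h0 * q * E.h0⁻¹) * (E.h0 ^ k)⁻¹ := by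
        rw [pow_succ]; group
      rwa [e]
  have q'act : ∀ y ∈ E.Q, Eq2 z (q' * y * q'⁻¹) y := by
    intro y hy
    rcases F.Qc q' hq' y hy with h | h
    · left; rw [h, mul_inv_cancel_right]
    · right
      rw [h, F.Qz q' hq']; group
  have hpow : E.h0 ^ j = E.h0 ^ (j % 3) := by
    conv_lhs => rw [← Nat.div_add_mod j 3]
    rw [pow_add, pow_mul, E.h0_pow, one_pow, one_mul]
  have act : ∀ x ∈ E.Q, Eq2 z (h1 * x * h1⁻¹) (E.h0 ^ (j % 3) * x * (E.h0 ^ (j % 3))⁻¹) := by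
    intro x hx
    have e : h1 * x * h1⁻¹ = q' * (E.h0 ^ j * x * (E.h0 ^ j)⁻¹) * q'⁻¹ := by rw [hj]; group
    rw [e, ← hpow]
    exact q'act _ (h0jQ j x hx)
  have h0z : E.h0 * z = z * E.h0 := E.h0_r
  -- a good element fixed by `n`, with `h0`-image fixed by `n`
  obtain ⟨q, hq, hq1, hqz, hqu, hqv⟩ := exists_comm_two zz F.Qz F.Qc E.card_Q uQ (h0Q' u uQ)
  have hcu : (E.h0 * q * E.h0⁻¹) * u = u * (E.h0 * q * E.h0⁻¹) := by
    calc (E.h0 * q * E.h0⁻¹) * u = E.h0 * (q * (E.h0⁻¹ * u * E.h0)) * E.h0⁻¹ := by group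
      _ = E.h0 * ((E.h0⁻¹ * u * E.h0) * q) * E.h0⁻¹ := by rw [hqv]
      _ = u * (E.h0 * q * E.h0⁻¹) := by group
  have hnq : n⁻¹ * q * n = q := by
    have h := N.n0 q hq hqu
    calc n⁻¹ * q * n = n⁻¹ * (n * q * n⁻¹) * n := by rw [h]
      _ = q := by group
  have hq' : h1 * q * h1⁻¹ = E.h0 * q * E.h0⁻¹ := by
    calc h1 * q * h1⁻¹ = n * (E.h0 * (n⁻¹ * q * n) * E.h0⁻¹) * n⁻¹ := by rw [hh1]; group
      _ = n * (E.h0 * q * E.h0⁻¹) * n⁻¹ := by rw [hnq]
      _ = E.h0 * q * E.h0⁻¹ := N.n0 _ (h0Q q hq) hcu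
  have hact := act q hq
  rw [hq'] at hact
  have hm : j % 3 < 3 := Nat.mod_lt _ (by norm_num)
  have nofix : ∀ q ∈ E.Q, q ≠ 1 → q ≠ z → ¬ Eq2 z (E.h0 * q * E.h0⁻¹) q := by
    intro q hq h1 h2 h
    rcases E.h0_fix q hq h with h | h
    · exact h1 h
    · exact h2 h
  interval_cases hj3 : j % 3
  · -- exponent 0
    simp only [pow_zero, one_mul, inv_one, mul_one] at hact
    exact nofix q hq hq1 hqz hact
  · -- exponent 1
    -- an element not commuting with `u`
    have hex : ∃ p ∈ E.Q, p * u ≠ u * p := by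
      by_contra hno
      push Not at hno
      rcases E.Q_nd u uQ (fun p hp => (hno p hp).symm) with h | h
      · exact hu1 h
      · exact huz h
    obtain ⟨p, hp, hpu⟩ := hex
    have hnp : n⁻¹ * p * n = p * u⁻¹ := by
      have h1' : n * p * n⁻¹ = p * u := N.n1 p hp hpu
      have h2' : n * u * n⁻¹ = u := N.n0 u uQ rfl
      have h3' : n * u⁻¹ * n⁻¹ = u⁻¹ := by
        calc n * u⁻¹ * n⁻¹ = (n * u * n⁻¹)⁻¹ := by group
          _ = u⁻¹ := by rw [h2']
      have h4' : n * (p * u⁻¹) * n⁻¹ = p := by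
        calc n * (p * u⁻¹) * n⁻¹ = (n * p * n⁻¹) * (n * u⁻¹ * n⁻¹) := by group
          _ = p := by rw [h1', h3']; group
      calc n⁻¹ * p * n = n⁻¹ * (n * (p * u⁻¹) * n⁻¹) * n := by rw [h4']
        _ = p * u⁻¹ := by group
    have hp1 := act p hp
    have e : h1 * p * h1⁻¹ = (n * (E.h0 * p * E.h0⁻¹) * n⁻¹) * (n * (E.h0 * u * E.h0⁻¹) * n⁻¹)⁻¹ := by
      calc h1 * p * h1⁻¹ = n * (E.h0 * (n⁻¹ * p * n) * E.h0⁻¹) * n⁻¹ := by rw [hh1]; group
        _ = n * (E.h0 * (p * u⁻¹) * E.h0⁻¹) * n⁻¹ := by rw [hnp]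
        _ = _ := by group
    have npos : ∀ y ∈ E.Q, n * y * n⁻¹ = y ∨ n * y * n⁻¹ = y * u := by
      intro y hy
      by_cases hc : y * u = u * y
      · left; exact N.n0 y hy hc
      · right; exact N.n1 y hy hc
    rw [e, pow_one] at hp1
    set a := E.h0 * p * E.h0⁻¹ with ha
    set b := E.h0 * u * E.h0⁻¹ with hb
    have haQ : a ∈ E.Q := h0Q p hp
    have hbQ : b ∈ E.Q := h0Q u uQ
    have uz : u * z = z * u := F.Qz u uQ
    have usq : Eq2 z (u * u) 1 := by
      rcases E.Q_sq u uQ with h | h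
      · left; exact h
      · right; rw [h, one_mul]
    -- conclusion `b ≡ 1` or `b ≡ u`
    have hfin : Eq2 z b 1 ∨ Eq2 z b u := by
      -- `a c d⁻¹ ≡ a` with `c ∈ {1, u}`, `d ∈ {b, b u}`
      have gen : ∀ c d : X, c ∈ E.Q → d ∈ E.Q → Eq2 z (a * c * d⁻¹) a → Eq2 z c d := by
        intro c d hc hd h
        have dz : d * z = z * d := F.Qz d hd
        rcases h with h | h
        · left
          have : a * c = a * d := by
            calc a * c = (a * c * d⁻¹) * d := by group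
              _ = a * d := by rw [h]
          exact mul_left_cancel this
        · right
          have : a * c = a * (d * z) := by
            calc a * c = (a * c * d⁻¹) * d := by group
              _ = a * (z * d) := by rw [h]; group
              _ = a * (d * z) := by rw [dz]
          exact mul_left_cancel this
      have zz1 : z * 1 = 1 * z := by rw [mul_one, one_mul]
      rcases npos a haQ with h1' | h1' <;> rcases npos b hbQ with h2' | h2'
      · rw [h1', h2'] at hp1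
        left
        exact (gen 1 b E.Q.one_mem hbQ (by rw [mul_one]; exact hp1)).symm zz
      · rw [h1', h2'] at hp1
        right
        have h3 := gen 1 (b * u) E.Q.one_mem (E.Q.mul_mem hbQ uQ) (by rw [mul_one]; exact hp1)
        -- `1 ≡ b u`, so `u ≡ b u u ≡ b`
        have h4 : Eq2 z (1 * u) (b * u * u) := h3.mul zz (Eq2.refl z u) (by rw [uz])
        rw [one_mul, mul_assoc] at h4
        have h5 : Eq2 z (b * (u * u)) (b * 1) := (Eq2.refl z b).mul zz usq zz1
        rw [mul_one] at h5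
        exact (h4.trans zz h5).symm zz
      · rw [h1', h2'] at hp1
        right
        exact (gen u b uQ hbQ hp1).symm zz
      · rw [h1', h2'] at hp1
        left
        have h3 := gen u (b * u) uQ (E.Q.mul_mem hbQ uQ) hp1
        have h4 : Eq2 z (u * u) (b * u * u) := h3.mul zz (Eq2.refl z u) (by rw [uz])
        rw [mul_assoc b] at h4
        have h5 : Eq2 z (b * (u * u)) (b * 1) := (Eq2.refl z b).mul zz usq zz1
        rw [mul_one] at h5
        exact ((h4.trans zz h5).symm zz).trans zz usq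
    rcases hfin with h | h
    · rcases h with h | h
      · apply hu1
        have : u = E.h0⁻¹ * b * E.h0 := by rw [hb]; group
        rw [this, h]; group
      · apply huz
        have : u = E.h0⁻¹ * b * E.h0 := by rw [hb]; group
        rw [this, h, one_mul, mul_assoc, ← h0z]; group
    · exact nofix u uQ hu1 huz h
  · -- exponent 2
    apply nofix q hq hq1 hqz
    have h2 := hact.conj E.h0⁻¹ (comm_inv_of h0z)
    have e1 : E.h0⁻¹ * (E.h0 * q * E.h0⁻¹) * E.h0⁻¹⁻¹ = q := by group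
    have e2 : E.h0⁻¹ * (E.h0 ^ 2 * q * (E.h0 ^ 2)⁻¹) * E.h0⁻¹⁻¹ = E.h0 * q * E.h0⁻¹ := by
      rw [pow_two]; group
    rw [e1, e2] at h2
    exact h2.symm zz

end Cfsg.Agent.UFiveTwo.NoC1
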