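import Cfsg.Agent.UFiveTwo.NoC1End

/-!
# S1778, type `U₅(2)`, section 5: the case `c = 1` is impossible

Input: the function `w` of section 4 on the transvections of `A`, in the case `c = 1`
(`[w_i, w_j] = r_i r_j`, `t ∈ w_0 w_1 w_2 w_3 w_4 V` on the base line).
-/

set_option autoImplicit false

namespace Cfsg.Agent.UFiveTwo.NoC1

open Subgroup

universe u

variable {X : Type u} [Group X] {A : Subgroup X}

section VMod

variable (F : Flag A)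

/-- products of the `r i` -/
def ev (c : Fin 5 → ZMod 2) : X :=
  F.r 0 ^ (c 0).val * (F.r 1 ^ (c 1).val * (F.r 2 ^ (c 2).val * (F.r 3 ^ (c 3).val * F.r 4 ^ (c 4).val)))

theorem pow_val_add (i : Fin 5) (a b : ZMod 2) : F.r i ^ (a + b).val = F.r i ^ a.val * F.r i ^ b.val := by
  have h : F.r i ^ 2 = 1 := by rw [pow_two, F.r_sq i]
  rw [← pow_add]
  have : (a + b).val ≡ a.val + b.val [MOD 2] := by
    rw [ZMod.val_add]; exact Nat.mod_modEq _ _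
  exact (pow_eq_pow_iff_modEq.mpr (this.of_dvd (orderOf_dvd_of_pow_eq_one h)))

theorem rcom (i j : Fin 5) (m n : ℕ) : Commute (F.r i ^ m) (F.r j ^ n) :=
  (show Commute (F.r i) (F.r j) from F.r_comm i j).pow_pow m n

theorem mulmul {a b c d : X} (h : Commute b c) : (a * b) * (c * d) = (a * c) * (b * d) := by
  rw [mul_assoc, ← mul_assoc b c d, h.eq]; group

theorem ev_add (c d : Fin 5 → ZMod 2) : ev F (c + d) = ev F c * ev F d := by
  unfold ev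
  simp only [Pi.add_apply, pow_val_add]
  rw [mulmul ((((rcom F 1 0 _ _).mul_left ((rcom F 2 0 _ _).mul_left ((rcom F 3 0 _ _).mul_left (rcom F 4 0 _ _)))))),
    mulmul (((rcom F 2 1 _ _).mul_left ((rcom F 3 1 _ _).mul_left (rcom F 4 1 _ _)))),
    mulmul ((rcom F 3 2 _ _).mul_left (rcom F 4 2 _ _)),
    mulmul (rcom F 4 3 _ _)]

theorem ev_zero : ev F 0 = 1 := by simp [ev]

theorem ev_one : ev F 1 = 1 := by
  have h := F.r_prod
  have e : ∀ i : Fin 5, ((1 : Fin 5 → ZMod 2) i).val = 1 := fun i => rfl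
  simp only [ev, e, pow_one]
  simpa only [mul_assoc] using h

theorem ev_single (i : Fin 5) : ev F (Pi.single i 1) = F.r i := by
  have e1 : ZMod.val (1 : ZMod 2) = 1 := rfl
  fin_cases i <;> simp [ev, Pi.single_apply, e1]

theorem mem_ev {v : X} (hv : v ∈ closure (Set.range F.r)) : ∃ c, v = ev F c := by
  induction hv using closure_induction with
  | mem v hv =>
    obtain ⟨i, rfl⟩ := hv
    exact ⟨Pi.single i 1, (ev_single F i).symm⟩
  | one => exact ⟨0, (ev_zero F).symm⟩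
  | mul a b _ _ iha ihb =>
    obtain ⟨c, rfl⟩ := iha
    obtain ⟨d, rfl⟩ := ihb
    exact ⟨c + d, (ev_add F c d).symm⟩
  | inv a _ iha =>
    obtain ⟨c, rfl⟩ := iha
    refine ⟨c, ?_⟩
    have : ev F c * ev F c = 1 := by
      rw [← ev_add]
      have : c + c = 0 := by
        ext i; exact CharTwo.add_self_eq_zero _
      rw [this, ev_zero]
    exact inv_eq_of_mul_eq_one_left this

theorem ri_ne (i : Fin 5) : F.r i ≠ 1 := by
  intro h
  have hex : ∀ i : Fin 5, ∃ σ : alternatingGroup (Fin 5), (σ : Equiv.Perm (Fin 5)) i = 0 := by decide +kernel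
  obtain ⟨σ, hσ⟩ := hex i
  have := F.l_r σ i
  rw [hσ, h, mul_one, mul_inv_cancel] at this
  exact F.r_ne this.symm

theorem ri_ne_rj {i j : Fin 5} (hij : i ≠ j) : F.r i ≠ F.r j := by
  intro h
  have hex : ∀ i j : Fin 5, i ≠ j → ∀ k : Fin 5, k ≠ i → ∃ σ : alternatingGroup (Fin 5),
      (σ : Equiv.Perm (Fin 5)) i = i ∧ (σ : Equiv.Perm (Fin 5)) j = k := by decide +kernel
  have hall : ∀ k, F.r k = F.r i := by
    intro k
    by_cases hk : k = i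
    · rw [hk]
    · obtain ⟨σ, h1, h2⟩ := hex i j hij k hk
      have e1 := F.l_r σ i
      have e2 := F.l_r σ j
      rw [h1] at e1
      rw [h2] at e2
      rw [← e2, ← h, e1]
  have hp := F.r_prod
  rw [hall 0, hall 1, hall 2, hall 3, hall 4, F.r_sq, one_mul, F.r_sq, one_mul] at hp
  exact ri_ne F i hp

theorem ev_eq_one {f : Fin 5 → ZMod 2} (h : ev F f = 1) : f = 0 ∨ f = 1 := by
  have hcl : ∀ f : Fin 5 → ZMod 2, f = 0 ∨ f = 1 ∨ (∃ i, f = Pi.single i 1 ∨ f + 1 = Pi.single i 1) ∨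
      (∃ i j, i ≠ j ∧ (f = Pi.single i 1 + Pi.single j 1 ∨ f + 1 = Pi.single i 1 + Pi.single j 1)) := by
    decide +kernel
  have h' : ev F (f + 1) = 1 := by rw [ev_add, h, ev_one, one_mul]
  rcases hcl f with h0 | h1 | ⟨i, hi⟩ | ⟨i, j, hij, hh⟩
  · exact Or.inl h0
  · exact Or.inr h1
  · exfalso
    apply ri_ne F i
    rw [← ev_single]
    rcases hi with hi | hi
    · rw [← hi, h]
    · rw [← hi, h']
  · exfalso
    apply ri_ne_rj F hij
    have hm : F.r i * F.r j = 1 := by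
      rw [← ev_single, ← ev_single, ← ev_add]
      rcases hh with hh | hh
      · rw [← hh, h]
      · rw [← hh, h']
    calc F.r i = F.r i * (F.r j * F.r j) := by rw [F.r_sq, mul_one]
      _ = F.r j := by rw [← mul_assoc, hm, one_mul]

/-- the five-cycle -/
def cyc : alternatingGroup (Fin 5) := ⟨finRotate 5, Equiv.Perm.mem_alternatingGroup.mpr (by decide +kernel)⟩

theorem cyc_apply : ((cyc : Equiv.Perm (Fin 5)) 0 = 1 ∧ (cyc : Equiv.Perm (Fin 5)) 1 = 2 ∧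
    (cyc : Equiv.Perm (Fin 5)) 2 = 3) ∧ (cyc : Equiv.Perm (Fin 5)) 3 = 4 ∧ (cyc : Equiv.Perm (Fin 5)) 4 = 0 := by
  decide +kernel

theorem conj_cyc (c : Fin 5 → ZMod 2) : F.l cyc * ev F c * (F.l cyc)⁻¹ = ev F (fun i => c (i - 1)) := by
  obtain ⟨⟨h0, h1, h2⟩, h3, h4⟩ := cyc_apply
  have hp : ∀ (i : Fin 5) (m : ℕ), MulAut.conj (F.l cyc) (F.r i ^ m) =
      F.r ((cyc : Equiv.Perm (Fin 5)) i) ^ m := by
    intro i m
    rw [map_pow, MulAut.conj_apply, F.l_r]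
  have e : F.l cyc * ev F c * (F.l cyc)⁻¹ = MulAut.conj (F.l cyc) (ev F c) := rfl
  rw [e]
  unfold ev
  simp only [map_mul, hp, h0, h1, h2, h3, h4]
  change F.r 1 ^ (c 0).val * (F.r 2 ^ (c 1).val * (F.r 3 ^ (c 2).val * (F.r 4 ^ (c 3).val * F.r 0 ^ (c 4).val))) =
    F.r 0 ^ (c 4).val * (F.r 1 ^ (c 0).val * (F.r 2 ^ (c 1).val * (F.r 3 ^ (c 2).val * F.r 4 ^ (c 3).val)))
  rw [((rcom F 4 0 _ _)).eq, ← mul_assoc (F.r 3 ^ _), ((rcom F 3 0 _ _)).eq, mul_assoc (F.r 0 ^ _),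
    ← mul_assoc (F.r 2 ^ _), ((rcom F 2 0 _ _)).eq, mul_assoc (F.r 0 ^ _),
    ← mul_assoc (F.r 1 ^ _), ((rcom F 1 0 _ _)).eq, mul_assoc (F.r 0 ^ _)]

/-- The value of the correction term. -/
theorem eq_of_cyc {v : X} (hv : v ∈ closure (Set.range F.r)) (h : v = F.r 0 * (F.l cyc * v * (F.l cyc)⁻¹)) :
    v = F.r 1 * F.r 3 := by
  obtain ⟨c, rfl⟩ := mem_ev F hv
  rw [conj_cyc, ← ev_single, ← ev_add] at h
  have hsq : ∀ d, ev F (d + d) = 1 := by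
    intro d
    have : d + d = 0 := by ext i; exact CharTwo.add_self_eq_zero _
    rw [this, ev_zero]
  have h1 : ev F (c + (Pi.single 0 1 + fun i => c (i - 1))) = 1 := by
    rw [ev_add, ← h, ← ev_add, hsq]
  have hdec : ∀ c : Fin 5 → ZMod 2, (c + (Pi.single 0 1 + fun i => c (i - 1)) = 0 ∨
      c + (Pi.single 0 1 + fun i => c (i - 1)) = 1) → c = Pi.single 1 1 + Pi.single 3 1 ∨
      c = Pi.single 1 1 + Pi.single 3 1 + 1 := by decide +kernel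
  rcases hdec c (ev_eq_one F h1) with h2 | h2
  · rw [h2, ev_add, ev_single, ev_single]
  · rw [h2, ev_add, ev_one, mul_one, ev_add, ev_single, ev_single]

end VMod

/-- The transvections of `A`. -/
def tvs (F : Flag A) : Set X := {s | ∃ a ∈ A, s = a * F.r 0 * a⁻¹}

theorem r_mem_tvs (F : Flag A) (i : Fin 5) : F.r i ∈ tvs F := by
  have hex : ∀ i : Fin 5, ∃ σ : alternatingGroup (Fin 5), (σ : Equiv.Perm (Fin 5)) 0 = i := by decide +kernel
  obtain ⟨σ, hσ⟩ := hex i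
  exact ⟨F.l σ, F.l_mem σ, by rw [F.l_r, hσ]⟩

/-- Klein's four elements. -/
theorem klein_cases : ∀ σ : alternatingGroup (Fin 5), IsKlein σ →
    (((σ : Equiv.Perm (Fin 5)) 1 = 1 ∧ (σ : Equiv.Perm (Fin 5)) 2 = 2 ∧ (σ : Equiv.Perm (Fin 5)) 3 = 3 ∧
      (σ : Equiv.Perm (Fin 5)) 4 = 4) ∨
    ((σ : Equiv.Perm (Fin 5)) 1 = 2 ∧ (σ : Equiv.Perm (Fin 5)) 2 = 1 ∧ (σ : Equiv.Perm (Fin 5)) 3 = 4 ∧
      (σ : Equiv.Perm (Fin 5)) 4 = 3)) ∨
    (((σ : Equiv.Perm (Fin 5)) 1 = 3 ∧ (σ : Equiv.Perm (Fin 5)) 2 = 4 ∧ (σ : Equiv.Perm (Fin 5)) 3 = 1 ∧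
      (σ : Equiv.Perm (Fin 5)) 4 = 2) ∨
    ((σ : Equiv.Perm (Fin 5)) 1 = 4 ∧ (σ : Equiv.Perm (Fin 5)) 2 = 3 ∧ (σ : Equiv.Perm (Fin 5)) 3 = 2 ∧
      (σ : Equiv.Perm (Fin 5)) 4 = 1)) := by
  unfold IsKlein
  decide +kernel

section C1

variable {t : X} (E : Env A t) (w : X → X)

/-- The data of the case `c = 1`. -/
structure IsC1 : Prop where
  sq : ∀ s ∈ tvs E.toFlag, w s * w s = 1
  wt : ∀ s ∈ tvs E.toFlag, w s * t * w s = t * s
  comm : ∀ s ∈ tvs E.toFlag, ∀ a ∈ A, a * s = s * a → a * w s = w s * a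
  equiv : ∀ s ∈ tvs E.toFlag, ∀ a ∈ A, a * w s * a⁻¹ = w (a * s * a⁻¹)
  ww : ∀ i j, w (E.r i) * w (E.r j) = w (E.r j) * w (E.r i) * (E.r i * E.r j)
  prod : ∃ v ∈ closure (Set.range E.r), t = w (E.r 0) * w (E.r 1) * w (E.r 2) * w (E.r 3) * w (E.r 4) * v

variable {E w}

theorem IsC1.wr (C : IsC1 E w) (i j : Fin 5) : w (E.r i) * E.r j = E.r j * w (E.r i) :=
  (C.comm _ (r_mem_tvs _ i) _ (E.r_mem j) (E.r_comm j i)).symm

theorem IsC1.lw (C : IsC1 E w) (σ : alternatingGroup (Fin 5)) (i : Fin 5) :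
    E.l σ * w (E.r i) * (E.l σ)⁻¹ = w (E.r ((σ : Equiv.Perm (Fin 5)) i)) := by
  rw [C.equiv _ (r_mem_tvs _ i) _ (E.l_mem σ), E.l_r]

theorem IsC1.rw1 (C : IsC1 E w) (i j : Fin 5) : E.r j * w (E.r i) = w (E.r i) * E.r j := (C.wr i j).symm

theorem IsC1.rw2 (C : IsC1 E w) (i j : Fin 5) (v : X) : E.r j * (w (E.r i) * v) = w (E.r i) * (E.r j * v) := by
  rw [← mul_assoc, C.rw1, mul_assoc]

theorem IsC1.ww1 (C : IsC1 E w) (i j : Fin 5) :
    w (E.r i) * w (E.r j) = w (E.r j) * (w (E.r i) * (E.r i * E.r j)) := by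
  rw [C.ww i j, mul_assoc]

theorem IsC1.ww2 (C : IsC1 E w) (i j : Fin 5) (v : X) :
    w (E.r i) * (w (E.r j) * v) = w (E.r j) * (w (E.r i) * (E.r i * (E.r j * v))) := by
  rw [← mul_assoc, C.ww i j]; simp only [mul_assoc]

theorem IsC1.sq2 (C : IsC1 E w) (i : Fin 5) (v : X) : w (E.r i) * (w (E.r i) * v) = v := by
  rw [← mul_assoc, C.sq _ (r_mem_tvs _ i), one_mul]

theorem rr2 (E : Env A t) (i : Fin 5) (v : X) : E.r i * (E.r i * v) = v := by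
  rw [← mul_assoc, E.r_sq, one_mul]

theorem rc2 (E : Env A t) (i j : Fin 5) (v : X) : E.r i * (E.r j * v) = E.r j * (E.r i * v) := by
  rw [← mul_assoc, E.r_comm, mul_assoc]

/-- `t = w₀ w₁ w₂ w₃ w₄ r₁ r₃`. -/
theorem IsC1.prod' (C : IsC1 E w) :
    t = w (E.r 0) * w (E.r 1) * w (E.r 2) * w (E.r 3) * w (E.r 4) * (E.r 1 * E.r 3) := by
  obtain ⟨v, hv, hP⟩ := C.prod
  obtain ⟨⟨c0, c1, c2⟩, c3, c4⟩ := cyc_apply
  have hv' := eq_of_cyc E.toFlag hv ?_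
  · rwa [hv'] at hP
  -- conjugate by the five-cycle
  have ht : MulAut.conj (E.l cyc) t = t := by
    rw [MulAut.conj_apply, ← E.t_A _ (E.l_mem cyc), mul_inv_cancel_right]
  have hw : ∀ i, MulAut.conj (E.l cyc) (w (E.r i)) = w (E.r ((cyc : Equiv.Perm (Fin 5)) i)) := fun i => C.lw cyc i
  have h2 : t = w (E.r 1) * w (E.r 2) * w (E.r 3) * w (E.r 4) * w (E.r 0) * (E.l cyc * v * (E.l cyc)⁻¹) := by
    have h3 := congrArg (MulAut.conj (E.l cyc)) hP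
    rw [ht] at h3
    simp only [map_mul, hw, c0, c1, c2, c3, c4] at h3
    exact h3
  have hr : E.r 1 * (E.r 2 * (E.r 3 * E.r 4)) = E.r 0 := by
    have h5 := E.r_prod
    calc E.r 1 * (E.r 2 * (E.r 3 * E.r 4)) = E.r 0 * (E.r 0 * (E.r 1 * (E.r 2 * (E.r 3 * E.r 4)))) := by rw [rr2]
      _ = E.r 0 * (E.r 0 * E.r 1 * E.r 2 * E.r 3 * E.r 4) := by simp only [mul_assoc]
      _ = E.r 0 := by rw [h5, mul_one]
  have hr' : ∀ v, E.r 1 * (E.r 2 * (E.r 3 * (E.r 4 * v))) = E.r 0 * v := by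
    intro v; rw [← hr]; simp only [mul_assoc]
  set v' := E.l cyc * v * (E.l cyc)⁻¹
  have h4 : w (E.r 0) * (w (E.r 1) * (w (E.r 2) * (w (E.r 3) * (w (E.r 4) * v)))) =
      w (E.r 0) * (w (E.r 1) * (w (E.r 2) * (w (E.r 3) * (w (E.r 4) * (E.r 0 * v'))))) := by
    calc w (E.r 0) * (w (E.r 1) * (w (E.r 2) * (w (E.r 3) * (w (E.r 4) * v)))) = t := by
          simpa only [mul_assoc] using hP.symm
      _ = w (E.r 1) * (w (E.r 2) * (w (E.r 3) * (w (E.r 4) * (w (E.r 0) * v')))) := by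
          simpa only [mul_assoc] using h2
      _ = w (E.r 0) * (w (E.r 1) * (w (E.r 2) * (w (E.r 3) * (w (E.r 4) *
            (E.r 1 * (E.r 2 * (E.r 3 * (E.r 4 * v')))))))) := by
          simp only [C.ww2 1 0, C.ww2 2 0, C.ww2 3 0, C.ww2 4 0, C.rw2, rr2, rc2 E 4 0, rc2 E 3 0, rc2 E 2 0,
            rc2 E 1 0]
      _ = _ := by rw [hr']
  exact mul_left_cancel (mul_left_cancel (mul_left_cancel (mul_left_cancel (mul_left_cancel h4))))

theorem IsC1.fr (C : IsC1 E w) : Fr t (w (E.r 0)) (E.r 0) E.Q := by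
  have h0 := r_mem_tvs E.toFlag 0
  refine ⟨E.t_sq, C.sq _ h0, E.r_sq 0, E.r_ne, (E.t_A _ (E.r_mem 0)).symm, C.rw1 0 0, ?_, E.r_Q, E.Q_r,
    fun q hq => (E.t_A q (E.Q_le hq)).symm, fun q hq => C.comm _ h0 q (E.Q_le hq) (E.Q_r q hq), ?_⟩
  · have h1 := C.wt _ h0
    have h2 := C.sq _ h0
    calc w (E.r 0) * t = w (E.r 0) * t * (w (E.r 0) * w (E.r 0)) := by rw [h2, mul_one]
      _ = (w (E.r 0) * t * w (E.r 0)) * w (E.r 0) := by simp only [mul_assoc]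
      _ = t * (w (E.r 0) * E.r 0) := by rw [h1, mul_assoc, C.rw1]
  · intro q hq q' hq'
    rcases E.Q_comm q hq q' hq' with h | h
    · left
      calc q * q' = (q * q' * q⁻¹ * q'⁻¹) * (q' * q) := by group
        _ = q' * q := by rw [h, one_mul]
    · right
      calc q * q' = (q * q' * q⁻¹ * q'⁻¹) * (q' * q) := by group
        _ = (E.r 0 * q') * q := by rw [h, mul_assoc]
        _ = q' * (q * E.r 0) := by rw [← E.Q_r q' hq', mul_assoc, E.Q_r q hq]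

theorem IsC1.wt1 (C : IsC1 E w) (i : Fin 5) : w (E.r i) * t = t * (w (E.r i) * E.r i) := by
  have h1 := C.wt _ (r_mem_tvs _ i)
  have h2 := C.sq _ (r_mem_tvs _ i)
  calc w (E.r i) * t = w (E.r i) * t * (w (E.r i) * w (E.r i)) := by rw [h2, mul_one]
    _ = (w (E.r i) * t * w (E.r i)) * w (E.r i) := by simp only [mul_assoc]
    _ = t * (w (E.r i) * E.r i) := by rw [h1, mul_assoc, C.rw1]

theorem IsC1.wt2 (C : IsC1 E w) (i : Fin 5) (v : X) :
    w (E.r i) * (t * v) = t * (w (E.r i) * (E.r i * v)) := by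
  rw [← mul_assoc, C.wt1]; simp only [mul_assoc]

/-- action of `Q` on the base line -/
theorem IsC1.q_act (C : IsC1 E w) {q : X} (hq : q ∈ E.Q) : ∃ σ : alternatingGroup (Fin 5), IsKlein σ ∧
    (∀ i, q * E.r i = E.r ((σ : Equiv.Perm (Fin 5)) i) * q) ∧
    (∀ i, q * w (E.r i) = w (E.r ((σ : Equiv.Perm (Fin 5)) i)) * q) := by
  obtain ⟨u, hu, σ, hσ, rfl⟩ := E.Q_gen q hq
  have h1 : ∀ i, (u * E.l σ) * E.r i * (u * E.l σ)⁻¹ = E.r ((σ : Equiv.Perm (Fin 5)) i) := by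
    intro i
    calc (u * E.l σ) * E.r i * (u * E.l σ)⁻¹ = u * (E.l σ * E.r i * (E.l σ)⁻¹) * u⁻¹ := by group
      _ = E.r ((σ : Equiv.Perm (Fin 5)) i) := by
          rw [E.l_r, E.U_r u (inf_le_left (a := E.U) hu), mul_inv_cancel_right]
  refine ⟨σ, hσ, fun i => ?_, fun i => ?_⟩
  · rw [← h1 i]; group
  · have h2 := C.equiv _ (r_mem_tvs _ i) _ (E.Q_le hq)
    rw [h1] at h2
    rw [← h2]; group

theorem IsC1.tv (C : IsC1 E w) :
    Tv t (w (E.r 0)) (E.r 0) E.Q (E.r 1 * E.r 2) (w (E.r 1) * (w (E.r 2) * E.r 1)) := by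
  have rt : ∀ j, E.r j * t = t * E.r j := fun j => (E.t_A _ (E.r_mem j)).symm
  have rt2 : ∀ j v, E.r j * (t * v) = t * (E.r j * v) := fun j v => by rw [← mul_assoc, rt, mul_assoc]
  have hr : E.r 1 * (E.r 2 * (E.r 3 * E.r 4)) = E.r 0 := by
    have h5 := E.r_prod
    calc E.r 1 * (E.r 2 * (E.r 3 * E.r 4)) = E.r 0 * (E.r 0 * (E.r 1 * (E.r 2 * (E.r 3 * E.r 4)))) := by rw [rr2]
      _ = E.r 0 * (E.r 0 * E.r 1 * E.r 2 * E.r 3 * E.r 4) := by simp only [mul_assoc]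
      _ = E.r 0 := by rw [h5, mul_one]
  -- `w₀ t = w₁ w₂ w₃ w₄ r₁ r₃`
  have hP : ∀ v, w (E.r 0) * (t * v) =
      w (E.r 1) * (w (E.r 2) * (w (E.r 3) * (w (E.r 4) * (E.r 1 * (E.r 3 * v))))) := by
    intro v
    have h1 : w (E.r 0) * t = w (E.r 1) * (w (E.r 2) * (w (E.r 3) * (w (E.r 4) * (E.r 1 * E.r 3)))) := by
      calc w (E.r 0) * t = w (E.r 0) * (w (E.r 0) * w (E.r 1) * w (E.r 2) * w (E.r 3) * w (E.r 4) *
            (E.r 1 * E.r 3)) := congrArg _ C.prod'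
        _ = w (E.r 0) * (w (E.r 0) * (w (E.r 1) * (w (E.r 2) * (w (E.r 3) * (w (E.r 4) *
            (E.r 1 * E.r 3)))))) := by simp only [mul_assoc]
        _ = _ := by rw [C.sq2]
    rw [← mul_assoc, h1]; simp only [mul_assoc]
  -- the commutation condition
  have hcond : ∀ (q : X) (σ : alternatingGroup (Fin 5)), (∀ i, q * E.r i = E.r ((σ : Equiv.Perm (Fin 5)) i) * q) →
      (q * (E.r 1 * E.r 2) = (E.r 1 * E.r 2) * q ↔
        E.r ((σ : Equiv.Perm (Fin 5)) 1) * E.r ((σ : Equiv.Perm (Fin 5)) 2) = E.r 1 * E.r 2) := by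
    intro q σ h
    have e : q * (E.r 1 * E.r 2) = (E.r ((σ : Equiv.Perm (Fin 5)) 1) * E.r ((σ : Equiv.Perm (Fin 5)) 2)) * q := by
      rw [← mul_assoc, h, mul_assoc, h, mul_assoc]
    rw [e]
    exact ⟨fun h => mul_right_cancel h, fun h => by rw [h]⟩
  have h34 : E.r 3 * E.r 4 ≠ E.r 1 * E.r 2 := by
    intro h
    rw [h, rc2 E 2 1, rr2, E.r_sq] at hr
    exact E.r_ne hr.symm
  have h43 : E.r 4 * E.r 3 ≠ E.r 1 * E.r 2 := by rw [E.r_comm]; exact h34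
  refine ⟨E.rr_Q 1 2 (by decide) (by decide), ?_, ?_, ?_, ?_, ?_, ?_⟩
  · simp only [mul_assoc, rc2 E 2 1, rr2, E.r_sq]
  · simp only [mul_assoc, C.rw1, C.rw2, E.r_comm 1 0]
  · rw [mul_inv_eq_iff_eq_mul]
    simp only [mul_assoc, C.rw1, C.rw2, C.wt1, C.wt2, rt, rt2, rc2 E 2 1, rr2, E.r_comm 2 1]
  · rw [mul_inv_eq_iff_eq_mul]
    simp only [mul_assoc, C.rw1, C.rw2, C.ww1 1 0, C.ww1 2 0, C.ww2 1 0, C.ww2 2 0, rc2 E 2 1, rr2, E.r_comm 2 1,
      rc2 E 1 0, E.r_comm 1 0, rc2 E 2 0, E.r_comm 2 0]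
  · intro q hq hc
    obtain ⟨σ, hσ, h1, h2⟩ := C.q_act hq
    rw [hcond q σ h1] at hc
    rw [mul_inv_eq_iff_eq_mul]
    have e : q * (w (E.r 1) * (w (E.r 2) * E.r 1)) = (w (E.r ((σ : Equiv.Perm (Fin 5)) 1)) *
        (w (E.r ((σ : Equiv.Perm (Fin 5)) 2)) * E.r ((σ : Equiv.Perm (Fin 5)) 1))) * q := by
      rw [← mul_assoc, h2, mul_assoc, ← mul_assoc q, h2, mul_assoc _ q, h1]; simp only [mul_assoc]
    rw [e]
    congr 1
    rcases klein_cases σ hσ with (⟨k1, k2, k3, k4⟩ | ⟨k1, k2, k3, k4⟩) | (⟨k1, k2, k3, k4⟩ | ⟨k1, k2, k3, k4⟩)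
    · rw [k1, k2]
    · rw [k1, k2, C.ww2 2 1]
      simp only [rc2 E 2 1, E.r_sq, mul_one]
    · rw [k1, k2] at hc; exact absurd hc h34
    · rw [k1, k2] at hc; exact absurd hc h43
  · intro q hq hc
    obtain ⟨σ, hσ, h1, h2⟩ := C.q_act hq
    rw [ne_eq, hcond q σ h1] at hc
    rw [mul_inv_eq_iff_eq_mul]
    have qw : q * w (E.r 0) = w (E.r 0) * q := C.fr.Qw q hq
    have qt : q * t = t * q := C.fr.Qt q hq
    have e : q * (w (E.r 0) * (t * (E.r 1 * E.r 2))) * (w (E.r 1) * (w (E.r 2) * E.r 1)) =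
        (w (E.r 0) * (t * ((E.r ((σ : Equiv.Perm (Fin 5)) 1) * E.r ((σ : Equiv.Perm (Fin 5)) 2)) *
        (w (E.r ((σ : Equiv.Perm (Fin 5)) 1)) *
        (w (E.r ((σ : Equiv.Perm (Fin 5)) 2)) * E.r ((σ : Equiv.Perm (Fin 5)) 1)))))) * q := by
      have s1 : ∀ v, q * (w (E.r 0) * v) = w (E.r 0) * (q * v) := fun v => by rw [← mul_assoc, qw, mul_assoc]
      have s2 : ∀ v, q * (t * v) = t * (q * v) := fun v => by rw [← mul_assoc, qt, mul_assoc]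
      have s3 : ∀ i v, q * (E.r i * v) = E.r ((σ : Equiv.Perm (Fin 5)) i) * (q * v) :=
        fun i v => by rw [← mul_assoc, h1, mul_assoc]
      have s4 : ∀ i v, q * (w (E.r i) * v) = w (E.r ((σ : Equiv.Perm (Fin 5)) i)) * (q * v) :=
        fun i v => by rw [← mul_assoc, h2, mul_assoc]
      simp only [mul_assoc, s1, s2, s3, s4, h1]
    rw [e]
    congr 1
    rcases klein_cases σ hσ with (⟨k1, k2, k3, k4⟩ | ⟨k1, k2, k3, k4⟩) | (⟨k1, k2, k3, k4⟩ | ⟨k1, k2, k3, k4⟩)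
    · rw [k1, k2] at hc; exact absurd rfl hc
    · rw [k1, k2] at hc; exact absurd (E.r_comm 2 1) hc
    · rw [k1, k2, hP]
      simp only [mul_assoc, C.rw1, C.rw2, C.ww2 4 3, C.sq2, rr2]
      simp only [rc2 E 4 3, rc2 E 4 1, rc2 E 3 1, E.r_comm 4 3, rr2, E.r_sq, mul_one]
    · rw [k1, k2, hP]
      simp only [mul_assoc, C.rw1, C.rw2, C.ww2 4 3, C.sq2, rr2]
      simp only [rc2 E 4 3, rc2 E 4 1, rc2 E 3 1, E.r_comm 4 3, rr2, E.r_sq, mul_one]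

/-- **The case `c = 1` is impossible.** -/
theorem false_of_c1 (C : IsC1 E w) : False := by
  have F := C.fr
  have T := C.tv
  have hwD : ∀ a ∈ A, a * E.r 0 = E.r 0 * a → a * w (E.r 0) = w (E.r 0) * a := C.comm _ (r_mem_tvs _ 0)
  obtain ⟨a, haA, haz, hxy⟩ := E.Q_pair
  set x := E.r 1 * E.r 2 with hx
  have T' := T.conj haz (E.t_A a haA).symm (hwD a haA haz) (E.Q_conj a haA haz) (fun q hq => by
    have h := E.Q_conj a⁻¹ (A.inv_mem haA) (comm_inv_of haz) q hq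
    rwa [inv_inv] at h)
  set y := a * x * a⁻¹ with hy
  have hne : y * x ≠ x * y := by
    intro h
    have : x * y * x⁻¹ * y⁻¹ = 1 := by rw [← h]; group
    rw [this] at hxy
    exact E.r_ne hxy.symm
  refine false_of_nn E F hwD (nn F T T' hne) ?_ ?_
  · intro h
    apply hne
    have : y = x⁻¹ := (eq_inv_of_mul_eq_one_right h)
    rw [this]; group
  · intro h
    apply hne
    have e : y = x⁻¹ * E.r 0 := by rw [← h]; group
    rw [e, mul_assoc, ← E.Q_r x T.xQ]; group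

end C1

end Cfsg.Agent.UFiveTwo.NoC1
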