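import Cfsg.Agent.UFiveTwo.OneDef

/-!
# S1778, type `U₅(2)`, section 9 (`eps = 1`), (II): `C_{V*}(x) ≤ A₁`, `V*` normalizes `A₁`
-/

set_option autoImplicit false

namespace Cfsg.Agent.UFiveTwo.Big

open Subgroup Cfsg.Agent.UFiveTwo.Line

universe u

theorem dec_K : ∀ π : Equiv.Perm (Fin 5), π 0 = 0 → π * π * π = 1 → π ≠ 1 →
    ∀ σ : Equiv.Perm (Fin 5), σ 0 = 0 → σ * σ = 1 → Equiv.Perm.sign σ = 1 → σ ≠ 1 →
    ∀ i : Fin 5, i ≠ 0 → σ i ≠ i ∧ σ i ≠ 0 ∧ σ (π i) ≠ π (σ i) := by decide +kernel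

variable {X : Type u} [Group X] {A : Subgroup X} {t : X} {E : Env A t} {w : X → X} {Qh Γ A1 : Subgroup X}

namespace Ctx

variable (H : Ctx E w Qh Γ)

include H

/-- the action of `Q` on the line. -/
theorem Q_klein {m : X} (hm : m ∈ E.Q) (hmU : m ∉ E.U) : ∃ σ : Equiv.Perm (Fin 5), σ 0 = 0 ∧ σ * σ = 1 ∧
    Equiv.Perm.sign σ = 1 ∧ σ ≠ 1 ∧ (∀ i, m * E.r i * m⁻¹ = E.r (σ i)) ∧
    (∀ i, m * w (E.r i) * m⁻¹ = w (E.r (σ i))) := by
  obtain ⟨u, hu, σ, hσ, rfl⟩ := E.Q_gen m hm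
  have h1 : ∀ i, (u * E.l σ) * E.r i * (u * E.l σ)⁻¹ = E.r ((σ : Equiv.Perm (Fin 5)) i) := by
    intro i
    calc (u * E.l σ) * E.r i * (u * E.l σ)⁻¹ = u * (E.l σ * E.r i * (E.l σ)⁻¹) * u⁻¹ := by group
      _ = E.r ((σ : Equiv.Perm (Fin 5)) i) := by rw [E.l_r, conj_eq (E.U_r u hu.1 _)]
  refine ⟨σ, hσ.1, hσ.2, Equiv.Perm.mem_alternatingGroup.mp σ.2, ?_, h1,
    fun i => by rw [H.W_conj i (E.Q_le hm), h1]⟩
  intro hs
  apply hmU
  have : σ = 1 := Subtype.ext hs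
  rw [this, map_one, mul_one]
  exact hu.1

end Ctx

theorem comm_of_conj_inv {a b : X} (h : a * b * a⁻¹ = b) : b * a = a * b := (comm_of_conj h).symm

/-- a fact on five commuting involutions -/
theorem half {f : Fin 5 → X} (h : R5 f) (N : Subgroup X) (h0 : f 0 ∈ N)
    (hij : ∀ i j, i ≠ 0 → j ≠ 0 → f i * f j ∈ N) {v : X} (hv : v ∈ closure (Set.range f)) : v ∈ N ∨ f 1 * v ∈ N := by
  have h10 : (1 : Fin 5) ≠ 0 := by decide
  rcases h.mem_closure.mp hv with rfl | ⟨i, rfl⟩ | ⟨i, j, hne, rfl⟩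
  · exact Or.inl (one_mem _)
  · by_cases hi : i = 0
    · subst hi; exact Or.inl h0
    · exact Or.inr (hij _ _ h10 hi)
  · by_cases hi : i = 0
    · subst hi
      have hj : j ≠ 0 := Ne.symm hne
      right
      rw [← mul_assoc, h.comm 1 0, mul_assoc]
      exact mul_mem h0 (hij _ _ h10 hj)
    · by_cases hj : j = 0
      · subst hj
        right
        rw [← mul_assoc]
        exact mul_mem (hij _ _ h10 hi) h0
      · exact Or.inl (hij _ _ hi hj)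

namespace One

variable (H : One E w Qh Γ A1)

include H

theorem K_aux {m : X} (hm : m ∈ E.Q) (hmU : m ∉ E.U) {y : X} (hy : y ∈ A1) (i : Fin 5) (hi : i ≠ 0)
    (hov : Ov E w y (E.r i * (m * E.r i * m⁻¹))) (hc : y * m = m * y) : False := by
  obtain ⟨σ, hσ0, hσσ, hσs, hσ1, hr, -⟩ := H.Q_klein hm hmU
  obtain ⟨π, hπ, hπ0, hπ3, hπ1⟩ := E.exists_perm
  obtain ⟨k1, k2, k3⟩ := dec_K π hπ0 hπ3 hπ1 σ hσ0 hσσ hσs hσ1 i hi
  rw [hr] at hov
  have hσi : σ i ≠ 0 := k2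
  obtain ⟨-, h2⟩ := H.ovcomm hy (E.rr_Q i (σ i) hi hσi) hov hm hc
  rw [E.c0_mul, hπ, hπ] at h2
  have h3 : E.r (σ (π i)) * E.r (σ (π (σ i))) = E.r (π i) * E.r (π (σ i)) := by
    rw [← hr, ← hr]
    calc m * E.r (π i) * m⁻¹ * (m * E.r (π (σ i)) * m⁻¹) = m * (E.r (π i) * E.r (π (σ i))) * m⁻¹ := by group
      _ = _ := by rw [← h2]; group
  have hne : π i ≠ π (σ i) := fun h => k1 (π.injective h).symm
  have hne' : σ (π i) ≠ σ (π (σ i)) := fun h => hne (σ.injective h)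
  rcases H.R5r.mul_ne_mul hne' hne h3 with ⟨h4, -⟩ | ⟨h4, -⟩
  · have hπi : π i ≠ 0 := by
      intro h
      rw [← hπ0] at h
      exact hi (π.injective h)
    exact (dec_K π hπ0 hπ3 hπ1 σ hσ0 hσσ hσs hσ1 (π i) hπi).1 h4
  · exact k3 h4

/-- **(K)** `C_{V*}(x) ≤ A₁` for `x ∈ A₁` over `m ∈ Q - U`. -/
theorem cent_Vs {x m : X} (hx : x ∈ A1) (hm : m ∈ E.Q) (hmU : m ∉ E.U) (hov : Ov E w x m) {s : X}
    (hs : s ∈ Vs E w) (hxs : x * s = s * x) : s ∈ A1 := by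
  obtain ⟨σ, hσ0, hσσ, hσs, hσ1, hr, hW⟩ := H.Q_klein hm hmU
  have h10 : (1 : Fin 5) ≠ 0 := by decide
  obtain ⟨π, hπ, hπ0, hπ3, hπ1⟩ := E.exists_perm
  obtain ⟨k1, k2, -⟩ := dec_K π hπ0 hπ3 hπ1 σ hσ0 hσσ hσs hσ1 1 h10
  have hσσi : ∀ i, σ (σ i) = i := fun i => by
    have := congrArg (fun e : Equiv.Perm (Fin 5) => e i) hσσ
    exact this
  obtain ⟨v, hv, u, hu, rfl⟩ := H.mem_Vs.mp hs
  have hvs := V_le_Vs (w := w) hv
  have hus := VW_le_Vs hu
  have r1V : E.r 1 ∈ Vs E w := r_Vs 1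
  have W1V : w (E.r 1) ∈ Vs E w := W_Vs 1
  have r1r1 : ∀ g, E.r 1 * (E.r 1 * g) = g := fun g => by rw [← mul_assoc, E.r_sq, one_mul]
  have w1w1 : ∀ g, w (E.r 1) * (w (E.r 1) * g) = g := fun g => by rw [← mul_assoc, H.W_sq, one_mul]
  -- halves
  have hv' := half H.R5r E.Q E.r_Q E.rr_Q hv
  have hu' := half H.R5W Γ H.q.w_mem (fun i j hi hj => H.q.ww_mem i j hi hj) hu
  have hxQ := H.A1_le hx
  -- `e`
  obtain ⟨e, he⟩ : ∃ e, e = (E.r 1)⁻¹ * x * E.r 1 * x⁻¹ := ⟨_, rfl⟩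
  have rinv : (E.r 1)⁻¹ = E.r 1 := E.V_inv (E.r_V 1)
  have heA : e ∈ A1 := by
    have h1 := H.conj (E.r 1)⁻¹ (inv_mem (E.r_mem 1)) (comm_inv (E.r_comm 1 0)) x hx
    rw [inv_inv] at h1
    rw [he]; exact mul_mem h1 (inv_mem hx)
  have heov : Ov E w e (E.r 1 * E.r (σ 1)) := by
    have h1 := H.ov_conj (inv_mem (E.r_mem 1)) (comm_inv (E.r_comm 1 0)) hov
    rw [inv_inv] at h1
    have hxi := H.qov_inv hxQ hm hov
    have hrx : (E.r 1)⁻¹ * x * E.r 1 ∈ Qh := by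
      have h2 := H.conj (E.r 1)⁻¹ (inv_mem (E.r_mem 1)) (comm_inv (E.r_comm 1 0)) x hx
      rw [inv_inv] at h2
      exact H.A1_le h2
    have h2 := H.qov_mul hrx (inv_mem hm) h1 hxi
    have e2 : (E.r 1)⁻¹ * m * E.r 1 * m⁻¹ = E.r 1 * E.r (σ 1) := by rw [← hr 1, rinv]; group
    rw [e2] at h2
    rw [he]; exact h2
  have heV : e ∈ Vs E w :=
    H.mem_Vs_A1 heA (mul_mem (E.r_V 1) (E.r_V _)) (E.rr_Q _ _ h10 k2) heov
  have hxr : x * E.r 1 * x⁻¹ = E.r 1 * e := by rw [he]; group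
  have heZ : e ∉ Zh E w := by
    intro h
    have h1 := H.ov_zh h
    rcases H.ov_unique (E.rr_Q _ _ h10 k2) (one_mem _) heov h1 with h2 | h2
    · exact E.rr_ne_one (Ne.symm k1) h2
    · rw [one_mul] at h2
      exact H.R5r.mul_ne (Ne.symm k1) h2
  have hxs' : x * (v * u) * x⁻¹ = v * u := conj_eq hxs
  -- the element `x' = t x t`
  obtain ⟨ζ₃, hζ₃, h33⟩ := H.mul_t hx hm hov
  have hx'Q := H.t_Qh hxQ
  -- conjugating with `x x'`
  have hxx : x * ((t * x * t) * w (E.r 1) * (t * x * t)⁻¹) * x⁻¹ = w (E.r (σ 1)) := by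
    calc x * ((t * x * t) * w (E.r 1) * (t * x * t)⁻¹) * x⁻¹
        = (x * (t * x * t)) * w (E.r 1) * (x * (t * x * t))⁻¹ := by group
      _ = m * (ζ₃ * w (E.r 1) * ζ₃⁻¹) * m⁻¹ := by rw [h33]; group
      _ = w (E.r (σ 1)) := by rw [conj_eq (H.Vs_comm (Zh_le_Vs hζ₃) W1V), hW]
  have tconj : ∀ a b : X, (t * a * t) * (t * b * t) * (t * a * t)⁻¹ = t * (a * b * a⁻¹) * t := by
    intro a b
    have ti : t⁻¹ = t := inv_eq_of_mul_eq_one_left E.t_sq
    calc (t * a * t) * (t * b * t) * (t * a * t)⁻¹ = t * a * (t * t) * b * (t * t⁻¹) * a⁻¹ * t⁻¹ := by group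
      _ = t * (a * b * a⁻¹) * t := by rw [E.t_sq, ti, E.t_sq]; group
  have tr1 : t * E.r 1 * t = E.r 1 := by rw [H.t_r, mul_assoc, E.t_sq, mul_one]
  have tW1 : t * w (E.r 1) * t = w (E.r 1) * E.r 1 := H.t_W_t 1
  have tmul : ∀ a b : X, t * (a * b) * t = (t * a * t) * (t * b * t) := by
    intro a b
    calc t * (a * b) * t = t * a * 1 * b * t := by group
      _ = _ := by rw [← E.t_sq]; group
  -- the final contradiction
  have hWQ : w (E.r 1) * w (E.r (σ 1)) ∈ Qh := H.q.Γ_le (H.q.ww_mem 1 (σ 1) h10 k2)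
  have hRQ : E.r 1 * E.r (σ 1) ∈ E.Q := E.rr_Q _ _ h10 k2
  have fin1 : w (E.r 1) * w (E.r (σ 1)) ∉ A1 := by
    intro h
    refine H.K_aux hm hmU h 1 h10 (by rw [hr]; exact H.WW_ov) ?_
    apply comm_of_conj_inv
    calc m * (w (E.r 1) * w (E.r (σ 1))) * m⁻¹ = (m * w (E.r 1) * m⁻¹) * (m * w (E.r (σ 1)) * m⁻¹) := by group
      _ = w (E.r 1) * w (E.r (σ 1)) := by rw [hW, hW, hσσi, H.zero.comm]
  have fin2 : (w (E.r 1) * w (E.r (σ 1))) * (E.r 1 * E.r (σ 1)) ∉ A1 := by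
    intro h
    refine H.K_aux hm hmU h 1 h10 ?_ ?_
    · have h1 := H.qov_mul hWQ (one_mem _) H.WW_ov (H.ov_Q hRQ)
      rw [hr]
      rwa [mul_one] at h1
    · apply comm_of_conj_inv
      calc m * (w (E.r 1) * w (E.r (σ 1)) * (E.r 1 * E.r (σ 1))) * m⁻¹ =
          (m * w (E.r 1) * m⁻¹) * (m * w (E.r (σ 1)) * m⁻¹) * ((m * E.r 1 * m⁻¹) * (m * E.r (σ 1) * m⁻¹)) := by group
        _ = _ := by rw [hW, hW, hr, hr, hσσi, H.zero.comm, E.r_comm]
  rcases hv' with hvQ | hvQ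
  · rcases hu' with huΓ | huΓ
    · -- `s ∈ Qh`
      obtain ⟨m₂, hm₂, ζ, hζ, h2⟩ := H.exists_ov huΓ
      have hm₂V : m₂ ∈ E.V := by
        obtain ⟨v₁, hv₁, h3, -⟩ := H.t_Vs (inv_mem hus)
        have h4 : m₂ = u * u⁻¹ * v₁ * ζ⁻¹ := by
          have h5 : t * (m₂ * ζ) = t * (u * (u⁻¹ * v₁)) := by
            rw [← h2]
            have e1 : t * u⁻¹ = u⁻¹ * v₁ * t := by rw [← h3, mul_assoc, E.t_sq, mul_one]
            have c1 : u * (u⁻¹ * v₁) * t = t * (u * (u⁻¹ * v₁)) := by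
              have : u * (u⁻¹ * v₁) = v₁ := by group
              rw [this, H.t_V hv₁]
            calc u * t * u⁻¹ = u * (t * u⁻¹) := by group
              _ = u * (u⁻¹ * v₁) * t := by rw [e1]; group
              _ = _ := c1
          have h6 := mul_left_cancel h5
          calc m₂ = m₂ * ζ * ζ⁻¹ := by group
            _ = _ := by rw [h6]; group
        have h5 : m₂ ∈ Vs E w := by
          rw [h4]
          exact mul_mem (mul_mem (mul_mem hus (inv_mem hus)) (V_le_Vs hv₁)) (inv_mem (Zh_le_Vs hζ))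
        exact H.mem_V_of_comm h5 (E.t_A _ (E.Q_le hm₂))
      have hcA := H.mkA u huΓ m₂ hm₂ ⟨ζ, hζ, h2⟩
      have hcV := E.c0_VQ hm₂V hm₂
      have hcQ := E.c0_Q hm₂
      set n := v * (E.c0 m₂)⁻¹ with hn
      have hnQ : n ∈ E.Q := mul_mem hvQ (inv_mem hcQ)
      have hnV : n ∈ E.V := mul_mem hv (inv_mem hcV)
      have hsn : v * u = n * (u * E.c0 m₂) := by
        have c1 := H.Vs_comm (inv_mem (V_le_Vs (w := w) hcV)) hus
        calc v * u = v * ((E.c0 m₂)⁻¹ * E.c0 m₂) * u := by group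
          _ = v * ((E.c0 m₂)⁻¹ * u) * E.c0 m₂ := by
              rw [mul_assoc, mul_assoc (E.c0 m₂)⁻¹, ← H.Vs_comm hus (V_le_Vs hcV)]; group
          _ = n * (u * E.c0 m₂) := by rw [hn]; group
      have hxn : x * n = n * x := by
        have h1 : n = v * u * (u * E.c0 m₂)⁻¹ := by rw [hsn]; group
        have h2 := H.comm x hx _ (inv_mem hcA)
        rw [h1]
        calc x * (v * u * (u * E.c0 m₂)⁻¹) = (x * (v * u)) * (u * E.c0 m₂)⁻¹ := by group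
          _ = v * u * (x * (u * E.c0 m₂)⁻¹) := by rw [hxs]; group
          _ = _ := by rw [h2]; group
      obtain ⟨h3, h4⟩ := H.ovcomm hx hm hov hnQ hxn
      rcases E.VQ_cases hnV hnQ with h5 | h5 | ⟨i, j, hi, hj, hij, h5⟩
      · rw [hsn, h5, one_mul]; exact hcA
      · rw [hsn, h5]; exact mul_mem (H.Zh_A1 r_Zh) hcA
      · exfalso
        rw [h5] at h3 h4
        have h6 : E.r (σ i) * E.r (σ j) = E.r i * E.r j := by
          rw [← hr, ← hr]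
          calc m * E.r i * m⁻¹ * (m * E.r j * m⁻¹) = m * (E.r i * E.r j) * m⁻¹ := by group
            _ = _ := by rw [h3]; group
        have hji : σ i = j := by
          rcases H.R5r.mul_ne_mul (fun h => hij (σ.injective h)) hij h6 with ⟨h7, -⟩ | ⟨h7, -⟩
          · exact absurd h7 (dec_K π hπ0 hπ3 hπ1 σ hσ0 hσσ hσs hσ1 i hi).1
          · exact h7
        -- the permutation of `c0 m`
        have hcr : ∀ k, E.c0 m * E.r (π k) * (E.c0 m)⁻¹ = E.r (π (σ k)) := by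
          intro k
          rw [← hπ, ← hπ, ← hr]
          unfold Flag.c0; group
        obtain ⟨i', rfl⟩ := π.surjective i
        obtain ⟨j', rfl⟩ := π.surjective j
        have h8 : E.r (π (σ i')) * E.r (π (σ j')) = E.r (π i') * E.r (π j') := by
          rw [← hcr, ← hcr]
          calc E.c0 m * E.r (π i') * (E.c0 m)⁻¹ * (E.c0 m * E.r (π j') * (E.c0 m)⁻¹) =
              E.c0 m * (E.r (π i') * E.r (π j')) * (E.c0 m)⁻¹ := by group
            _ = _ := by rw [h4]; group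
        have hi' : i' ≠ 0 := by
          rintro rfl; exact hi hπ0
        have hij' : i' ≠ j' := by
          rintro rfl; exact hij rfl
        have h9 : π (σ i') ≠ π (σ j') := fun h => hij' (σ.injective (π.injective h))
        rcases H.R5r.mul_ne_mul h9 hij h8 with ⟨h7, -⟩ | ⟨h7, -⟩
        · exact (dec_K π hπ0 hπ3 hπ1 σ hσ0 hσσ hσs hσ1 i' hi').1 (π.injective h7)
        · exact (dec_K π hπ0 hπ3 hπ1 σ hσ0 hσσ hσs hσ1 i' hi').2.2 (hji.trans h7.symm)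
    · -- `s = w₁ y`
      exfalso
      have hyQ : v * (w (E.r 1) * u) ∈ Qh := mul_mem (H.q.Q_le hvQ) (H.q.Γ_le huΓ)
      obtain ⟨ζ, hζ, h1⟩ := H.Qh_comm hxQ hyQ
      have hxw : x * w (E.r 1) * x⁻¹ = w (E.r 1) * ζ := by
        have h2 : v * u = w (E.r 1) * (v * (w (E.r 1) * u)) := by
          rw [← mul_assoc (w (E.r 1)) v, H.Vs_comm W1V hvs, mul_assoc v, w1w1]
        rw [h2] at hxs'
        have h3 : x * (w (E.r 1) * (v * (w (E.r 1) * u))) * x⁻¹ =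
            (x * w (E.r 1) * x⁻¹) * ((v * (w (E.r 1) * u)) * ζ) := by rw [← h1]; group
        rw [h3] at hxs'
        have h4 : x * w (E.r 1) * x⁻¹ = w (E.r 1) * (v * (w (E.r 1) * u)) * ((v * (w (E.r 1) * u)) * ζ)⁻¹ := by
          rw [← hxs']; group
        rw [h4]
        have h5 : w (E.r 1) * (v * (w (E.r 1) * u)) * ((v * (w (E.r 1) * u)) * ζ)⁻¹ =
            w (E.r 1) * ((v * (w (E.r 1) * u)) * ζ⁻¹ * (v * (w (E.r 1) * u))⁻¹) := by group
        rw [h5, conj_eq (H.Qh_Zh hyQ (inv_mem hζ)), H.Zh_inv hζ]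
      have h6 : (t * x * t) * w (E.r 1) * (t * x * t)⁻¹ = w (E.r 1) * (t * ζ * t) * (t * e * t)⁻¹ := by
        have h7 := tconj x (w (E.r 1))
        have h8 := tconj x (E.r 1)
        rw [tW1, hxw, tmul, tW1] at h7
        rw [tr1, hxr, tmul, tr1] at h8
        have hteV := H.t_conj_Vs heV
        have htζV := H.t_conj_Vs (Zh_le_Vs hζ)
        have h9 : (t * x * t) * w (E.r 1) * (t * x * t)⁻¹ =
            ((t * x * t) * (w (E.r 1) * E.r 1) * (t * x * t)⁻¹) * ((t * x * t) * E.r 1 * (t * x * t)⁻¹)⁻¹ := by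
          group
        rw [h9, h7, h8]
        calc w (E.r 1) * E.r 1 * (t * ζ * t) * (E.r 1 * (t * e * t))⁻¹
            = w (E.r 1) * (E.r 1 * (t * ζ * t) * (t * e * t)⁻¹) * (E.r 1)⁻¹ := by group
          _ = w (E.r 1) * ((t * ζ * t) * (t * e * t)⁻¹ * E.r 1) * (E.r 1)⁻¹ := by
              have c1 := H.Vs_comm r1V (mul_mem htζV (inv_mem hteV))
              rw [mul_assoc (E.r 1), c1]
          _ = _ := by group
      obtain ⟨ζ₂, hζ₂, h7⟩ := H.Qh_comm hxQ (mul_mem (H.t_Qh (H.Zh_Qh hζ)) (inv_mem (H.t_Qh (H.A1_le heA))))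
      have h8 : w (E.r 1) * w (E.r (σ 1)) = (t * ζ * t) * (t * e * t)⁻¹ * (ζ * ζ₂) := by
        rw [← hxx, h6]
        have h9 : x * (w (E.r 1) * (t * ζ * t) * (t * e * t)⁻¹) * x⁻¹ =
            (x * w (E.r 1) * x⁻¹) * (x * ((t * ζ * t) * (t * e * t)⁻¹) * x⁻¹) := by group
        rw [h9, hxw, h7]
        have hteV := H.t_conj_Vs heV
        have htζV := H.t_conj_Vs (Zh_le_Vs hζ)
        have c1 := H.Vs_comm (Zh_le_Vs hζ) (mul_mem htζV (inv_mem hteV))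
        calc w (E.r 1) * (w (E.r 1) * ζ * ((t * ζ * t) * (t * e * t)⁻¹ * ζ₂))
            = (w (E.r 1) * w (E.r 1)) * (ζ * ((t * ζ * t) * (t * e * t)⁻¹)) * ζ₂ := by group
          _ = _ := by rw [H.W_sq, c1]; group
      -- `t (w₁ w_σ1) t ∈ A₁`
      have tt : ∀ g : X, t * (t * g * t) * t = g := by
        intro g
        calc t * (t * g * t) * t = (t * t) * g * (t * t) := by group
          _ = g := by rw [E.t_sq, one_mul, mul_one]
      have ti : t⁻¹ = t := inv_eq_of_mul_eq_one_left E.t_sq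
      have h9 : t * (w (E.r 1) * w (E.r (σ 1))) * t ∈ A1 := by
        rw [h8, tmul, tmul, tt]
        have h10 : t * (t * e * t)⁻¹ * t = e⁻¹ := by
          have : (t * e * t)⁻¹ = t * e⁻¹ * t := by rw [mul_inv_rev, mul_inv_rev, ti]; group
          rw [this, tt]
        rw [h10]
        exact mul_mem (mul_mem (H.Zh_A1 hζ) (inv_mem heA)) (H.Zh_A1 (H.t_Zh (mul_mem hζ hζ₂)))
      have h10 : t * (w (E.r 1) * w (E.r (σ 1))) * t = (w (E.r 1) * w (E.r (σ 1))) * (E.r 1 * E.r (σ 1)) := by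
        rw [tmul, tW1, H.t_W_t]
        calc w (E.r 1) * E.r 1 * (w (E.r (σ 1)) * E.r (σ 1)) = w (E.r 1) * (E.r 1 * w (E.r (σ 1))) * E.r (σ 1) := by
              group
          _ = _ := by rw [H.r_W]; group
      rw [h10] at h9
      exact fin2 h9
  · exfalso
    have rvr : ∀ u : X, v * u = E.r 1 * (E.r 1 * v * u) := fun u => by rw [mul_assoc (E.r 1), r1r1]
    rcases hu' with huΓ | huΓ
    · -- `s = r₁ y`
      have hyQ : E.r 1 * v * u ∈ Qh := mul_mem (H.q.Q_le hvQ) (H.q.Γ_le huΓ)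
      obtain ⟨ζ, hζ, h1⟩ := H.Qh_comm hxQ hyQ
      apply heZ
      rw [rvr u] at hxs'
      have h3 : x * (E.r 1 * (E.r 1 * v * u)) * x⁻¹ = (x * E.r 1 * x⁻¹) * ((E.r 1 * v * u) * ζ) := by
        rw [← h1]; group
      rw [h3, hxr] at hxs'
      have h4 : e = (E.r 1 * v * u) * ζ⁻¹ * (E.r 1 * v * u)⁻¹ := by
        have h5 : e * ((E.r 1 * v * u) * ζ) = E.r 1 * v * u := by
          rw [mul_assoc] at hxs'
          exact mul_left_cancel hxs'
        calc e = e * ((E.r 1 * v * u) * ζ) * ((E.r 1 * v * u) * ζ)⁻¹ := by group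
          _ = _ := by rw [h5]; group
      rw [h4, conj_eq (H.Qh_Zh hyQ (inv_mem hζ))]
      exact inv_mem hζ
    · -- `s = r₁ w₁ y`
      have hyQ : E.r 1 * v * (w (E.r 1) * u) ∈ Qh := mul_mem (H.q.Q_le hvQ) (H.q.Γ_le huΓ)
      obtain ⟨ζ, hζ, h1⟩ := H.Qh_comm hxQ hyQ
      obtain ⟨y, hy⟩ : ∃ y, y = E.r 1 * v * (w (E.r 1) * u) := ⟨_, rfl⟩
      rw [← hy] at h1 hyQ
      have hvu : v * u = w (E.r 1) * E.r 1 * y := by
        have c1 := H.Vs_comm W1V hvs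
        calc v * u = v * (w (E.r 1) * (w (E.r 1) * u)) := by rw [w1w1]
          _ = (w (E.r 1) * v) * (w (E.r 1) * u) := by rw [c1]; group
          _ = w (E.r 1) * (E.r 1 * (E.r 1 * v)) * (w (E.r 1) * u) := by rw [r1r1]
          _ = w (E.r 1) * E.r 1 * y := by rw [hy]; group
      rw [hvu] at hxs'
      have hxw : x * (w (E.r 1) * E.r 1) * x⁻¹ = w (E.r 1) * E.r 1 * ζ := by
        have h3 : x * (w (E.r 1) * E.r 1 * y) * x⁻¹ = (x * (w (E.r 1) * E.r 1) * x⁻¹) * (y * ζ) := by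
          rw [← h1]; group
        rw [h3] at hxs'
        calc x * (w (E.r 1) * E.r 1) * x⁻¹ = (x * (w (E.r 1) * E.r 1) * x⁻¹) * (y * ζ) * (y * ζ)⁻¹ := by group
          _ = w (E.r 1) * E.r 1 * (y * ζ⁻¹ * y⁻¹) := by rw [hxs']; group
          _ = _ := by rw [conj_eq (H.Qh_Zh hyQ (inv_mem hζ)), H.Zh_inv hζ]
      have hxw1 : x * w (E.r 1) * x⁻¹ = w (E.r 1) * ζ * e⁻¹ := by
        calc x * w (E.r 1) * x⁻¹ = (x * (w (E.r 1) * E.r 1) * x⁻¹) * (x * E.r 1 * x⁻¹)⁻¹ := by group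
          _ = w (E.r 1) * (E.r 1 * (ζ * e⁻¹)) * (E.r 1)⁻¹ := by rw [hxw, hxr]; group
          _ = w (E.r 1) * ((ζ * e⁻¹) * E.r 1) * (E.r 1)⁻¹ := by
              rw [H.Vs_comm r1V (mul_mem (Zh_le_Vs hζ) (inv_mem heV))]
          _ = _ := by group
      have h7 := tconj x (w (E.r 1) * E.r 1)
      rw [hxw] at h7
      have h8 : t * (w (E.r 1) * E.r 1) * t = w (E.r 1) := by
        rw [tmul, tW1, tr1, mul_assoc, E.r_sq, mul_one]
      rw [h8, tmul, h8] at h7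
      have htζQ := H.t_Zh hζ
      have h9 : w (E.r 1) * w (E.r (σ 1)) = ζ * e⁻¹ * (t * ζ * t) := by
        rw [← hxx, h7]
        calc w (E.r 1) * (x * (w (E.r 1) * (t * ζ * t)) * x⁻¹) =
            w (E.r 1) * ((x * w (E.r 1) * x⁻¹) * (x * (t * ζ * t) * x⁻¹)) := by group
          _ = (w (E.r 1) * w (E.r 1)) * (ζ * e⁻¹ * (t * ζ * t)) := by
              rw [hxw1, conj_eq (H.Qh_Zh hxQ htζQ)]; group
          _ = _ := by rw [H.W_sq, one_mul]
      apply fin1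
      rw [h9]
      exact mul_mem (mul_mem (H.Zh_A1 hζ) (inv_mem heA)) (H.Zh_A1 htζQ)

/-- `V*` normalizes `A₁`. -/
theorem Vs_A1 {x s : X} (hx : x ∈ A1) (hs : s ∈ Vs E w) : s * x * s⁻¹ ∈ A1 := by
  obtain ⟨m, hm, hov⟩ := H.ov_A1 hx
  by_cases hmU : m ∈ E.U
  · have h1 := (H.mem_Us_A1 hx hmU hm hov).1.cent s hs
    rw [conj_eq h1.symm]; exact hx
  · -- `y = s⁻¹ x s x⁻¹ ..`
    have hy : x * s * x⁻¹ * s⁻¹ ∈ Vs E w := mul_mem (H.Qh_Vs (H.A1_le hx) hs) (inv_mem hs)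
    have hsq := H.sq x hx
    have hinv := H.inv hx
    have hcomm : x * (x * s * x⁻¹ * s⁻¹) = (x * s * x⁻¹ * s⁻¹) * x := by
      have h1 := H.Vs_comm (H.Qh_Vs (H.A1_le hx) hs) hs
      have hs2 := H.Vs_inv hs
      rw [hs2]
      -- `x (x s x s) = s x s` and `x s x s x`; use that `x s x` and `s` commute
      rw [hinv] at h1 ⊢
      calc x * (x * s * x * s) = (x * x) * s * x * s := by group
        _ = s * x * s := by rw [hsq, one_mul]
        _ = (x * x) * s * x * s := by rw [hsq, one_mul]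
        _ = x * ((x * s * x) * s) := by group
        _ = x * (s * (x * s * x)) := by rw [h1]
        _ = x * s * x * s * x := by group
    have h2 := H.cent_Vs hx hm hmU hov hy hcomm
    have h3 := mul_mem (inv_mem h2) hx
    have e : (x * s * x⁻¹ * s⁻¹)⁻¹ * x = s * x * s⁻¹ := by group
    rwa [e] at h3

end One

end Cfsg.Agent.UFiveTwo.Big
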