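import Cfsg.Agent.UFiveTwo.OneC

/-!
# S1778, type `U₅(2)`, section 9 (`eps = 1`), (VI): the root groups of order 4
-/

set_option autoImplicit false

namespace Cfsg.Agent.UFiveTwo.Big

open Subgroup Cfsg.Agent.UFiveTwo.Line

universe u

variable {X : Type u} [Group X]

/-- conjugate of a subgroup -/
def cj (g : X) (M : Subgroup X) : Subgroup X := M.map (MulAut.conj g).toMonoidHom

theorem mem_cj {g : X} {M : Subgroup X} {x : X} : x ∈ cj g M ↔ ∃ y ∈ M, x = g * y * g⁻¹ := by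
  constructor
  · rintro ⟨y, hy, rfl⟩; exact ⟨y, hy, rfl⟩
  · rintro ⟨y, hy, rfl⟩; exact ⟨y, hy, rfl⟩

theorem card_cj (g : X) (M : Subgroup X) : Nat.card (cj g M) = Nat.card M :=
  (Nat.card_congr (M.equivMapOfInjective _ (MulAut.conj g).injective).toEquiv).symm

/-- the norm of `x` -/
def nm (g x : X) : X := x * (g * x * g⁻¹) * (g * (g * x * g⁻¹) * g⁻¹)

/-- The elements of `M` with norm 1 -/
def NS (M : Subgroup X) (g : X) (hM : ∀ x ∈ M, ∀ y ∈ M, x * y = y * x) (hg : ∀ x ∈ M, g * x * g⁻¹ ∈ M) :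
    Subgroup X where
  carrier := {x | x ∈ M ∧ nm g x = 1}
  one_mem' := ⟨one_mem _, by unfold nm; group⟩
  mul_mem' := by
    rintro x y ⟨hx, h1⟩ ⟨hy, h2⟩
    refine ⟨mul_mem hx hy, ?_⟩
    have a1 := hg x hx
    have a2 := hg _ a1
    have b1 := hg y hy
    unfold nm at h1 h2 ⊢
    have c1 := hM _ hy _ a1
    have c2 := hM _ (mul_mem hy b1) _ a2
    calc x * y * (g * (x * y) * g⁻¹) * (g * (g * (x * y) * g⁻¹) * g⁻¹)
        = x * (y * (g * x * g⁻¹)) * (g * y * g⁻¹) * (g * (g * x * g⁻¹) * g⁻¹) * (g * (g * y * g⁻¹) * g⁻¹) := by group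
      _ = x * (g * x * g⁻¹) * ((y * (g * y * g⁻¹)) * (g * (g * x * g⁻¹) * g⁻¹)) * (g * (g * y * g⁻¹) * g⁻¹) := by
          rw [c1]; group
      _ = (x * (g * x * g⁻¹) * (g * (g * x * g⁻¹) * g⁻¹)) * (y * (g * y * g⁻¹) * (g * (g * y * g⁻¹) * g⁻¹)) := by
          rw [c2]; group
      _ = 1 := by rw [h1, h2, one_mul]
  inv_mem' := by
    rintro x ⟨hx, h1⟩
    refine ⟨inv_mem hx, ?_⟩
    have a1 := hg x hx
    have a2 := hg _ a1
    unfold nm at h1 ⊢
    have c1 := hM _ hx _ a1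
    have c2 := hM _ (mul_mem hx a1) _ a2
    have c3 := hM _ hx _ a2
    calc x⁻¹ * (g * x⁻¹ * g⁻¹) * (g * (g * x⁻¹ * g⁻¹) * g⁻¹) =
        ((g * (g * x * g⁻¹) * g⁻¹) * (g * x * g⁻¹) * x)⁻¹ := by group
      _ = ((g * (g * x * g⁻¹) * g⁻¹) * (x * (g * x * g⁻¹)))⁻¹ := by rw [c1]; group
      _ = (x * (g * x * g⁻¹) * (g * (g * x * g⁻¹) * g⁻¹))⁻¹ := by rw [c2]
      _ = 1 := by rw [h1, inv_one]

theorem mem_NS {M : Subgroup X} {g : X} {hM : ∀ x ∈ M, ∀ y ∈ M, x * y = y * x} {hg : ∀ x ∈ M, g * x * g⁻¹ ∈ M}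
    {x : X} : x ∈ NS M g hM hg ↔ x ∈ M ∧ nm g x = 1 := Iff.rfl

/-- The elements of `M` commuting with `g` -/
def CS (M : Subgroup X) (g : X) : Subgroup X := M ⊓ centralizer {g}

theorem mem_CS {M : Subgroup X} {g x : X} : x ∈ CS M g ↔ x ∈ M ∧ g * x = x * g := by
  unfold CS
  rw [mem_inf, mem_centralizer_singleton_iff]
  exact ⟨fun h => ⟨h.1, h.2.symm⟩, fun h => ⟨h.1, h.2.symm⟩⟩

/-- coprime action of an element of order 3 on an elementary abelian 2-group -/
theorem card_NS {M : Subgroup X} {g : X} (hM : ∀ x ∈ M, ∀ y ∈ M, x * y = y * x) (hg : ∀ x ∈ M, g * x * g⁻¹ ∈ M)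
    (h2 : ∀ x ∈ M, x * x = 1) (h3 : g * g * g = 1) :
    Nat.card M = Nat.card (CS M g) * Nat.card (NS M g hM hg) := by
  have inv : ∀ x ∈ M, x⁻¹ = x := fun x hx => inv_eq_of_mul_eq_one_left (h2 x hx)
  have ggg : ∀ x : X, g * (g * (g * x * g⁻¹) * g⁻¹) * g⁻¹ = x := by
    intro x
    calc g * (g * (g * x * g⁻¹) * g⁻¹) * g⁻¹ = (g * g * g) * x * (g * g * g)⁻¹ := by group
      _ = x := by rw [h3]; group
  have h := card_rel (L := M) (K := CS M g) (M := NS M g hM hg) (N := ⊥) (fun x hx => (mem_CS.mp hx).1) bot_le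
    (fun m _ n hn => by rw [mem_bot.mp hn]; simp) (fun x m => m = x * (g * x * g⁻¹))
    (fun x hx => by
      refine ⟨_, ⟨mul_mem hx (hg x hx), ?_⟩, rfl⟩
      have a1 := hg x hx
      have a2 := hg _ a1
      have s1 := h2 _ a1
      have s2 := h2 _ a2
      unfold nm
      calc x * (g * x * g⁻¹) * (g * (x * (g * x * g⁻¹)) * g⁻¹) * (g * (g * (x * (g * x * g⁻¹)) * g⁻¹) * g⁻¹) =
          x * ((g * x * g⁻¹) * (g * x * g⁻¹)) * ((g * (g * x * g⁻¹) * g⁻¹) * (g * (g * x * g⁻¹) * g⁻¹)) *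
            (g * (g * (g * x * g⁻¹) * g⁻¹) * g⁻¹) := by group
        _ = x * x := by rw [s1, s2, ggg, mul_one, mul_one]
        _ = 1 := h2 x hx)
    (fun m hm => by
      obtain ⟨hmM, h1⟩ := hm
      refine ⟨g * m * g⁻¹, hg m hmM, ?_⟩
      unfold nm at h1
      have h4 : (g * m * g⁻¹) * (g * (g * m * g⁻¹) * g⁻¹) = m⁻¹ := by
        rw [eq_inv_iff_mul_eq_one]
        have c := hM _ (mul_mem (hg _ hmM) (hg _ (hg _ hmM))) _ hmM
        rw [c]
        rw [mul_assoc] at h1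
        exact h1
      rw [h4, inv m hmM])
    (fun x hx y hy m _ m' _ h h' => by
      rw [h, h']
      have c1 := hM _ (hg x hx) _ hy
      calc x * (g * x * g⁻¹) * (y * (g * y * g⁻¹)) = x * ((g * x * g⁻¹) * y) * (g * y * g⁻¹) := by group
        _ = _ := by rw [c1]; group)
    (fun x _ m _ m' _ h h' => by rw [mem_bot, h, h', inv_mul_cancel])
    (fun x hx m _ h => by
      rw [mem_bot, mem_CS]
      constructor
      · rintro ⟨-, hc⟩
        rw [h, conj_eq hc]; exact h2 x hx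
      · rintro h1
        refine ⟨hx, ?_⟩
        rw [h1] at h
        apply comm_of_conj
        have h5 : g * x * g⁻¹ = x⁻¹ := by rw [eq_inv_iff_mul_eq_one, hM _ (hg x hx) _ hx]; exact h.symm
        rw [h5, inv x hx])
  rw [Subgroup.card_bot, mul_one] at h
  exact h

/-- norm-one elements fixed by `g` are trivial -/
theorem nm_fix {g x : X} (h2 : x * x = 1) (hc : g * x = x * g) (h : nm g x = 1) : x = 1 := by
  unfold nm at h
  rw [conj_eq hc, conj_eq hc, h2, one_mul] at h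
  exact h

theorem nm_conj {g a x : X} (hga : g * a = a * g) : nm g (a * x * a⁻¹) = a * nm g x * a⁻¹ := by
  unfold nm
  have h1 : a⁻¹ * g⁻¹ = g⁻¹ * a⁻¹ := by rw [← mul_inv_rev, ← mul_inv_rev, hga]
  have k1 : g * (a * x * a⁻¹) * g⁻¹ = a * (g * x * g⁻¹) * a⁻¹ := by
    calc g * (a * x * a⁻¹) * g⁻¹ = (g * a) * x * (a⁻¹ * g⁻¹) := by group
      _ = _ := by rw [hga, h1]; group
  have k2 : g * (a * (g * x * g⁻¹) * a⁻¹) * g⁻¹ = a * (g * (g * x * g⁻¹) * g⁻¹) * a⁻¹ := by
    calc g * (a * (g * x * g⁻¹) * a⁻¹) * g⁻¹ = (g * a) * (g * x * g⁻¹) * (a⁻¹ * g⁻¹) := by group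
      _ = _ := by rw [hga, h1]; group
  rw [k1, k2]; group

variable {A : Subgroup X} {t : X} {E : Env A t} {w : X → X} {Qh Γ A1 : Subgroup X}

theorem card_zp {x : X} (h2 : x * x = 1) (h1 : x ≠ 1) : Nat.card (zpowers x) = 2 := by
  rw [Nat.card_zpowers]
  exact orderOf_eq_prime (by rw [pow_two]; exact h2) h1

theorem mem_zp {x y : X} (h2 : x * x = 1) (h : y ∈ zpowers x) : y = 1 ∨ y = x := by
  obtain ⟨n, rfl⟩ := mem_zpowers_iff.mp h
  rcases Int.even_or_odd' n with ⟨k, rfl | rfl⟩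
  · left
    rw [zpow_mul, zpow_two, h2, one_zpow]
  · right
    rw [zpow_add, zpow_mul, zpow_two, h2, one_zpow, one_mul, zpow_one]

/-- `|V ∩ Q| = 8` -/
theorem card_VQ (H : C0 E w) : Nat.card ↥(E.V ⊓ E.Q) = 8 := by
  have r1 : E.r 1 * E.r 1 = 1 := E.r_sq 1
  have hr1 := E.r_ne' 1
  have hn1 : E.r 1 ∉ E.Q := E.r_nQ 1 (by decide)
  have hh := fun v hv => half H.R5r E.Q E.r_Q E.rr_Q (v := v) hv
  have r1r1 : ∀ g, E.r 1 * (E.r 1 * g) = g := fun g => by rw [← mul_assoc, r1, one_mul]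
  have h := card_rel (L := E.V) (K := E.V ⊓ E.Q) (M := zpowers (E.r 1)) (N := ⊥) inf_le_left bot_le
    (fun m _ n hn => by rw [mem_bot.mp hn]; simp) (fun v m => m * v ∈ E.Q)
    (fun v hv => by
      rcases hh v hv with h | h
      · exact ⟨1, one_mem _, by rw [one_mul]; exact h⟩
      · exact ⟨E.r 1, mem_zpowers _, h⟩)
    (fun m hm => by
      refine ⟨m, ?_, ?_⟩
      · rcases mem_zp r1 hm with rfl | rfl
        · exact one_mem _
        · exact E.r_V 1
      · rcases mem_zp r1 hm with rfl | rfl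
        · rw [one_mul]; exact one_mem _
        · rw [r1]; exact one_mem _)
    (fun x hx y hy m hm m' hm' h h' => by
      have hmV : m' ∈ E.V := by
        rcases mem_zp r1 hm' with rfl | rfl
        · exact one_mem _
        · exact E.r_V 1
      have e : m * m' * (x * y) = (m * x) * (m' * y) := by
        calc m * m' * (x * y) = m * (m' * x) * y := by group
          _ = _ := by rw [E.comm_VV hmV hx]; group
      rw [e]; exact mul_mem h h')
    (fun x _ m hm m' hm' h h' => by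
      rw [mem_bot]
      have h1 : m * m'⁻¹ ∈ E.Q := by
        have := mul_mem h (inv_mem h')
        have e : m * x * (m' * x)⁻¹ = m * m'⁻¹ := by group
        rwa [e] at this
      rcases mem_zp r1 hm with rfl | rfl <;> rcases mem_zp r1 hm' with rfl | rfl
      · group
      · rw [one_mul] at h1
        exact absurd ((inv_mem_iff).mp h1) hn1
      · rw [inv_one, mul_one] at h1
        exact absurd h1 hn1
      · group)
    (fun x hx m hm h => by
      rw [mem_bot, mem_inf]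
      constructor
      · rintro ⟨-, hxQ⟩
        rcases mem_zp r1 hm with rfl | rfl
        · rfl
        · exfalso
          apply hn1
          have := mul_mem h (inv_mem hxQ)
          rwa [mul_inv_cancel_right] at this
      · rintro rfl
        rw [one_mul] at h
        exact ⟨hx, h⟩)
  rw [Subgroup.card_bot, mul_one, card_V H, card_zp r1 hr1] at h
  omega

/-- `|Z^| = 4` -/
theorem card_Zh (H : Ctx E w Qh Γ) : Nat.card (Zh E w) = 4 := by
  have r0 : E.r 0 * E.r 0 = 1 := E.r_sq 0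
  have h := card_rel (L := Zh E w) (K := zpowers (E.r 0)) (M := zpowers (E.r 0)) (N := ⊥)
    (by rw [zpowers_le]; exact r_Zh) bot_le
    (fun m _ n hn => by rw [mem_bot.mp hn]; simp) (fun ζ m => t * ζ * t = ζ * m)
    (fun ζ hζ => by
      rcases H.toC0.mem_Zh hζ with rfl | rfl | rfl | rfl
      · exact ⟨1, one_mem _, by rw [mul_one, E.t_sq, mul_one]⟩
      · exact ⟨1, one_mem _, by rw [H.t_r, mul_assoc, E.t_sq]⟩
      · exact ⟨E.r 0, mem_zpowers _, H.t_W_t 0⟩
      · refine ⟨E.r 0, mem_zpowers _, ?_⟩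
        have e : t * (E.r 0 * w (E.r 0)) * t = E.r 0 * (t * w (E.r 0) * t) := by
          rw [← mul_assoc, H.t_r]; group
        rw [e, H.t_W_t]; group)
    (fun m hm => by
      rcases mem_zp r0 hm with rfl | rfl
      · exact ⟨1, one_mem _, by rw [mul_one, E.t_sq, mul_one]⟩
      · exact ⟨_, w_Zh, H.t_W_t 0⟩)
    (fun x hx y hy m hm m' hm' h h' => by
      have hmZ : m ∈ Zh E w := by
        rcases mem_zp r0 hm with rfl | rfl
        · exact one_mem _
        · exact r_Zh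
      have c := H.Qh_Zh (H.Zh_Qh hmZ) hy
      calc t * (x * y) * t = t * x * 1 * y * t := by group
        _ = (t * x * t) * (t * y * t) := by rw [← E.t_sq]; group
        _ = x * (m * y) * m' := by rw [h, h']; group
        _ = _ := by rw [c]; group)
    (fun x _ m _ m' _ h h' => by rw [mem_bot, mul_left_cancel (h.symm.trans h'), inv_mul_cancel])
    (fun x hx m _ h => by
      rw [mem_bot]
      constructor
      · intro hxr
        rcases mem_zp r0 hxr with rfl | rfl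
        · rw [mul_one, E.t_sq, one_mul] at h; exact h.symm
        · rw [H.t_r, mul_assoc, E.t_sq, mul_one, left_eq_mul] at h
          exact h
      · rintro rfl
        rw [mul_one] at h
        have h1 : x * t = t * x := by
          calc x * t = t * x * t * t := by rw [h]
            _ = t * x := by rw [mul_assoc, E.t_sq, mul_one]
        rcases H.toC0.Zh_comm_t hx h1 with rfl | rfl
        · exact one_mem _
        · exact mem_zpowers _)
  rw [Subgroup.card_bot, mul_one, card_zp r0 E.r_ne] at h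
  rw [h]

theorem zp_r0_Zh : zpowers (E.r 0) ≤ Zh E w := by rw [zpowers_le]; exact r_Zh

namespace One

variable (H : One E w Qh Γ A1)

include H

/-- `|A₁ ∩ V*| = 16` -/
theorem card_A1Vs : Nat.card ↥(A1 ⊓ Vs E w) = 16 := by
  have r0 : E.r 0 * E.r 0 = 1 := E.r_sq 0
  have h := card_rel (L := A1 ⊓ Vs E w) (K := Zh E w) (M := E.V ⊓ E.Q) (N := zpowers (E.r 0))
    (le_inf H.Zh_A1 Zh_le_Vs) (by rw [zpowers_le]; exact ⟨E.r_V 0, E.r_Q⟩)
    (fun m hm n hn => by
      rcases mem_zp r0 hn with rfl | rfl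
      · rw [mul_one, mul_inv_cancel]; exact one_mem _
      · rw [conj_eq (E.Q_r m hm.2)]; exact mem_zpowers _) (Ov E w)
    (fun x hx => by
      obtain ⟨m, hm, hov⟩ := H.ov_A1 hx.1
      refine ⟨m, ⟨?_, hm⟩, hov⟩
      by_contra hV
      have hxU := H.Vs_le_Us hx.2
      obtain ⟨m', ⟨hmU', hmQ'⟩, hov'⟩ := H.ov_A1_Us hx.1 hxU
      have hmU : m ∈ E.U := by
        rcases H.ov_unique hm hmQ' hov hov' with rfl | rfl
        · exact hmU'
        · exact mul_mem hmU' (E.r_U 0)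
      exact H.not_Vs hmU (ps_of_ov hov) hV hx.2)
    (fun m hm => by
      obtain ⟨u, hu, hov⟩ := H.exists_A1 hm.2
      exact ⟨u, ⟨hu, H.mem_Vs_A1 hu hm.1 hm.2 hov⟩, hov⟩)
    (fun x hx y hy m hm m' hm' h h' => H.qov_mul (H.A1_le hx.1) hm'.2 h h')
    (fun x hx m hm m' hm' h h' => by
      rcases H.ov_unique hm.2 hm'.2 h h' with rfl | rfl
      · rw [inv_mul_cancel]; exact one_mem _
      · have e : (m' * E.r 0)⁻¹ * m' = (E.r 0)⁻¹ := by group
        rw [e]; exact inv_mem (mem_zpowers _))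
    (fun x hx m hm h => by
      constructor
      · intro hxZ
        rcases H.ov_unique hm.2 (one_mem _) h (H.ov_zh hxZ) with rfl | rfl
        · exact one_mem _
        · rw [one_mul]; exact mem_zpowers _
      · intro hmr
        rcases mem_zp r0 hmr with rfl | rfl
        · exact H.mem_Zh_A1 hx.1 h
        · exact H.mem_Zh_A1' hx.1 h)
  rw [card_zp r0 E.r_ne, card_Zh H.toCtx, card_VQ H.toC0] at h
  omega

/-- `|A₁ ∩ U*| = 64` -/
theorem card_A1Us : Nat.card ↥(A1 ⊓ Us H.toC0) = 64 := by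
  have r0 : E.r 0 * E.r 0 = 1 := E.r_sq 0
  have h := card_rel (L := A1 ⊓ Us H.toC0) (K := Zh E w) (M := E.U ⊓ E.Q) (N := zpowers (E.r 0))
    (le_inf H.Zh_A1 H.Zh_le_Us) (by rw [zpowers_le]; exact ⟨E.r_U 0, E.r_Q⟩)
    (fun m hm n hn => by
      rcases mem_zp r0 hn with rfl | rfl
      · rw [mul_one, mul_inv_cancel]; exact one_mem _
      · rw [conj_eq (E.Q_r m hm.2)]; exact mem_zpowers _) (Ov E w)
    (fun x hx => H.ov_A1_Us hx.1 hx.2)
    (fun m hm => by
      obtain ⟨u, hu, hov⟩ := H.exists_A1 hm.2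
      exact ⟨u, ⟨hu, H.mem_Us_A1 hu hm.1 hm.2 hov⟩, hov⟩)
    (fun x hx y hy m hm m' hm' h h' => H.qov_mul (H.A1_le hx.1) hm'.2 h h')
    (fun x hx m hm m' hm' h h' => by
      rcases H.ov_unique hm.2 hm'.2 h h' with rfl | rfl
      · rw [inv_mul_cancel]; exact one_mem _
      · have e : (m' * E.r 0)⁻¹ * m' = (E.r 0)⁻¹ := by group
        rw [e]; exact inv_mem (mem_zpowers _))
    (fun x hx m hm h => by
      constructor
      · intro hxZ
        rcases H.ov_unique hm.2 (one_mem _) h (H.ov_zh hxZ) with rfl | rfl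
        · exact one_mem _
        · rw [one_mul]; exact mem_zpowers _
      · intro hmr
        rcases mem_zp r0 hmr with rfl | rfl
        · exact H.mem_Zh_A1 hx.1 h
        · exact H.mem_Zh_A1' hx.1 h)
  rw [card_zp r0 E.r_ne, card_Zh H.toCtx, E.card_UQ] at h
  omega

end One

end Cfsg.Agent.UFiveTwo.Big
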