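import Cfsg.Agent.UFiveTwo.OneX

/-!
# S1778, type `U₅(2)`, section 9 (`eps = 1`), (VIII): the commutator relations of the root groups
-/

set_option autoImplicit false

namespace Cfsg.Agent.UFiveTwo.Big

open Subgroup Cfsg.Agent.UFiveTwo.Line
open scoped commutatorElement

universe u

variable {X : Type u} [Group X] {A : Subgroup X} {t : X} {E : Env A t} {w : X → X} {Qh Γ A1 : Subgroup X}

theorem t_inv (E : Env A t) : t⁻¹ = t := inv_eq_of_mul_eq_one_left E.t_sq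

theorem mem_cjt (E : Env A t) {M : Subgroup X} {x : X} : x ∈ cj t M ↔ t * x * t ∈ M := by
  rw [mem_cj]
  constructor
  · rintro ⟨y, hy, rfl⟩
    have e : t * (t * y * t⁻¹) * t = (t * t) * y := by group
    rw [e, E.t_sq, one_mul]; exact hy
  · intro h
    refine ⟨_, h, ?_⟩
    calc x = (t * t) * x * (t * t⁻¹) := by rw [E.t_sq]; group
      _ = _ := by group

theorem cm_iff {x y : X} : ⁅x, y⁆ = 1 ↔ x * y = y * x := commutatorElement_eq_one_iff_mul_comm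

theorem cm_conj (g x y : X) : ⁅g * x * g⁻¹, g * y * g⁻¹⁆ = g * ⁅x, y⁆ * g⁻¹ := by
  rw [commutatorElement_def, commutatorElement_def]; group

theorem cm_inv (x y : X) : ⁅y, x⁆ = ⁅x, y⁆⁻¹ := by
  rw [commutatorElement_def, commutatorElement_def]; group

theorem cm_t (E : Env A t) (x y : X) : ⁅t * x * t, t * y * t⁆ = t * ⁅x, y⁆ * t := by
  have h := cm_conj t x y
  rwa [t_inv E] at h

theorem Qh_t (H : Ctx E w Qh Γ) {g : X} (hg : g ∈ Qh) (h : g * t = t * g) : g ∈ E.Q := by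
  obtain ⟨q, hq, c, hc, rfl⟩ := H.q.gen g hg
  obtain ⟨m, hm, ζ, hζ, h1⟩ := H.exists_ov hc
  have htq : t * q = q * t := E.t_A q (E.Q_le hq)
  have h2 : c * t = t * c := by
    have h3 : q * (c * t) = q * (t * c) := by rw [← mul_assoc, h, ← mul_assoc, htq]; group
    exact mul_left_cancel h3
  rw [conj_eq h2, left_eq_mul] at h1
  have h4 : m = ζ⁻¹ := eq_inv_of_mul_eq_one_left h1
  have h5 : c ∈ Zh E w := by
    rcases H.toC0.Zh_Q (by rw [h4]; exact inv_mem hζ) hm with rfl | rfl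
    · exact H.ov_ker hc ⟨ζ, hζ, by rw [conj_eq h2, h1, mul_one]⟩
    · exact H.ov_ker' hc ⟨ζ, hζ, by rw [conj_eq h2, h1, mul_one]⟩
  rcases H.toC0.Zh_comm_t h5 h2 with rfl | rfl
  · rw [mul_one]; exact hq
  · exact mul_mem hq E.r_Q

/-- the `h`-trick -/
theorem htrick (H : C0 E w) {x y s : X} (hx : E.h * x = x * E.h) (hs : s ∈ Vs E w) (h1 : x * y * x⁻¹ = y * s)
    (hy : y ∈ Us H) (hN : nm E.h y = 1) : x * y = y * x := by
  have hh : ∀ z, z ∈ Us H → x * z * x⁻¹ = z * s → x * (E.h * z * E.h⁻¹) * x⁻¹ = (E.h * z * E.h⁻¹) * s := by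
    intro z hz h
    have c1 : E.h⁻¹ * x⁻¹ = x⁻¹ * E.h⁻¹ := by rw [← mul_inv_rev, ← mul_inv_rev, hx]
    have c2 : E.h * s * E.h⁻¹ = s := conj_eq (H.h_Vs hs)
    calc x * (E.h * z * E.h⁻¹) * x⁻¹ = (x * E.h) * z * (E.h⁻¹ * x⁻¹) := by group
      _ = E.h * (x * z * x⁻¹) * E.h⁻¹ := by rw [← hx, c1]; group
      _ = (E.h * z * E.h⁻¹) * (E.h * s * E.h⁻¹) := by rw [h]; group
      _ = _ := by rw [c2]
  have y1 := H.h_Us hy
  have y2 := H.h_Us y1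
  have k1 := hh y hy h1
  have k2 := hh _ y1 k1
  have e : x * nm E.h y * x⁻¹ = (x * y * x⁻¹) * (x * (E.h * y * E.h⁻¹) * x⁻¹) *
      (x * (E.h * (E.h * y * E.h⁻¹) * E.h⁻¹) * x⁻¹) := by unfold nm; group
  rw [hN, h1, k1, k2, mul_one, mul_inv_cancel] at e
  have s1 := y1.1.cent s hs
  have s2 := y2.1.cent s hs
  have s3 : s = 1 := by
    have e2 : y * s * ((E.h * y * E.h⁻¹) * s) * ((E.h * (E.h * y * E.h⁻¹) * E.h⁻¹) * s) =
        nm E.h y * (s * s * s) := by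
      unfold nm
      calc y * s * ((E.h * y * E.h⁻¹) * s) * ((E.h * (E.h * y * E.h⁻¹) * E.h⁻¹) * s) =
          y * (s * (E.h * y * E.h⁻¹)) * (s * (E.h * (E.h * y * E.h⁻¹) * E.h⁻¹)) * s := by group
        _ = y * (E.h * y * E.h⁻¹) * (s * (E.h * (E.h * y * E.h⁻¹) * E.h⁻¹)) * (s * s) := by
            rw [← s1, ← s2]
            generalize E.h * (E.h * y * E.h⁻¹) * E.h⁻¹ = b at s2 ⊢
            generalize E.h * y * E.h⁻¹ = a at s1 ⊢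
            calc y * (a * s) * (b * s) * s = y * a * (s * b) * s * s := by group
              _ = _ := by rw [← s2]; group
        _ = _ := by rw [← s2]; group
    rw [e2, hN, one_mul, H.Vs_sq hs, one_mul] at e
    exact e.symm
  rw [s3, mul_one] at h1
  exact comm_of_conj h1

namespace One

variable (H : One E w Qh Γ A1)

include H

/-- elements of `X₂₄` -/
theorem X24_facts {s : X} (hs : s ∈ H.X24) : s ∈ Vs E w ∧ E.l E.k1 * s = s * E.l E.k1 ∧ (s ∈ Qh → s = 1) := by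
  obtain ⟨ζ, hζ, rfl⟩ := mem_cj.mp hs
  have h0 : (rh : Equiv.Perm (Fin 5)) 0 = 1 := by
    show (Equiv.swap 0 1 * Equiv.swap 2 3 : Equiv.Perm (Fin 5)) 0 = 1
    decide
  have e1 : E.l rh * E.r 0 * (E.l rh)⁻¹ = E.r 1 := by rw [E.l_r, h0]
  have e2 : E.l rh * w (E.r 0) * (E.l rh)⁻¹ = w (E.r 1) := by rw [H.l_W, h0]
  have kr : E.l E.k1 * E.r 1 = E.r 1 * E.l E.k1 := by
    apply comm_of_conj
    rw [E.l_r, E.k1_one]
  have kw : E.l E.k1 * w (E.r 1) = w (E.r 1) * E.l E.k1 := by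
    apply comm_of_conj
    rw [H.l_W, E.k1_one]
  have hn1 : E.r 1 ∉ E.Q := E.r_nQ 1 (by decide)
  have hno : ∀ g ∈ Qh, g * t * g⁻¹ = t * E.r 1 → False := by
    intro g hg h
    obtain ⟨m, hm, ζ', hζ', h1⟩ := H.exists_qov hg
    have h2 : E.r 1 = m * ζ' := mul_left_cancel (h.symm.trans h1)
    have h3 : ζ' = m⁻¹ * E.r 1 := by rw [h2]; group
    have h4 : ζ' * t = t * ζ' := by
      rw [h3]
      exact (E.t_A _ (mul_mem (inv_mem (E.Q_le hm)) (E.r_mem 1))).symm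
    apply hn1
    rw [h2]
    rcases H.toC0.Zh_comm_t hζ' h4 with rfl | rfl
    · rw [mul_one]; exact hm
    · exact mul_mem hm E.r_Q
  refine ⟨H.l_Vs rh (Zh_le_Vs hζ), ?_, ?_⟩
  · rcases H.toC0.mem_Zh hζ with rfl | rfl | rfl | rfl
    · group
    · rw [e1]; exact kr
    · rw [e2]; exact kw
    · have e3 : E.l rh * (E.r 0 * w (E.r 0)) * (E.l rh)⁻¹ = E.r 1 * w (E.r 1) := by
        calc E.l rh * (E.r 0 * w (E.r 0)) * (E.l rh)⁻¹ = (E.l rh * E.r 0 * (E.l rh)⁻¹) * (E.l rh * w (E.r 0) * (E.l rh)⁻¹) := by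
              group
          _ = _ := by rw [e1, e2]
      rw [e3, ← mul_assoc, kr, mul_assoc, kw, mul_assoc]
  · intro hQ
    rcases H.toC0.mem_Zh hζ with rfl | rfl | rfl | rfl
    · group
    · rw [e1] at hQ ⊢
      exact absurd (Qh_t H.toCtx hQ (H.t_r 1).symm) hn1
    · rw [e2] at hQ ⊢
      exact (hno _ hQ (H.W_t 1)).elim
    · have e3 : E.l rh * (E.r 0 * w (E.r 0)) * (E.l rh)⁻¹ = E.r 1 * w (E.r 1) := by
        calc E.l rh * (E.r 0 * w (E.r 0)) * (E.l rh)⁻¹ = (E.l rh * E.r 0 * (E.l rh)⁻¹) * (E.l rh * w (E.r 0) * (E.l rh)⁻¹) := by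
              group
          _ = _ := by rw [e1, e2]
      rw [e3] at hQ
      refine (hno _ hQ ?_).elim
      calc E.r 1 * w (E.r 1) * t * (E.r 1 * w (E.r 1))⁻¹ = E.r 1 * (w (E.r 1) * t * (w (E.r 1))⁻¹) * (E.r 1)⁻¹ := by
            group
        _ = t * E.r 1 := by rw [H.W_t, ← mul_assoc, ← H.t_r]; group

theorem conj_Vs_A1 {x s : X} (hx : x ∈ A1) (hs : s ∈ Vs E w) : ⁅x, s⁆ ∈ A1 ∧ ⁅x, s⁆ ∈ Vs E w := by
  rw [commutatorElement_def]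
  constructor
  · have h1 := H.Vs_A1 (inv_mem hx) hs
    have e : x * s * x⁻¹ * s⁻¹ = x * (s * x⁻¹ * s⁻¹) := by group
    rw [e]; exact mul_mem hx h1
  · exact mul_mem (H.Qh_Vs (H.A1_le hx) hs) (inv_mem hs)

/-- `[X₁₂, X₂₄] ≤ X₁₄` -/
theorem F2 {x s : X} (hx : x ∈ H.X12) (hs : s ∈ H.X24) : ⁅x, s⁆ ∈ H.X14 := by
  obtain ⟨hxA, -, hxN, -⟩ := H.X12_facts hx
  obtain ⟨hsV, hks, -⟩ := H.X24_facts hs
  refine ⟨H.conj_Vs_A1 hxA hsV, ?_⟩
  have hk1 := H.conj _ (E.l_mem E.k1) (k_r0 E) x hxA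
  have hk2 := H.conj _ (E.l_mem E.k1) (k_r0 E) _ hk1
  have hsk : ∀ z, E.l E.k1 * ⁅z, s⁆ * (E.l E.k1)⁻¹ = ⁅E.l E.k1 * z * (E.l E.k1)⁻¹, s⁆ := by
    intro z
    rw [← cm_conj, conj_eq hks]
  have hmul : ∀ y ∈ A1, ∀ z ∈ A1, ⁅y * z, s⁆ = ⁅y, s⁆ * ⁅z, s⁆ := by
    intro y hy z hz
    have h1 := (H.conj_Vs_A1 hz hsV).1
    have h2 := (H.conj_Vs_A1 hy hsV).1
    have c1 := H.comm y hy _ h1
    have c2 := H.comm _ h1 _ h2
    have e : ⁅y * z, s⁆ = (y * ⁅z, s⁆ * y⁻¹) * ⁅y, s⁆ := by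
      rw [commutatorElement_def, commutatorElement_def, commutatorElement_def]; group
    rw [e, conj_eq c1, c2]
  unfold nm
  rw [hsk, hsk, ← hmul _ hxA _ hk1, ← hmul _ (mul_mem hxA hk1) _ hk2]
  have h1 : x * (E.l E.k1 * x * (E.l E.k1)⁻¹) * (E.l E.k1 * (E.l E.k1 * x * (E.l E.k1)⁻¹) * (E.l E.k1)⁻¹) = 1 := hxN
  rw [h1, commutatorElement_def]; group

theorem N2 {x s : X} (hx : x ∈ H.X12) (hs : s ∈ H.X24) (h : ⁅x, s⁆ = 1) : x = 1 ∨ s = 1 := by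
  by_cases hx1 : x = 1
  · exact Or.inl hx1
  right
  obtain ⟨hxA, -, -, hxm⟩ := H.X12_facts hx
  obtain ⟨hsV, -, hsQ⟩ := H.X24_facts hs
  obtain ⟨m, hm, hmU, hov⟩ := hxm hx1
  exact hsQ (H.A1_le (H.cent_Vs hxA hm hmU hov hsV (cm_iff.mp h)))

theorem X14_t {y : X} (hy : y ∈ H.X25) : t * y * t ∈ H.X14 := (mem_cjt E).mp hy

/-- `[X₁₂, X₂₅] ≤ X₁₅` -/
theorem F3 {x y : X} (hx : x ∈ A1) (hy : y ∈ Qh) : ⁅x, y⁆ ∈ Zh E w := by
  obtain ⟨ζ, hζ, h⟩ := H.Qh_comm (H.A1_le hx) hy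
  rw [commutatorElement_def, h, conj_eq (H.Qh_Zh hy hζ)]; exact hζ

theorem N3 {x y : X} (hx : x ∈ H.X12) (hy : y ∈ H.X25) (h : ⁅x, y⁆ = 1) : x = 1 ∨ y = 1 := by
  by_cases hx1 : x = 1
  · exact Or.inl hx1
  right
  obtain ⟨hxA, -, -, hxm⟩ := H.X12_facts hx
  have hy' := H.X14_t hy
  obtain ⟨m, hm, hmU, hov⟩ := hxm hx1
  have hyV : y ∈ Vs E w := by
    have := H.t_conj_Vs hy'.1.2
    rwa [H.tt_conj] at this
  have hyA := H.cent_Vs hxA hm hmU hov hyV (cm_iff.mp h)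
  -- `y, t y t ∈ A₁`
  obtain ⟨m', hm', hov'⟩ := H.ov_A1 hyA
  obtain ⟨ζ, hζ, h1⟩ := H.mul_t hyA hm' hov'
  have h2 : m' ∈ A1 := by
    have h3 : m' = y * (t * y * t) * ζ⁻¹ := by rw [h1]; group
    rw [h3]; exact mul_mem (mul_mem hyA hy'.1.1) (inv_mem (H.Zh_A1 hζ))
  have h3 := H.mem_Zh_A1 h2 (H.ov_Q hm')
  have h4 : y ∈ Zh E w := by
    rcases H.toC0.Zh_Q h3 hm' with h5 | h5
    · rw [h5] at hov'; exact H.mem_Zh_A1 hyA hov'
    · rw [h5] at hov'; exact H.mem_Zh_A1' hyA hov'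
  have h5 : t * y * t = 1 := H.X14_Zh hy' (H.t_Zh h4)
  have h6 := H.tt_conj y
  rw [h5, mul_one, E.t_sq] at h6
  exact h6.symm

/-- `[X₁₂, X₃₄] = 1` -/
theorem C1 {x y : X} (hx : x ∈ H.X12) (hy : y ∈ H.X34) : x * y = y * x := by
  obtain ⟨hxA, hxh, -, -⟩ := H.X12_facts hx
  have hy' : t * y * t ∈ H.X23 := (mem_cjt E).mp hy
  obtain ⟨hyB, hyN, -, -, u, hu, hp, -⟩ := H.X23_facts hy'
  obtain ⟨m, hm, hov⟩ := H.ov_A1 hxA
  obtain ⟨h1, -, -⟩ := H.act_A1 hxA hm hov hyB hu hp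
  rw [H.tt_conj] at h1
  have h2 := h1.symm
  have hyU : y ∈ Us H.toC0 := by
    have := H.t_Us (H.B1_le_Us hyB)
    rwa [H.tt_conj] at this
  have hth : E.h * t = t * E.h := (E.t_A _ E.h_mem).symm
  refine htrick H.toC0 hxh h2 (by group) hyU ?_
  have h3 : y = t * (t * y * t) * t⁻¹ := by rw [t_inv E, H.tt_conj]
  rw [h3, nm_conj hth, hyN]; group

/-- `[X₁₂, X₃₅] = 1` -/
theorem C2 {x y : X} (hx : x ∈ H.X12) (hy : y ∈ H.X35) : x * y = y * x := by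
  obtain ⟨hxA, hxh, -, -⟩ := H.X12_facts hx
  have hy' : t * y * t ∈ H.X13 := (mem_cjt E).mp hy
  have hyQ : y ∈ Qh := by
    have := H.t_Qh (H.A1_le hy'.1.1)
    rwa [H.tt_conj] at this
  have hyU : y ∈ Us H.toC0 := by
    have := H.t_Us hy'.1.2
    rwa [H.tt_conj] at this
  obtain ⟨ζ, hζ, h⟩ := H.Qh_comm (H.A1_le hxA) hyQ
  have hth : E.h * t = t * E.h := (E.t_A _ E.h_mem).symm
  refine htrick H.toC0 hxh (Zh_le_Vs hζ) h hyU ?_
  have h3 : y = t * (t * y * t) * t⁻¹ := by rw [t_inv E, H.tt_conj]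
  rw [h3, nm_conj hth, hy'.2]; group

/-- `[X₁₂, X₄₅] = 1` -/
theorem C3 {x y : X} (hx : x ∈ H.X12) (hy : y ∈ H.X45) : x * y = y * x := by
  have hy' : t * y * t ∈ H.X12 := (mem_cjt E).mp hy
  obtain ⟨a, ha, rfl⟩ := mem_cj.mp hx
  obtain ⟨b, hb, hb'⟩ := mem_cj.mp hy'
  have htn : t * E.n2 = E.n2 * t := E.t_A _ E.n2_mem
  have htn' : E.n2⁻¹ * t = t * E.n2⁻¹ := comm_inv htn.symm
  have h1 : y = E.n2 * (t * b * t) * E.n2⁻¹ := by
    rw [← H.tt_conj y, hb']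
    calc t * (E.n2 * b * E.n2⁻¹) * t = (t * E.n2) * b * (E.n2⁻¹ * t) := by group
      _ = _ := by rw [htn, htn']; group
  have h2 := H.Vs_comm ha.1.2 (H.t_conj_Vs hb.1.2)
  rw [h1]
  calc E.n2 * a * E.n2⁻¹ * (E.n2 * (t * b * t) * E.n2⁻¹) = E.n2 * (a * (t * b * t)) * E.n2⁻¹ := by group
    _ = _ := by rw [h2]; group

/-- `[X₁₃, X₃₅]` nondegenerate -/
theorem N5 {x y : X} (hx : x ∈ H.X13) (hy : y ∈ H.X35) (h : ⁅x, y⁆ = 1) : x = 1 ∨ y = 1 := by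
  by_cases hx1 : x = 1
  · exact Or.inl hx1
  right
  have hy' : t * y * t ∈ H.X13 := (mem_cjt E).mp hy
  by_contra hy1
  refine H.nd (H.X13_B1 hx) (fun h => hx1 (H.X13_Vs hx h)) (H.X13_B1 hy') (fun h => ?_) ?_
  · have h5 := H.X13_Vs hy' h
    have h6 := H.tt_conj y
    rw [h5, mul_one, E.t_sq] at h6
    exact hy1 h6.symm
  · rw [H.tt_conj]; exact cm_iff.mp h

theorem X35_Qh {y : X} (hy : y ∈ H.X35) : y ∈ Qh := by
  have hy' : t * y * t ∈ H.X13 := (mem_cjt E).mp hy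
  have := H.t_Qh (H.A1_le hy'.1.1)
  rwa [H.tt_conj] at this

/-- `X₃₄ = X₃₅^ρ` -/
theorem X34_rh {y : X} (hy : y ∈ H.X34) : (E.l rh)⁻¹ * y * E.l rh ∈ H.X35 := by
  have hy' : t * y * t ∈ H.X23 := (mem_cjt E).mp hy
  obtain ⟨z, hz, hz'⟩ := mem_cj.mp hy'
  have htl : t * E.l rh = E.l rh * t := E.t_A _ (E.l_mem rh)
  have htl' : (E.l rh)⁻¹ * t = t * (E.l rh)⁻¹ := comm_inv htl.symm
  have h1 : y = E.l rh * (t * z * t) * (E.l rh)⁻¹ := by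
    rw [← H.tt_conj y, hz']
    calc t * (E.l rh * z * (E.l rh)⁻¹) * t = (t * E.l rh) * z * ((E.l rh)⁻¹ * t) := by group
      _ = _ := by rw [htl, htl']; group
  have h2 : (E.l rh)⁻¹ * y * E.l rh = t * z * t := by rw [h1]; group
  rw [h2]
  exact (mem_cjt E).mpr (by rw [H.tt_conj]; exact hz)

/-- `[X₂₃, X₃₄] ≤ X₂₄` -/
theorem F6 {x y : X} (hx : x ∈ H.X23) (hy : y ∈ H.X34) : ⁅x, y⁆ ∈ H.X24 := by
  obtain ⟨z, hz, rfl⟩ := mem_cj.mp hx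
  have h1 := H.X34_rh hy
  have h2 : y = E.l rh * ((E.l rh)⁻¹ * y * E.l rh) * (E.l rh)⁻¹ := by group
  rw [h2, cm_conj]
  exact mem_cj.mpr ⟨_, H.F3 hz.1.1 (H.X35_Qh h1), rfl⟩

theorem N6 {x y : X} (hx : x ∈ H.X23) (hy : y ∈ H.X34) (h : ⁅x, y⁆ = 1) : x = 1 ∨ y = 1 := by
  obtain ⟨z, hz, rfl⟩ := mem_cj.mp hx
  have h1 := H.X34_rh hy
  have h2 : y = E.l rh * ((E.l rh)⁻¹ * y * E.l rh) * (E.l rh)⁻¹ := by group
  rw [h2, cm_conj] at h
  have h3 : ⁅z, (E.l rh)⁻¹ * y * E.l rh⁆ = 1 := by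
    have h4 : ⁅z, (E.l rh)⁻¹ * y * E.l rh⁆ = (E.l rh)⁻¹ * (E.l rh * ⁅z, (E.l rh)⁻¹ * y * E.l rh⁆ * (E.l rh)⁻¹) * E.l rh := by
      group
    rw [h4, h]; group
  rcases H.N5 hz h1 h3 with h4 | h4
  · left; rw [h4]; group
  · right; rw [h2, h4]; group

/-- `[X₁₂, X₂₃] ≤ X₁₃` -/
theorem F1 {x b : X} (hx : x ∈ H.X12) (hb : b ∈ H.X23) : ⁅x, b⁆ ∈ H.X13 ∧ (⁅x, b⁆ = 1 → x = 1 ∨ b = 1) := by
  obtain ⟨hxA, hxh, -, hxm⟩ := H.X12_facts hx
  obtain ⟨hbB, hbN, -, -, u, hu, hp, huu⟩ := H.X23_facts hb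
  obtain ⟨m, hm, hov⟩ := H.ov_A1 hxA
  obtain ⟨-, ⟨hαA, hαov, hαUQ⟩, h2⟩ := H.act_A1 hxA hm hov hbB hu hp
  have hxQ := H.A1_le hxA
  have memB : ∀ z ∈ B1 H, ⁅x, z⁆ ∈ B1 H := by
    intro z hz
    rw [commutatorElement_def]
    exact mul_mem (H.Qh_B1 hxQ hz) (inv_mem hz)
  have hmul : ∀ y ∈ B1 H, ∀ z ∈ B1 H, ⁅x, y * z⁆ = ⁅x, y⁆ * ⁅x, z⁆ := by
    intro y hy z hz
    have c1 := H.B1_comm hy (memB z hz)
    have e : ⁅x, y * z⁆ = ⁅x, y⁆ * (y * ⁅x, z⁆ * y⁻¹) := by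
      rw [commutatorElement_def, commutatorElement_def, commutatorElement_def]; group
    rw [e, conj_eq c1]
  have hsk : ∀ z, E.h * ⁅x, z⁆ * E.h⁻¹ = ⁅x, E.h * z * E.h⁻¹⁆ := by
    intro z
    rw [← cm_conj, conj_eq hxh]
  have hcN : nm E.h ⁅x, b⁆ = 1 := by
    have b1 := H.al_h (show Al H b from hbB)
    have b2 := H.al_h b1
    unfold nm
    rw [hsk, hsk, ← hmul _ hbB _ b1, ← hmul _ (mul_mem hbB (show E.h * b * E.h⁻¹ ∈ B1 H from b1)) _ b2]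
    have h1 : b * (E.h * b * E.h⁻¹) * (E.h * (E.h * b * E.h⁻¹) * E.h⁻¹) = 1 := hbN
    rw [h1, commutatorElement_def]; group
  have hcB := memB b hbB
  have hcU := H.B1_le_Us hcB
  obtain ⟨α, hα⟩ : ∃ α, α = u⁻¹ * x * u * x⁻¹ := ⟨_, rfl⟩
  rw [← hα] at hαA hαov h2
  -- `c ≡ α`
  have hcα : EqM (Vs E w) ⁅x, b⁆ α := by
    have c1 : ⁅x, b⁆ = b⁻¹ * (x * b * x⁻¹) := by
      rw [commutatorElement_def]
      exact H.B1_comm (H.Qh_B1 hxQ hbB) (inv_mem hbB)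
    unfold EqM at h2 ⊢
    rw [c1]
    have e : (b⁻¹ * (x * b * x⁻¹))⁻¹ * α = (x * b * x⁻¹)⁻¹ * (b * α) := by group
    rw [e]; exact h2
  obtain ⟨s, hs, hcs⟩ : ∃ s ∈ Vs E w, α = ⁅x, b⁆ * s := ⟨_, hcα, by group⟩
  have hαs : nm E.h α = s := by
    obtain ⟨c, hc⟩ : ∃ c, c = ⁅x, b⁆ := ⟨_, rfl⟩
    rw [← hc] at hcs hcN hcU
    have hsh : E.h * s * E.h⁻¹ = s := conj_eq (H.h_Vs hs)
    have c1 := H.h_Us hcU
    have c2 := H.h_Us c1
    have k1 := c1.1.cent s hs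
    have k2 := c2.1.cent s hs
    unfold nm at hcN ⊢
    rw [hcs]
    have e1 : E.h * (c * s) * E.h⁻¹ = (E.h * c * E.h⁻¹) * s := by
      calc E.h * (c * s) * E.h⁻¹ = (E.h * c * E.h⁻¹) * (E.h * s * E.h⁻¹) := by group
        _ = _ := by rw [hsh]
    have e2 : E.h * ((E.h * c * E.h⁻¹) * s) * E.h⁻¹ = (E.h * (E.h * c * E.h⁻¹) * E.h⁻¹) * s := by
      calc E.h * ((E.h * c * E.h⁻¹) * s) * E.h⁻¹ = (E.h * (E.h * c * E.h⁻¹) * E.h⁻¹) * (E.h * s * E.h⁻¹) := by group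
        _ = _ := by rw [hsh]
    rw [e1, e2]
    generalize E.h * (E.h * c * E.h⁻¹) * E.h⁻¹ = b' at k2 hcN ⊢
    generalize E.h * c * E.h⁻¹ = a at k1 hcN ⊢
    calc c * s * (a * s) * (b' * s) = c * (s * a) * (s * b') * s := by group
      _ = c * a * (s * b') * (s * s) := by
          rw [← k1, ← k2]
          calc c * (a * s) * (b' * s) * s = c * a * (s * b') * s * s := by group
            _ = _ := by rw [← k2]; group
      _ = (c * a * b') * s * (s * s) := by rw [← k2]; group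
      _ = s := by rw [hcN, H.Vs_sq hs, one_mul, mul_one]
  have hsA : s ∈ A1 := by
    rw [← hαs]
    unfold nm
    have a1 := H.conj _ E.h_mem (E.h_r 0) α hαA
    exact mul_mem (mul_mem hαA a1) (H.conj _ E.h_mem (E.h_r 0) _ a1)
  have hcA : ⁅x, b⁆ ∈ A1 := by
    have : ⁅x, b⁆ = α * s⁻¹ := by rw [hcs]; group
    rw [this]; exact mul_mem hαA (inv_mem hsA)
  refine ⟨⟨⟨hcA, hcU⟩, hcN⟩, fun h => ?_⟩
  by_contra hno
  push Not at hno
  obtain ⟨m', hm', hmU', hov'⟩ := hxm hno.1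
  have hmU : m ∉ E.U := by
    intro h1
    apply hmU'
    rcases H.ov_unique hm' hm hov' hov with rfl | rfl
    · exact h1
    · exact mul_mem h1 (E.r_U 0)
  have hub := huu hno.2
  rw [h] at hcα
  have hαV : α ∈ Vs E w := by
    unfold EqM at hcα
    rwa [inv_one, one_mul] at hcα
  obtain ⟨e, he⟩ : ∃ e, e = u⁻¹ * m * u * m⁻¹ := ⟨_, rfl⟩
  rw [← he] at hαov hαUQ
  have heV : e ∈ E.V := by
    by_contra h1
    exact H.not_Vs hαUQ.1 (ps_of_ov hαov) h1 hαV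
  obtain ⟨σ, hσ0, hσσ, hσs, hσ1, hr, -⟩ := H.Q_klein hm hmU
  obtain ⟨π, -, hπ0, hπ3, hπ1⟩ := E.exists_perm
  have hσm := (dec_K π hπ0 hπ3 hπ1 σ hσ0 hσσ hσs hσ1 1 (by decide)).1
  apply hσm
  apply E.r_inj
  rw [← hr, ← hub]
  have e1 : m * u * m⁻¹ = u * e := by rw [he]; group
  calc m * (u * u) * m⁻¹ = (m * u * m⁻¹) * (m * u * m⁻¹) := by group
    _ = u * (e * u) * e := by rw [e1]; group
    _ = (u * u) * (e * e) := by rw [← E.U_V hu heV]; group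
    _ = u * u := by rw [E.V_sq heV, mul_one]

theorem exists_X12 : ∃ x ∈ H.X12, x ≠ 1 := by
  have h : Nat.card H.X12 = 4 := by
    show Nat.card (cj E.n2 H.X14) = 4
    rw [card_cj, H.card_X14]
  by_contra hno
  push Not at hno
  have h1 : H.X12 = ⊥ := by
    rw [eq_bot_iff]
    intro x hx
    rw [mem_bot]; exact hno x hx
  rw [h1, Subgroup.card_bot] at h
  exact absurd h (by norm_num)

/-- `[X₁₃, X₃₄] ≤ X₁₄` -/
theorem F4 {x y : X} (hx : x ∈ H.X13) (hy : y ∈ H.X34) : ⁅x, y⁆ ∈ H.X14 ∧ (⁅x, y⁆ = 1 → x = 1 ∨ y = 1) := by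
  have hy' : t * y * t ∈ H.X23 := (mem_cjt E).mp hy
  obtain ⟨hyB, hyN, hyV, hyg, -⟩ := H.X23_facts hy'
  have hyU : y ∈ Us H.toC0 := by
    have := H.t_Us (H.B1_le_Us hyB)
    rwa [H.tt_conj] at this
  have hxU := hx.1.2
  have hcomm : ∀ z ∈ Us H.toC0, ⁅x, z⁆ ∈ Vs E w := by
    intro z hz
    obtain ⟨s, hs, h⟩ := H.Us_comm hxU hz
    rw [commutatorElement_def, h, conj_eq (hz.1.cent s hs)]; exact hs
  have hcV := hcomm y hyU
  constructor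
  · obtain ⟨x₀, hx₀, hx₀1⟩ := H.exists_X12
    obtain ⟨hx₀A, -, -, hx₀m⟩ := H.X12_facts hx₀
    obtain ⟨m, hm, hmU, hov⟩ := hx₀m hx₀1
    have c1 := H.C1 hx₀ hy
    have c2 := H.comm x₀ hx₀A x hx.1.1
    have c3 : x₀ * ⁅x, y⁆ = ⁅x, y⁆ * x₀ := by
      apply comm_of_conj
      rw [← cm_conj, conj_eq c1, conj_eq c2]
    refine ⟨⟨H.cent_Vs hx₀A hm hmU hov hcV c3, hcV⟩, ?_⟩
    -- the norm
    set g := E.h * E.l E.k1 with hg
    have hgx := H.X13_h1 hx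
    have hgA : g ∈ A := mul_mem E.h_mem (E.l_mem _)
    have hgt : g * t = t * g := (E.t_A _ hgA).symm
    have hkg : ∀ s ∈ Vs E w, E.l E.k1 * s * (E.l E.k1)⁻¹ = g * s * g⁻¹ := by
      intro s hs
      have h1 := H.l_Vs E.k1 hs
      have e : g * s * g⁻¹ = E.h * (E.l E.k1 * s * (E.l E.k1)⁻¹) * E.h⁻¹ := by rw [hg]; group
      rw [e, conj_eq (H.h_Vs h1)]
    have hsk : ∀ z, g * ⁅x, z⁆ * g⁻¹ = ⁅x, g * z * g⁻¹⁆ := by
      intro z
      rw [← cm_conj, hgx]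
    have hUg : ∀ z ∈ Us H.toC0, g * z * g⁻¹ ∈ Us H.toC0 := by
      intro z hz
      have e : g * z * g⁻¹ = E.h * (E.l E.k1 * z * (E.l E.k1)⁻¹) * E.h⁻¹ := by rw [hg]; group
      rw [e]; exact H.h_Us (H.l_Us _ hz)
    have hmul : ∀ y ∈ Us H.toC0, ∀ z ∈ Us H.toC0, ⁅x, y * z⁆ = ⁅x, y⁆ * ⁅x, z⁆ := by
      intro y hy z hz
      have c1 := hy.1.cent _ (hcomm z hz)
      have e : ⁅x, y * z⁆ = ⁅x, y⁆ * (y * ⁅x, z⁆ * y⁻¹) := by
        rw [commutatorElement_def, commutatorElement_def, commutatorElement_def]; group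
      rw [e, conj_eq c1]
    have y1 := hUg y hyU
    have y2 := hUg _ y1
    have hn : nm g y = 1 := by
      have h3 : y = t * (t * y * t) * t⁻¹ := by rw [t_inv E, H.tt_conj]
      rw [h3, nm_conj hgt]
      have h4 : nm g (t * y * t) = 1 := by
        obtain ⟨z, hz⟩ : ∃ z, z = t * y * t := ⟨_, rfl⟩
        rw [← hz] at hyB hyN hyg ⊢
        have hgh : g * E.h = E.h * g := by rw [hg, mul_assoc, ← E.h_l]
        have hgh' : E.h⁻¹ * g⁻¹ = g⁻¹ * E.h⁻¹ := by rw [← mul_inv_rev, ← mul_inv_rev, hgh]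
        have z1 : E.h * z * E.h⁻¹ ∈ B1 H := H.al_h (show Al H z from hyB)
        have z2 : E.h * (E.h * z * E.h⁻¹) * E.h⁻¹ ∈ B1 H := H.al_h (show Al H _ from z1)
        have h5 : g * (E.h * (E.h * z * E.h⁻¹) * E.h⁻¹) * g⁻¹ = E.h * z * E.h⁻¹ := by
          have hh := E.h_cube
          calc g * (E.h * (E.h * z * E.h⁻¹) * E.h⁻¹) * g⁻¹ = (g * E.h) * (E.h * z * E.h⁻¹) * (E.h⁻¹ * g⁻¹) := by group
            _ = E.h * (g * E.h) * z * (E.h⁻¹ * g⁻¹) * E.h⁻¹ := by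
                conv_lhs => rw [hgh, hgh']
                group
            _ = E.h * E.h * (g * z * g⁻¹) * E.h⁻¹ * E.h⁻¹ := by
                conv_lhs => rw [hgh, hgh']
                group
            _ = (E.h * E.h * E.h) * (E.h * z * E.h⁻¹) * (E.h * E.h * E.h)⁻¹ := by rw [hyg]; group
            _ = _ := by rw [hh]; group
        unfold nm at hyN ⊢
        rw [hyg, h5, mul_assoc, H.B1_comm z2 z1, ← mul_assoc]
        exact hyN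
      rw [h4]; group
    unfold nm at hn ⊢
    rw [hkg _ hcV, hsk, hkg _ (hcomm _ y1), hsk, ← hmul _ hyU _ y1, ← hmul _ (mul_mem hyU y1) _ y2, hn,
      commutatorElement_def]
    group
  · intro h
    by_contra hno
    push Not at hno
    refine H.nd (H.X13_B1 hx) (fun h => hno.1 (H.X13_Vs hx h)) hyB (fun h => ?_) ?_
    · have h5 := hyV h
      have h6 := H.tt_conj y
      rw [h5, mul_one, E.t_sq] at h6
      exact hno.2 h6.symm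
    · rw [H.tt_conj]; exact cm_iff.mp h

end One

end Cfsg.Agent.UFiveTwo.Big
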