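import Cfsg.Agent.UFiveTwo.OneK

/-!
# S1778, type `U₅(2)`, section 9 (`eps = 1`), (III): facts on `U / V`: three-cycles
-/

set_option autoImplicit false

namespace Cfsg.Agent.UFiveTwo.Big

open Subgroup Cfsg.Agent.UFiveTwo.Line

universe u

theorem dec_three : ∀ k1 : Equiv.Perm (Fin 5), k1 0 = 0 → k1 1 = 1 → k1 ≠ 1 → Equiv.Perm.sign k1 = 1 →
    ∀ ρ : Equiv.Perm (Fin 5), ρ 0 = 0 → ρ 1 = 1 → ρ ≠ 1 → Equiv.Perm.sign ρ = 1 → ρ = k1 ∨ ρ = k1⁻¹ := by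
  decide +kernel

theorem dec_fix : ∀ ρ : Equiv.Perm (Fin 5), ρ * ρ * ρ = 1 → ρ ≠ 1 → ∀ l, ρ l = l → ∃ p, p ≠ l ∧ ρ p = p := by
  decide +kernel

theorem dec_others : ∀ i j : Fin 5, i ≠ j → ∃ a b c : Fin 5, a ≠ b ∧ a ≠ c ∧ b ≠ c ∧ a ≠ i ∧ b ≠ i ∧ c ≠ i ∧
    a ≠ j ∧ b ≠ j ∧ c ≠ j := by decide

theorem dec_cyc : ∀ i j a b : Fin 5, i ≠ j → a ≠ b → a ≠ i → a ≠ j → b ≠ i → b ≠ j →
    (Equiv.swap i j * Equiv.swap j a) * (Equiv.swap i j * Equiv.swap j a) * (Equiv.swap i j * Equiv.swap j a) = 1 ∧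
    (Equiv.swap i j * Equiv.swap j a) i = j ∧
    Equiv.swap i j * Equiv.swap j a ≠ 1 ∧
    (Equiv.swap j b * Equiv.swap j a) i = i ∧ Equiv.swap j b * Equiv.swap j a ≠ 1 ∧
    (Equiv.swap j b * Equiv.swap j a) * (Equiv.swap j b * Equiv.swap j a) * (Equiv.swap j b * Equiv.swap j a) = 1 := by
  decide +kernel

variable {X : Type u} [Group X] {A : Subgroup X} {t : X} {E : Env A t} {w : X → X} {Qh Γ A1 : Subgroup X}

/-- equality modulo a subgroup -/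
def EqM (N : Subgroup X) (x y : X) : Prop := x⁻¹ * y ∈ N

theorem EqM.refl (N : Subgroup X) (x : X) : EqM N x x := by
  unfold EqM; rw [inv_mul_cancel]; exact one_mem _

theorem EqM.symm {N : Subgroup X} {x y : X} (h : EqM N x y) : EqM N y x := by
  have := inv_mem h
  rwa [mul_inv_rev, inv_inv] at this

theorem EqM.trans {N : Subgroup X} {x y z : X} (h : EqM N x y) (h' : EqM N y z) : EqM N x z := by
  have := mul_mem h h'
  have e : x⁻¹ * y * (y⁻¹ * z) = x⁻¹ * z := by group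
  rwa [e] at this

theorem EqM.mul {N : Subgroup X} {x y x' y' : X} (h : EqM N x x') (h' : EqM N y y')
    (hy : ∀ n ∈ N, y⁻¹ * n * y ∈ N) : EqM N (x * y) (x' * y') := by
  have := mul_mem (hy _ h) h'
  have e : y⁻¹ * (x⁻¹ * x') * y * (y⁻¹ * y') = (x * y)⁻¹ * (x' * y') := by group
  rwa [e] at this

theorem EqM.conj {N : Subgroup X} {x y g : X} (h : EqM N x y) (hg : ∀ n ∈ N, g * n * g⁻¹ ∈ N) :
    EqM N (g * x * g⁻¹) (g * y * g⁻¹) := by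
  have := hg _ h
  have e : g * (x⁻¹ * y) * g⁻¹ = (g * x * g⁻¹)⁻¹ * (g * y * g⁻¹) := by group
  rwa [e] at this

theorem EqM.mem {N : Subgroup X} {x y : X} (h : EqM N x y) (hx : x ∈ N) : y ∈ N := by
  have := mul_mem hx h
  rwa [mul_inv_cancel_left] at this

theorem EqM.mul_right {N : Subgroup X} {x s : X} (hs : s ∈ N) : EqM N x (x * s) := by
  unfold EqM; rw [inv_mul_cancel_left]; exact hs

theorem EqM.of_eq {N : Subgroup X} {x y : X} (h : x = y) : EqM N x y := by rw [h]; exact EqM.refl _ _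

section

variable (E)

theorem V_conj_U {u : X} (hu : u ∈ E.U) : ∀ n ∈ E.V, u⁻¹ * n * u ∈ E.V := by
  intro n hn
  have : u⁻¹ * n * u = n := by rw [E.U_V (inv_mem hu) hn, mul_assoc, inv_mul_cancel, mul_one]
  rw [this]; exact hn

theorem V_l (σ : alternatingGroup (Fin 5)) : ∀ n ∈ E.V, E.l σ * n * (E.l σ)⁻¹ ∈ E.V := by
  intro n hn
  obtain ⟨s, rfl⟩ := E.exists_v hn
  rw [E.l_v]; exact E.v_mem _

theorem V_h : ∀ n ∈ E.V, E.h * n * E.h⁻¹ ∈ E.V := by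
  intro n hn
  rw [conj_eq (E.h_V hn)]; exact hn

/-- elements of `U` with the same square -/
theorem cls {u u' : X} (hu : u ∈ E.U) (hu' : u' ∈ E.U) (h : u * u = u' * u') (h1 : u * u ≠ 1) :
    EqM E.V u' u ∨ EqM E.V u' (E.h * u * E.h⁻¹) ∨ EqM E.V u' (E.h * (E.h * u * E.h⁻¹) * E.h⁻¹) := by
  obtain ⟨k, v, hv, hk⟩ := E.U_line u hu u' hu' h h1
  have hmod : E.h ^ k = E.h ^ (k % 3) := by
    conv_lhs => rw [← Nat.div_add_mod k 3]
    rw [pow_add, pow_mul, E.h_pow, one_pow, one_mul]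
  have hlt : k % 3 < 3 := Nat.mod_lt _ (by norm_num)
  rw [hmod] at hk
  generalize k % 3 = j at hk hlt
  have key : EqM E.V u' (E.h ^ j * u * (E.h ^ j)⁻¹) := by
    apply EqM.symm
    rw [hk]; exact EqM.mul_right hv
  interval_cases j
  · left
    simpa using key
  · right; left
    simpa using key
  · right; right
    have e : E.h * (E.h * u * E.h⁻¹) * E.h⁻¹ = E.h ^ 2 * u * (E.h ^ 2)⁻¹ := by rw [pow_two]; group
    rw [e]; exact key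

/-- `l(ρ)`, `ρ` a three-cycle, acts fixed-point-freely on `U / V` -/
theorem fpf {ρ : alternatingGroup (Fin 5)} (h3 : (ρ : Equiv.Perm (Fin 5)) * ρ * ρ = 1)
    (h1 : (ρ : Equiv.Perm (Fin 5)) ≠ 1) (H : C0 E w) {u : X} (hu : u ∈ E.U) (h : EqM E.V (E.l ρ * u * (E.l ρ)⁻¹) u) :
    u ∈ E.V := by
  by_contra hV
  rcases E.U_sq u hu with h2 | ⟨k, h2⟩
  · exact hV (E.U_one u hu h2)
  -- `ρ k = k`
  have hk : (ρ : Equiv.Perm (Fin 5)) k = k := by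
    apply E.r_inj
    have h4 : (E.l ρ * u * (E.l ρ)⁻¹) * (E.l ρ * u * (E.l ρ)⁻¹) = E.r ((ρ : Equiv.Perm (Fin 5)) k) := by
      rw [← E.l_r, ← h2]; group
    rw [← h4, ← h2]
    obtain ⟨v, hv, h5⟩ : ∃ v ∈ E.V, E.l ρ * u * (E.l ρ)⁻¹ = u * v := ⟨_, inv_mem h, by group⟩
    rw [h5]
    calc u * v * (u * v) = u * (v * u) * v := by group
      _ = (u * u) * (v * v) := by rw [← E.U_V hu hv]; group
      _ = u * u := by rw [E.V_sq hv, mul_one]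
  obtain ⟨p, hpk, hp⟩ := dec_fix ρ h3 h1 k hk
  obtain ⟨κ, hκs, hκ0, hκ1⟩ := exists_even (i := 0) (j := 1) (i' := k) (j' := p) (by decide) (Ne.symm hpk)
  set κ' : alternatingGroup (Fin 5) := ⟨κ, Equiv.Perm.mem_alternatingGroup.mpr hκs⟩ with hκ'
  set ρ' : alternatingGroup (Fin 5) := κ'⁻¹ * ρ * κ' with hρ'
  have hρ0 : (ρ' : Equiv.Perm (Fin 5)) 0 = 0 := by
    have : (ρ' : Equiv.Perm (Fin 5)) 0 = κ⁻¹ ((ρ : Equiv.Perm (Fin 5)) (κ 0)) := rfl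
    rw [this, hκ0, hk, ← hκ0]; exact κ.symm_apply_apply 0
  have hρ1 : (ρ' : Equiv.Perm (Fin 5)) 1 = 1 := by
    have : (ρ' : Equiv.Perm (Fin 5)) 1 = κ⁻¹ ((ρ : Equiv.Perm (Fin 5)) (κ 1)) := rfl
    rw [this, hκ1, hp, ← hκ1]; exact κ.symm_apply_apply 1
  have hρne : (ρ' : Equiv.Perm (Fin 5)) ≠ 1 := by
    intro h'
    apply h1
    have : ρ' = 1 := Subtype.ext h'
    rw [hρ'] at this
    have h5 : ρ = κ' * 1 * κ'⁻¹ := by rw [← this]; group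
    rw [h5]; simp
  obtain ⟨u0, hu0⟩ : ∃ u0, u0 = (E.l κ')⁻¹ * u * E.l κ' := ⟨_, rfl⟩
  have hu0U : u0 ∈ E.U := by
    have := E.U_l u hu κ'⁻¹
    rwa [map_inv, inv_inv, ← hu0] at this
  have hu0r : u0 * u0 = E.r 0 := by
    have h5 := E.l_r κ'⁻¹ k
    rw [map_inv, inv_inv] at h5
    have h6 : ((κ'⁻¹ : alternatingGroup (Fin 5)) : Equiv.Perm (Fin 5)) k = 0 := by
      have : ((κ'⁻¹ : alternatingGroup (Fin 5)) : Equiv.Perm (Fin 5)) k = κ⁻¹ k := rfl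
      rw [this, ← hκ0]; exact κ.symm_apply_apply 0
    rw [h6] at h5
    rw [← h5, ← h2, hu0]; group
  have hfix : EqM E.V (E.l ρ' * u0 * (E.l ρ')⁻¹) u0 := by
    have h5 := EqM.conj h (V_l E κ'⁻¹)
    rw [map_inv, inv_inv] at h5
    have e : E.l ρ' * u0 * (E.l ρ')⁻¹ = (E.l κ')⁻¹ * (E.l ρ * u * (E.l ρ)⁻¹) * E.l κ' := by
      rw [hρ', hu0, map_mul, map_mul, map_inv]; group
    rw [e, hu0]; exact h5
  have hk1 : EqM E.V (E.l E.k1 * u0 * (E.l E.k1)⁻¹) u0 := by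
    rcases dec_three E.k1 E.k1_zero E.k1_one (fun h => E.k1_ne (Subtype.ext h)) (Equiv.Perm.mem_alternatingGroup.mp E.k1.2)
      ρ' hρ0 hρ1 hρne (Equiv.Perm.mem_alternatingGroup.mp ρ'.2) with h5 | h5
    · have h6 : ρ' = E.k1 := Subtype.ext h5
      rw [h6] at hfix; exact hfix
    · have h6 : ρ' = E.k1⁻¹ := Subtype.ext h5
      rw [h6] at hfix
      have h7 := (EqM.conj hfix (V_l E E.k1)).symm
      rw [map_inv, inv_inv] at h7
      have e : E.l E.k1 * ((E.l E.k1)⁻¹ * u0 * E.l E.k1) * (E.l E.k1)⁻¹ = u0 := by group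
      rwa [e] at h7
  obtain ⟨u1, hu1U, hu1Q, hu1r⟩ := exists_UQ H
  -- `u0 ≡ q ∈ U ∩ Q`
  have hq : ∃ q ∈ E.U ⊓ E.Q, EqM E.V u0 q := by
    have hne : u1 * u1 ≠ 1 := by rw [hu1r]; exact E.r_ne
    have hhr : E.h * E.r 0 = E.r 0 * E.h := E.h_r 0
    have m1 : E.h * u1 * E.h⁻¹ ∈ E.U ⊓ E.Q := ⟨E.U_h _ hu1U, E.Q_conj _ E.h_mem hhr _ hu1Q⟩
    have m2 : E.h * (E.h * u1 * E.h⁻¹) * E.h⁻¹ ∈ E.U ⊓ E.Q := ⟨E.U_h _ m1.1, E.Q_conj _ E.h_mem hhr _ m1.2⟩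
    rcases cls E hu1U hu0U (by rw [hu1r, hu0r]) hne with h5 | h5 | h5
    · exact ⟨_, ⟨hu1U, hu1Q⟩, h5⟩
    · exact ⟨_, m1, h5⟩
    · exact ⟨_, m2, h5⟩
  obtain ⟨q, hq, hq0⟩ := hq
  obtain ⟨v, hv, h5⟩ := E.h1_UQ q hq
  have hVh1 : ∀ n ∈ E.V, (E.h * E.l E.k1) * n * (E.h * E.l E.k1)⁻¹ ∈ E.V := by
    intro n hn
    have e : (E.h * E.l E.k1) * n * (E.h * E.l E.k1)⁻¹ = E.h * (E.l E.k1 * n * (E.l E.k1)⁻¹) * E.h⁻¹ := by group
    rw [e]; exact V_h E _ (V_l E _ _ hn)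
  have h6 : EqM E.V ((E.h * E.l E.k1) * u0 * (E.h * E.l E.k1)⁻¹) q := by
    refine (EqM.conj hq0 hVh1).trans ?_
    rw [h5]; exact (EqM.mul_right hv).symm
  have h7 : EqM E.V (E.h * u0 * E.h⁻¹) u0 := by
    have h8 := EqM.conj hk1 (V_h E)
    refine h8.symm.trans ?_
    have e : E.h * (E.l E.k1 * u0 * (E.l E.k1)⁻¹) * E.h⁻¹ = (E.h * E.l E.k1) * u0 * (E.h * E.l E.k1)⁻¹ := by group
    rw [e]; exact h6.trans hq0.symm
  have h9 : u0 ∈ E.V := by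
    have h10 := h7.symm
    exact U_fix_V E hu0U h10 (by group)
  rw [E.V_sq h9] at hu0r
  exact E.r_ne hu0r.symm

/-- transitivity: a three-cycle mapping `x` to `y` modulo `V` -/
theorem exists_cyc (H : C0 E w) {x y : X} (hx : x ∈ E.U) (hy : y ∈ E.U) {i j : Fin 5} (hij : i ≠ j)
    (hxi : x * x = E.r i) (hyj : y * y = E.r j) :
    ∃ τ : alternatingGroup (Fin 5), (τ : Equiv.Perm (Fin 5)) * τ * τ = 1 ∧ (τ : Equiv.Perm (Fin 5)) ≠ 1 ∧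
      EqM E.V (E.l τ * x * (E.l τ)⁻¹) y := by
  obtain ⟨a, b, c, hab, hac, hbc, hai, hbi, hci, haj, hbj, hcj⟩ := dec_others i j hij
  have hsgn : ∀ p : Fin 5, p ≠ j → Equiv.swap i j * Equiv.swap j p ∈ alternatingGroup (Fin 5) := by
    intro p hp
    rw [Equiv.Perm.mem_alternatingGroup]
    exact sign_swap_swap hij (Ne.symm hp)
  have hxV : x ∉ E.V := by
    intro h
    rw [E.V_sq h] at hxi
    exact E.r_ne' i hxi.symm
  -- no two of the three cycles agree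
  have key : ∀ p q : Fin 5, p ≠ q → p ≠ i → p ≠ j → q ≠ i → q ≠ j → ∀ (hp : p ≠ j) (hq : q ≠ j),
      ¬ EqM E.V (E.l ⟨_, hsgn p hp⟩ * x * (E.l ⟨_, hsgn p hp⟩)⁻¹) (E.l ⟨_, hsgn q hq⟩ * x * (E.l ⟨_, hsgn q hq⟩)⁻¹) := by
    intro p q hpq hpi hpj hqi hqj hp hq h
    apply hxV
    obtain ⟨-, -, -, k1, k2, k3⟩ := dec_cyc i j p q hij hpq hpi hpj hqi hqj
    have hs : Equiv.swap j q * Equiv.swap j p ∈ alternatingGroup (Fin 5) := by
      rw [Equiv.Perm.mem_alternatingGroup]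
      exact sign_swap_swap (Ne.symm hq) (Ne.symm hp)
    have hmul : (⟨_, hsgn q hq⟩ : alternatingGroup (Fin 5))⁻¹ * ⟨_, hsgn p hp⟩ = ⟨_, hs⟩ := by
      apply Subtype.ext
      show (Equiv.swap i j * Equiv.swap j q)⁻¹ * (Equiv.swap i j * Equiv.swap j p) = _
      rw [mul_inv_rev, Equiv.swap_inv, Equiv.swap_inv]
      calc Equiv.swap j q * Equiv.swap i j * (Equiv.swap i j * Equiv.swap j p) =
          Equiv.swap j q * (Equiv.swap i j * Equiv.swap i j) * Equiv.swap j p := by group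
        _ = _ := by rw [Equiv.swap_mul_self, mul_one]
    refine fpf E (ρ := ⟨_, hs⟩) k3 k2 H hx ?_
    rw [← hmul, map_mul, map_inv]
    have h5 := EqM.conj h (V_l E (⟨_, hsgn q hq⟩ : alternatingGroup (Fin 5))⁻¹)
    rw [map_inv, inv_inv] at h5
    generalize E.l ⟨_, hsgn q hq⟩ = g at h5 ⊢
    generalize E.l ⟨_, hsgn p hp⟩ = g' at h5 ⊢
    have e1 : g⁻¹ * (g' * x * g'⁻¹) * g = g⁻¹ * g' * x * (g⁻¹ * g')⁻¹ := by group
    have e2 : g⁻¹ * (g * x * g⁻¹) * g = x := by group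
    rwa [e1, e2] at h5
  -- the class of each
  have cl : ∀ p : Fin 5, p ≠ i → p ≠ j → ∀ (hp : p ≠ j),
      EqM E.V (E.l ⟨_, hsgn p hp⟩ * x * (E.l ⟨_, hsgn p hp⟩)⁻¹) y ∨
      EqM E.V (E.l ⟨_, hsgn p hp⟩ * x * (E.l ⟨_, hsgn p hp⟩)⁻¹) (E.h * y * E.h⁻¹) ∨
      EqM E.V (E.l ⟨_, hsgn p hp⟩ * x * (E.l ⟨_, hsgn p hp⟩)⁻¹) (E.h * (E.h * y * E.h⁻¹) * E.h⁻¹) := by
    intro p hpi hpj hp
    obtain ⟨q, hqp, hqi, hqj⟩ : ∃ q : Fin 5, q ≠ p ∧ q ≠ i ∧ q ≠ j := by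
      by_cases h : a = p
      · subst h; exact ⟨b, Ne.symm hab, hbi, hbj⟩
      · exact ⟨a, h, hai, haj⟩
    obtain ⟨-, k1, -⟩ := dec_cyc i j p q hij (Ne.symm hqp) hpi hpj hqi hqj
    refine cls E hy (E.U_l x hx _) ?_ (by rw [hyj]; exact E.r_ne' j)
    rw [hyj]
    have h5 := E.l_r ⟨_, hsgn p hp⟩ i
    rw [k1, ← hxi] at h5
    rw [← h5]; group
  have fin : ∀ p : Fin 5, p ≠ i → p ≠ j → ∀ (hp : p ≠ j),
      EqM E.V (E.l ⟨_, hsgn p hp⟩ * x * (E.l ⟨_, hsgn p hp⟩)⁻¹) y →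
      ∃ τ : alternatingGroup (Fin 5), (τ : Equiv.Perm (Fin 5)) * τ * τ = 1 ∧ (τ : Equiv.Perm (Fin 5)) ≠ 1 ∧
      EqM E.V (E.l τ * x * (E.l τ)⁻¹) y := by
    intro p hpi hpj hp h
    obtain ⟨q, hqp, hqi, hqj⟩ : ∃ q : Fin 5, q ≠ p ∧ q ≠ i ∧ q ≠ j := by
      by_cases h : a = p
      · subst h; exact ⟨b, Ne.symm hab, hbi, hbj⟩
      · exact ⟨a, h, hai, haj⟩
    obtain ⟨k0, -, k2, -⟩ := dec_cyc i j p q hij (Ne.symm hqp) hpi hpj hqi hqj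
    exact ⟨⟨_, hsgn p hp⟩, k0, k2, h⟩
  rcases cl a hai haj haj with h1 | h1 | h1
  · exact fin a hai haj haj h1
  · rcases cl b hbi hbj hbj with h2 | h2 | h2
    · exact fin b hbi hbj hbj h2
    · exact absurd (h1.trans h2.symm) (key a b hab hai haj hbi hbj haj hbj)
    · rcases cl c hci hcj hcj with h3 | h3 | h3
      · exact fin c hci hcj hcj h3
      · exact absurd (h1.trans h3.symm) (key a c hac hai haj hci hcj haj hcj)
      · exact absurd (h2.trans h3.symm) (key b c hbc hbi hbj hci hcj hbj hcj)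
  · rcases cl b hbi hbj hbj with h2 | h2 | h2
    · exact fin b hbi hbj hbj h2
    · rcases cl c hci hcj hcj with h3 | h3 | h3
      · exact fin c hci hcj hcj h3
      · exact absurd (h2.trans h3.symm) (key b c hbc hbi hbj hci hcj hbj hcj)
      · exact absurd (h1.trans h3.symm) (key a c hac hai haj hci hcj haj hcj)
    · exact absurd (h1.trans h2.symm) (key a b hab hai haj hbi hbj haj hbj)

end

end Cfsg.Agent.UFiveTwo.Big
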