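import Cfsg.Agent.UFiveTwo.OneN

/-!
# S1778, type `U₅(2)`, section 9 (`eps = 1`), (VII): the ten root groups `X_ij` and their elements
-/

set_option autoImplicit false

namespace Cfsg.Agent.UFiveTwo.Big

open Subgroup Cfsg.Agent.UFiveTwo.Line

universe u

theorem dec_k1a : ∀ k1 : Equiv.Perm (Fin 5), k1 0 = 0 → k1 1 = 1 → k1 ≠ 1 → Equiv.Perm.sign k1 = 1 →
    k1 * k1 * k1 = 1 := by decide +kernel

theorem dec_k1b : ∀ k1 : Equiv.Perm (Fin 5), k1 0 = 0 → k1 1 = 1 → k1 ≠ 1 → Equiv.Perm.sign k1 = 1 →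
    ∀ c a : Fin 5, c ≠ 0 → c ≠ 1 → a ≠ 0 → a ≠ 1 → a = c ∨ a = k1 c ∨ a = k1 (k1 c) := by decide +kernel

theorem dec_vec : ∀ a b i j : Fin 5, (a = i ∧ b = j) ∨ (a = j ∧ b = i) ∨ (a ≠ i ∧ a ≠ j ∧ b ≠ i ∧ b ≠ j) ∨
      (((Pi.single a 1 + Pi.single b 1 + (Pi.single i 1 + Pi.single j 1) : Fin 5 → ZMod 2) ≠ 0 ∧
      (Pi.single a 1 + Pi.single b 1 + (Pi.single i 1 + Pi.single j 1) : Fin 5 → ZMod 2) ≠ 1) ∧
      ((i ≠ 0 ∧ j ≠ 0 ∧ a ≠ 0 ∧ b ≠ 0 ∧ a ≠ b ∧ i ≠ j) →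
      (Pi.single a 1 + Pi.single b 1 + (Pi.single i 1 + Pi.single j 1 + Pi.single 0 1) : Fin 5 → ZMod 2) ≠ 0 ∧
      (Pi.single a 1 + Pi.single b 1 + (Pi.single i 1 + Pi.single j 1 + Pi.single 0 1) : Fin 5 → ZMod 2) ≠ 1)) := by
  decide +kernel

theorem dec_k1c : ∀ k1 : Equiv.Perm (Fin 5), k1 0 = 0 → k1 1 = 1 → k1 ≠ 1 → Equiv.Perm.sign k1 = 1 →
    ∀ i j : Fin 5, i ≠ 0 → j ≠ 0 → i ≠ j →
      k1 i ≠ 0 ∧ k1 j ≠ 0 ∧ k1 i ≠ k1 j ∧ ¬ ((k1 i = i ∧ k1 j = j) ∨ (k1 i = j ∧ k1 j = i) ∨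
        (k1 i ≠ i ∧ k1 i ≠ j ∧ k1 j ≠ i ∧ k1 j ≠ j)) := by
  decide +kernel

theorem dec_k1e : ∀ k1 : Equiv.Perm (Fin 5), k1 0 = 0 → k1 1 = 1 → k1 ≠ 1 → Equiv.Perm.sign k1 = 1 →
    Equiv.swap 0 1 * Equiv.swap 2 3 * k1 * (Equiv.swap 0 1 * Equiv.swap 2 3)⁻¹ = k1⁻¹ := by
  decide +kernel

theorem dec_pair2 : ∀ i j : Fin 5, i ≠ 0 → j ≠ 0 → i ≠ j → i = 1 ∨ j = 1 ∨ ∃ l : Fin 5, l ≠ 0 ∧ l ≠ 1 ∧
    [0, 1, i, j, l].Nodup := by decide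

variable {X : Type u} [Group X] {A : Subgroup X} {t : X} {E : Env A t} {w : X → X} {Qh Γ A1 : Subgroup X}

/-- `ρ = (0 1)(2 3)` -/
def rh : alternatingGroup (Fin 5) :=
  ⟨Equiv.swap 0 1 * Equiv.swap 2 3, Equiv.Perm.mem_alternatingGroup.mpr (sign_swap_swap (by decide) (by decide))⟩

theorem rh_mul : rh * rh = 1 := by
  apply Subtype.ext
  show (Equiv.swap 0 1 * Equiv.swap 2 3) * (Equiv.swap 0 1 * Equiv.swap 2 3) = (1 : Equiv.Perm (Fin 5))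
  decide

theorem rh_inv : rh⁻¹ = rh := inv_eq_of_mul_eq_one_left rh_mul

section

variable (E)

theorem k1_sign : Equiv.Perm.sign (E.k1 : Equiv.Perm (Fin 5)) = 1 := Equiv.Perm.mem_alternatingGroup.mp E.k1.2

theorem k1_ne' : (E.k1 : Equiv.Perm (Fin 5)) ≠ 1 := fun h => E.k1_ne (Subtype.ext h)

theorem k_cube : E.l E.k1 * E.l E.k1 * E.l E.k1 = 1 := by
  rw [← map_mul, ← map_mul]
  have : E.k1 * E.k1 * E.k1 = 1 := Subtype.ext (dec_k1a _ E.k1_zero E.k1_one (k1_ne' E) (k1_sign E))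
  rw [this, map_one]

theorem h_cube' : E.h * E.h * E.h = 1 := E.h_cube

theorem k_r0 : E.l E.k1 * E.r 0 = E.r 0 * E.l E.k1 := by
  apply comm_of_conj
  rw [E.l_r, E.k1_zero]

theorem rh_k : E.l rh * E.l E.k1 * (E.l rh)⁻¹ = (E.l E.k1)⁻¹ := by
  rw [← map_mul, ← map_inv, ← map_mul, ← map_inv]
  congr 1
  exact Subtype.ext (dec_k1e _ E.k1_zero E.k1_one (k1_ne' E) (k1_sign E))

/-- `n2` moves `V ∩ Q` away from `U` -/
theorem n2_nU (H : C0 E w) {v : X} (hv : v ∈ E.V) (hq : v ∈ E.Q) (h1 : v ≠ 1) (h0 : v ≠ E.r 0) :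
    E.n2 * v * E.n2⁻¹ ∉ E.U := by
  intro hU
  have korb := dec_k1b _ E.k1_zero E.k1_one (k1_ne' E) (k1_sign E)
  -- `n2 v n2⁻¹ ∈ V`
  have hV : E.n2 * v * E.n2⁻¹ ∈ E.V := by
    refine U_fix_V E hU (one_mem E.V) ?_
    have c1 := E.n2_h
    have c2 := E.h_V hv
    have c3 : E.n2⁻¹ * E.h⁻¹ = E.h⁻¹ * E.n2⁻¹ := by rw [← mul_inv_rev, ← mul_inv_rev, c1]
    calc E.h * (E.n2 * v * E.n2⁻¹) * E.h⁻¹ = (E.h * E.n2) * v * (E.n2⁻¹ * E.h⁻¹) := by group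
      _ = E.n2 * (E.h * v) * E.h⁻¹ * E.n2⁻¹ := by rw [← c1, c3]; group
      _ = E.n2 * v * E.n2⁻¹ * 1 := by rw [c2]; group
  -- the subgroup `W0`
  let W0 : Subgroup X :=
    { carrier := {x | x ∈ E.V ∧ E.n2 * x * E.n2⁻¹ ∈ E.V}
      one_mem' := ⟨one_mem _, by rw [mul_one, mul_inv_cancel]; exact one_mem _⟩
      mul_mem' := by
        rintro x y ⟨hx, hx'⟩ ⟨hy, hy'⟩
        refine ⟨mul_mem hx hy, ?_⟩
        have e : E.n2 * (x * y) * E.n2⁻¹ = (E.n2 * x * E.n2⁻¹) * (E.n2 * y * E.n2⁻¹) := by group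
        rw [e]; exact mul_mem hx' hy'
      inv_mem' := by
        rintro x ⟨hx, hx'⟩
        refine ⟨inv_mem hx, ?_⟩
        have e : E.n2 * x⁻¹ * E.n2⁻¹ = (E.n2 * x * E.n2⁻¹)⁻¹ := by group
        rw [e]; exact inv_mem hx' }
  have w0 : E.r 0 ∈ W0 := ⟨E.r_V 0, by rw [conj_eq E.n2_r]; exact E.r_V 0⟩
  have wk : ∀ x ∈ W0, E.l E.k1 * x * (E.l E.k1)⁻¹ ∈ W0 := by
    rintro x ⟨hx, hx'⟩
    refine ⟨V_l E _ x hx, ?_⟩
    have c1 := E.n2_k1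
    have c3 : E.n2⁻¹ * (E.l E.k1)⁻¹ = (E.l E.k1)⁻¹ * E.n2⁻¹ := by rw [← mul_inv_rev, ← mul_inv_rev, c1]
    have e : E.n2 * (E.l E.k1 * x * (E.l E.k1)⁻¹) * E.n2⁻¹ = E.l E.k1 * (E.n2 * x * E.n2⁻¹) * (E.l E.k1)⁻¹ := by
      calc E.n2 * (E.l E.k1 * x * (E.l E.k1)⁻¹) * E.n2⁻¹ = (E.n2 * E.l E.k1) * x * ((E.l E.k1)⁻¹ * E.n2⁻¹) := by group
        _ = _ := by rw [c1, ← c3]; group
    rw [e]; exact V_l E _ _ hx'
  have hvW : v ∈ W0 := ⟨hv, hV⟩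
  -- some `r 1 * r c` in `W0`
  obtain ⟨c, hc0, hc1, hcW⟩ : ∃ c : Fin 5, c ≠ 0 ∧ c ≠ 1 ∧ E.r 1 * E.r c ∈ W0 := by
    rcases E.VQ_cases hv hq with h2 | h2 | ⟨i, j, hi, hj, hij, h2⟩
    · exact absurd h2 h1
    · exact absurd h2 h0
    · rw [h2] at hvW
      rcases dec_pair2 i j hi hj hij with h3 | h3 | ⟨l, hl0, hl1, hn⟩
      · subst h3; exact ⟨j, hj, Ne.symm hij, hvW⟩
      · subst h3; exact ⟨i, hi, hij, by rw [E.r_comm]; exact hvW⟩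
      · refine ⟨l, hl0, hl1, ?_⟩
        have h5 := H.R5r.five hn
        have e : E.r 1 * E.r l = E.r 0 * (E.r i * E.r j) := by
          have h6 : E.r 0 * (E.r 1 * (E.r i * (E.r j * E.r l))) = 1 := by
            simpa only [mul_assoc] using h5
          have c1 : E.r i * (E.r j * E.r l) = E.r l * (E.r i * E.r j) := by
            rw [← mul_assoc]
            exact E.comm_VV (mul_mem (E.r_V i) (E.r_V j)) (E.r_V l)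
          rw [c1] at h6
          have h7 : E.r 0 * (E.r 1 * E.r l) * (E.r i * E.r j) = 1 := by
            rw [← h6]; group
          have h8 := eq_inv_of_mul_eq_one_left h7
          have h9 : E.r 1 * E.r l = (E.r 0)⁻¹ * (E.r i * E.r j)⁻¹ := by rw [← h8]; group
          rw [h9, E.V_inv (E.r_V 0), E.V_inv (mul_mem (E.r_V i) (E.r_V j))]
        rw [e]; exact mul_mem w0 hvW
  have hstep : ∀ d, E.r 1 * E.r d ∈ W0 → E.r 1 * E.r ((E.k1 : Equiv.Perm (Fin 5)) d) ∈ W0 := by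
    intro d hd
    have h2 := wk _ hd
    have e : E.l E.k1 * (E.r 1 * E.r d) * (E.l E.k1)⁻¹ =
        (E.l E.k1 * E.r 1 * (E.l E.k1)⁻¹) * (E.l E.k1 * E.r d * (E.l E.k1)⁻¹) := by group
    rw [e, E.l_r, E.l_r, E.k1_one] at h2
    exact h2
  have hall : ∀ a : Fin 5, a ≠ 0 → E.r 1 * E.r a ∈ W0 := by
    intro a ha0
    by_cases ha1 : a = 1
    · subst ha1; rw [E.r_sq]; exact one_mem _
    rcases korb c a hc0 hc1 ha0 ha1 with h2 | h2 | h2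
    · rw [h2]; exact hcW
    · rw [h2]; exact hstep c hcW
    · rw [h2]; exact hstep _ (hstep c hcW)
  -- `lσ ∈ V`
  set σ : alternatingGroup (Fin 5) := ⟨Equiv.swap 1 2 * Equiv.swap 3 4,
    Equiv.Perm.mem_alternatingGroup.mpr (sign_swap_swap (by decide) (by decide))⟩ with hσ
  have hσK : IsKlein σ := by
    constructor
    · show (Equiv.swap 1 2 * Equiv.swap 3 4 : Equiv.Perm (Fin 5)) 0 = 0
      decide
    · show (Equiv.swap 1 2 * Equiv.swap 3 4 : Equiv.Perm (Fin 5)) * (Equiv.swap 1 2 * Equiv.swap 3 4) = 1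
      decide
  have hσV : E.n2 * E.l σ * E.n2⁻¹ ∈ E.V := E.n2_l σ hσK
  have hσQ : E.n2 * E.l σ * E.n2⁻¹ ∈ E.Q := E.Q_conj _ E.n2_mem E.n2_r _ (E.l_Q σ hσK)
  have hσW : E.n2 * E.l σ * E.n2⁻¹ ∈ W0 := by
    rcases E.VQ_cases hσV hσQ with h2 | h2 | ⟨i, j, hi, hj, hij, h2⟩
    · rw [h2]; exact one_mem _
    · rw [h2]; exact w0
    · rw [h2]
      have h3 := mul_mem (hall i hi) (hall j hj)
      have e : E.r 1 * E.r i * (E.r 1 * E.r j) = E.r i * E.r j := by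
        rw [E.r_comm 1 i]
        calc E.r i * E.r 1 * (E.r 1 * E.r j) = E.r i * (E.r 1 * E.r 1) * E.r j := by group
          _ = _ := by rw [E.r_sq, mul_one]
      rwa [e] at h3
  have hlV : E.l σ ∈ E.V := by
    have h3 := hσW.2
    have ni : E.n2⁻¹ = E.n2 := inv_eq_of_mul_eq_one_left E.n2_sq
    have e : E.n2 * (E.n2 * E.l σ * E.n2⁻¹) * E.n2⁻¹ = E.l σ := by
      rw [ni]
      calc E.n2 * (E.n2 * E.l σ * E.n2) * E.n2 = (E.n2 * E.n2) * E.l σ * (E.n2 * E.n2) := by group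
        _ = E.l σ := by rw [E.n2_sq, one_mul, mul_one]
    rwa [e] at h3
  have h3 := E.l_r σ 1
  rw [conj_eq (E.comm_VV hlV (E.r_V 1))] at h3
  have h4 := E.r_inj h3
  have h5 : (σ : Equiv.Perm (Fin 5)) 1 = 2 := by
    show (Equiv.swap 1 2 * Equiv.swap 3 4 : Equiv.Perm (Fin 5)) 1 = 2
    decide
  rw [h5] at h4
  exact absurd h4 (by decide)

end

namespace One

theorem comm14 (H : One E w Qh Γ A1) : ∀ x ∈ A1 ⊓ Vs E w, ∀ y ∈ A1 ⊓ Vs E w, x * y = y * x :=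
  fun x hx y hy => H.comm x hx.1 y hy.1

theorem conj14 (H : One E w Qh Γ A1) : ∀ x ∈ A1 ⊓ Vs E w, E.l E.k1 * x * (E.l E.k1)⁻¹ ∈ A1 ⊓ Vs E w :=
  fun x hx => ⟨H.conj _ (E.l_mem _) (k_r0 E) x hx.1, H.l_Vs _ hx.2⟩

theorem comm13 (H : One E w Qh Γ A1) : ∀ x ∈ A1 ⊓ Us H.toC0, ∀ y ∈ A1 ⊓ Us H.toC0, x * y = y * x :=
  fun x hx y hy => H.comm x hx.1 y hy.1

theorem conj13 (H : One E w Qh Γ A1) : ∀ x ∈ A1 ⊓ Us H.toC0, E.h * x * E.h⁻¹ ∈ A1 ⊓ Us H.toC0 :=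
  fun x hx => ⟨H.conj _ E.h_mem (E.h_r 0) x hx.1, H.h_Us hx.2⟩

def X14 (H : One E w Qh Γ A1) : Subgroup X := NS (A1 ⊓ Vs E w) (E.l E.k1) H.comm14 H.conj14

def X13 (H : One E w Qh Γ A1) : Subgroup X := NS (A1 ⊓ Us H.toC0) E.h H.comm13 H.conj13

variable (H : One E w Qh Γ A1)

include H

theorem k_Zh {ζ : X} (hζ : ζ ∈ Zh E w) : E.l E.k1 * ζ = ζ * E.l E.k1 := H.D_Zh (E.l_mem _) (k_r0 E) hζ

/-- elements of `A₁ ∩ V*` fixed by `k` -/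
theorem fix_k {x : X} (hx : x ∈ A1) (hxV : x ∈ Vs E w) (hk : E.l E.k1 * x = x * E.l E.k1) : x ∈ Zh E w := by
  obtain ⟨m, ⟨hmU, hmQ⟩, hov⟩ := H.ov_A1_Us hx (H.Vs_le_Us hxV)
  have hmV : m ∈ E.V := by
    by_contra h
    exact H.not_Vs hmU (ps_of_ov hov) h hxV
  have h1 := H.ov_conj (E.l_mem E.k1) (k_r0 E) hov
  rw [conj_eq hk] at h1
  have h2 := H.ov_unique (E.Q_conj _ (E.l_mem E.k1) (k_r0 E) m hmQ) hmQ h1 hov
  rcases E.VQ_cases hmV hmQ with h3 | h3 | ⟨i, j, hi, hj, hij, h3⟩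
  · rw [h3] at hov; exact H.mem_Zh_A1 hx hov
  · rw [h3] at hov; exact H.mem_Zh_A1' hx hov
  · exfalso
    obtain ⟨c1, c2, c3, c4⟩ := dec_k1c _ E.k1_zero E.k1_one (k1_ne' E) (k1_sign E) i j hi hj hij
    have cv := dec_vec ((E.k1 : Equiv.Perm (Fin 5)) i) ((E.k1 : Equiv.Perm (Fin 5)) j) i j
    obtain ⟨d1, d2⟩ : _ ∧ _ := by
      rcases cv with h | h | h | h
      · exact absurd (Or.inl h) c4
      · exact absurd (Or.inr (Or.inl h)) c4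
      · exact absurd (Or.inr (Or.inr h)) c4
      · exact ⟨h.1, h.2 ⟨hi, hj, c1, c2, c3, hij⟩⟩
    have e : E.l E.k1 * m * (E.l E.k1)⁻¹ = E.r ((E.k1 : Equiv.Perm (Fin 5)) i) * E.r ((E.k1 : Equiv.Perm (Fin 5)) j) := by
      rw [h3, ← E.l_r, ← E.l_r]; group
    rw [e, h3] at h2
    rcases h2 with h2 | h2
    · rw [← E.v_single, ← E.v_single, ← E.v_single, ← E.v_single, ← E.v_add, ← E.v_add, E.v_eq_iff] at h2
      rcases h2 with h2 | h2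
      · exact d1.1 h2
      · exact d1.2 h2
    · rw [← E.v_single, ← E.v_single, ← E.v_single, ← E.v_single, ← E.v_single, ← E.v_add, ← E.v_add, ← E.v_add,
        E.v_eq_iff] at h2
      rcases h2 with h2 | h2
      · exact d2.1 h2
      · exact d2.2 h2

/-- elements of `A₁ ∩ U*` fixed by `h` -/
theorem fix_h {x : X} (hx : x ∈ A1) (hxU : x ∈ Us H.toC0) (hk : E.h * x = x * E.h) : x ∈ Vs E w := by
  obtain ⟨m, ⟨hmU, hmQ⟩, hov⟩ := H.ov_A1_Us hx hxU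
  have h1 := H.ov_conj E.h_mem (E.h_r 0) hov
  rw [conj_eq hk] at h1
  have h2 := H.ov_unique (E.Q_conj _ E.h_mem (E.h_r 0) m hmQ) hmQ h1 hov
  have hmV : m ∈ E.V := by
    rcases h2 with h2 | h2
    · exact U_fix_V E hmU (one_mem E.V) (by rw [mul_one]; exact h2)
    · exact U_fix_V E hmU (E.r_V 0) h2
  exact H.mem_Vs_A1 hx hmV hmQ hov

theorem card_X14 : Nat.card H.X14 = 4 := by
  have h := card_NS H.comm14 H.conj14 (fun x hx => H.sq x hx.1) (k_cube E)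
  have h1 : CS (A1 ⊓ Vs E w) (E.l E.k1) = Zh E w := by
    apply le_antisymm
    · intro x hx
      obtain ⟨⟨h2, h3⟩, h4⟩ := mem_CS.mp hx
      exact H.fix_k h2 h3 h4
    · intro x hx
      exact mem_CS.mpr ⟨⟨H.Zh_A1 hx, Zh_le_Vs hx⟩, H.k_Zh hx⟩
  rw [h1, H.card_A1Vs, card_Zh H.toCtx] at h
  have h2 : 16 = 4 * Nat.card H.X14 := h
  omega

theorem card_X13 : Nat.card H.X13 = 4 := by
  have h := card_NS H.comm13 H.conj13 (fun x hx => H.sq x hx.1) (h_cube' E)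
  have h1 : CS (A1 ⊓ Us H.toC0) E.h = A1 ⊓ Vs E w := by
    apply le_antisymm
    · intro x hx
      obtain ⟨⟨h2, h3⟩, h4⟩ := mem_CS.mp hx
      exact ⟨h2, H.fix_h h2 h3 h4⟩
    · intro x hx
      exact mem_CS.mpr ⟨⟨hx.1, H.Vs_le_Us hx.2⟩, H.h_Vs hx.2⟩
  rw [h1, H.card_A1Us, H.card_A1Vs] at h
  have h2 : 64 = 16 * Nat.card H.X13 := h
  omega

theorem mem_X14 {x : X} : x ∈ H.X14 ↔ (x ∈ A1 ∧ x ∈ Vs E w) ∧ nm (E.l E.k1) x = 1 := Iff.rfl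

theorem mem_X13 {x : X} : x ∈ H.X13 ↔ (x ∈ A1 ∧ x ∈ Us H.toC0) ∧ nm E.h x = 1 := Iff.rfl

theorem X14_Zh {x : X} (hx : x ∈ H.X14) (hZ : x ∈ Zh E w) : x = 1 :=
  nm_fix (H.Zh_sq hZ) (H.k_Zh hZ) hx.2

theorem X13_Vs {x : X} (hx : x ∈ H.X13) (hV : x ∈ Vs E w) : x = 1 :=
  nm_fix (H.Vs_sq hV) (H.h_Vs hV) hx.2

theorem X13_B1 {x : X} (hx : x ∈ H.X13) : x ∈ B1 H := H.A1_B1 hx.1.1 hx.1.2

omit H in
def X12 (H : One E w Qh Γ A1) : Subgroup X := cj E.n2 H.X14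
omit H in
def X24 (_ : One E w Qh Γ A1) : Subgroup X := cj (E.l rh) (Zh E w)
omit H in
def X23 (H : One E w Qh Γ A1) : Subgroup X := cj (E.l rh) H.X13
omit H in
def X25 (H : One E w Qh Γ A1) : Subgroup X := cj t H.X14
omit H in
def X35 (H : One E w Qh Γ A1) : Subgroup X := cj t H.X13
omit H in
def X45 (H : One E w Qh Γ A1) : Subgroup X := cj t H.X12
omit H in
def X34 (H : One E w Qh Γ A1) : Subgroup X := cj t H.X23

theorem n2_k : E.l E.k1 * E.n2 = E.n2 * E.l E.k1 := E.n2_k1.symm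

/-- elements of `X₁₂` -/
theorem X12_facts {x : X} (hx : x ∈ H.X12) : x ∈ A1 ∧ E.h * x = x * E.h ∧ nm (E.l E.k1) x = 1 ∧
    (x ≠ 1 → ∃ m ∈ E.Q, m ∉ E.U ∧ Ov E w x m) := by
  obtain ⟨y, hy, rfl⟩ := mem_cj.mp hx
  obtain ⟨⟨hyA, hyV⟩, hyN⟩ := hy
  refine ⟨H.conj _ E.n2_mem E.n2_r y hyA, ?_, ?_, fun hne => ?_⟩
  · have c1 := E.n2_h
    have c2 := H.h_Vs hyV
    have c3 : E.n2⁻¹ * E.h = E.h * E.n2⁻¹ := comm_inv c1
    calc E.h * (E.n2 * y * E.n2⁻¹) = (E.h * E.n2) * y * E.n2⁻¹ := by group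
      _ = E.n2 * (E.h * y) * E.n2⁻¹ := by rw [← c1]; group
      _ = E.n2 * y * (E.h * E.n2⁻¹) := by rw [c2]; group
      _ = _ := by rw [← c3]; group
  · rw [nm_conj E.n2_k1.symm, hyN]; group
  · obtain ⟨m, ⟨hmU, hmQ⟩, hov⟩ := H.ov_A1_Us hyA (H.Vs_le_Us hyV)
    have hmV : m ∈ E.V := by
      by_contra h
      exact H.not_Vs hmU (ps_of_ov hov) h hyV
    have hy1 : y ≠ 1 := by
      rintro rfl
      apply hne; group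
    refine ⟨E.n2 * m * E.n2⁻¹, E.Q_conj _ E.n2_mem E.n2_r m hmQ, n2_nU E H.toC0 hmV hmQ ?_ ?_,
      H.ov_conj E.n2_mem E.n2_r hov⟩
    · rintro rfl
      exact hy1 (H.X14_Zh ⟨⟨hyA, hyV⟩, hyN⟩ (H.mem_Zh_A1 hyA hov))
    · intro h0
      rw [h0] at hov
      exact hy1 (H.X14_Zh ⟨⟨hyA, hyV⟩, hyN⟩ (H.mem_Zh_A1' hyA hov))

/-- `X₁₃` commutes with `h l(k₁)` -/
theorem X13_h1 {x : X} (hx : x ∈ H.X13) : (E.h * E.l E.k1) * x * (E.h * E.l E.k1)⁻¹ = x := by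
  obtain ⟨⟨hxA, hxU⟩, hxN⟩ := hx
  set g := E.h * E.l E.k1 with hg
  have hgA : g ∈ A := mul_mem E.h_mem (E.l_mem _)
  have hgr : g * E.r 0 = E.r 0 * g := by
    rw [hg, mul_assoc, k_r0 E, ← mul_assoc, E.h_r, mul_assoc]
  have hgx : g * x * g⁻¹ ∈ A1 := H.conj g hgA hgr x hxA
  have hgxU : g * x * g⁻¹ ∈ Us H.toC0 := by
    have e : g * x * g⁻¹ = E.h * (E.l E.k1 * x * (E.l E.k1)⁻¹) * E.h⁻¹ := by rw [hg]; group
    rw [e]; exact H.h_Us (H.l_Us _ hxU)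
  obtain ⟨m, ⟨hmU, hmQ⟩, hov⟩ := H.ov_A1_Us hxA hxU
  obtain ⟨v, hv, h1⟩ := E.h1_UQ m ⟨hmU, hmQ⟩
  have hov' := H.ov_conj hgA hgr hov
  have h2 : EqM (Vs E w) x (g * x * g⁻¹) := by
    refine H.A1_eqM hxA hgx hmQ (E.Q_conj g hgA hgr m hmQ) hov hov' ?_
    rw [hg, h1]; exact EqM.mul_right hv
  have hcomm : E.h * g = g * E.h := by rw [hg, mul_assoc, ← E.h_l]
  -- norm of `x⁻¹ g x g⁻¹` is 1
  have h3 : x⁻¹ * (g * x * g⁻¹) ∈ H.X13 := by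
    refine mul_mem (inv_mem (show x ∈ H.X13 from ⟨⟨hxA, hxU⟩, hxN⟩)) ⟨⟨hgx, hgxU⟩, ?_⟩
    rw [nm_conj hcomm, hxN]; group
  have h4 := H.X13_Vs h3 h2
  exact (inv_mul_eq_one.mp h4).symm

/-- elements of `X₂₃` -/
theorem X23_facts {x : X} (hx : x ∈ H.X23) : x ∈ B1 H ∧ nm E.h x = 1 ∧ (x ∈ Vs E w → x = 1) ∧
    (E.h * E.l E.k1) * x * (E.h * E.l E.k1)⁻¹ = E.h * (E.h * x * E.h⁻¹) * E.h⁻¹ ∧
    ∃ u ∈ E.U, Ps E w x u ∧ (x ≠ 1 → u * u = E.r 1) := by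
  obtain ⟨y, hy, rfl⟩ := mem_cj.mp hx
  have hyB := H.X13_B1 hy
  refine ⟨H.al_l rh hyB, ?_, ?_, ?_, ?_⟩
  · rw [nm_conj (E.h_l rh), hy.2]; group
  · intro hV
    have h1 := H.l_Vs rh⁻¹ hV
    rw [map_inv, inv_inv] at h1
    have e : (E.l rh)⁻¹ * (E.l rh * y * (E.l rh)⁻¹) * E.l rh = y := by group
    rw [e] at h1
    rw [H.X13_Vs hy h1]; group
  · -- `h k (ρ y ρ⁻¹) = ρ (h k⁻¹ y) ρ⁻¹ = ρ (h² y) ρ⁻¹`
    have h1 := H.X13_h1 hy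
    have hk := rh_k E
    set k := E.l E.k1 with hk0
    set ρ := E.l rh with hρ
    have hρρ : ρ * ρ = 1 := by rw [hρ, ← map_mul, rh_mul, map_one]
    have ρi : ρ⁻¹ = ρ := inv_eq_of_mul_eq_one_left hρρ
    have hhρ : E.h * ρ = ρ * E.h := E.h_l rh
    have hhk : E.h * k = k * E.h := E.h_l E.k1
    have hkρ : k * ρ = ρ * k⁻¹ := by
      rw [← hk]
      calc k * ρ = (ρ * ρ) * k * ρ := by rw [hρρ, one_mul]
        _ = ρ * (ρ * k * ρ⁻¹) := by rw [ρi]; group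
    have h2 : k⁻¹ * y * k = E.h * y * E.h⁻¹ := by
      -- `y = h k y k⁻¹ h⁻¹`
      calc k⁻¹ * y * k = k⁻¹ * ((E.h * k) * y * (E.h * k)⁻¹) * k := by rw [h1]
        _ = k⁻¹ * ((k * E.h) * y * (k * E.h)⁻¹) * k := by rw [hhk]
        _ = E.h * y * E.h⁻¹ := by group
    calc (E.h * k) * (ρ * y * ρ⁻¹) * (E.h * k)⁻¹ = E.h * (k * ρ) * y * (k * ρ)⁻¹ * E.h⁻¹ := by group
      _ = E.h * ρ * (k⁻¹ * y * k) * ρ⁻¹ * E.h⁻¹ := by rw [hkρ]; group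
      _ = E.h * (ρ * E.h) * y * (ρ * E.h)⁻¹ * E.h⁻¹ := by rw [h2]; group
      _ = _ := by rw [← hhρ]; group
  · obtain ⟨m, ⟨hmU, hmQ⟩, hov⟩ := H.ov_A1_Us hy.1.1 hy.1.2
    refine ⟨E.l rh * m * (E.l rh)⁻¹, E.U_l m hmU rh, ps_conj_l H.toC0 rh (ps_of_ov hov), fun hne => ?_⟩
    have hy1 : y ≠ 1 := by rintro rfl; apply hne; group
    have hmV : m ∉ E.V := fun h => hy1 (H.X13_Vs hy (H.mem_Vs_A1 hy.1.1 h hmQ hov))
    have h1 := UQ_sq hmU hmQ hmV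
    have h2 := E.l_r rh 0
    have h3 : (rh : Equiv.Perm (Fin 5)) 0 = 1 := by
      show (Equiv.swap 0 1 * Equiv.swap 2 3 : Equiv.Perm (Fin 5)) 0 = 1
      decide
    rw [h3, ← h1] at h2
    rw [← h2]; group

end One

end Cfsg.Agent.UFiveTwo.Big
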