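import Mathlib
import Cfsg.Agent.UFiveTwo.QHatTw

set_option autoImplicit false

/-!
# S1778, type `U5(2)`, section 6: the world `ε = 0`

`Q_w = ⟨g x⟩` has order `|Q|`, `z ∉ Q_w`, `w ∈ Q_w`, every `m ∈ Q` has a representative in `Q_w`,
`[u, v] = w ^ b (m, n)`, `u ^ 2 = w ^ s m` in `Q_w`; `Q_wᵗ` commutes with `Q_w`, and
`Q̂ = Q_w × Q_wᵗ`.
-/

namespace Cfsg.Agent.UFiveTwo.HatC

open Subgroup Hat

variable {G : Type*} [Group G] (D : HatC G)

/-- The subgroup `Q_w = ⟨g x⟩`. -/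
def Qw : Subgroup G := closure {y | ∃ x, D.IsX x ∧ y = D.g x}

theorem g_Qw {x : G} (hx : D.IsX x) : D.g x ∈ D.Qw := subset_closure ⟨x, hx, rfl⟩

theorem Qw_le_Gm : D.Qw ≤ D.Gm := by
  unfold Qw
  rw [closure_le]
  rintro y ⟨x, hx, rfl⟩
  exact hx.gGm

theorem Qw_le : D.Qw ≤ D.Qh := D.Qw_le_Gm.trans D.Gm_le_Qh

theorem C_Qw {c v : G} (hc : c ∈ D.C) (hv : v ∈ D.Qw) : c * v * c⁻¹ ∈ D.Qw := by
  have key : D.Qw ≤ D.Qw.comap (MulAut.conj c).toMonoidHom := by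
    conv_lhs => unfold Qw
    rw [closure_le]
    rintro s ⟨x, hx, rfl⟩
    show c * D.g x * c⁻¹ ∈ D.Qw
    rw [← D.conj_g hc hx]
    exact D.g_Qw (D.conj_X hc hx)
  exact key hv

/-- `w ∈ Q_w`. -/
theorem w_Qw (h : ∃ x, D.IsX x) : D.w ∈ D.Qw := by
  obtain ⟨x, hx⟩ := h
  have h1 := D.g_Qw hx
  have h2 := D.g_Qw hx.mulz
  rw [hx.gxz] at h2
  have h3 := mul_mem (inv_mem h1) h2
  rwa [inv_mul_cancel_left] at h3

theorem exists_X : ∃ x, D.IsX x := by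
  by_contra hcon
  push Not at hcon
  have hX : D.X = ∅ := by
    rw [Set.eq_empty_iff_forall_notMem]
    intro x hx
    exact hcon x hx
  have h2 := D.QX
  rw [hX, Subgroup.closure_empty] at h2
  exact D.z1 (Subgroup.mem_bot.1 (h2 D.zQ))

theorem wp_Qw (i : ZMod 2) : D.wp i ∈ D.Qw := by
  rcases zmod2 i with rfl | rfl
  · rw [wp_zero]; exact one_mem _
  · rw [wp_one]; exact D.w_Qw D.exists_X

/-- `Γ = Q_w ⟨z⟩`. -/
theorem exists_Qw {u : G} (hu : u ∈ D.Gm) : ∃ j, u * D.zp j ∈ D.Qw := by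
  have key : D.Gm ≤ (({
      carrier := {u | u ∈ D.Qh ∧ ∃ j, u * D.zp j ∈ D.Qw}
      one_mem' := ⟨one_mem _, 0, by rw [zp_zero, mul_one]; exact one_mem _⟩
      mul_mem' := by
        rintro u v ⟨hu, j, h⟩ ⟨hv, j', h'⟩
        refine ⟨mul_mem hu hv, j + j', ?_⟩
        have h1 : u * v * D.zp (j + j') = u * D.zp j * (v * D.zp j') := by
          rw [D.zp_add]
          calc u * v * (D.zp j * D.zp j') = u * (v * D.zp j) * D.zp j' := by group
            _ = _ := by rw [zpc hv]; group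
        rw [h1]; exact mul_mem h h'
      inv_mem' := by
        rintro u ⟨hu, j, h⟩
        refine ⟨inv_mem hu, j, ?_⟩
        have h1 : u⁻¹ * D.zp j = (u * D.zp j)⁻¹ := by
          rw [zpc hu, mul_inv_rev, inv_eq_of_mul_eq_one_left (D.zp_sq j)]
        rw [h1]; exact inv_mem h } : Subgroup G)) := by
    conv_lhs => unfold Gm
    rw [closure_le]
    intro v hv
    rcases hv with ⟨x, hx, rfl⟩ | ⟨i, j, rfl⟩
    · exact ⟨hx.gQh, 0, by rw [zp_zero, mul_one]; exact D.g_Qw hx⟩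
    · refine ⟨D.Zh_le_Qh (D.wpzp_mem i j), j, ?_⟩
      rw [mul_assoc, D.zp_sq, mul_one]
      exact D.wp_Qw i
  exact (key hu).2

variable [Finite D.Q]

/-- Every `m ∈ Q` has a representative in `Q_w`. -/
theorem exists_Qw_good {m : G} (hm : m ∈ D.Q) : ∃ u ∈ D.Qw, D.Good u m := by
  obtain ⟨j, hj⟩ := D.exists_Qw (D.ga_Gm hm)
  exact ⟨_, hj, (D.ga_good hm).mul_Q (D.zp_mem j)⟩

/-- The subgroup `Q_wᵗ`. -/
def Qz : Subgroup G := D.Qw.map (MulAut.conj D.t).toMonoidHom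

omit [Finite D.Q] in
theorem t_inv : D.t⁻¹ = D.t := inv_eq_of_mul_eq_one_left D.tt

omit [Finite D.Q] in
theorem mem_Qz {v : G} : v ∈ D.Qz ↔ D.t * v * D.t ∈ D.Qw := by
  constructor
  · rintro ⟨u, hu, rfl⟩
    have h1 : D.t * ((MulAut.conj D.t).toMonoidHom u) * D.t = u := by
      show D.t * (D.t * u * D.t⁻¹) * D.t = u
      rw [D.t_inv]
      calc D.t * (D.t * u * D.t) * D.t = (D.t * D.t) * u * (D.t * D.t) := by group
        _ = u := by rw [D.tt, one_mul, mul_one]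
    rw [h1]; exact hu
  · intro h
    refine ⟨_, h, ?_⟩
    show D.t * (D.t * v * D.t) * D.t⁻¹ = v
    rw [D.t_inv]
    calc D.t * (D.t * v * D.t) * D.t = (D.t * D.t) * v * (D.t * D.t) := by group
      _ = v := by rw [D.tt, one_mul, mul_one]

omit [Finite D.Q] in
theorem t_Qw {v : G} (hv : v ∈ D.Qw) : D.t * v * D.t ∈ D.Qz := by
  rw [mem_Qz]
  have h1 : D.t * (D.t * v * D.t) * D.t = v := by
    calc D.t * (D.t * v * D.t) * D.t = (D.t * D.t) * v * (D.t * D.t) := by group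
      _ = v := by rw [D.tt, one_mul, mul_one]
  rw [h1]; exact hv

omit [Finite D.Q] in
/-- `t γ t = m γ w ^ (s m)`. -/
theorem t_Gm {γ m : G} (hγ : γ ∈ D.Gm) (hm : D.Good γ m) :
    D.t * γ * D.t = m * γ * D.wp (D.s m) := by
  have h1 := Gm_t hm
  calc D.t * γ * D.t = D.t * (γ * D.t) := by group
    _ = (D.t * D.t) * m * (D.wp (D.s m) * γ) := by rw [h1]; group
    _ = _ := by rw [D.tt, ← wpc (D.Gm_le_Qh hγ)]; group

theorem Qz_le : D.Qz ≤ D.Qh := by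
  intro v hv
  have h1 := t_conj (D.Qw_le (D.mem_Qz.1 hv))
  have h2 : D.t * (D.t * v * D.t) * D.t = v := by
    calc D.t * (D.t * v * D.t) * D.t = (D.t * D.t) * v * (D.t * D.t) := by group
      _ = v := by rw [D.tt, one_mul, mul_one]
  rwa [h2] at h1

section zero

variable {D} (hε : ∀ m ∈ D.Q, ∀ n ∈ D.Q, D.B m n = 0)

include hε

theorem eps_zero : ∀ m ∈ D.Q, ∀ n ∈ D.Q, D.B m n = 0 * D.b m n := fun m hm n hn => by
  rw [zero_mul, hε m hm n hn]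

/-- Commutators in `Γ`. -/
theorem Gm_comm {u v m n : G} (hu : u ∈ D.Gm) (hv : v ∈ D.Gm) (hm : D.Good u m)
    (hn : D.Good v n) : u * v = v * u * D.wp (D.b m n) := by
  have h := B_spec hu hv hm hn
  rwa [hε m hm.mQ n hn.mQ, zp_zero, mul_one] at h

/-- Squares in `Γ`. -/
theorem Gm_sq {u m : G} (hu : u ∈ D.Gm) (hm : D.Good u m) : u * u = D.wp (D.s m) := by
  have h := sq_Gm (eps_zero hε) hu hm
  rwa [zero_mul, zp_zero, mul_one] at h

/-- `[Γ, Γᵗ] = 1`. -/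
theorem Gm_comm_t {u v : G} (hu : u ∈ D.Gm) (hv : v ∈ D.Gm) :
    u * (D.t * v * D.t) = (D.t * v * D.t) * u := by
  obtain ⟨m, hm⟩ := exists_good (D.Gm_le_Qh hu)
  obtain ⟨n, hn⟩ := exists_good (D.Gm_le_Qh hv)
  rw [D.t_Gm hv hn]
  have h1 := Gm_act hu hm hn.mQ
  have h2 := Gm_comm hε hu hv hm hn
  calc u * (n * v * D.wp (D.s n)) = (u * n) * v * D.wp (D.s n) := by group
    _ = n * u * (D.wp (D.b m n) * v) * D.wp (D.s n) := by rw [h1]; group
    _ = n * (u * v) * D.wp (D.b m n) * D.wp (D.s n) := by rw [← wpc (D.Gm_le_Qh hv)]; group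
    _ = n * v * u * (D.wp (D.b m n) * D.wp (D.b m n)) * D.wp (D.s n) := by rw [h2]; group
    _ = n * v * (u * D.wp (D.s n)) := by rw [D.wp_sq]; group
    _ = _ := by rw [wpc (D.Gm_le_Qh hu)]; group

/-- `z ∉ Q_w`. -/
theorem z_notMem : D.z ∉ D.Qw := by
  intro hz
  have key : D.Qw ≤ (({
      carrier := {u | u ∈ D.Gm ∧ ∃ i, u * D.σ u * D.σ (D.σ u) = D.wp i}
      one_mem' := ⟨one_mem _, 0, by simp [D.σ_def]⟩
      mul_mem' := by
        rintro u v ⟨hu, i, h⟩ ⟨hv, i', h'⟩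
        refine ⟨mul_mem hu hv, ?_⟩
        have hσu : D.σ u ∈ D.Gm := D.conj_Gm D.hC hu
        have hσv : D.σ v ∈ D.Gm := D.conj_Gm D.hC hv
        have hσσu : D.σ (D.σ u) ∈ D.Gm := D.conj_Gm D.hC hσu
        have hσσv : D.σ (D.σ v) ∈ D.Gm := D.conj_Gm D.hC hσv
        have hc : ∀ a ∈ D.Gm, ∀ b ∈ D.Gm, ∃ j, a * b = b * a * D.wp j := by
          intro a ha b hb
          obtain ⟨m, hm⟩ := exists_good (D.Gm_le_Qh ha)
          obtain ⟨n, hn⟩ := exists_good (D.Gm_le_Qh hb)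
          exact ⟨_, Gm_comm hε ha hb hm hn⟩
        obtain ⟨j1, e1⟩ := hc v hv _ hσu
        obtain ⟨j2, e2⟩ := hc _ (mul_mem hv hσv) _ hσσu
        refine ⟨i + i' + (j1 + j2), ?_⟩
        have w1 : ∀ (j : ZMod 2) (a : G), a ∈ D.Gm → D.wp j * a = a * D.wp j := fun j a ha =>
          (wpc (D.Gm_le_Qh ha) j).symm
        rw [D.σ_mul, D.σ_mul]
        obtain ⟨a, ha⟩ : ∃ a, a = D.σ u := ⟨_, rfl⟩
        obtain ⟨b, hb⟩ : ∃ b, b = D.σ v := ⟨_, rfl⟩
        obtain ⟨c, hc'⟩ : ∃ c, c = D.σ (D.σ u) := ⟨_, rfl⟩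
        obtain ⟨d, hd⟩ : ∃ d, d = D.σ (D.σ v) := ⟨_, rfl⟩
        rw [← hc'] at e2 hσσu h
        rw [← hd] at hσσv h'
        rw [← ha] at e1 hσu h
        rw [← hb] at e2 hσv h'
        rw [← hc', ← hd, ← ha, ← hb]
        calc u * v * (a * b) * (c * d) = u * (v * a) * b * c * d := by group
          _ = u * a * v * (D.wp j1 * b) * c * d := by rw [e1]; group
          _ = u * a * v * b * (D.wp j1 * c) * d := by rw [w1 j1 b hσv]; group
          _ = u * a * (v * b * c) * (D.wp j1 * d) := by rw [w1 j1 c hσσu]; group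
          _ = u * a * c * (v * b) * (D.wp j2 * d) * D.wp j1 := by
              rw [e2, w1 j1 d hσσv]; group
          _ = (u * a * c) * (v * b * d) * (D.wp j2 * D.wp j1) := by
              rw [w1 j2 d hσσv]; group
          _ = D.wp i * D.wp i' * (D.wp j1 * D.wp j2) := by rw [h, h', D.ww_comm j2 j1]
          _ = _ := by rw [D.wp_add, D.wp_add, D.wp_add]
      inv_mem' := by
        rintro u ⟨hu, i, h⟩
        refine ⟨inv_mem hu, ?_⟩
        obtain ⟨m, hm⟩ := exists_good (D.Gm_le_Qh hu)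
        have h1 : u⁻¹ = u * D.wp (D.s m) := by
          rw [inv_eq_iff_mul_eq_one, ← mul_assoc, Gm_sq hε hu hm, D.wp_sq]
        refine ⟨i + (D.s m + (D.s m + D.s m)), ?_⟩
        have hσu : D.σ u ∈ D.Gm := D.conj_Gm D.hC hu
        have hσσu : D.σ (D.σ u) ∈ D.Gm := D.conj_Gm D.hC hσu
        rw [h1, D.σ_mul, D.σ_mul, D.σ_wp, D.σ_wp]
        calc u * D.wp (D.s m) * (D.σ u * D.wp (D.s m)) * (D.σ (D.σ u) * D.wp (D.s m))
            = u * (D.wp (D.s m) * D.σ u) * (D.wp (D.s m) * D.σ (D.σ u)) * D.wp (D.s m) := by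
              group
          _ = u * D.σ u * (D.wp (D.s m) * D.σ (D.σ u)) * D.wp (D.s m) * D.wp (D.s m) := by
              rw [← wpc (D.Gm_le_Qh hσu), ← wpc (D.Gm_le_Qh hσσu)]
              calc u * (D.σ u * D.wp (D.s m)) * (D.σ (D.σ u) * D.wp (D.s m)) * D.wp (D.s m)
                  = u * D.σ u * (D.wp (D.s m) * D.σ (D.σ u)) * D.wp (D.s m) * D.wp (D.s m) := by
                    group
                _ = _ := by rw [← wpc (D.Gm_le_Qh hσσu)]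
          _ = (u * D.σ u * D.σ (D.σ u)) * (D.wp (D.s m) * (D.wp (D.s m) * D.wp (D.s m))) := by
              rw [← wpc (D.Gm_le_Qh hσσu)]; group
          _ = _ := by rw [h, ← D.wp_add, ← D.wp_add, ← D.wp_add] } : Subgroup G)) := by
    conv_lhs => unfold Qw
    rw [closure_le]
    rintro y ⟨x, hx, rfl⟩
    exact ⟨hx.gGm, D.norm_g hx⟩
  obtain ⟨-, i, hi⟩ := key hz
  have h1 := D.σ_zp 1
  rw [zp_one] at h1
  rw [h1, h1, D.zz, one_mul] at hi
  have h2 := D.wp_mem (hi ▸ D.zQ)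
  rw [h2, wp_zero] at hi
  exact D.z1 hi

/-- Elements of `Q_w` in `Ẑ`. -/
theorem Qw_Zh {u : G} (hu : u ∈ D.Qw) (h : u ∈ D.Zh) : ∃ i, u = D.wp i := by
  obtain ⟨i, j, hij⟩ := h
  refine ⟨i, ?_⟩
  have h1 : D.zp j ∈ D.Qw := by
    have h2 : D.zp j = D.wp i * u := by rw [hij, ← mul_assoc, D.wp_sq, one_mul]
    rw [h2]; exact mul_mem (D.wp_Qw i) hu
  rcases zmod2 j with rfl | rfl
  · rw [hij, zp_zero, mul_one]
  · rw [zp_one] at h1
    exact absurd h1 (z_notMem hε)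

/-- `Q_w` and `Q_wᵗ` commute. -/
theorem Qw_comm_Qz {u v : G} (hu : u ∈ D.Qw) (hv : v ∈ D.Qz) : u * v = v * u := by
  have h1 := D.mem_Qz.1 hv
  have h2 := Gm_comm_t hε (D.Qw_le_Gm hu) (D.Qw_le_Gm h1)
  have h3 : D.t * (D.t * v * D.t) * D.t = v := by
    calc D.t * (D.t * v * D.t) * D.t = (D.t * D.t) * v * (D.t * D.t) := by group
      _ = v := by rw [D.tt, one_mul, mul_one]
  rwa [h3] at h2

/-- The representative in `Q_w` is unique. -/
theorem Qw_unique {u v m : G} (hu : u ∈ D.Qw) (hv : v ∈ D.Qw) (hm : D.Good u m)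
    (hm' : D.Good v m) : u = v := by
  obtain ⟨j, hj⟩ := hm.diff_z hm' (D.Qw_le_Gm hu) (D.Qw_le_Gm hv)
  rcases zmod2 j with rfl | rfl
  · rw [hj, zp_zero, mul_one]
  · exfalso
    apply z_notMem hε
    have h1 : D.z = u⁻¹ * v := by rw [hj, zp_one]; group
    rw [h1]; exact mul_mem (inv_mem hu) hv

/-- `|Q_w| = |Q|`. -/
theorem card_Qw : Nat.card D.Qw = Nat.card D.Q := by
  classical
  choose! e he hg using fun (m : G) (hm : m ∈ D.Q) => D.exists_Qw_good hm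
  symm
  refine Nat.card_congr (Equiv.ofBijective (fun m : D.Q => (⟨e m, he m m.2⟩ : D.Qw)) ⟨?_, ?_⟩)
  · intro m m' h
    have h0 : e m = e m' := congrArg Subtype.val h
    have h1 := hg m m.2
    rw [h0] at h1
    exact Subtype.ext (h1.unique (hg m' m'.2))
  · rintro ⟨u, hu⟩
    obtain ⟨m, hm⟩ := exists_good (D.Qw_le hu)
    exact ⟨⟨m, hm.mQ⟩, Subtype.ext (Qw_unique hε (he m hm.mQ) hu (hg m hm.mQ) hm)⟩

/-- `Q_w ⊓ Q_wᵗ = 1` -/
theorem Qw_inf_Qz : D.Qw ⊓ D.Qz = ⊥ := by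
  rw [eq_bot_iff]
  intro u hu
  obtain ⟨h1, h2⟩ := mem_inf.1 hu
  obtain ⟨m, hm⟩ := exists_good (D.Qw_le h1)
  -- `u` commutes with `Q_w`, hence `m ∈ ⟨z⟩`
  obtain ⟨i, hi⟩ := D.eq_zp_of_X hm.mQ (fun x hx => by
    have h3 := Qw_comm_Qz hε (D.g_Qw hx) h2
    have h4 := Gm_comm hε (D.Qw_le_Gm h1) hx.gGm hm (Good.of_g _ hx)
    rw [← h3] at h4
    have h5 : D.wp (D.b m x) = 1 := (mul_eq_left.1 h4.symm)
    have h6 := D.wp_mem (h5 ▸ D.Q.one_mem)
    exact h6)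
  subst hi
  have h3 := mem_Zh_of_good (D.Qw_le_Gm h1) hm
  obtain ⟨j, hj⟩ := Qw_Zh hε h1 h3
  rcases zmod2 j with rfl | rfl
  · rw [mem_bot, hj, wp_zero]
  · exfalso
    -- `w ∈ Q_wᵗ`: `t w t = w z ∈ Q_w`
    rw [hj, wp_one, mem_Qz] at h2
    have h4 : D.t * D.w * D.t = D.w * D.z := by
      calc D.t * D.w * D.t = D.t * (D.w * D.t) := by group
        _ = (D.t * D.t) * D.w * D.z := by rw [D.wt]; group
        _ = D.w * D.z := by rw [D.tt, one_mul]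
    rw [h4] at h2
    apply z_notMem hε
    have h5 := mul_mem (inv_mem (D.w_Qw D.exists_X)) h2
    rwa [inv_mul_cancel_left] at h5

omit hε in
/-- `Q_w ⊔ Q_wᵗ = Q̂` -/
theorem Qw_sup_Qz : D.Qw ⊔ D.Qz = D.Qh := by
  apply le_antisymm (sup_le D.Qw_le D.Qz_le)
  have hQ : D.Q ≤ D.Qw ⊔ D.Qz := by
    intro m hm
    obtain ⟨u, hu, hg⟩ := D.exists_Qw_good hm
    have h1 := D.t_Qw hu
    rw [D.t_Gm (D.Qw_le_Gm hu) hg] at h1
    have h2 : m = (m * u * D.wp (D.s m)) * (D.wp (D.s m) * u⁻¹) := by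
      calc m = m * u * (D.wp (D.s m) * D.wp (D.s m)) * u⁻¹ := by rw [D.wp_sq]; group
        _ = _ := by group
    rw [h2]
    exact mul_mem (mem_sup_right h1) (mul_mem (mem_sup_left (D.wp_Qw _)) (mem_sup_left (inv_mem hu)))
  intro u hu
  obtain ⟨m, hm⟩ := exists_good hu
  obtain ⟨v, hv, hg⟩ := D.exists_Qw_good hm.mQ
  have h1 := hg.mem_Q hm (D.Qw_le hv) hu
  have h2 : u = v * (v⁻¹ * u) := by group
  rw [h2]
  exact mul_mem (mem_sup_left hv) (hQ h1)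

end zero

end Cfsg.Agent.UFiveTwo.HatC
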