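import Cfsg.Agent.UFiveTwo.ZeroSplit

/-!
# S1778, split case: `A₁` is generated by its `2`-elements
-/

set_option autoImplicit false

namespace Cfsg.Agent.UFiveTwo.Zero

open Subgroup
open scoped commutatorElement

variable {X : Type*} [Group X] {A A1 : Subgroup X} {t : X}

namespace Split

variable (H : Split A t A1)
include H

/-- the `2`-elements of `A₁` cover those of `A` -/
theorem exists_two [Finite X] {a : X} (ha : a ∈ A) {k : ℕ} (hk : a ^ 2 ^ k = 1) :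
    ∃ x ∈ A1, (∃ j : ℕ, x ^ 2 ^ j = 1) ∧ x * (t * x * t) = a := by
  have hP : IsPGroup 2 (zpowers a) := by
    rintro ⟨y, n, rfl⟩
    refine ⟨k, Subtype.ext ?_⟩
    show (a ^ n) ^ 2 ^ k = 1
    rw [← zpow_natCast, ← zpow_mul, mul_comm, zpow_mul, zpow_natCast, hk, one_zpow]
  obtain ⟨S1, h1, h2, -, h4, -⟩ := H.exists_S1 hP (by rwa [zpowers_le])
  obtain ⟨x, hx, hxa⟩ := h4 a (mem_zpowers a)
  obtain ⟨j, hj⟩ := h2 ⟨x, hx⟩
  exact ⟨x, h1 hx, ⟨j, congrArg Subtype.val hj⟩, hxa⟩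

/-- **`A₁` is generated by its `2`-elements.** -/
theorem two [Finite X] [IsSimpleGroup A] {a : X} (ha : a ∈ A) (ha1 : a ≠ 1) {k : ℕ} (hk : a ^ 2 ^ k = 1) :
    A1 ≤ closure {x | x ∈ A1 ∧ ∃ k : ℕ, x ^ 2 ^ k = 1} := by
  set N : Subgroup X := closure {x | x ∈ A1 ∧ ∃ k : ℕ, x ^ 2 ^ k = 1} with hN
  have hNA : N ≤ A1 := by
    rw [hN, closure_le]
    exact fun x hx => hx.1
  have hconj : ∀ g ∈ A1, ∀ x ∈ N, g * x * g⁻¹ ∈ N := by
    intro g hg x hx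
    have h1 : N ≤ N.comap (MulAut.conj g).toMonoidHom := by
      conv_lhs => rw [hN]
      rw [closure_le]
      rintro y ⟨hy, j, hj⟩
      refine subset_closure ⟨mul_mem (mul_mem hg hy) (inv_mem hg), j, ?_⟩
      show (g * y * g⁻¹) ^ 2 ^ j = 1
      rw [conj_pow, hj, mul_one, mul_inv_cancel]
    exact h1 hx
  -- the image of `N` is `A`
  have hphi : ∀ b ∈ A, ∃ x ∈ N, x * (t * x * t) = b := by
    set K : Subgroup A := ((N.subgroupOf A1).map H.phi).subgroupOf A with hK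
    have hKn : K.Normal := by
      constructor
      rintro ⟨b, hb⟩ hbK ⟨c, hc⟩
      obtain ⟨y, hy, hyb⟩ := mem_subgroupOf.1 hbK
      obtain ⟨z, hz, hzc⟩ := H.onto c hc
      have hzc' : H.phi ⟨z, hz⟩ = c := hzc
      refine mem_subgroupOf.2 ⟨⟨z, hz⟩ * y * (⟨z, hz⟩ : A1)⁻¹, ?_, ?_⟩
      · exact mem_subgroupOf.2 (hconj z hz _ (mem_subgroupOf.1 hy))
      · rw [map_mul, map_mul, map_inv, hzc', hyb]
        rfl
    have hKne : K ≠ ⊥ := by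
      intro h
      obtain ⟨x, hx, hx2, hxa⟩ := H.exists_two ha hk
      have h1 : (⟨a, ha⟩ : A) ∈ K := mem_subgroupOf.2 ⟨⟨x, hx⟩, mem_subgroupOf.2 (subset_closure ⟨hx, hx2⟩), hxa⟩
      rw [h, mem_bot] at h1
      exact ha1 (congrArg Subtype.val h1)
    have hKt : K = ⊤ := (hKn.eq_bot_or_eq_top).resolve_left hKne
    intro b hb
    have h1 : (⟨b, hb⟩ : A) ∈ K := by rw [hKt]; exact mem_top _
    obtain ⟨y, hy, hyb⟩ := mem_subgroupOf.1 h1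
    exact ⟨y, mem_subgroupOf.1 hy, hyb⟩
  -- `A₁ = N ker`
  have hdec : ∀ g ∈ A1, ∃ n ∈ N, ∃ c ∈ A1, g = n * c ∧ ∀ y ∈ A1, c * y = y * c := by
    intro g hg
    obtain ⟨n, hn, h1⟩ := hphi _ (H.diag g hg)
    have hc : n⁻¹ * g ∈ A1 := mul_mem (inv_mem (hNA hn)) hg
    refine ⟨n, hn, n⁻¹ * g, hc, by group, fun y hy => ?_⟩
    refine H.ker_comm hc hy ?_
    have h2 : H.phi ((⟨n, hNA hn⟩ : A1)⁻¹ * ⟨g, hg⟩) = 1 := by
      rw [map_mul, map_inv, H.phi_apply, H.phi_apply, h1, inv_mul_cancel]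
    exact h2
  refine H.perf.trans ?_
  rw [commutator_le]
  intro g hg g' hg'
  obtain ⟨n, hn, c, hc, rfl, hcc⟩ := hdec g hg
  obtain ⟨n', hn', c', hc', rfl, hcc'⟩ := hdec g' hg'
  have h1 := hcc n' (hNA hn')
  have h2 := hcc' n (hNA hn)
  have h3 : ⁅n * c, n' * c'⁆ = ⁅n, n'⁆ := by
    rw [commutatorElement_def, commutatorElement_def, mul_inv_rev, mul_inv_rev]
    have h4 := hcc c' hc'
    have h5 := hcc' n'⁻¹ (inv_mem (hNA hn'))
    have h6 := hcc n⁻¹ (inv_mem (hNA hn))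
    have h7 := hcc' n⁻¹ (inv_mem (hNA hn))
    calc n * c * (n' * c') * (c⁻¹ * n⁻¹) * (c'⁻¹ * n'⁻¹)
        = n * (c * n') * (c' * c⁻¹) * n⁻¹ * c'⁻¹ * n'⁻¹ := by group
      _ = n * (n' * c) * (c⁻¹ * c') * n⁻¹ * c'⁻¹ * n'⁻¹ := by
        rw [h1, show c' * c⁻¹ = c⁻¹ * c' by
          calc c' * c⁻¹ = c⁻¹ * (c * c') * c⁻¹ := by group
            _ = c⁻¹ * (c' * c) * c⁻¹ := by rw [h4]
            _ = c⁻¹ * c' := by group]
      _ = n * n' * (c' * n⁻¹) * c'⁻¹ * n'⁻¹ := by group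
      _ = n * n' * (n⁻¹ * c') * c'⁻¹ * n'⁻¹ := by rw [h7]
      _ = n * n' * n⁻¹ * n'⁻¹ := by group
  rw [h3]
  exact commutator_le.1 (commutator_le_self N) n hn n' hn'

end Split

end Cfsg.Agent.UFiveTwo.Zero
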