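import Cfsg.Agent.UFiveTwo.Assembly
import Cfsg.Agent.UFiveTwo.ZeroTwo
import Cfsg.Agent.StdRank2.SplitLift

/-!
# S1778, type `U₅(2)`, split case: the factor `M ≤ G` over `A₁`
-/

set_option autoImplicit false

namespace Cfsg.Agent.UFiveTwo.Assembly

open Cfsg Subgroup Cfsg.Agent.StdEven Cfsg.Agent.StdEven.CoreQuot Cfsg.Agent.StdL2.Setup Cfsg.Agent.StdEven.Red
open Cfsg.Agent.UFiveTwo.Zero Cfsg.Agent.UFiveTwo.Big Cfsg.Agent.SwapEnd

universe u

variable {G : Type u} [Group G] [Finite G] {L A T : Subgroup G} {t : G} {h : Hyp A t T}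
variable {E : Env (im A t A) h.tX}

theorem Start.simple (S : Start L A T t h E) : IsSimpleGroup ↥(im A t A) := by
  obtain ⟨K, i1, i2, hK, ⟨e⟩⟩ := S.iso
  have := isSimpleGroup_psu K hK
  exact (MulEquiv.isSimpleGroup_congr e).mpr this

/-- the data of `StdRank2.SplitLift` -/
theorem Start.fac (S : Start L A T t h E) {A1 : Subgroup (XQ A t)} (H : Split (im A t A) h.tX A1) :
    StdRank2.SplitLift.Fac h A1 where
  perf := le_antisymm (commutator_le_self A1) H.perf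
  two := by
    have := S.simple
    exact H.two (E.r_mem 0) E.r_ne (k := 1) (by rw [pow_one, pow_two]; exact E.r_sq 0)
  comm := H.comm
  diag := H.diag
  onto a ha := by
    obtain ⟨x, hx, h1⟩ := H.onto a ha
    exact ⟨x, hx, h1.symm⟩

/-- **The lift.** -/
theorem Start.exists_swap (S : Start L A T t h E) {A1 : Subgroup (XQ A t)} (H : Split (im A t A) h.tX A1) :
    ∃ (M : Subgroup G) (W : Swap M t), Swap.Dia W A ∧ (∀ m ∈ M, ∀ o ∈ core A t, o * m = m * o) ∧
      (∀ m ∈ M, m ∈ NO A t) ∧ im A t M = A1 ∧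
      (∀ x : G, (∃ k : ℕ, x ^ 2 ^ k = 1) → (∀ o ∈ core A t, o * x = x * o) →
        (∀ hx : x ∈ NO A t, pr A t ⟨x, hx⟩ ∈ A1) → x ∈ M) :=
  StdRank2.SplitLift.exists_lift h (S.fac H) S.sch S.conf.cyc

end Cfsg.Agent.UFiveTwo.Assembly
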