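import Cfsg.Agent.UFiveTwo.GFacts
import Cfsg.Agent.UFiveTwo.Mover
import Cfsg.Agent.Schreier.CentExt
import Cfsg.Agent.Schreier.PSU


/-!
# S1778, type `U₅(2)`: from the configuration in `G` to the environment `Env` in `X = N_G(O) / O`
-/

set_option autoImplicit false
set_option linter.unusedSectionVars false

namespace Cfsg.Agent.UFiveTwo.Start

open Cfsg Subgroup Cfsg.Agent.SignalizersComponents Cfsg.Agent.StdEven Cfsg.Agent.StdEven.Syl Cfsg.Agent.StdEven.Loc
open Cfsg.Agent.StdEven.CoreQuot Cfsg.Agent.StdEven.StepFour Cfsg.Agent.StdL2.Setup Cfsg.Agent.Schreier.Basic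
open Cfsg.Agent.UFiveTwo.Line Cfsg.Agent.UFiveTwo.Fus

universe u

theorem flag_r5 {X : Type u} [Group X] {A : Subgroup X} (F : Flag A) : R5 F.r :=
  ⟨F.r_sq, F.r_comm, F.r_prod, F.r_ne, fun σ hσ => ⟨F.l ⟨σ, Equiv.Perm.mem_alternatingGroup.mpr hσ⟩, fun i => F.l_r _ i⟩⟩

section X

variable {G : Type u} [Group G] [Finite G] {A : Subgroup G} {t : G} {T : Subgroup G} (h : Hyp A t T)
variable {Fl : Flag (im A t A)} (FA : FlagAut (im A t A) Fl)
include FA

theorem tX_comm {a : XQ A t} (ha : a ∈ im A t A) : h.tX * a = a * h.tX := (h.im_A_comm ha).symm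

theorem tX_notMem : h.tX ∉ im A t A := by
  intro h1
  apply h.tX_ne
  apply FA.cent _ h1
  rw [mem_centralizer_iff]
  intro a ha
  exact h.im_A_comm ha

theorem mem_norm {g : XQ A t} (hg : g * h.tX = h.tX * g) : g ∈ normalizer (im A t A : Set (XQ A t)) :=
  mem_normalizer_of_conj_le fun _ ha => h.conj_mem_im hg ha

/-- `C(A) ∩ C(t) = {1, t}`, applied to `g = c * a` -/
theorem cent_of_eq {g c a : XQ A t} (hg : g * h.tX = h.tX * g) (hc : c ∈ centralizer (im A t A : Set (XQ A t)))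
    (ha : a ∈ im A t A) (he : g = c * a) : c = 1 ∨ c = h.tX := by
  apply h.eq_of_cent
  · have h1 := h.im_A_comm ha
    apply mul_right_cancel (b := a)
    calc c * h.tX * a = c * (h.tX * a) := mul_assoc _ _ _
      _ = (c * a) * h.tX := by rw [← h1, mul_assoc]
      _ = g * h.tX := by rw [he]
      _ = h.tX * g := hg
      _ = h.tX * c * a := by rw [he, mul_assoc]
  · intro b hb
    exact comm_of_centralizer hc hb

theorem V_im : closure (Set.range Fl.r) ≤ im A t A := by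
  rw [closure_le]; rintro _ ⟨i, rfl⟩; exact Fl.r_mem i

theorem odd_mem {g : XQ A t} (hg : g * h.tX = h.tX * g) (ho : Odd (orderOf g)) : g ∈ im A t A := by
  -- `g` is inner
  have hN := mem_norm h FA hg
  have hpow : ∀ n : ℕ, UFiveTwo.Inner (im A t A) (g ^ (2 * n)) := by
    have hsq : UFiveTwo.Inner (im A t A) (g * g) := by
      by_cases h1 : UFiveTwo.Inner (im A t A) g
      · obtain ⟨a, ha, hag⟩ := h1
        refine ⟨a * a, mul_mem ha ha, ?_⟩
        have h2 : (a * a)⁻¹ * (g * g) = a⁻¹ * ((a⁻¹ * g) * a) * a⁻¹ * g := by group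
        have h3 := comm_of_centralizer hag ha
        have h4 : (a * a)⁻¹ * (g * g) = (a⁻¹ * g) * (a⁻¹ * g) := by
          rw [h2, h3]; group
        rw [h4]; exact mul_mem hag hag
      · exact FA.ind g hN g hN h1 h1
    intro n
    induction n with
    | zero => exact ⟨1, one_mem _, by simp⟩
    | succ n ih =>
      obtain ⟨a, ha, hag⟩ := ih
      obtain ⟨b, hb, hbg⟩ := hsq
      refine ⟨a * b, mul_mem ha hb, ?_⟩
      have h3 := comm_of_centralizer hag hb
      have h4 : (a * b)⁻¹ * g ^ (2 * (n + 1)) = (a⁻¹ * g ^ (2 * n)) * (b⁻¹ * (g * g)) := by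
        calc (a * b)⁻¹ * g ^ (2 * (n + 1)) = b⁻¹ * ((a⁻¹ * g ^ (2 * n)) * b) * b⁻¹ * (g * g) := by
              rw [mul_add, mul_one, pow_add, pow_two]; group
          _ = _ := by rw [h3]; group
      rw [h4]; exact mul_mem hag hbg
  obtain ⟨k, hk⟩ := ho
  have hinn : UFiveTwo.Inner (im A t A) g := by
    have h1 : g = g ^ (2 * (k + 1)) := by
      have h2 : g ^ (2 * (k + 1)) = g ^ (2 * k + 1) * g := by rw [← pow_succ]; ring_nf
      rw [h2, ← hk, pow_orderOf_eq_one, one_mul]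
    rw [h1]; exact hpow _
  obtain ⟨a, ha, hag⟩ := hinn
  have h1 : g = (a⁻¹ * g) * a := by
    have h2 := comm_of_centralizer hag ha
    rw [h2]; group
  rcases cent_of_eq h FA hg hag ha h1 with h2 | h2
  · rw [inv_mul_eq_one] at h2
    rw [← h2]; exact ha
  · exfalso
    apply tX_notMem h FA
    rw [h2] at h1
    have h3 : Commute h.tX a := tX_comm h FA ha
    have h4 : g ^ (2 * k + 1) = 1 := by rw [← hk, pow_orderOf_eq_one]
    rw [h1, h3.mul_pow] at h4
    have h5 : h.tX ^ (2 * k + 1) = h.tX := by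
      rw [pow_succ, pow_mul, pow_two, h.tX_sq, one_pow, one_mul]
    rw [h5] at h4
    rw [eq_inv_of_mul_eq_one_left h4]
    exact inv_mem (pow_mem ha _)

theorem cV {g : XQ A t} (hg : g * h.tX = h.tX * g) (hr : ∀ i, g * Fl.r i = Fl.r i * g) :
    ∃ e, (e = 1 ∨ e = h.tX) ∧ ∃ u ∈ Fl.U, ∃ j : ℕ, g = e * u * Fl.h ^ j := by
  obtain ⟨c, hc, u, hu, j, he⟩ := FA.cV g (mem_norm h FA hg) hr
  refine ⟨c, cent_of_eq h FA hg hc (mul_mem (Fl.U_le hu) (pow_mem Fl.h_mem j)) (by rw [he, mul_assoc]), u, hu, j, he⟩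

theorem cU {g : XQ A t} (hg : g * h.tX = h.tX * g) (hr : ∀ u ∈ Fl.U, g * u = u * g) :
    ∃ e, (e = 1 ∨ e = h.tX) ∧ ∃ v ∈ closure (Set.range Fl.r), g = e * v := by
  obtain ⟨c, hc, v, hv, he⟩ := FA.cU g (mem_norm h FA hg) hr
  exact ⟨c, cent_of_eq h FA hg hc (V_im FA hv) he, v, hv, he⟩

theorem cQ {g : XQ A t} (hg : g * h.tX = h.tX * g) (hr : ∀ q ∈ Fl.Q, g * q = q * g) :
    ∃ e, (e = 1 ∨ e = h.tX) ∧ (g = e ∨ g = e * Fl.r 0) := by
  obtain ⟨c, hc, he⟩ := FA.cQ g (mem_norm h FA hg) hr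
  refine ⟨c, ?_, he⟩
  rcases he with he | he
  · exact cent_of_eq h FA hg hc (one_mem _) (by rw [he, mul_one])
  · exact cent_of_eq h FA hg hc (Fl.r_mem 0) he

theorem cUV {g : XQ A t} (hg : g * h.tX = h.tX * g)
    (hr : ∀ u ∈ Fl.U, ∃ v ∈ closure (Set.range Fl.r), g * u * g⁻¹ = u * v) :
    ∃ e, (e = 1 ∨ e = h.tX) ∧ ∃ u ∈ Fl.U, g = e * u := by
  obtain ⟨c, hc, u, hu, he⟩ := FA.cUV g (mem_norm h FA hg) hr
  exact ⟨c, cent_of_eq h FA hg hc (Fl.U_le hu) he, u, hu, he⟩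

theorem cUQ {g : XQ A t} (hg : g * h.tX = h.tX * g)
    (hr : ∀ u ∈ Fl.U ⊓ Fl.Q, ∃ v ∈ closure (Set.range Fl.r), g * u * g⁻¹ = u * v) :
    ∃ e, (e = 1 ∨ e = h.tX) ∧ ∃ a ∈ im A t A, g = e * a := by
  obtain ⟨a, ha, hag⟩ := FA.cUQ g (mem_norm h FA hg) hr
  have h1 : g = (a⁻¹ * g) * a := by
    have h2 := comm_of_centralizer hag ha
    rw [h2]; group
  exact ⟨a⁻¹ * g, cent_of_eq h FA hg hag ha h1, a, ha, h1⟩

/-- The environment, given an element moving `t` and centralising `V`. -/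
theorem exists_env {x v : XQ A t} (hx : ∀ i, x * Fl.r i = Fl.r i * x) (hv : v ∈ Fl.V) (hv1 : v ≠ 1)
    (hxt : x * h.tX * x⁻¹ = h.tX * v) : ∃ E : Env (im A t A) h.tX, E.toFlag = Fl :=
  ⟨{ Fl with
      t_sq := h.tX_sq
      t_ne := h.tX_ne
      t_A := fun _ ha => tX_comm h FA ha
      t_nA := tX_notMem h FA
      odd_mem := fun _ hg ho => odd_mem h FA hg ho
      cV := fun _ hg hr => cV h FA hg hr
      cU := fun _ hg hr => cU h FA hg hr
      cQ := fun _ hg hr => cQ h FA hg hr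
      cUV := fun _ hg hr => cUV h FA hg hr
      cUQ := fun _ hg hr => cUQ h FA hg hr
      mover := Mover.exists_mover Fl h.tX_sq (fun _ ha => tX_comm h FA ha) (tX_notMem h FA)
        (fun _ hg hr => cV h FA hg hr) hx hv hv1 hxt }, rfl⟩

end X

theorem isSyl_subgroupOf {G : Type u} [Group G] {S A N : Subgroup G} (hS : IsSyl S A) (hAN : A ≤ N) :
    IsSyl (S.subgroupOf N) (A.subgroupOf N) := by
  refine ⟨fun x hx => mem_subgroupOf.mpr (hS.le (mem_subgroupOf.mp hx)), hS.two.comap_subtype, fun X hX hXA hle => ?_⟩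
  have h1 := hS.max (X.map N.subtype) (hX.map _)
    (by rintro _ ⟨x, hx, rfl⟩; exact mem_subgroupOf.mp (hXA hx))
    (fun x hx => ⟨⟨x, hAN (hS.le hx)⟩, hle (mem_subgroupOf.mpr hx), rfl⟩)
  ext x
  rw [mem_subgroupOf, ← h1]
  constructor
  · intro hx; exact ⟨x, hx, rfl⟩
  · rintro ⟨y, hy, hyx⟩
    have : y = x := Subtype.ext hyx
    rwa [← this]

theorem card_conj {G : Type u} [Group G] (Y : Subgroup G) (g : G) :
    Nat.card (Y.map (MulAut.conj g).toMonoidHom) = Nat.card Y :=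
  (Nat.card_congr (Y.equivMapOfInjective (MulAut.conj g).toMonoidHom (MulAut.conj g).injective).toEquiv).symm

/-- **Sections 1 and 2**: the environment in `X = N_G(O) / O`. -/
theorem start {G : Type u} [Group G] [Finite G] {L A : Subgroup G} {t : G} (C : Conf L A t)
    (hZ : Odd (Nat.card (center ↥A))) (hP1 : P1.{u})
    (hQ : ∃ (K : Type) (_ : Field K) (_ : Fintype K), Fintype.card K = 4 ∧
      Nonempty ((↥A ⧸ center ↥A) ≃* Cfsg.PSU 5 K 2)) :
    ∃ (T : Subgroup G) (h : Hyp A t T) (E : Env (im A t A) h.tX), FlagAut (im A t A) E.toFlag ∧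
      im A t (T ⊓ A) = E.U ⊔ E.Q := by
  obtain ⟨K, iK, iK', hK, ⟨e⟩⟩ := hQ
  have hp : ⁅(⊤ : Subgroup A), (⊤ : Subgroup A)⁆ = ⊤ := by
    have := C.std.1.1.commutator_eq_top
    rwa [commutator_def] at this
  have hSch : Sch ↥A := by
    refine Schreier.CentExt.sch_of_quotient (N := center ↥A) ?_ le_rfl ?_ ?_
    · intro φ
      ext x
      constructor
      · rintro ⟨y, hy, rfl⟩
        rw [mem_center_iff]
        intro g
        have h1 := mem_center_iff.mp hy (φ.symm g)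
        have h2 := congrArg φ h1
        simpa using h2
      · intro hx
        refine ⟨φ.symm x, ?_, by simp⟩
        rw [SetLike.mem_coe, mem_center_iff]
        intro g
        have h1 := mem_center_iff.mp hx (φ g)
        have h2 := congrArg φ.symm h1
        simpa using h2
    · rw [commutator_def]; exact hp
    · exact Sch.of_equiv e.symm (Schreier.PSU.sch (by rw [hK]; norm_num) (by norm_num) (by norm_num))
  -- the facts in `G`
  obtain ⟨e1⟩ := GFacts.nonempty_equiv A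
  obtain ⟨Fl1, FA1⟩ := hP1 (GFacts.X1 A) (GFacts.A1 A) K hK ⟨e1.trans e⟩
  obtain ⟨S, r, F, -, -⟩ := GFacts.exists_gf hZ hp Fl1 FA1
  obtain ⟨T, hT, hTS⟩ := exists_T C F.syl
  have hR : ∀ x ∈ T, x ∈ centralizer (A : Set G) → x = 1 ∨ x = t := fun x hx hxK => R_eq C hZ F hT hTS hSch hx hxK
  have h : Hyp A t T := ⟨C.std, C.ht, C.htA, hZ, hT, hR⟩
  have D := data C hZ F hT hTS
  -- the facts in `X`
  obtain ⟨e2⟩ := h.nonempty_equiv
  obtain ⟨Fl, FA⟩ := hP1 (XQ A t) (im A t A) K hK ⟨e2.trans e⟩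
  have hsurj := pr_surjective A t
  have hodd := h.odd_ker
  set P : Subgroup (XQ A t) := Fl.U ⊔ Fl.Q with hP
  have hSA : S ≤ A := F.syl.le
  have hST : S ≤ T := hTS ▸ inf_le_left
  have hSN : S ≤ NO A t := hSA.trans h.A_le
  have himS : IsSyl (im A t S) (im A t A) :=
    OddQuot.isSyl_map (pr A t) hsurj hodd (isSyl_subgroupOf F.syl h.A_le)
  obtain ⟨a1, ha1, hc1⟩ := FA.syl.exists_conj himS.two himS.le
  obtain ⟨n1, hn1, hn1a⟩ := mem_im.mp ha1
  set a : G := n1.1 with ha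
  have hat : a * t = t * a := (comm_of_centralizer C.htA hn1).symm
  -- the conjugate of `im S` is `P`
  have hPim : (im A t S).map (MulAut.conj a1).toMonoidHom = P := by
    apply Subgroup.eq_of_le_of_card_ge
    · rintro _ ⟨x, hx, rfl⟩
      exact hc1 x hx
    · rw [card_conj]
      exact himS.card_le FA.syl.two FA.syl.le
  have hback : ∀ y ∈ P, ∃ s : ↥(NO A t), (s : G) ∈ S ∧ a1 * pr A t s * a1⁻¹ = y := by
    intro y hy
    rw [← hPim] at hy
    obtain ⟨x, hx, rfl⟩ := hy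
    obtain ⟨s, hs, rfl⟩ := mem_im.mp hx
    exact ⟨s, hs, rfl⟩
  -- `V`
  have hVN : closure (Set.range r) ≤ NO A t := F.V_le_A.trans h.A_le
  have hVeq : (im A t (closure (Set.range r))).map (MulAut.conj a1).toMonoidHom = closure (Set.range Fl.r) := by
    have h2 : IsPGroup 2 ↥(closure (Set.range r)) := by
      rintro ⟨x, hx⟩
      exact ⟨1, Subtype.ext (by
        show x ^ 2 ^ 1 = 1
        rw [pow_one, pow_two, F.r5.sq_mem hx])⟩
    have h3 : Nat.card ((im A t (closure (Set.range r))).map (MulAut.conj a1).toMonoidHom) = 16 := by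
      rw [card_conj, h.card_im h2 hVN, F.r5.card_closure]
    apply Subgroup.eq_of_le_of_card_ge
    · apply FA.elem
      · rw [← hP, ← hPim]
        exact map_mono (im_mono F.V_le_S)
      · rintro _ ⟨x, hx, rfl⟩
        obtain ⟨n, hn, rfl⟩ := mem_im.mp hx
        rw [← map_mul, ← map_mul]
        have : n * n = 1 := Subtype.ext (F.r5.sq_mem hn)
        rw [this, map_one, map_one]
      · rw [h3]
    · rw [h3, (flag_r5 Fl).card_closure]
  have hVback : ∀ y ∈ closure (Set.range Fl.r), ∃ s : ↥(NO A t), (s : G) ∈ closure (Set.range r) ∧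
      a1 * pr A t s * a1⁻¹ = y := by
    intro y hy
    rw [← hVeq] at hy
    obtain ⟨x, hx, rfl⟩ := hy
    obtain ⟨s, hs, rfl⟩ := mem_im.mp hx
    exact ⟨s, hs, rfl⟩
  -- the mover in `G`
  obtain ⟨m, hm, hmr, hmt⟩ := exists_mover C hZ F hT hTS hR hSch
  set T0 := T ⊓ centralizer (E0 t r : Set G) with hT0
  have hT0syl := syl_cent_E0 C hZ F hT hTS
  obtain ⟨c, hc, hcm⟩ := hT0syl.frattini (normalizer_le_normalizer_centralizer _ hm)
  rw [← hT0] at hcm
  set T0a := T0.map (MulAut.conj a).toMonoidHom with hT0a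
  have htT0 : t ∈ T0 := by
    refine mem_inf.mpr ⟨hT.mem, ?_⟩
    rw [mem_centralizer_iff]
    intro y hy
    exact (comm_E0 rfl (t_r C hZ F hT hTS) hy).symm
  have hUim : ∀ y ∈ Fl.U, y ∈ im A t T0a := by
    intro y hy
    obtain ⟨s, hs, rfl⟩ := hback y ((le_sup_left : Fl.U ≤ P) hy)
    have hsr : ∀ i, (s : G) * r i = r i * s := by
      intro i
      have hrN : r i ∈ NO A t := h.A_le (F.r_A i)
      have h1 : a1 * pr A t ⟨r i, hrN⟩ * a1⁻¹ ∈ closure (Set.range Fl.r) := by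
        rw [← hVeq]
        exact ⟨_, pr_mem_im (n := ⟨r i, hrN⟩) (F.r5.r_mem i), rfl⟩
      have h2 : (a1 * pr A t s * a1⁻¹) * (a1 * pr A t ⟨r i, hrN⟩ * a1⁻¹) =
          (a1 * pr A t ⟨r i, hrN⟩ * a1⁻¹) * (a1 * pr A t s * a1⁻¹) := Fl.U_V hy h1
      have h3 : pr A t (s * ⟨r i, hrN⟩) = pr A t (⟨r i, hrN⟩ * s) := by
        rw [map_mul, map_mul]
        apply mul_left_cancel (a := a1)
        apply mul_right_cancel (b := a1⁻¹)
        calc a1 * (pr A t s * pr A t ⟨r i, hrN⟩) * a1⁻¹ =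
            (a1 * pr A t s * a1⁻¹) * (a1 * pr A t ⟨r i, hrN⟩ * a1⁻¹) := by group
          _ = (a1 * pr A t ⟨r i, hrN⟩ * a1⁻¹) * (a1 * pr A t s * a1⁻¹) := h2
          _ = a1 * (pr A t ⟨r i, hrN⟩ * pr A t s) * a1⁻¹ := by group
      have h4 := h.pr_inj F.syl.two (x := s * ⟨r i, hrN⟩) (y := ⟨r i, hrN⟩ * s) (mul_mem hs (F.r_S i))
        (mul_mem (F.r_S i) hs) h3
      exact congrArg Subtype.val h4
    have hsT0 : (s : G) ∈ T0 := by
      refine mem_inf.mpr ⟨hST hs, ?_⟩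
      rw [mem_centralizer_iff]
      intro y hy
      exact (comm_E0 (hT.cent _ (hST hs)) hsr hy).symm
    rw [← hn1a, ← map_inv, ← map_mul, ← map_mul]
    exact pr_mem_im (by
      show (n1 : G) * s * (n1 : G)⁻¹ ∈ T0a
      exact conj_mem_map a hsT0)
  have hNle : normalizer (T0a : Set G) ≤ NO A t := by
    apply h.normalizer_le
    · rw [hT0a, mem_map_conj]
      have : a⁻¹ * t * a = t := by rw [mul_assoc, ← hat]; group
      rw [this]; exact htT0
    · rintro o ho _ ⟨y0, hy0, rfl⟩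
      show o * (a * y0 * a⁻¹) = a * y0 * a⁻¹ * o
      obtain ⟨u, hu, -, hyu⟩ := mem_U_or C hZ F hT hTS hR hy0.1 hy0.2
      have h1 : ∀ b ∈ A, o * b = b * o := fun b hb => comm_of_centralizer (h.core_le ho) hb
      have h2 : o * t = t * o := h.comm_t ho
      have h3 : o * (a * u * a⁻¹) = a * u * a⁻¹ * o := h1 _ (mul_mem (mul_mem hn1 (hSA hu)) (inv_mem hn1))
      rcases hyu with h4 | h4
      · rw [h4]; exact h3
      · have h5 : a⁻¹ * t = t * a⁻¹ := by
          calc a⁻¹ * t = a⁻¹ * (t * a) * a⁻¹ := by group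
            _ = a⁻¹ * (a * t) * a⁻¹ := by rw [hat]
            _ = t * a⁻¹ := by group
        have h6 : a * (u * t) * a⁻¹ = a * u * a⁻¹ * t := by
          calc a * (u * t) * a⁻¹ = a * u * (t * a⁻¹) := by group
            _ = a * u * a⁻¹ * t := by rw [← h5]; group
        rw [h4, h6, ← mul_assoc, h3, mul_assoc, h2, ← mul_assoc]
    · intro x hx hxo
      have hxt : x * h.tX = h.tX * x := by
        apply hx
        rw [Hyp.tX]
        apply pr_mem_im
        show t ∈ T0a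
        rw [hT0a, mem_map_conj]
        have : a⁻¹ * t * a = t := by rw [mul_assoc, ← hat]; group
        rw [this]; exact htT0
      obtain ⟨e, he, v, hv, hxe⟩ := cU h FA hxt (fun u hu => hx u (hUim u hu))
      apply eq_one_of_sq_of_odd _ hxo
      have h1 : v * v = 1 := Fl.V_sq hv
      rcases he with h2 | h2
      · rw [hxe, h2, one_mul, h1]
      · have h3 : h.tX * v = v * h.tX := tX_comm h FA (V_im FA hv)
        calc x * x = h.tX * v * (h.tX * v) := by rw [hxe, h2]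
          _ = h.tX * (v * h.tX) * v := by group
          _ = (h.tX * h.tX) * (v * v) := by rw [← h3]; group
          _ = 1 := by rw [h.tX_sq, h1, one_mul]
  -- the element `m' = a c m a⁻¹`
  have hm'N : a * (c * m) * a⁻¹ ∈ NO A t := by
    apply hNle
    apply mem_normalizer_of_conj_le
    rintro _ ⟨y0, hy0, rfl⟩
    show a * (c * m) * a⁻¹ * (a * y0 * a⁻¹) * (a * (c * m) * a⁻¹)⁻¹ ∈ T0a
    have h1 : a * (c * m) * a⁻¹ * (a * y0 * a⁻¹) * (a * (c * m) * a⁻¹)⁻¹ = a * (c * m * y0 * (c * m)⁻¹) * a⁻¹ := by group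
    rw [h1]
    exact conj_mem_map a (conj_mem_of_mem_normalizer hcm hy0)
  have hcmV : ∀ v ∈ closure (Set.range r), (c * m) * v = v * (c * m) := by
    intro v hv
    have h1 : m * v = v * m := R5.comm_of_forall hmr hv
    have h2 : c * v = v * c := comm_of_centralizer hc (V_le_E0 t r hv)
    calc c * m * v = c * (v * m) := by rw [mul_assoc, h1]
      _ = (c * v) * m := by group
      _ = v * (c * m) := by rw [h2]; group
  obtain ⟨v0, hv0, hmv⟩ : ∃ v0 ∈ closure (Set.range r), m * t * m⁻¹ = t * v0 :=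
    ⟨t * (m * t * m⁻¹), D.orb C.ht hm, by rw [← mul_assoc, tt C.ht, one_mul]⟩
  have hcmt : (c * m) * t * (c * m)⁻¹ = t * v0 := by
    have h1 : c * (t * v0) = t * v0 * c := comm_of_centralizer hc (mul_mem (t_mem_E0 t r) (V_le_E0 t r hv0))
    calc c * m * t * (c * m)⁻¹ = c * (m * t * m⁻¹) * c⁻¹ := by group
      _ = c * (t * v0) * c⁻¹ := by rw [hmv]
      _ = t * v0 := by rw [h1]; group
  have hv0N : v0 ∈ NO A t := hVN hv0
  obtain ⟨E, hE⟩ := exists_env h FA (x := pr A t ⟨_, hm'N⟩) (v := a1 * pr A t ⟨v0, hv0N⟩ * a1⁻¹) (by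
      intro i
      obtain ⟨s, hs, hsi⟩ := hVback _ (flag_r5 Fl |>.r_mem i)
      rw [← hsi, ← hn1a, ← map_inv, ← map_mul, ← map_mul, ← map_mul, ← map_mul]
      congr 1
      apply Subtype.ext
      show a * (c * m) * a⁻¹ * (a * s * a⁻¹) = a * s * a⁻¹ * (a * (c * m) * a⁻¹)
      have h1 := hcmV s hs
      calc a * (c * m) * a⁻¹ * (a * s * a⁻¹) = a * (c * m * s) * a⁻¹ := by group
        _ = a * (s * (c * m)) * a⁻¹ := by rw [h1]
        _ = a * s * a⁻¹ * (a * (c * m) * a⁻¹) := by group)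
    (by
      show _ ∈ closure (Set.range Fl.r)
      rw [← hVeq]
      exact ⟨_, pr_mem_im (n := ⟨v0, hv0N⟩) hv0, rfl⟩)
    (by
      intro h1
      apply hmt
      have h2 : pr A t ⟨v0, hv0N⟩ = pr A t 1 := by
        rw [map_one]
        have : pr A t ⟨v0, hv0N⟩ = a1⁻¹ * (a1 * pr A t ⟨v0, hv0N⟩ * a1⁻¹) * a1 := by group
        rw [this, h1]; group
      have h3 := h.pr_inj F.syl.two (x := ⟨v0, hv0N⟩) (y := 1) (F.V_le_S hv0) (one_mem _) h2
      have h4 : v0 = 1 := congrArg Subtype.val h3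
      rw [h4, mul_one, mul_inv_eq_iff_eq_mul] at hmv
      exact hmv)
    (by
      rw [Hyp.tX_eq, ← hn1a, ← map_inv, ← map_inv, ← map_mul, ← map_mul, ← map_mul, ← map_mul, ← map_mul]
      congr 1
      apply Subtype.ext
      show a * (c * m) * a⁻¹ * t * (a * (c * m) * a⁻¹)⁻¹ = t * (a * v0 * a⁻¹)
      have h5 : a⁻¹ * t = t * a⁻¹ := by
        calc a⁻¹ * t = a⁻¹ * (t * a) * a⁻¹ := by group
          _ = a⁻¹ * (a * t) * a⁻¹ := by rw [hat]
          _ = t * a⁻¹ := by group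
      calc a * (c * m) * a⁻¹ * t * (a * (c * m) * a⁻¹)⁻¹ = a * (c * m) * (a⁻¹ * t) * a * (c * m)⁻¹ * a⁻¹ := by group
        _ = a * (c * m * t * (c * m)⁻¹) * a⁻¹ := by rw [h5]; group
        _ = (a * t) * v0 * a⁻¹ := by rw [hcmt]; group
        _ = t * (a * v0 * a⁻¹) := by rw [hat]; group)
  -- the conjugate of `T`
  have hS' : IsSyl (S.map (MulAut.conj a).toMonoidHom) A := F.syl.conj (le_normalizer hn1)
  obtain ⟨T', hT', hTS'⟩ := exists_T C hS'
  have h' : Hyp A t T' := ⟨C.std, C.ht, C.htA, hZ, hT', fun x hx hxK => by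
    obtain ⟨k, hk⟩ := hT'.syl.two ⟨x, hx⟩
    exact h.eq_of_two hxK (hT'.cent x hx) (k := k) (congrArg Subtype.val hk)⟩
  refine ⟨T', h', E, by rw [hE]; exact FA, ?_⟩
  rw [hTS', hE, ← hP, ← hPim]
  apply le_antisymm
  · intro x hx
    obtain ⟨n, hn, rfl⟩ := mem_im.mp hx
    rw [mem_map_conj] at hn
    rw [mem_map_conj, ← hn1a, ← map_inv, ← map_mul, ← map_mul]
    exact pr_mem_im hn
  · rintro _ ⟨x, hx, rfl⟩
    obtain ⟨n, hn, rfl⟩ := mem_im.mp hx
    show a1 * pr A t n * a1⁻¹ ∈ _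
    rw [← hn1a, ← map_inv, ← map_mul, ← map_mul]
    exact pr_mem_im (conj_mem_map a hn)

end Cfsg.Agent.UFiveTwo.Start
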