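import Cfsg.Agent.UFiveTwo.Start
import Cfsg.Agent.UFiveTwo.POneFull
import Cfsg.Agent.UFiveTwo.Assembly

/-!
# S1778, type `U₅(2)`: `StartStmt` (helper686's `Start.start`, with the full output)
-/

set_option autoImplicit false
set_option linter.unusedSectionVars false

namespace Cfsg.Agent.UFiveTwo.Assembly

open Cfsg Subgroup Cfsg.Agent.SignalizersComponents Cfsg.Agent.StdEven Cfsg.Agent.StdEven.Syl Cfsg.Agent.StdEven.Loc
open Cfsg.Agent.StdEven.CoreQuot Cfsg.Agent.StdEven.StepFour Cfsg.Agent.StdL2.Setup Cfsg.Agent.Schreier.Basic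
open Cfsg.Agent.UFiveTwo.Line Cfsg.Agent.UFiveTwo.Fus Cfsg.Agent.UFiveTwo.Start Cfsg.Agent.UFiveTwo.Zero
open Cfsg.Agent.StdEven.Red

universe u

/-- **`StartStmt`.** -/
theorem startStmt : StartStmt.{u} := by
  intro G _ _ L A t C hZ hQ
  obtain ⟨K, iK, iK', hK, ⟨e⟩⟩ := hQ
  have hp : ⁅(⊤ : Subgroup A), (⊤ : Subgroup A)⁆ = ⊤ := by
    have := C.std.1.1.commutator_eq_top
    rwa [commutator_def] at this
  have hSch : Sch ↥A := by
    refine Schreier.CentExt.sch_of_quotient (N := center ↥A) ?_ le_rfl ?_ ?_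
    · intro φ
      ext x
      constructor
      · rintro ⟨y, hy, rfl⟩
        rw [mem_center_iff]
        intro g
        have h1 := mem_center_iff.mp hy (φ.symm g)
        have h2 := congrArg φ h1
        simpa using h2
      · intro hx
        refine ⟨φ.symm x, ?_, by simp⟩
        rw [SetLike.mem_coe, mem_center_iff]
        intro g
        have h1 := mem_center_iff.mp hx (φ g)
        have h2 := congrArg φ.symm h1
        simpa using h2
    · rw [commutator_def]; exact hp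
    · exact Sch.of_equiv e.symm (Schreier.PSU.sch (by rw [hK]; norm_num) (by norm_num) (by norm_num))
  -- the facts in `G`
  obtain ⟨e1⟩ := GFacts.nonempty_equiv A
  obtain ⟨Fl1, FA1, -, -⟩ := p1_full (GFacts.X1 A) (GFacts.A1 A) K hK ⟨e1.trans e⟩
  obtain ⟨S, r, F, -, -⟩ := GFacts.exists_gf hZ hp Fl1 FA1
  obtain ⟨T, hT, hTS⟩ := exists_T C F.syl
  have hR : ∀ x ∈ T, x ∈ centralizer (A : Set G) → x = 1 ∨ x = t := fun x hx hxK => R_eq C hZ F hT hTS hSch hx hxK
  have h : Hyp A t T := ⟨C.std, C.ht, C.htA, hZ, hT, hR⟩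
  have D := data C hZ F hT hTS
  -- the facts in `X`
  obtain ⟨e2⟩ := h.nonempty_equiv
  obtain ⟨Fl, FA, FO, FG⟩ := p1_full (XQ A t) (im A t A) K hK ⟨e2.trans e⟩
  have hsurj := pr_surjective A t
  have hodd := h.odd_ker
  set P : Subgroup (XQ A t) := Fl.U ⊔ Fl.Q with hP
  have hSA : S ≤ A := F.syl.le
  have hST : S ≤ T := hTS ▸ inf_le_left
  have hSN : S ≤ NO A t := hSA.trans h.A_le
  have himS : IsSyl (im A t S) (im A t A) :=
    OddQuot.isSyl_map (pr A t) hsurj hodd (isSyl_subgroupOf F.syl h.A_le)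
  obtain ⟨a1, ha1, hc1⟩ := FA.syl.exists_conj himS.two himS.le
  obtain ⟨n1, hn1, hn1a⟩ := mem_im.mp ha1
  set a : G := n1.1 with ha
  have hat : a * t = t * a := (comm_of_centralizer C.htA hn1).symm
  -- the conjugate of `im S` is `P`
  have hPim : (im A t S).map (MulAut.conj a1).toMonoidHom = P := by
    apply Subgroup.eq_of_le_of_card_ge
    · rintro _ ⟨x, hx, rfl⟩
      exact hc1 x hx
    · rw [card_conj]
      exact himS.card_le FA.syl.two FA.syl.le
  have hback : ∀ y ∈ P, ∃ s : ↥(NO A t), (s : G) ∈ S ∧ a1 * pr A t s * a1⁻¹ = y := by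
    intro y hy
    rw [← hPim] at hy
    obtain ⟨x, hx, rfl⟩ := hy
    obtain ⟨s, hs, rfl⟩ := mem_im.mp hx
    exact ⟨s, hs, rfl⟩
  -- `V`
  have hVN : closure (Set.range r) ≤ NO A t := F.V_le_A.trans h.A_le
  have hVeq : (im A t (closure (Set.range r))).map (MulAut.conj a1).toMonoidHom = closure (Set.range Fl.r) := by
    have h2 : IsPGroup 2 ↥(closure (Set.range r)) := by
      rintro ⟨x, hx⟩
      exact ⟨1, Subtype.ext (by
        show x ^ 2 ^ 1 = 1
        rw [pow_one, pow_two, F.r5.sq_mem hx])⟩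
    have h3 : Nat.card ((im A t (closure (Set.range r))).map (MulAut.conj a1).toMonoidHom) = 16 := by
      rw [card_conj, h.card_im h2 hVN, F.r5.card_closure]
    apply Subgroup.eq_of_le_of_card_ge
    · apply FA.elem
      · rw [← hP, ← hPim]
        exact map_mono (im_mono F.V_le_S)
      · rintro _ ⟨x, hx, rfl⟩
        obtain ⟨n, hn, rfl⟩ := mem_im.mp hx
        rw [← map_mul, ← map_mul]
        have : n * n = 1 := Subtype.ext (F.r5.sq_mem hn)
        rw [this, map_one, map_one]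
      · rw [h3]
    · rw [h3, (flag_r5 Fl).card_closure]
  have hVback : ∀ y ∈ closure (Set.range Fl.r), ∃ s : ↥(NO A t), (s : G) ∈ closure (Set.range r) ∧
      a1 * pr A t s * a1⁻¹ = y := by
    intro y hy
    rw [← hVeq] at hy
    obtain ⟨x, hx, rfl⟩ := hy
    obtain ⟨s, hs, rfl⟩ := mem_im.mp hx
    exact ⟨s, hs, rfl⟩
  -- the mover in `G`
  obtain ⟨m, hm, hmr, hmt⟩ := exists_mover C hZ F hT hTS hR hSch
  set T0 := T ⊓ centralizer (E0 t r : Set G) with hT0
  have hT0syl := syl_cent_E0 C hZ F hT hTS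
  obtain ⟨c, hc, hcm⟩ := hT0syl.frattini (normalizer_le_normalizer_centralizer _ hm)
  rw [← hT0] at hcm
  set T0a := T0.map (MulAut.conj a).toMonoidHom with hT0a
  have htT0 : t ∈ T0 := by
    refine mem_inf.mpr ⟨hT.mem, ?_⟩
    rw [mem_centralizer_iff]
    intro y hy
    exact (comm_E0 rfl (t_r C hZ F hT hTS) hy).symm
  have hUim : ∀ y ∈ Fl.U, y ∈ im A t T0a := by
    intro y hy
    obtain ⟨s, hs, rfl⟩ := hback y ((le_sup_left : Fl.U ≤ P) hy)
    have hsr : ∀ i, (s : G) * r i = r i * s := by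
      intro i
      have hrN : r i ∈ NO A t := h.A_le (F.r_A i)
      have h1 : a1 * pr A t ⟨r i, hrN⟩ * a1⁻¹ ∈ closure (Set.range Fl.r) := by
        rw [← hVeq]
        exact ⟨_, pr_mem_im (n := ⟨r i, hrN⟩) (F.r5.r_mem i), rfl⟩
      have h2 : (a1 * pr A t s * a1⁻¹) * (a1 * pr A t ⟨r i, hrN⟩ * a1⁻¹) =
          (a1 * pr A t ⟨r i, hrN⟩ * a1⁻¹) * (a1 * pr A t s * a1⁻¹) := Fl.U_V hy h1
      have h3 : pr A t (s * ⟨r i, hrN⟩) = pr A t (⟨r i, hrN⟩ * s) := by
        rw [map_mul, map_mul]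
        apply mul_left_cancel (a := a1)
        apply mul_right_cancel (b := a1⁻¹)
        calc a1 * (pr A t s * pr A t ⟨r i, hrN⟩) * a1⁻¹ =
            (a1 * pr A t s * a1⁻¹) * (a1 * pr A t ⟨r i, hrN⟩ * a1⁻¹) := by group
          _ = (a1 * pr A t ⟨r i, hrN⟩ * a1⁻¹) * (a1 * pr A t s * a1⁻¹) := h2
          _ = a1 * (pr A t ⟨r i, hrN⟩ * pr A t s) * a1⁻¹ := by group
      have h4 := h.pr_inj F.syl.two (x := s * ⟨r i, hrN⟩) (y := ⟨r i, hrN⟩ * s) (mul_mem hs (F.r_S i))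
        (mul_mem (F.r_S i) hs) h3
      exact congrArg Subtype.val h4
    have hsT0 : (s : G) ∈ T0 := by
      refine mem_inf.mpr ⟨hST hs, ?_⟩
      rw [mem_centralizer_iff]
      intro y hy
      exact (comm_E0 (hT.cent _ (hST hs)) hsr hy).symm
    rw [← hn1a, ← map_inv, ← map_mul, ← map_mul]
    exact pr_mem_im (by
      show (n1 : G) * s * (n1 : G)⁻¹ ∈ T0a
      exact conj_mem_map a hsT0)
  have hNle : normalizer (T0a : Set G) ≤ NO A t := by
    apply h.normalizer_le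
    · rw [hT0a, mem_map_conj]
      have : a⁻¹ * t * a = t := by rw [mul_assoc, ← hat]; group
      rw [this]; exact htT0
    · rintro o ho _ ⟨y0, hy0, rfl⟩
      show o * (a * y0 * a⁻¹) = a * y0 * a⁻¹ * o
      obtain ⟨u, hu, -, hyu⟩ := mem_U_or C hZ F hT hTS hR hy0.1 hy0.2
      have h1 : ∀ b ∈ A, o * b = b * o := fun b hb => comm_of_centralizer (h.core_le ho) hb
      have h2 : o * t = t * o := h.comm_t ho
      have h3 : o * (a * u * a⁻¹) = a * u * a⁻¹ * o := h1 _ (mul_mem (mul_mem hn1 (hSA hu)) (inv_mem hn1))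
      rcases hyu with h4 | h4
      · rw [h4]; exact h3
      · have h5 : a⁻¹ * t = t * a⁻¹ := by
          calc a⁻¹ * t = a⁻¹ * (t * a) * a⁻¹ := by group
            _ = a⁻¹ * (a * t) * a⁻¹ := by rw [hat]
            _ = t * a⁻¹ := by group
        have h6 : a * (u * t) * a⁻¹ = a * u * a⁻¹ * t := by
          calc a * (u * t) * a⁻¹ = a * u * (t * a⁻¹) := by group
            _ = a * u * a⁻¹ * t := by rw [← h5]; group
        rw [h4, h6, ← mul_assoc, h3, mul_assoc, h2, ← mul_assoc]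
    · intro x hx hxo
      have hxt : x * h.tX = h.tX * x := by
        apply hx
        rw [Hyp.tX]
        apply pr_mem_im
        show t ∈ T0a
        rw [hT0a, mem_map_conj]
        have : a⁻¹ * t * a = t := by rw [mul_assoc, ← hat]; group
        rw [this]; exact htT0
      obtain ⟨e, he, v, hv, hxe⟩ := cU h FA hxt (fun u hu => hx u (hUim u hu))
      apply eq_one_of_sq_of_odd _ hxo
      have h1 : v * v = 1 := Fl.V_sq hv
      rcases he with h2 | h2
      · rw [hxe, h2, one_mul, h1]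
      · have h3 : h.tX * v = v * h.tX := tX_comm h FA (V_im FA hv)
        calc x * x = h.tX * v * (h.tX * v) := by rw [hxe, h2]
          _ = h.tX * (v * h.tX) * v := by group
          _ = (h.tX * h.tX) * (v * v) := by rw [← h3]; group
          _ = 1 := by rw [h.tX_sq, h1, one_mul]
  -- the element `m' = a c m a⁻¹`
  have hm'N : a * (c * m) * a⁻¹ ∈ NO A t := by
    apply hNle
    apply mem_normalizer_of_conj_le
    rintro _ ⟨y0, hy0, rfl⟩
    show a * (c * m) * a⁻¹ * (a * y0 * a⁻¹) * (a * (c * m) * a⁻¹)⁻¹ ∈ T0a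
    have h1 : a * (c * m) * a⁻¹ * (a * y0 * a⁻¹) * (a * (c * m) * a⁻¹)⁻¹ = a * (c * m * y0 * (c * m)⁻¹) * a⁻¹ := by group
    rw [h1]
    exact conj_mem_map a (conj_mem_of_mem_normalizer hcm hy0)
  have hcmV : ∀ v ∈ closure (Set.range r), (c * m) * v = v * (c * m) := by
    intro v hv
    have h1 : m * v = v * m := R5.comm_of_forall hmr hv
    have h2 : c * v = v * c := comm_of_centralizer hc (V_le_E0 t r hv)
    calc c * m * v = c * (v * m) := by rw [mul_assoc, h1]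
      _ = (c * v) * m := by group
      _ = v * (c * m) := by rw [h2]; group
  obtain ⟨v0, hv0, hmv⟩ : ∃ v0 ∈ closure (Set.range r), m * t * m⁻¹ = t * v0 :=
    ⟨t * (m * t * m⁻¹), D.orb C.ht hm, by rw [← mul_assoc, tt C.ht, one_mul]⟩
  have hcmt : (c * m) * t * (c * m)⁻¹ = t * v0 := by
    have h1 : c * (t * v0) = t * v0 * c := comm_of_centralizer hc (mul_mem (t_mem_E0 t r) (V_le_E0 t r hv0))
    calc c * m * t * (c * m)⁻¹ = c * (m * t * m⁻¹) * c⁻¹ := by group
      _ = c * (t * v0) * c⁻¹ := by rw [hmv]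
      _ = t * v0 := by rw [h1]; group
  have hv0N : v0 ∈ NO A t := hVN hv0
  obtain ⟨E, hE⟩ := exists_env h FA (x := pr A t ⟨_, hm'N⟩) (v := a1 * pr A t ⟨v0, hv0N⟩ * a1⁻¹) (by
      intro i
      obtain ⟨s, hs, hsi⟩ := hVback _ (flag_r5 Fl |>.r_mem i)
      rw [← hsi, ← hn1a, ← map_inv, ← map_mul, ← map_mul, ← map_mul, ← map_mul]
      congr 1
      apply Subtype.ext
      show a * (c * m) * a⁻¹ * (a * s * a⁻¹) = a * s * a⁻¹ * (a * (c * m) * a⁻¹)
      have h1 := hcmV s hs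
      calc a * (c * m) * a⁻¹ * (a * s * a⁻¹) = a * (c * m * s) * a⁻¹ := by group
        _ = a * (s * (c * m)) * a⁻¹ := by rw [h1]
        _ = a * s * a⁻¹ * (a * (c * m) * a⁻¹) := by group)
    (by
      show _ ∈ closure (Set.range Fl.r)
      rw [← hVeq]
      exact ⟨_, pr_mem_im (n := ⟨v0, hv0N⟩) hv0, rfl⟩)
    (by
      intro h1
      apply hmt
      have h2 : pr A t ⟨v0, hv0N⟩ = pr A t 1 := by
        rw [map_one]
        have : pr A t ⟨v0, hv0N⟩ = a1⁻¹ * (a1 * pr A t ⟨v0, hv0N⟩ * a1⁻¹) * a1 := by group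
        rw [this, h1]; group
      have h3 := h.pr_inj F.syl.two (x := ⟨v0, hv0N⟩) (y := 1) (F.V_le_S hv0) (one_mem _) h2
      have h4 : v0 = 1 := congrArg Subtype.val h3
      rw [h4, mul_one, mul_inv_eq_iff_eq_mul] at hmv
      exact hmv)
    (by
      rw [Hyp.tX_eq, ← hn1a, ← map_inv, ← map_inv, ← map_mul, ← map_mul, ← map_mul, ← map_mul, ← map_mul]
      congr 1
      apply Subtype.ext
      show a * (c * m) * a⁻¹ * t * (a * (c * m) * a⁻¹)⁻¹ = t * (a * v0 * a⁻¹)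
      have h5 : a⁻¹ * t = t * a⁻¹ := by
        calc a⁻¹ * t = a⁻¹ * (t * a) * a⁻¹ := by group
          _ = a⁻¹ * (a * t) * a⁻¹ := by rw [hat]
          _ = t * a⁻¹ := by group
      calc a * (c * m) * a⁻¹ * t * (a * (c * m) * a⁻¹)⁻¹ = a * (c * m) * (a⁻¹ * t) * a * (c * m)⁻¹ * a⁻¹ := by group
        _ = a * (c * m * t * (c * m)⁻¹) * a⁻¹ := by rw [h5]; group
        _ = (a * t) * v0 * a⁻¹ := by rw [hcmt]; group
        _ = t * (a * v0 * a⁻¹) := by rw [hat]; group)
  -- the conjugate of `T`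
  have hS' : IsSyl (S.map (MulAut.conj a).toMonoidHom) A := F.syl.conj (le_normalizer hn1)
  obtain ⟨T', hT', hTS'⟩ := exists_T C hS'
  have h' : Hyp A t T' := ⟨C.std, C.ht, C.htA, hZ, hT', fun x hx hxK => by
    obtain ⟨k, hk⟩ := hT'.syl.two ⟨x, hx⟩
    exact h.eq_of_two hxK (hT'.cent x hx) (k := k) (congrArg Subtype.val hk)⟩
  refine ⟨T', h', E, C, by rw [hE]; exact FA, by rw [hE]; exact FO, by rw [hE]; exact FG, ?_, ⟨K, iK, iK', hK, ⟨e2.trans e⟩⟩, hSch⟩
  rw [hTS', hE, ← hP, ← hPim]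
  apply le_antisymm
  · intro x hx
    obtain ⟨n, hn, rfl⟩ := mem_im.mp hx
    rw [mem_map_conj] at hn
    rw [mem_map_conj, ← hn1a, ← map_inv, ← map_mul, ← map_mul]
    exact pr_mem_im hn
  · rintro _ ⟨x, hx, rfl⟩
    obtain ⟨n, hn, rfl⟩ := mem_im.mp hx
    show a1 * pr A t n * a1⁻¹ ∈ _
    rw [← hn1a, ← map_inv, ← map_mul, ← map_mul]
    exact pr_mem_im (conj_mem_map a hn)

end Cfsg.Agent.UFiveTwo.Assembly
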