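import Cfsg.Agent.UFiveTwo.BigS
import Cfsg.Agent.WreathFusion.ChartUni

/-!
# S1778, type `U₅(2)` (P9): `S = U Q` is centrally indecomposable and `C_S(S') ≤ S'`
-/

set_option autoImplicit false

namespace Cfsg.Agent.UFiveTwo.SylInd

open Subgroup Cfsg.Agent.UFiveTwo.Line Cfsg.Agent.UFiveTwo.Big Cfsg.Agent.WreathFusion
open scoped commutatorElement

universe u

variable {X : Type u} [Group X] {A : Subgroup X} {t : X} (E : Env A t)

theorem r5 : R5 E.r where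
  sq := E.r_sq
  comm := E.r_comm
  prod := E.r_prod
  ne := E.r_ne
  alt := fun σ hσ => ⟨E.l ⟨σ, Equiv.Perm.mem_alternatingGroup.mpr hσ⟩, fun i => E.l_r _ i⟩

theorem dec_klein : ∀ σ : Equiv.Perm (Fin 5), σ 0 = 0 → σ * σ = 1 → Equiv.Perm.sign σ = 1 → ∀ i : Fin 5, i ≠ 0 →
    σ i = i → σ = 1 := by decide +kernel

theorem klein_one {σ : alternatingGroup (Fin 5)} (h : IsKlein σ) {i : Fin 5} (hi : i ≠ 0)
    (h1 : (σ : Equiv.Perm (Fin 5)) i = i) : σ = 1 :=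
  Subtype.ext (dec_klein σ.1 h.1 h.2 (Equiv.Perm.mem_alternatingGroup.mp σ.2) i hi h1)

/-- elements of `S = U Q` -/
theorem mem_UQ {x : X} (hx : x ∈ E.U ⊔ E.Q) : ∃ u ∈ E.U, ∃ σ, IsKlein σ ∧ x = u * E.l σ := by
  have key : ∃ u ∈ E.U, ∃ q ∈ E.Q, x = u * q := by
    let N : Subgroup X :=
      { carrier := {x | ∃ u ∈ E.U, ∃ q ∈ E.Q, x = u * q}
        one_mem' := ⟨1, one_mem _, 1, one_mem _, (one_mul _).symm⟩
        mul_mem' := by
          rintro _ _ ⟨u, hu, q, hq, rfl⟩ ⟨u', hu', q', hq', rfl⟩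
          exact ⟨u * (q * u' * q⁻¹), mul_mem hu (Q_U E hq hu'), q * q', mul_mem hq hq', by group⟩
        inv_mem' := by
          rintro _ ⟨u, hu, q, hq, rfl⟩
          refine ⟨q⁻¹ * u⁻¹ * q⁻¹⁻¹, Q_U E (inv_mem hq) (inv_mem hu), q⁻¹, inv_mem hq, by group⟩ }
    have h1 : E.U ⊔ E.Q ≤ N := sup_le (fun u hu => ⟨u, hu, 1, one_mem _, (mul_one _).symm⟩)
      fun q hq => ⟨1, one_mem _, q, hq, (one_mul _).symm⟩
    exact h1 hx
  obtain ⟨u, hu, q, hq, rfl⟩ := key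
  obtain ⟨u', hu', σ, hσ, rfl⟩ := E.Q_gen q hq
  exact ⟨u * u', mul_mem hu hu'.1, σ, hσ, by group⟩

/-- an element of `S` commuting with `r i`, `i ≠ 0`, is in `U` -/
theorem mem_U_of {x : X} (hx : x ∈ E.U ⊔ E.Q) {i : Fin 5} (hi : i ≠ 0) (h : x * E.r i = E.r i * x) : x ∈ E.U := by
  obtain ⟨u, hu, σ, hσ, rfl⟩ := mem_UQ E hx
  have h1 : (u * E.l σ) * E.r i * (u * E.l σ)⁻¹ = E.r ((σ : Equiv.Perm (Fin 5)) i) := by
    calc (u * E.l σ) * E.r i * (u * E.l σ)⁻¹ = u * (E.l σ * E.r i * (E.l σ)⁻¹) * u⁻¹ := by group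
      _ = E.r ((σ : Equiv.Perm (Fin 5)) i) := by rw [E.l_r, conj_eq (E.U_r u hu _)]
  rw [h, mul_inv_cancel_right] at h1
  have h2 := klein_one hσ hi (E.r_inj h1).symm
  rw [h2, map_one, mul_one]
  exact hu

/-- `[u, u^h] = u²` -/
theorem comm_h {u : X} (hu : u ∈ E.U) {i : Fin 5} (h : u * u = E.r i) :
    ⁅u, E.h * u * E.h⁻¹⁆ = E.r i := by
  have hN := U_norm (E := E) hu
  have hu1 := E.U_h u hu
  have hu2 : E.h ^ 2 * u * (E.h ^ 2)⁻¹ ∈ E.U := by
    have := E.U_h _ hu1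
    have e : E.h * (E.h * u * E.h⁻¹) * E.h⁻¹ = E.h ^ 2 * u * (E.h ^ 2)⁻¹ := by rw [pow_two]; group
    rwa [e] at this
  have hri : E.h * E.r i * E.h⁻¹ = E.r i := conj_eq (E.h_r i)
  have hsa : (E.h * u * E.h⁻¹) * (E.h * u * E.h⁻¹) = E.r i := by
    calc (E.h * u * E.h⁻¹) * (E.h * u * E.h⁻¹) = E.h * (u * u) * E.h⁻¹ := by group
      _ = _ := by rw [h, hri]
  have hsb : (E.h ^ 2 * u * (E.h ^ 2)⁻¹) * (E.h ^ 2 * u * (E.h ^ 2)⁻¹) = E.r i := by
    calc (E.h ^ 2 * u * (E.h ^ 2)⁻¹) * (E.h ^ 2 * u * (E.h ^ 2)⁻¹) = E.h * (E.h * (u * u) * E.h⁻¹) * E.h⁻¹ := by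
          rw [pow_two]; group
      _ = _ := by rw [h, hri, hri]
  set a := E.h * u * E.h⁻¹ with ha
  set b := E.h ^ 2 * u * (E.h ^ 2)⁻¹ with hb
  set N := u * a * b with hNdef
  have hr2 := E.r_sq i
  have hNb : b⁻¹ * N = N * b⁻¹ := E.U_V (inv_mem hu2) hN
  have hNN := E.V_sq hN
  have h1 : (u * a) * (u * a) = E.r i := by
    have e1 : u * a = N * b⁻¹ := by rw [hNdef]; group
    rw [e1]
    calc N * b⁻¹ * (N * b⁻¹) = N * (b⁻¹ * N) * b⁻¹ := by group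
      _ = (N * N) * (b * b)⁻¹ := by rw [hNb]; group
      _ = E.r i := by
        rw [hNN, one_mul, hsb]
        exact inv_eq_of_mul_eq_one_left hr2
  have h2 : a * E.r i = E.r i * a := E.U_r a hu1 i
  calc ⁅u, a⁆ = (u * a * u⁻¹ * a⁻¹) * (E.r i * E.r i) := by rw [hr2, mul_one, commutatorElement_def]
    _ = (u * a * u⁻¹ * a⁻¹) * ((a * a) * E.r i) := by rw [hsa]
    _ = u * a * u⁻¹ * (a * E.r i) := by group
    _ = u * a * u⁻¹ * (u * u * a) := by rw [h2, h]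
    _ = (u * a) * (u * a) := by group
    _ = E.r i := h1

theorem V_le : E.V ≤ ⁅E.U ⊔ E.Q, E.U ⊔ E.Q⁆ := by
  have h1 : E.V = closure (Set.range E.r) := rfl
  rw [h1, closure_le]
  rintro _ ⟨i, rfl⟩
  obtain ⟨u, hu, h⟩ := E.U_exists i
  rw [← comm_h E hu h]
  exact commutator_mem_commutator (mem_sup_left hu) (mem_sup_left (E.U_h u hu))

/-- elements of `U` with different squares do not commute -/
theorem not_comm {u u' : X} (hu : u ∈ E.U) (hu' : u' ∈ E.U) {i j : Fin 5} (h : u * u = E.r i) (h' : u' * u' = E.r j)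
    (hij : i ≠ j) : u * u' ≠ u' * u := by
  intro hc
  have h1 : (u * u') * (u * u') = E.r i * E.r j := by
    calc (u * u') * (u * u') = u * (u' * u) * u' := by group
      _ = (u * u) * (u' * u') := by rw [← hc]; group
      _ = _ := by rw [h, h']
  rcases E.U_sq _ (mul_mem hu hu') with h2 | ⟨k, h2⟩
  · exact E.rr_ne_one hij (h1.symm.trans h2)
  · exact (r5 E).mul_ne hij (h1.symm.trans h2)

/-- a Klein element -/
def kl : alternatingGroup (Fin 5) :=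
  ⟨Equiv.swap 1 2 * Equiv.swap 3 4, Equiv.Perm.mem_alternatingGroup.mpr (sign_swap_swap (by decide) (by decide))⟩

theorem kl_klein : IsKlein kl := ⟨by decide, by decide⟩

/-- an element of `N₀ ∖ V` in `S'` and its `h`-conjugates -/
theorem exists_c : ∃ c ∈ E.U, c * c = E.r 0 ∧ ∀ k : ℕ, E.h ^ k * c * (E.h ^ k)⁻¹ ∈ ⁅E.U ⊔ E.Q, E.U ⊔ E.Q⁆ := by
  obtain ⟨y, hy, hy2⟩ := E.U_exists 1
  have hlQ := E.l_Q kl kl_klein
  have hly : E.l kl * y * (E.l kl)⁻¹ ∈ E.U := E.U_l y hy kl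
  set c := ⁅E.l kl, y⁆ with hc
  have hcU : c ∈ E.U := by rw [hc, commutatorElement_def]; exact mul_mem hly (inv_mem hy)
  have hcQ : c ∈ E.Q := by
    have e : c = E.l kl * (y * (E.l kl)⁻¹ * y⁻¹) := by rw [hc, commutatorElement_def]; group
    rw [e]
    exact mul_mem hlQ (U_Q E (inv_mem hlQ) hy)
  refine ⟨c, hcU, ?_, ?_⟩
  · rcases E.Q_sq c hcQ with h1 | h1
    · exfalso
      have h2 : c ∈ E.V := E.U_one c hcU h1
      have h3 : E.l kl * y * (E.l kl)⁻¹ = c * y := by rw [hc, commutatorElement_def]; group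
      have h4 : (E.l kl * y * (E.l kl)⁻¹) * (E.l kl * y * (E.l kl)⁻¹) = E.r ((kl : Equiv.Perm (Fin 5)) 1) := by
        rw [← E.l_r, ← hy2]; group
      have h5 : y * c = c * y := E.U_V hy h2
      have h6 : (c * y) * (c * y) = E.r 1 := by
        calc (c * y) * (c * y) = c * (y * c) * y := by group
          _ = (c * c) * (y * y) := by rw [h5]; group
          _ = E.r 1 := by rw [E.V_sq h2, one_mul, hy2]
      rw [h3, h6] at h4
      exact absurd (E.r_inj h4) (by decide)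
    · exact h1
  · intro k
    have hhl : E.h ^ k * E.l kl = E.l kl * E.h ^ k := ((show Commute E.h (E.l kl) from E.h_l kl).pow_left k).eq
    have hyk : E.h ^ k * y * (E.h ^ k)⁻¹ ∈ E.U := by
      induction k with
      | zero => simpa using hy
      | succ k ih =>
        have e : E.h ^ (k + 1) * y * (E.h ^ (k + 1))⁻¹ = E.h * (E.h ^ k * y * (E.h ^ k)⁻¹) * E.h⁻¹ := by
          rw [pow_succ']; group
        rw [e]
        exact E.U_h _ (ih (((show Commute E.h (E.l kl) from E.h_l kl).pow_left k).eq))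
    have e : E.h ^ k * c * (E.h ^ k)⁻¹ = ⁅E.l kl, E.h ^ k * y * (E.h ^ k)⁻¹⁆ := by
      have e1 : E.h ^ k * (E.l kl) * (E.h ^ k)⁻¹ = E.l kl := by rw [hhl, mul_inv_cancel_right]
      rw [hc, commutatorElement_def, commutatorElement_def]
      calc E.h ^ k * (E.l kl * y * (E.l kl)⁻¹ * y⁻¹) * (E.h ^ k)⁻¹ =
          (E.h ^ k * (E.l kl) * (E.h ^ k)⁻¹) * (E.h ^ k * y * (E.h ^ k)⁻¹) *
          (E.h ^ k * (E.l kl) * (E.h ^ k)⁻¹)⁻¹ * (E.h ^ k * y * (E.h ^ k)⁻¹)⁻¹ := by group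
        _ = _ := by rw [e1]
    rw [e]
    exact commutator_mem_commutator (mem_sup_right hlQ) (mem_sup_left hyk)

/-- **`C_S(S') ≤ S'`** -/
theorem cen : centralizer ((⁅E.U ⊔ E.Q, E.U ⊔ E.Q⁆ : Subgroup X) : Set X) ⊓ (E.U ⊔ E.Q) ≤ ⁅E.U ⊔ E.Q, E.U ⊔ E.Q⁆ := by
  intro x hx
  obtain ⟨hxc, hxS⟩ := mem_inf.1 hx
  rw [mem_centralizer_iff] at hxc
  have hxU : x ∈ E.U := mem_U_of E hxS (i := 1) (by decide) (hxc _ (V_le E (E.r_V 1))).symm
  obtain ⟨c, hcU, hc2, hck⟩ := exists_c E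
  have hc0 : c ∈ ⁅E.U ⊔ E.Q, E.U ⊔ E.Q⁆ := by
    have := hck 0
    simpa using this
  rcases E.U_sq x hxU with h1 | ⟨j, h1⟩
  · exact V_le E (E.U_one x hxU h1)
  · by_cases hj : j = 0
    · subst hj
      obtain ⟨k, v, hv, h2⟩ := E.U_line c hcU x hxU (hc2.trans h1.symm) (by rw [hc2]; exact E.r_ne)
      rw [h2]
      exact mul_mem (hck k) (V_le E hv)
    · exact absurd (hxc c hc0).symm (not_comm E hxU hcU h1 hc2 hj)

/-- an element commuting with `x ∈ U ∖ V` -/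
theorem comm_cases {x b : X} (hx : x ∈ E.U) {i : Fin 5} (hi : i ≠ 0) (hx2 : x * x = E.r i) (hb : b ∈ E.U ⊔ E.Q)
    (h : x * b = b * x) : b ∈ E.V ∨ ∃ v ∈ E.V, b = x * v := by
  have hbU : b ∈ E.U := by
    apply mem_U_of E hb hi
    have c : Commute b x := h.symm
    rw [← hx2]
    exact (c.mul_right c).eq
  rcases E.U_sq b hbU with h1 | ⟨j, h1⟩
  · exact Or.inl (E.U_one b hbU h1)
  right
  have hij : i = j := by
    by_contra hij
    exact not_comm E hx hbU hx2 h1 hij h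
  subst hij
  obtain ⟨k, v, hv, h2⟩ := E.U_line x hx b hbU (hx2.trans h1.symm) (by rw [hx2]; exact E.r_ne' i)
  have hxv : x * v = v * x := E.U_V hx hv
  -- `x` commutes with `h^k x h^-k`
  have h3 : x * (E.h ^ k * x * (E.h ^ k)⁻¹) = (E.h ^ k * x * (E.h ^ k)⁻¹) * x := by
    have e : E.h ^ k * x * (E.h ^ k)⁻¹ = b * v⁻¹ := by rw [h2]; group
    rw [e]
    have c1 : Commute x b := h
    have c2 : Commute x v := hxv
    exact (c1.mul_right c2.inv_right).eq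
  have hne : ¬ Commute x (E.h * x * E.h⁻¹) := by
    intro hc
    have h4 := comm_h E hx hx2
    rw [commutatorElement_eq_one_iff_commute.2 hc] at h4
    exact E.r_ne' i h4.symm
  have hk : k % 3 = 0 ∨ k % 3 = 1 ∨ k % 3 = 2 := by omega
  have hpow : E.h ^ k = E.h ^ (k % 3) := by
    conv_lhs => rw [← Nat.div_add_mod k 3, pow_add, pow_mul, E.h_pow, one_pow, one_mul]
  rw [hpow] at h2 h3
  rcases hk with hk | hk | hk
  · rw [hk] at h2
    exact ⟨v, hv, by rw [h2]; group⟩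
  · exfalso
    rw [hk, pow_one] at h3
    exact hne h3
  · exfalso
    rw [hk] at h3
    have hN := U_norm (E := E) hx
    have cN : Commute x (x * (E.h * x * E.h⁻¹) * (E.h ^ 2 * x * (E.h ^ 2)⁻¹)) := E.U_V hx hN
    have c3 : Commute x (E.h ^ 2 * x * (E.h ^ 2)⁻¹) := h3
    have c4 := (((Commute.refl x).inv_right).mul_right cN).mul_right c3.inv_right
    have e : x⁻¹ * (x * (E.h * x * E.h⁻¹) * (E.h ^ 2 * x * (E.h ^ 2)⁻¹)) * (E.h ^ 2 * x * (E.h ^ 2)⁻¹)⁻¹ =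
        E.h * x * E.h⁻¹ := by group
    rw [e] at c4
    exact hne c4

theorem eq_of [Finite X] (hS : IsPGroup 2 ↥(E.U ⊔ E.Q)) {P R : Subgroup X} (hP : P ≤ E.U ⊔ E.Q)
    (hR : R ≤ E.U ⊔ E.Q) (hc : ∀ a ∈ P, ∀ b ∈ R, a * b = b * a)
    (hs : ∀ s ∈ E.U ⊔ E.Q, ∃ a ∈ P, ∃ b ∈ R, a * b = s) {x : X} (hx : x ∈ P) (hxU : x ∈ E.U)
    {i : Fin 5} (hi : i ≠ 0) (hx2 : x * x = E.r i) : P = E.U ⊔ E.Q := by
  have : Fact (Nat.Prime 2) := ⟨Nat.prime_two⟩
  apply ChartUni.eq_of_le_sup hS hP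
  intro s hsS
  obtain ⟨a, ha, b, hb, rfl⟩ := hs s hsS
  apply mul_mem (mem_sup_left ha)
  rcases comm_cases E hxU hi hx2 (hR hb) (hc x hx b hb) with h1 | ⟨v, hv, h1⟩
  · exact mem_sup_right (V_le E h1)
  · rw [h1]; exact mul_mem (mem_sup_left hx) (mem_sup_right (V_le E hv))

/-- **`S` is centrally indecomposable.** -/
theorem centIndec [Finite X] (hS : IsPGroup 2 ↥(E.U ⊔ E.Q)) : CentIndec (E.U ⊔ E.Q) := by
  intro P R hP hR hc hs
  obtain ⟨x, hxU, hx2⟩ := E.U_exists 1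
  obtain ⟨a, ha, b, hb, hab⟩ := hs x (mem_sup_left hxU)
  have c1 : Commute a b := hc a ha b hb
  have c2 : Commute a x := by rw [← hab]; exact (Commute.refl a).mul_right c1
  have c3 : Commute b x := by rw [← hab]; exact c1.symm.mul_right (Commute.refl b)
  have h1 : (1 : Fin 5) ≠ 0 := by decide
  have hy : P = E.U ⊔ E.Q ∨ R = E.U ⊔ E.Q := by
    rcases comm_cases E hxU h1 hx2 (hP ha) c2.symm.eq with h2 | ⟨v, hv, h2⟩
    · -- `b = a⁻¹ x`
      right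
      have hb' : b = a⁻¹ * x := by rw [← hab]; group
      have hbU : b ∈ E.U := by rw [hb']; exact mul_mem (inv_mem (E.V_le_U h2)) hxU
      have hb2 : b * b = E.r 1 := by
        have c4 : Commute a⁻¹ x := c2.inv_left
        have h5 : a⁻¹ * a⁻¹ = 1 := E.V_sq (inv_mem h2)
        rw [hb']
        calc a⁻¹ * x * (a⁻¹ * x) = a⁻¹ * (x * a⁻¹) * x := by group
          _ = (a⁻¹ * a⁻¹) * (x * x) := by rw [← c4.eq]; group
          _ = _ := by rw [h5, one_mul, hx2]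
      exact eq_of E hS hR hP (fun b hb a ha => (hc a ha b hb).symm) (fun s hsS => by
        obtain ⟨a, ha, b, hb, h6⟩ := hs s hsS
        exact ⟨b, hb, a, ha, by rw [← hc a ha b hb]; exact h6⟩) hb hbU h1 hb2
    · left
      have haU : a ∈ E.U := by rw [h2]; exact mul_mem hxU (E.V_le_U hv)
      have ha2 : a * a = E.r 1 := by
        have h5 : x * v = v * x := E.U_V hxU hv
        rw [h2]
        calc x * v * (x * v) = x * (v * x) * v := by group
          _ = (x * x) * (v * v) := by rw [← h5]; group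
          _ = _ := by rw [E.V_sq hv, mul_one, hx2]
      exact eq_of E hS hP hR hc hs ha haU h1 ha2
  rcases hy with h2 | h2
  · right
    intro b hb
    rw [mem_centralizer_iff]
    intro s hs'
    exact hc s (by rw [h2]; exact hs') b hb
  · left
    intro a ha
    rw [mem_centralizer_iff]
    intro s hs'
    exact (hc a ha s (by rw [h2]; exact hs')).symm

end Cfsg.Agent.UFiveTwo.SylInd
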