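import Cfsg.Agent.UFiveTwo.Env
import Mathlib.Algebra.BigOperators.Fin
import Mathlib.Data.ZMod.Basic
import Mathlib.Algebra.Group.Subgroup.Lattice

/-!
# The module `V = ⟨r i⟩` of order 16: elements `v s`, `s : Fin 5 → ZMod 2`, `v s = v s' ↔ s - s' constant`.
-/

set_option autoImplicit false

namespace Cfsg.Agent.UFiveTwo

open Subgroup

universe u

variable {X : Type u} [Group X] {A : Subgroup X}

namespace Flag

variable (F : Flag A)

/-- The group `V = ⟨r i⟩`. -/
def V : Subgroup X := closure (Set.range F.r)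

theorem V_def : F.V = closure (Set.range F.r) := rfl

theorem r_V (i : Fin 5) : F.r i ∈ F.V := subset_closure ⟨i, rfl⟩

theorem V_le : F.V ≤ A := by
  rw [V_def, closure_le]
  rintro _ ⟨i, rfl⟩
  exact F.r_mem i

theorem V_le_U : F.V ≤ F.U := by
  rw [V_def, closure_le]
  rintro _ ⟨i, rfl⟩
  exact F.r_U i

/-- An element commuting with all `r i` commutes with `V`. -/
theorem comm_V {g : X} (hg : ∀ i, g * F.r i = F.r i * g) {v : X} (hv : v ∈ F.V) : g * v = v * g := by
  have : F.V ≤ centralizer {g} := by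
    rw [V_def, closure_le]
    rintro _ ⟨i, rfl⟩
    exact mem_centralizer_singleton_iff.mpr (hg i).symm
  exact (mem_centralizer_singleton_iff.mp (this hv)).symm

theorem comm_VV {v v' : X} (hv : v ∈ F.V) (hv' : v' ∈ F.V) : v * v' = v' * v :=
  F.comm_V (fun i => (F.comm_V (fun j => F.r_comm i j) hv).symm) hv'

theorem U_V {u v : X} (hu : u ∈ F.U) (hv : v ∈ F.V) : u * v = v * u :=
  F.comm_V (fun i => F.U_r u hu i) hv

theorem h_V {v : X} (hv : v ∈ F.V) : F.h * v = v * F.h := F.comm_V F.h_r hv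

instance : CommGroup F.V := { (inferInstance : Group F.V) with
  mul_comm := fun a b => Subtype.ext (F.comm_VV a.2 b.2) }

theorem V_sq {v : X} (hv : v ∈ F.V) : v * v = 1 := by
  have h : ∀ x ∈ closure (Set.range F.r), x ∈ F.V ∧ x * x = 1 := by
    intro x hx
    induction hx using closure_induction with
    | mem x hx => obtain ⟨i, rfl⟩ := hx; exact ⟨F.r_V i, F.r_sq i⟩
    | one => exact ⟨one_mem _, mul_one 1⟩
    | mul x y _ _ hx hy =>
      refine ⟨mul_mem hx.1 hy.1, ?_⟩
      calc x * y * (x * y) = x * (y * x) * y := by group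
        _ = x * (x * y) * y := by rw [F.comm_VV hy.1 hx.1]
        _ = (x * x) * (y * y) := by group
        _ = 1 := by rw [hx.2, hy.2, mul_one]
    | inv x _ hx => exact ⟨inv_mem hx.1, by rw [← mul_inv_rev, hx.2, inv_one]⟩
  exact (h v hv).2

theorem V_inv {v : X} (hv : v ∈ F.V) : v⁻¹ = v := inv_eq_of_mul_eq_one_left (F.V_sq hv)

/-- The element `∏ r i ^ s i` as an element of `V`. -/
def w (s : Fin 5 → ZMod 2) : F.V := ∏ i, (⟨F.r i, F.r_V i⟩ : F.V) ^ (s i).val

/-- The element `∏ r i ^ s i`. -/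
def v (s : Fin 5 → ZMod 2) : X := (F.w s : X)

theorem v_mem (s : Fin 5 → ZMod 2) : F.v s ∈ F.V := (F.w s).2

theorem pow_val {g : X} (hg : g * g = 1) (a b : ZMod 2) : g ^ (a + b).val = g ^ a.val * g ^ b.val := by
  have h2 : g ^ 2 = 1 := by rw [pow_two, hg]
  have : (a + b).val ≡ a.val + b.val [MOD 2] := by
    rw [ZMod.val_add]
    exact Nat.mod_modEq _ _
  rw [← pow_add]
  exact pow_eq_pow_of_modEq this h2

theorem w_add (s s' : Fin 5 → ZMod 2) : F.w (s + s') = F.w s * F.w s' := by
  unfold w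
  rw [← Finset.prod_mul_distrib]
  refine Finset.prod_congr rfl fun i _ => Subtype.ext ?_
  change F.r i ^ _ = F.r i ^ _ * F.r i ^ _
  exact pow_val (F.r_sq i) _ _

theorem v_add (s s' : Fin 5 → ZMod 2) : F.v (s + s') = F.v s * F.v s' :=
  congrArg Subtype.val (F.w_add s s')

theorem w_zero : F.w 0 = 1 := by
  unfold w
  simp

theorem v_zero : F.v 0 = 1 := congrArg Subtype.val F.w_zero

theorem v_single (i : Fin 5) : F.v (Pi.single i 1) = F.r i := by
  have h : F.w (Pi.single i 1) = ⟨F.r i, F.r_V i⟩ := by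
    unfold w
    rw [Finset.prod_eq_single i]
    · rw [Pi.single_eq_same]
      have : (1 : ZMod 2).val = 1 := rfl
      rw [this, pow_one]
    · intro j _ hj
      rw [Pi.single_eq_of_ne hj]
      have : (0 : ZMod 2).val = 0 := rfl
      rw [this, pow_zero]
    · intro h
      exact absurd (Finset.mem_univ i) h
  exact congrArg Subtype.val h

theorem v_one : F.v 1 = 1 := by
  have h : F.w 1 = 1 := by
    unfold w
    have e : ∀ i : Fin 5, ((1 : Fin 5 → ZMod 2) i).val = 1 := fun i => rfl
    simp only [e, pow_one]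
    rw [Fin.prod_univ_five]
    exact Subtype.ext F.r_prod
  exact congrArg Subtype.val h

theorem exists_v {x : X} (hx : x ∈ F.V) : ∃ s, x = F.v s := by
  have h : ∀ y ∈ closure (Set.range F.r), ∃ s, y = F.v s := by
    intro y hy
    induction hy using closure_induction with
    | mem y hy => obtain ⟨i, rfl⟩ := hy; exact ⟨_, (F.v_single i).symm⟩
    | one => exact ⟨0, F.v_zero.symm⟩
    | mul y z _ _ hy hz =>
      obtain ⟨s, rfl⟩ := hy
      obtain ⟨s', rfl⟩ := hz
      exact ⟨s + s', (F.v_add s s').symm⟩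
    | inv y _ hy =>
      obtain ⟨s, rfl⟩ := hy
      exact ⟨s, F.V_inv (F.v_mem s)⟩
  exact h x hx

/-- Induction on vectors: additive closure of the basis vectors. -/
theorem vec_induction {P : (Fin 5 → ZMod 2) → Prop} (h0 : P 0) (hadd : ∀ s s', P s → P s' → P (s + s'))
    (hs : ∀ i, P (Pi.single i 1)) (s : Fin 5 → ZMod 2) : P s := by
  rw [← Finset.univ_sum_single s]
  refine Finset.sum_induction _ P hadd h0 fun i _ => ?_
  have h : s i = 0 ∨ s i = 1 := by
    generalize s i = a
    revert a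
    decide
  rcases h with h | h
  · rw [h, Pi.single_zero]
    exact h0
  · rw [h]
    exact hs i

/-- An element permuting the `r i` by `π` permutes the `v s`. -/
theorem conj_v {g : X} {π : Equiv.Perm (Fin 5)} (hg : ∀ i, g * F.r i * g⁻¹ = F.r (π i)) (s : Fin 5 → ZMod 2) :
    g * F.v s * g⁻¹ = F.v (fun i => s (π.symm i)) := by
  induction s using vec_induction with
  | h0 =>
    change g * F.v 0 * g⁻¹ = F.v 0
    rw [F.v_zero, mul_one, mul_inv_cancel]
  | hadd s s' h h' =>
    change _ = F.v ((fun i => s (π.symm i)) + fun i => s' (π.symm i))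
    rw [F.v_add, F.v_add, ← h, ← h']
    group
  | hs i =>
    rw [F.v_single, hg i]
    have e : (fun j => (Pi.single i (1 : ZMod 2) : Fin 5 → ZMod 2) (π.symm j)) = Pi.single (π i) 1 := by
      funext j
      by_cases hj : j = π i
      · rw [hj, Equiv.symm_apply_apply, Pi.single_eq_same, Pi.single_eq_same]
      · rw [Pi.single_eq_of_ne hj, Pi.single_eq_of_ne]
        intro h
        exact hj (by rw [← h, Equiv.apply_symm_apply])
    rw [e, F.v_single]

theorem l_v (σ : alternatingGroup (Fin 5)) (s : Fin 5 → ZMod 2) :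
    F.l σ * F.v s * (F.l σ)⁻¹ = F.v (fun i => s ((σ : Equiv.Perm (Fin 5)).symm i)) := F.conj_v (F.l_r σ) s

end Flag

end Cfsg.Agent.UFiveTwo
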