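import Cfsg.Agent.UFiveTwo.BigC

/-!
# S1778, type `U₅(2)`, world `ε = 0` (I): `Q_w` centralizes `w_i r_i`
-/

set_option autoImplicit false

namespace Cfsg.Agent.UFiveTwo.Zero

open Subgroup Cfsg.Agent.UFiveTwo.Line Cfsg.Agent.UFiveTwo.Big

universe u

variable {X : Type u} [Group X] {A : Subgroup X} {t : X} {E : Env A t} {w : X → X}

/-- The context in the world `ε = 0`. -/
structure ZCtx (E : Env A t) (w : X → X) (Qh Γ Qw : Subgroup X) : Prop extends Ctx E w Qh Γ where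
  le : Qw ≤ Γ
  ww : ∀ i j, i ≠ 0 → j ≠ 0 → i ≠ j → w (E.r i) * w (E.r j) ∈ Qw
  D_conj : ∀ a ∈ A, a * E.r 0 = E.r 0 * a → ∀ y ∈ Qw, a * y * a⁻¹ ∈ Qw
  comm_t : ∀ y ∈ Qw, ∀ y' ∈ Qw, y * (t * y' * t) = (t * y' * t) * y
  ex : ∀ m ∈ E.Q, ∃ y ∈ Qw, Ov E w y m
  w_mem : w (E.r 0) ∈ Qw
  nc : ∀ y ∈ Qw, ∀ y' ∈ Qw, ∀ m ∈ E.Q, ∀ m' ∈ E.Q, Ov E w y m → Ov E w y' m' → m * m' ≠ m' * m →
    y * y' = y' * y * w (E.r 0)

theorem dec_one : ∀ i : Fin 5, i ≠ 0 → ∃ a b c d : Fin 5, (a ≠ b ∧ c ≠ d) ∧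
    (Equiv.swap a b * Equiv.swap c d) 0 = 0 ∧
    (Equiv.swap a b * Equiv.swap c d) * (Equiv.swap a b * Equiv.swap c d) = 1 ∧
    (Equiv.swap a b * Equiv.swap c d) i ≠ i := by decide +kernel

theorem dec_two : ∀ i j : Fin 5, i ≠ j → ∃ a b c d : Fin 5, (a ≠ b ∧ c ≠ d) ∧
    (Equiv.swap a b * Equiv.swap c d) 0 = 0 ∧
    (Equiv.swap a b * Equiv.swap c d) * (Equiv.swap a b * Equiv.swap c d) = 1 ∧
    ¬ (((Equiv.swap a b * Equiv.swap c d) i = i ∧ (Equiv.swap a b * Equiv.swap c d) j = j) ∨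
      ((Equiv.swap a b * Equiv.swap c d) i = j ∧ (Equiv.swap a b * Equiv.swap c d) j = i)) := by decide +kernel

/-- an element of `⟨f i⟩` fixed by the Klein group -/
theorem fix_klein {f : Fin 5 → X} (h : R5 f) (l : alternatingGroup (Fin 5) → X)
    (hl : ∀ σ i, l σ * f i * (l σ)⁻¹ = f ((σ : Equiv.Perm (Fin 5)) i)) {v : X}
    (hv : v ∈ closure (Set.range f)) (hf : ∀ σ, IsKlein σ → l σ * v * (l σ)⁻¹ = v) : v = 1 ∨ v = f 0 := by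
  have mk : ∀ a b c d : Fin 5, a ≠ b → c ≠ d → ∃ σ : alternatingGroup (Fin 5),
      (σ : Equiv.Perm (Fin 5)) = Equiv.swap a b * Equiv.swap c d := by
    intro a b c d h1 h2
    exact ⟨⟨_, Equiv.Perm.mem_alternatingGroup.mpr (sign_swap_swap h1 h2)⟩, rfl⟩
  rcases h.mem_closure.mp hv with rfl | ⟨i, rfl⟩ | ⟨i, j, hij, rfl⟩
  · exact Or.inl rfl
  · by_cases hi : i = 0
    · subst hi; exact Or.inr rfl
    exfalso
    obtain ⟨a, b, c, d, ⟨hab, hcd⟩, h0, h1, h2⟩ := dec_one i hi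
    obtain ⟨σ, hσ⟩ := mk a b c d hab hcd
    rw [← hσ] at h0 h1 h2
    have h3 := hf σ ⟨h0, h1⟩
    rw [hl] at h3
    exact h2 (h.injective h3)
  · exfalso
    obtain ⟨a, b, c, d, ⟨hab, hcd⟩, h0, h1, h2⟩ := dec_two i j hij
    obtain ⟨σ, hσ⟩ := mk a b c d hab hcd
    rw [← hσ] at h0 h1 h2
    have h3 := hf σ ⟨h0, h1⟩
    have h4 : l σ * (f i * f j) * (l σ)⁻¹ = (l σ * f i * (l σ)⁻¹) * (l σ * f j * (l σ)⁻¹) := by group
    rw [h4, hl, hl] at h3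
    exact h2 (h.mul_ne_mul (fun e => hij ((σ : Equiv.Perm (Fin 5)).injective e)) hij h3)

/-- `V ∩ ⟨w_i⟩ = 1` -/
theorem eq_one_of_mem (H : C0 E w) {x : X} (h1 : x ∈ E.V) (h2 : x ∈ closure (Set.range (fun i => w (E.r i)))) :
    x = 1 := by
  obtain ⟨v, hv, h3, h4⟩ := H.t_VW h2
  apply h4
  rw [H.t_V h1, mul_assoc, E.t_sq, mul_one, left_eq_mul] at h3
  exact h3

/-- elements of `V*` commuting with `Q` -/
theorem mem_Zh_of_comm (H : C0 E w) {s : X} (hs : s ∈ Vs E w) (h : ∀ q ∈ E.Q, q * s * q⁻¹ = s) : s ∈ Zh E w := by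
  obtain ⟨v, hv, x, hx, rfl⟩ := H.mem_Vs.mp hs
  have hV : ∀ σ, E.l σ * v * (E.l σ)⁻¹ ∈ E.V := by
    intro σ
    have : E.V ≤ E.V.comap (MulAut.conj (E.l σ)).toMonoidHom := by
      conv_lhs => rw [show E.V = closure (Set.range E.r) from rfl]
      rw [closure_le]
      rintro _ ⟨i, rfl⟩
      change E.l σ * E.r i * (E.l σ)⁻¹ ∈ E.V
      rw [E.l_r]
      exact E.r_V _
    exact this hv
  have hW : ∀ σ, E.l σ * x * (E.l σ)⁻¹ ∈ closure (Set.range (fun i => w (E.r i))) := by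
    intro σ
    have : closure (Set.range (fun i => w (E.r i))) ≤
        (closure (Set.range (fun i => w (E.r i)))).comap (MulAut.conj (E.l σ)).toMonoidHom := by
      rw [closure_le]
      rintro _ ⟨i, rfl⟩
      change E.l σ * w (E.r i) * (E.l σ)⁻¹ ∈ closure (Set.range (fun i => w (E.r i)))
      rw [H.l_W]
      exact Subgroup.subset_closure ⟨_, rfl⟩
    exact this hx
  have key : ∀ σ, IsKlein σ → E.l σ * v * (E.l σ)⁻¹ = v ∧ E.l σ * x * (E.l σ)⁻¹ = x := by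
    intro σ hσ
    have h1 := h _ (E.l_Q σ hσ)
    have h2 : (E.l σ * v * (E.l σ)⁻¹) * (E.l σ * x * (E.l σ)⁻¹) = v * x := by rw [← h1]; group
    have h3 : v⁻¹ * (E.l σ * v * (E.l σ)⁻¹) = x * (E.l σ * x * (E.l σ)⁻¹)⁻¹ := by
      rw [eq_mul_inv_iff_mul_eq, mul_assoc, h2, inv_mul_cancel_left]
    have h4 : v⁻¹ * (E.l σ * v * (E.l σ)⁻¹) = 1 :=
      eq_one_of_mem H (mul_mem (inv_mem hv) (hV σ)) (by rw [h3]; exact mul_mem hx (inv_mem (hW σ)))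
    have h5 : E.l σ * v * (E.l σ)⁻¹ = v := (inv_mul_eq_one.mp h4).symm
    refine ⟨h5, ?_⟩
    rw [h5] at h2
    exact mul_left_cancel h2
  have hv' := fix_klein H.R5r (fun σ => E.l σ) (fun σ i => E.l_r σ i) hv fun σ hσ => (key σ hσ).1
  have hx' := fix_klein H.R5W (fun σ => E.l σ) (fun σ i => H.l_W σ i) hx fun σ hσ => (key σ hσ).2
  refine mul_mem ?_ ?_
  · rcases hv' with h1 | h1
    · rw [h1]; exact one_mem _
    · rw [h1]; exact r_Zh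
  · rcases hx' with h1 | h1
    · rw [h1]; exact one_mem _
    · rw [h1]; exact w_Zh

namespace ZCtx

variable {Qh Γ Qw : Subgroup X} (H : ZCtx E w Qh Γ Qw)

/-- `w'_i = w_i r_i` -/
def wr (E : Env A t) (w : X → X) (i : Fin 5) : X := w (E.r i) * E.r i

omit H in
theorem wr_Vs (i : Fin 5) : wr E w i ∈ Vs E w := mul_mem (W_Vs i) (r_Vs i)

include H

theorem t_W_t (i : Fin 5) : t * w (E.r i) * t = wr E w i := H.toC0.t_W_t i

theorem y_Vs {y s : X} (hy : y ∈ Qw) (hs : s ∈ Vs E w) : y * s * y⁻¹ ∈ Vs E w := H.Γ_Vs (H.le hy) hs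

/-- `κ(y) = [y, w'_i]` -/
theorem K_Vs {y : X} (hy : y ∈ Qw) (i : Fin 5) : y * wr E w i * y⁻¹ * wr E w i ∈ Vs E w :=
  mul_mem (H.y_Vs hy (wr_Vs i)) (wr_Vs i)

/-- independence of `i` -/
theorem K_eq {y : X} (hy : y ∈ Qw) {i j : Fin 5} (hi : i ≠ 0) (hj : j ≠ 0) :
    y * wr E w i * y⁻¹ * wr E w i = y * wr E w j * y⁻¹ * wr E w j := by
  by_cases hij : i = j
  · rw [hij]
  have h1 := H.comm_t y hy _ (H.ww i j hi hj hij)
  have h2 : t * (w (E.r i) * w (E.r j)) * t = wr E w i * wr E w j := by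
    calc t * (w (E.r i) * w (E.r j)) * t = t * w (E.r i) * (1 * (w (E.r j) * t)) := by group
      _ = (t * w (E.r i) * t) * (t * w (E.r j) * t) := by rw [← E.t_sq]; group
      _ = _ := by rw [H.t_W_t, H.t_W_t]
  rw [h2] at h1
  set a := wr E w i with ha
  set b := wr E w j with hb
  have haV : a ∈ Vs E w := wr_Vs i
  have hbV : b ∈ Vs E w := wr_Vs j
  have h3 : (y * a * y⁻¹) * (y * b * y⁻¹) = a * b := by
    calc (y * a * y⁻¹) * (y * b * y⁻¹) = y * (a * b) * y⁻¹ := by group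
      _ = a * b := by rw [h1]; group
  have h4 := H.y_Vs hy haV
  have h5 := H.y_Vs hy hbV
  have h6 := H.toC0.Vs_sq h5
  have h7 := H.toC0.Vs_sq haV
  calc y * a * y⁻¹ * a = (y * a * y⁻¹) * ((y * b * y⁻¹) * (y * b * y⁻¹)) * a := by rw [h6, mul_one]
    _ = (a * b) * ((y * b * y⁻¹) * a) := by rw [← h3]; group
    _ = (a * b) * (a * (y * b * y⁻¹)) := by rw [H.toC0.Vs_comm h5 haV]
    _ = (b * a) * (a * (y * b * y⁻¹)) := by rw [H.toC0.Vs_comm haV hbV]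
    _ = b * (a * a) * (y * b * y⁻¹) := by group
    _ = (y * b * y⁻¹) * b := by rw [h7, mul_one, H.toC0.Vs_comm hbV h5]

/-- `κ(y) ∈ Z^` -/
theorem K_Zh {y : X} (hy : y ∈ Qw) {i : Fin 5} (hi : i ≠ 0) : y * wr E w i * y⁻¹ * wr E w i ∈ Zh E w := by
  apply mem_Zh_of_comm H.toC0 (H.K_Vs hy i)
  intro q hq
  obtain ⟨σ, hσ, h1, h2⟩ := H.toCtx.Q_line hq
  have hw : q * wr E w i * q⁻¹ = wr E w ((σ : Equiv.Perm (Fin 5)) i) := by
    calc q * wr E w i * q⁻¹ = (q * w (E.r i) * q⁻¹) * (q * E.r i * q⁻¹) := by unfold wr; group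
      _ = _ := by rw [h1, h2]; rfl
  have hσi : (σ : Equiv.Perm (Fin 5)) i ≠ 0 := by
    intro h3
    exact hi ((σ : Equiv.Perm (Fin 5)).injective (h3.trans hσ.symm))
  obtain ⟨ζ, hζ, h3⟩ := H.toCtx.Γ_Q (H.le hy) hq
  -- `q y q⁻¹ = y ζ⁻¹`-ish
  have h4 : q * y * q⁻¹ = ζ⁻¹ * y := by
    have h5 : y * q = q * ζ * y := by rw [← h3]; group
    have h6 : q * y = ζ⁻¹ * y * q := by
      calc q * y = (q * ζ⁻¹) * (ζ * y) := by group
        _ = ζ⁻¹ * (q * ζ * y) := by rw [H.toCtx.Q_Zh hq (inv_mem hζ)]; group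
        _ = ζ⁻¹ * y * q := by rw [← h5]; group
    rw [h6]; group
  have e : q * (y * wr E w i * y⁻¹ * wr E w i) * q⁻¹ =
      (q * y * q⁻¹) * (q * wr E w i * q⁻¹) * (q * y * q⁻¹)⁻¹ * (q * wr E w i * q⁻¹) := by group
  rw [e, hw, h4, H.K_eq hy hi hσi]
  have h5 : ζ⁻¹ * (y * wr E w ((σ : Equiv.Perm (Fin 5)) i) * y⁻¹) =
      (y * wr E w ((σ : Equiv.Perm (Fin 5)) i) * y⁻¹) * ζ⁻¹ :=
    H.toC0.Vs_comm (inv_mem (Zh_le_Vs hζ)) (H.y_Vs hy (wr_Vs _))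
  calc ζ⁻¹ * y * wr E w ((σ : Equiv.Perm (Fin 5)) i) * (ζ⁻¹ * y)⁻¹ * wr E w ((σ : Equiv.Perm (Fin 5)) i)
      = ζ⁻¹ * (y * wr E w ((σ : Equiv.Perm (Fin 5)) i) * y⁻¹) * ζ * wr E w ((σ : Equiv.Perm (Fin 5)) i) := by group
    _ = _ := by rw [h5]; group

theorem K_mul {y y' : X} (hy : y ∈ Qw) (hy' : y' ∈ Qw) {i : Fin 5} (hi : i ≠ 0) :
    y * y' * wr E w i * (y * y')⁻¹ * wr E w i =
      (y * wr E w i * y⁻¹ * wr E w i) * (y' * wr E w i * y'⁻¹ * wr E w i) := by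
  have h1 := H.K_Zh hy' hi
  have h2 := H.toC0.Vs_sq (wr_Vs (E := E) (w := w) i)
  have h3 : y' * wr E w i * y'⁻¹ = (y' * wr E w i * y'⁻¹ * wr E w i) * wr E w i := by
    rw [mul_assoc (y' * wr E w i * y'⁻¹), h2, mul_one]
  have h4 := H.toCtx.Γ_Zh (H.le hy) h1
  have h5 := H.toC0.Vs_comm (Zh_le_Vs h1) (H.K_Vs hy i)
  calc y * y' * wr E w i * (y * y')⁻¹ * wr E w i = y * (y' * wr E w i * y'⁻¹) * y⁻¹ * wr E w i := by group
    _ = y * ((y' * wr E w i * y'⁻¹ * wr E w i) * wr E w i) * y⁻¹ * wr E w i := by rw [← h3]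
    _ = (y * (y' * wr E w i * y'⁻¹ * wr E w i)) * wr E w i * y⁻¹ * wr E w i := by group
    _ = (y' * wr E w i * y'⁻¹ * wr E w i) * (y * wr E w i * y⁻¹ * wr E w i) := by rw [h4]; group
    _ = _ := h5

theorem K_UQ {y m : X} (hy : y ∈ Qw) (hm : m ∈ E.Q) (hmU : m ∈ E.U) (h : Ov E w y m) (i : Fin 5) :
    y * wr E w i * y⁻¹ * wr E w i = 1 := by
  rw [H.toCtx.Y_cent (H.le hy) hm hmU h (wr_Vs i), mul_inv_cancel_right, H.toC0.Vs_sq (wr_Vs i)]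

theorem K_l {k : alternatingGroup (Fin 5)} (h0 : (k : Equiv.Perm (Fin 5)) 0 = 0) {i : Fin 5}
    (hk : (k : Equiv.Perm (Fin 5)) i = i) (hi : i ≠ 0) {y : X} (hy : y ∈ Qw) :
    E.l k * y * (E.l k)⁻¹ ∈ Qw ∧
    (E.l k * y * (E.l k)⁻¹) * wr E w i * (E.l k * y * (E.l k)⁻¹)⁻¹ * wr E w i =
      y * wr E w i * y⁻¹ * wr E w i := by
  have h1 : E.l k * E.r 0 = E.r 0 * E.l k := by
    apply comm_of_conj
    rw [E.l_r, h0]
  refine ⟨H.D_conj _ (E.l_mem k) h1 y hy, ?_⟩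
  have h2 : E.l k * wr E w i * (E.l k)⁻¹ = wr E w i := by
    calc E.l k * wr E w i * (E.l k)⁻¹ = (E.l k * w (E.r i) * (E.l k)⁻¹) * (E.l k * E.r i * (E.l k)⁻¹) := by
          unfold wr; group
      _ = _ := by rw [H.toC0.l_W, E.l_r, hk]; rfl
  have h3 := H.toCtx.D_Zh (E.l_mem k) h1 (H.K_Zh hy hi)
  calc (E.l k * y * (E.l k)⁻¹) * wr E w i * (E.l k * y * (E.l k)⁻¹)⁻¹ * wr E w i
      = (E.l k * y * (E.l k)⁻¹) * (E.l k * wr E w i * (E.l k)⁻¹) * (E.l k * y * (E.l k)⁻¹)⁻¹ *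
        (E.l k * wr E w i * (E.l k)⁻¹) := by rw [h2]
    _ = E.l k * (y * wr E w i * y⁻¹ * wr E w i) * (E.l k)⁻¹ := by group
    _ = _ := by rw [h3]; group

end ZCtx

/-- the 3-cycle `(2 3 4)` -/
def kk : alternatingGroup (Fin 5) :=
  ⟨Equiv.swap 2 3 * Equiv.swap 3 4, Equiv.Perm.mem_alternatingGroup.mpr (sign_swap_swap (by decide) (by decide))⟩

theorem kk_val : (kk : Equiv.Perm (Fin 5)) = Equiv.swap 2 3 * Equiv.swap 3 4 := rfl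

theorem dec_comm : ∀ σ : Equiv.Perm (Fin 5), σ 0 = 0 → σ * σ = 1 → Equiv.Perm.sign σ = 1 →
    ∃ a b c d : Fin 5, (a ≠ b ∧ c ≠ d ∨ a = b ∧ c = d) ∧ (Equiv.swap a b * Equiv.swap c d) 0 = 0 ∧
    (Equiv.swap a b * Equiv.swap c d) * (Equiv.swap a b * Equiv.swap c d) = 1 ∧
    σ = (Equiv.swap 2 3 * Equiv.swap 3 4) * (Equiv.swap a b * Equiv.swap c d) *
      (Equiv.swap 2 3 * Equiv.swap 3 4)⁻¹ * (Equiv.swap a b * Equiv.swap c d)⁻¹ := by decide +kernel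

theorem exists_comm {σ : alternatingGroup (Fin 5)} (hσ : IsKlein σ) :
    ∃ τ : alternatingGroup (Fin 5), IsKlein τ ∧ σ = kk * τ * kk⁻¹ * τ⁻¹ := by
  obtain ⟨a, b, c, d, h1, h2, h3, h4⟩ := dec_comm σ.1 hσ.1 hσ.2 (Equiv.Perm.mem_alternatingGroup.mp σ.2)
  have hs : Equiv.Perm.sign (Equiv.swap a b * Equiv.swap c d) = 1 := by
    rcases h1 with ⟨h1, h1'⟩ | ⟨rfl, rfl⟩
    · exact sign_swap_swap h1 h1'
    · simp
  refine ⟨⟨_, Equiv.Perm.mem_alternatingGroup.mpr hs⟩, ⟨h2, h3⟩, ?_⟩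
  apply Subtype.ext
  exact h4

namespace ZCtx

variable {Qh Γ Qw : Subgroup X} (H : ZCtx E w Qh Γ Qw)

include H

/-- **`Q_w` centralizes `w'_i`.** -/
theorem comm_wr {y : X} (hy : y ∈ Qw) (i : Fin 5) : y * wr E w i = wr E w i * y := by
  have hyw : y * w (E.r 0) = w (E.r 0) * y := H.toCtx.Γ_Zh (H.le hy) w_Zh
  have hyr : y * E.r 0 = E.r 0 * y := H.toCtx.Γ_Zh (H.le hy) r_Zh
  by_cases hi : i = 0
  · subst hi
    unfold wr
    rw [← mul_assoc, hyw, mul_assoc, hyr, mul_assoc]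
  -- reduce to `i = 1`
  suffices h : y * wr E w 1 * y⁻¹ * wr E w 1 = 1 by
    rw [← H.K_eq hy hi (by decide : (1 : Fin 5) ≠ 0)] at h
    have h2 := H.toC0.Vs_sq (wr_Vs (E := E) (w := w) i)
    have h3 : y * wr E w i * y⁻¹ = wr E w i := by
      calc y * wr E w i * y⁻¹ = (y * wr E w i * y⁻¹ * wr E w i) * (wr E w i)⁻¹ := by group
        _ = wr E w i := by rw [h, one_mul]; exact inv_eq_of_mul_eq_one_left h2
    exact comm_of_conj h3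
  have h1 : (1 : Fin 5) ≠ 0 := by decide
  obtain ⟨m, hm, hov⟩ := H.toCtx.exists_ov (H.le hy)
  obtain ⟨u, hu, σ, hσ, rfl⟩ := E.Q_gen m hm
  obtain ⟨τ, hτ, hστ⟩ := exists_comm hσ
  obtain ⟨x, hx, hxov⟩ := H.ex _ (E.l_Q τ hτ)
  have k0 : (kk : Equiv.Perm (Fin 5)) 0 = 0 := by decide
  have k1 : (kk : Equiv.Perm (Fin 5)) 1 = 1 := by decide
  obtain ⟨h2, h3⟩ := H.K_l k0 k1 h1 hx
  have hkr : E.l kk * E.r 0 = E.r 0 * E.l kk := by
    apply comm_of_conj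
    rw [E.l_r, k0]
  have h4 := H.toCtx.ov_conj (E.l_mem kk) hkr hxov
  have h5 := H.toCtx.ov_inv (H.le hx) (E.l_Q τ hτ) hxov
  have h6 := H.toCtx.ov_mul (H.le h2) (inv_mem (E.l_Q τ hτ)) h4 h5
  have h7 : E.l kk * E.l τ * (E.l kk)⁻¹ * (E.l τ)⁻¹ = E.l σ := by
    rw [hστ]; simp only [map_mul, map_inv]
  rw [h7] at h6
  set x' := E.l kk * x * (E.l kk)⁻¹ * x⁻¹ with hx'
  have hx'Q : x' ∈ Qw := mul_mem h2 (inv_mem hx)
  have hlσ := E.l_Q σ hσ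
  have h8 := H.toCtx.ov_mul (H.le hy) (inv_mem hlσ) hov (H.toCtx.ov_inv (H.le hx'Q) hlσ h6)
  rw [mul_inv_cancel_right] at h8
  have h9 := H.K_UQ (mul_mem hy (inv_mem hx'Q)) hu.2 hu.1 h8 1
  have h10 := H.K_mul (mul_mem hy (inv_mem hx'Q)) hx'Q h1
  rw [h9, one_mul, inv_mul_cancel_right] at h10
  rw [h10, hx', H.K_mul h2 (inv_mem hx) h1, h3, ← H.K_mul hx (inv_mem hx) h1, mul_inv_cancel, inv_one, one_mul,
    mul_one, H.toC0.Vs_sq (wr_Vs 1)]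

end ZCtx

end Cfsg.Agent.UFiveTwo.Zero
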