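import Cfsg.Agent.UFiveTwo.ZeroMain
import Cfsg.Agent.UFiveTwo.BigS
import Mathlib.GroupTheory.Subgroup.Simple

/-!
# S1778, type `U₅(2)`, world `ε = 0` (V): output
-/

set_option autoImplicit false

namespace Cfsg.Agent.UFiveTwo.Zero

open Subgroup Cfsg.Agent.UFiveTwo.Line Cfsg.Agent.UFiveTwo.Big Cfsg.Agent.UFiveTwo.Hat Cfsg.Agent.UFiveTwo.HatC
open Cfsg.Agent.WreathFusion
open scoped commutatorElement

universe u

variable {X : Type u} [Group X] {A : Subgroup X} {t : X} {E : Env A t} {w : X → X}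

theorem gen_of_simple (F : Flag A) [hs : IsSimpleGroup A] : A ≤ closure {x | ∃ a ∈ A, x = a * F.r 0 * a⁻¹} := by
  set N := closure {x | ∃ a ∈ A, x = a * F.r 0 * a⁻¹} with hN
  have hr : F.r 0 ∈ N := subset_closure ⟨1, one_mem _, by group⟩
  have hnorm : (N.subgroupOf A).Normal := by
    constructor
    rintro ⟨n, hn⟩ hnN ⟨a, ha⟩
    rw [mem_subgroupOf] at hnN ⊢
    change n ∈ N at hnN
    change a * n * a⁻¹ ∈ N
    have : N ≤ N.comap (MulAut.conj a).toMonoidHom := by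
      conv_lhs => rw [hN]
      rw [closure_le]
      rintro _ ⟨b, hb, rfl⟩
      change a * (b * F.r 0 * b⁻¹) * a⁻¹ ∈ N
      exact subset_closure ⟨a * b, mul_mem ha hb, by group⟩
    exact this hnN
  rcases hs.eq_bot_or_eq_top_of_normal _ hnorm with h | h
  · exfalso
    have h1 : (⟨F.r 0, F.r_mem 0⟩ : A) ∈ N.subgroupOf A := by rw [mem_subgroupOf]; exact hr
    rw [h, mem_bot] at h1
    exact F.r_ne (congrArg Subtype.val h1)
  · intro a ha
    have h1 : (⟨a, ha⟩ : A) ∈ N.subgroupOf A := by rw [h]; exact mem_top _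
    exact mem_subgroupOf.1 h1

theorem cent_of_simple (E : Env A t) [hs : IsSimpleGroup A] : ∀ z ∈ A, (∀ a ∈ A, z * a = a * z) → z = 1 := by
  intro z hz hc
  have h1 : (⟨z, hz⟩ : A) ∈ center A := by
    rw [mem_center_iff]
    rintro ⟨a, ha⟩
    exact Subtype.ext (hc a ha).symm
  rcases hs.eq_bot_or_eq_top_of_normal (center A) inferInstance with h | h
  · rw [h, mem_bot] at h1
    exact congrArg Subtype.val h1
  · exfalso
    have h2 : (⟨E.r 0, E.r_mem 0⟩ : A) ∈ center A := by rw [h]; exact mem_top _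
    obtain ⟨σ, hσ, -⟩ := exists_trans_one (0 : Fin 5) 1 |>.imp fun σ h => (⟨h, trivial⟩ : _ ∧ True)
    have h3 := congrArg Subtype.val (mem_center_iff.1 h2 ⟨E.l σ, E.l_mem σ⟩)
    change E.l σ * E.r 0 = E.r 0 * E.l σ at h3
    have h4 := E.l_r σ 0
    rw [h3, mul_inv_cancel_right, hσ] at h4
    exact absurd (E.r_inj h4) (by decide)

/-- **Output of the world `ε = 0`.** -/
theorem exists_splitS [Finite X] [IsSimpleGroup A] (P : Pts E w) (C : CaseZero E w)
    (hε : ∀ m ∈ (hatC P C).Q, ∀ n ∈ (hatC P C).Q, (hatC P C).B m n = 0) (G : FlagGeo A E.toFlag) :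
    ∃ S1, SplitS A t (A1 E w) (E.U ⊔ E.Q) S1 := by
  have H := zctx P C hε
  have hsp : Split A t (A1 E w) := H.split G (gen_of_simple E.toFlag) (cent_of_simple E)
  have hS : IsPGroup 2 ↥(E.U ⊔ E.Q) :=
    (H.toCtx.isPGroup_S0).to_le (sup_le H.toCtx.U_le_S0 H.toCtx.Q_le_S0)
  obtain ⟨S1, h1, h2, h3, h4, h5⟩ := hsp.exists_S1 hS (sup_le E.U_le E.Q_le)
  exact ⟨S1, hsp, h1, h2, h3, h4, h5⟩

end Cfsg.Agent.UFiveTwo.Zero
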