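import Cfsg.Agent.UFiveTwo.ZeroComm

/-!
# S1778, type `U₅(2)`, world `ε = 0` (II): `[w_p, w_q r_q] = 1` for all points `p`, `q`
-/

set_option autoImplicit false

namespace Cfsg.Agent.UFiveTwo

open Subgroup

universe u

/-- Facts on the points of the unitary space of `A ≅ PSU₅(2)`, in terms of the transvections `a * r 0 * a⁻¹`. -/
structure FlagGeo {X : Type u} [Group X] (A : Subgroup X) (F : Flag A) : Prop where
  /-- every point is collinear with a point of the line -/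
  perp : ∀ a ∈ A, ∃ i, (a * F.r 0 * a⁻¹) * F.r i = F.r i * (a * F.r 0 * a⁻¹)
  /-- the stabilizer of `r 0` is transitive on the lines through `r 0` -/
  coll : ∀ a ∈ A, (a * F.r 0 * a⁻¹) * F.r 0 = F.r 0 * (a * F.r 0 * a⁻¹) →
    ∃ d ∈ A, d * F.r 0 = F.r 0 * d ∧ ∃ i, a * F.r 0 * a⁻¹ = d * F.r i * d⁻¹

end Cfsg.Agent.UFiveTwo

namespace Cfsg.Agent.UFiveTwo.Zero

open Subgroup Cfsg.Agent.UFiveTwo.Line Cfsg.Agent.UFiveTwo.Big

universe u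

variable {X : Type u} [Group X] {A : Subgroup X} {t : X} {E : Env A t} {w : X → X}

/-- conjugation of a commutation -/
theorem conj_comm {x y b : X} (h : (b⁻¹ * x * b) * (b⁻¹ * y * b) = (b⁻¹ * y * b) * (b⁻¹ * x * b)) :
    x * y = y * x := by
  have h1 : b⁻¹ * (x * y) * b = b⁻¹ * (y * x) * b := by
    calc b⁻¹ * (x * y) * b = (b⁻¹ * x * b) * (b⁻¹ * y * b) := by group
      _ = _ := by rw [h]; group
  exact mul_left_cancel (mul_right_cancel h1)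

theorem conj_comm' {x y b : X} (h : x * y = y * x) : (b * x * b⁻¹) * (b * y * b⁻¹) = (b * y * b⁻¹) * (b * x * b⁻¹) := by
  calc (b * x * b⁻¹) * (b * y * b⁻¹) = b * (x * y) * b⁻¹ := by group
    _ = _ := by rw [h]; group

/-- `w' s = w s * s` -/
def wp (w : X → X) (s : X) : X := w s * s

theorem wp_conj (P : Pts E w) {a b : X} (ha : a ∈ A) (hb : b ∈ A) :
    b * wp w (a * E.r 0 * a⁻¹) * b⁻¹ = wp w (b * (a * E.r 0 * a⁻¹) * b⁻¹) := by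
  have h := P.w_conj a ha b hb
  unfold wp
  rw [← h]; group

theorem wp_r (i : Fin 5) : wp w (E.r i) = ZCtx.wr E w i := rfl

namespace ZCtx

variable {Qh Γ Qw : Subgroup X} (H : ZCtx E w Qh Γ Qw) (G : FlagGeo A E.toFlag)

include H

theorem form (i : Fin 5) : ∃ a ∈ A, E.r i = a * E.r 0 * a⁻¹ := by
  obtain ⟨σ, -, h⟩ := H.toC0.form i
  exact ⟨_, E.l_mem σ, h⟩

include G

theorem comm_near {y a : X} (hy : y ∈ Qw) (ha : a ∈ A)
    (h : (a * E.r 0 * a⁻¹) * E.r 0 = E.r 0 * (a * E.r 0 * a⁻¹)) :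
    y * wp w (a * E.r 0 * a⁻¹) = wp w (a * E.r 0 * a⁻¹) * y := by
  obtain ⟨d, hd, hd0, i, h1⟩ := G.coll a ha h
  obtain ⟨c, hc, h2⟩ := H.form i
  have h3 : wp w (a * E.r 0 * a⁻¹) = d * wr E w i * d⁻¹ := by
    rw [h1, h2, ← wp_conj H.pts hc hd, ← h2]; rfl
  have h4 : d⁻¹ * y * d ∈ Qw := by
    have := H.D_conj d⁻¹ (inv_mem hd) (comm_inv hd0) y hy
    rwa [inv_inv] at this
  have h5 := conj_comm' (b := d) (H.comm_wr h4 i)
  have h6 : d * (d⁻¹ * y * d) * d⁻¹ = y := by group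
  rw [h6] at h5
  rw [h3]; exact h5

theorem comm_near' {y a b : X} (hy : y ∈ Qw) (ha : a ∈ A) (hb : b ∈ A)
    (h : (a * E.r 0 * a⁻¹) * (b * E.r 0 * b⁻¹) = (b * E.r 0 * b⁻¹) * (a * E.r 0 * a⁻¹)) :
    (b * y * b⁻¹) * wp w (a * E.r 0 * a⁻¹) = wp w (a * E.r 0 * a⁻¹) * (b * y * b⁻¹) := by
  have e : b⁻¹ * (a * E.r 0 * a⁻¹) * b = (b⁻¹ * a) * E.r 0 * (b⁻¹ * a)⁻¹ := by group
  have h1 : ((b⁻¹ * a) * E.r 0 * (b⁻¹ * a)⁻¹) * E.r 0 = E.r 0 * ((b⁻¹ * a) * E.r 0 * (b⁻¹ * a)⁻¹) := by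
    have := conj_comm' (b := b⁻¹) h
    rw [inv_inv, e] at this
    have e2 : b⁻¹ * (b * E.r 0 * b⁻¹) * b = E.r 0 := by group
    rwa [e2] at this
  have h2 := H.comm_near G hy (mul_mem (inv_mem hb) ha) h1
  have h3 := wp_conj H.pts (mul_mem (inv_mem hb) ha) hb
  have e3 : b * ((b⁻¹ * a) * E.r 0 * (b⁻¹ * a)⁻¹) * b⁻¹ = a * E.r 0 * a⁻¹ := by group
  rw [e3] at h3
  rw [← h3]
  exact conj_comm' h2

omit G in
theorem r34 : E.r 3 * E.r 4 = E.r 1 * E.r 2 * E.r 0 := by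
  have h1 := H.toC0.R5r.five (i := 3) (j := 4) (k := 1) (l := 2) (m := 0) (by decide)
  have h2 : E.r 3 * E.r 4 * (E.r 1 * E.r 2 * E.r 0) = 1 := by rw [← h1]; group
  have h3 : E.r 1 * E.r 2 * E.r 0 * (E.r 1 * E.r 2 * E.r 0) = 1 :=
    E.V_sq (mul_mem (mul_mem (E.r_V 1) (E.r_V 2)) (E.r_V 0))
  rw [eq_inv_of_mul_eq_one_left h2, eq_comm, eq_inv_iff_mul_eq_one, h3]

/-- for a far point `q` and the line of the flag -/
theorem exists_pair {a : X} (ha : a ∈ A) (hn : (a * E.r 0 * a⁻¹) * E.r 0 ≠ E.r 0 * (a * E.r 0 * a⁻¹)) :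
    ∃ y ∈ Qw, ∃ m ∈ E.Q, Ov E w y m ∧ (m = E.r 1 * E.r 2 ∨ m = E.r 1 * E.r 2 * E.r 0) ∧
      y * wp w (a * E.r 0 * a⁻¹) = wp w (a * E.r 0 * a⁻¹) * y := by
  obtain ⟨i, hi⟩ := G.perp a ha
  have hi0 : i ≠ 0 := by
    rintro rfl
    exact hn hi
  obtain ⟨j, k, hj, hk, hjk, hji, hki, hm⟩ : ∃ j k : Fin 5, j ≠ 0 ∧ k ≠ 0 ∧ j ≠ k ∧ j ≠ i ∧ k ≠ i ∧
      (E.r j * E.r k = E.r 1 * E.r 2 ∨ E.r j * E.r k = E.r 1 * E.r 2 * E.r 0) := by
    have h4 : (i = 1 ∨ i = 2) ∨ (i = 3 ∨ i = 4) := by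
      revert hi0; clear hi; revert i; decide
    rcases h4 with h4 | h4
    · refine ⟨3, 4, by decide, by decide, by decide, ?_, ?_, Or.inr H.r34⟩ <;>
      · rcases h4 with rfl | rfl <;> decide
    · refine ⟨1, 2, by decide, by decide, by decide, ?_, ?_, Or.inl rfl⟩ <;>
      · rcases h4 with rfl | rfl <;> decide
  refine ⟨w (E.r j) * w (E.r k), H.ww j k hj hk hjk, E.r j * E.r k, E.rr_Q j k hj hk, H.toCtx.WW_ov, hm, ?_⟩
  -- move `0` to `i`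
  obtain ⟨σ, hσ, h1⟩ := H.toC0.form i
  set j' := (σ⁻¹ : alternatingGroup (Fin 5)).1 j with hj'
  set k' := (σ⁻¹ : alternatingGroup (Fin 5)).1 k with hk'
  have ej : (σ : Equiv.Perm (Fin 5)) j' = j := by
    rw [hj']; exact (σ : Equiv.Perm (Fin 5)).apply_symm_apply j
  have ek : (σ : Equiv.Perm (Fin 5)) k' = k := by
    rw [hk']; exact (σ : Equiv.Perm (Fin 5)).apply_symm_apply k
  have hj0 : j' ≠ 0 := by
    intro h; rw [h] at ej; exact hji (ej.symm.trans hσ)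
  have hk0 : k' ≠ 0 := by
    intro h; rw [h] at ek; exact hki (ek.symm.trans hσ)
  have hjk' : j' ≠ k' := by
    intro h; apply hjk; rw [← ej, ← ek, h]
  have h2 : w (E.r j) * w (E.r k) = E.l σ * (w (E.r j') * w (E.r k')) * (E.l σ)⁻¹ := by
    calc w (E.r j) * w (E.r k) = (E.l σ * w (E.r j') * (E.l σ)⁻¹) * (E.l σ * w (E.r k') * (E.l σ)⁻¹) := by
          rw [H.toC0.l_W, H.toC0.l_W, ej, ek]
      _ = _ := by group
  rw [h2]
  apply H.comm_near' G (H.ww j' k' hj0 hk0 hjk') ha (E.l_mem σ)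
  rw [← h1]; exact hi

theorem comm_far {a : X} (ha : a ∈ A) (hn : (a * E.r 0 * a⁻¹) * E.r 0 ≠ E.r 0 * (a * E.r 0 * a⁻¹)) :
    w (E.r 0) * wp w (a * E.r 0 * a⁻¹) = wp w (a * E.r 0 * a⁻¹) * w (E.r 0) := by
  obtain ⟨d, hd, hd0, hp⟩ := E.Q_pair
  obtain ⟨y, hy, m, hm, hov, hm', hc⟩ := H.exists_pair G ha hn
  have e : d⁻¹ * (a * E.r 0 * a⁻¹) * d = (d⁻¹ * a) * E.r 0 * (d⁻¹ * a)⁻¹ := by group
  have e3 : d * ((d⁻¹ * a) * E.r 0 * (d⁻¹ * a)⁻¹) * d⁻¹ = a * E.r 0 * a⁻¹ := by group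
  have e4 : d * E.r 0 * d⁻¹ = E.r 0 := conj_eq hd0
  have hn' : ((d⁻¹ * a) * E.r 0 * (d⁻¹ * a)⁻¹) * E.r 0 ≠ E.r 0 * ((d⁻¹ * a) * E.r 0 * (d⁻¹ * a)⁻¹) := by
    intro h
    have := conj_comm' (b := d) h
    rw [e3, e4] at this
    exact hn this
  obtain ⟨y', hy', m', hm1, hov', hm1', hc'⟩ := H.exists_pair G (mul_mem (inv_mem hd) ha) hn'
  have h2 := H.D_conj d hd hd0 y' hy'
  have h3 := H.toCtx.ov_conj hd hd0 hov'
  have h4 : (d * y' * d⁻¹) * wp w (a * E.r 0 * a⁻¹) = wp w (a * E.r 0 * a⁻¹) * (d * y' * d⁻¹) := by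
    have h5 := conj_comm' (b := d) hc'
    rwa [wp_conj H.pts (mul_mem (inv_mem hd) ha) hd, e3] at h5
  have hQ : d * m' * d⁻¹ ∈ E.Q := E.Q_conj d hd hd0 m' hm1
  -- `m` and `d m' d⁻¹` do not commute
  have hx := E.rr_Q 1 2 (by decide) (by decide)
  have hdx := E.Q_conj d hd hd0 _ hx
  have hne : m * (d * m' * d⁻¹) ≠ (d * m' * d⁻¹) * m := by
    intro h
    -- replace `m`
    have h5 : (E.r 1 * E.r 2) * (d * m' * d⁻¹) = (d * m' * d⁻¹) * (E.r 1 * E.r 2) := by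
      rcases hm' with rfl | rfl
      · exact h
      · have h6 := E.Q_r _ hQ
        apply mul_right_cancel (b := E.r 0)
        calc E.r 1 * E.r 2 * (d * m' * d⁻¹) * E.r 0 = E.r 1 * E.r 2 * E.r 0 * (d * m' * d⁻¹) := by
              rw [mul_assoc, h6, ← mul_assoc]
          _ = d * m' * d⁻¹ * (E.r 1 * E.r 2) * E.r 0 := by rw [h]; group
    have h6 : (E.r 1 * E.r 2) * (d * (E.r 1 * E.r 2) * d⁻¹) = (d * (E.r 1 * E.r 2) * d⁻¹) * (E.r 1 * E.r 2) := by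
      rcases hm1' with rfl | rfl
      · exact h5
      · have h7 : d * (E.r 1 * E.r 2 * E.r 0) * d⁻¹ = (d * (E.r 1 * E.r 2) * d⁻¹) * E.r 0 := by
          calc d * (E.r 1 * E.r 2 * E.r 0) * d⁻¹ = (d * (E.r 1 * E.r 2) * d⁻¹) * (d * E.r 0 * d⁻¹) := by group
            _ = _ := by rw [e4]
        rw [h7] at h5
        have h8 := E.Q_r _ hx
        apply mul_right_cancel (b := E.r 0)
        calc E.r 1 * E.r 2 * (d * (E.r 1 * E.r 2) * d⁻¹) * E.r 0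
            = E.r 1 * E.r 2 * (d * (E.r 1 * E.r 2) * d⁻¹ * E.r 0) := by group
          _ = d * (E.r 1 * E.r 2) * d⁻¹ * (E.r 0 * (E.r 1 * E.r 2)) := by rw [h5]; group
          _ = _ := by rw [← h8]; group
    rw [h6, mul_inv_cancel_right, mul_inv_cancel] at hp
    exact E.r_ne hp.symm
  have h5 := H.nc y hy _ h2 m hm _ hQ hov h3 hne
  have h6 : w (E.r 0) = (d * y' * d⁻¹ * y)⁻¹ * (y * (d * y' * d⁻¹)) := by rw [h5]; group
  have hcy : Commute y (wp w (a * E.r 0 * a⁻¹)) := hc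
  have hcy' : Commute (d * y' * d⁻¹) (wp w (a * E.r 0 * a⁻¹)) := h4
  rw [h6]
  exact ((hcy'.mul_left hcy).inv_left.mul_left (hcy.mul_left hcy')).eq

/-- **`w (r 0)` commutes with all `w' s`.** -/
theorem comm_all {a : X} (ha : a ∈ A) :
    w (E.r 0) * wp w (a * E.r 0 * a⁻¹) = wp w (a * E.r 0 * a⁻¹) * w (E.r 0) := by
  by_cases hn : (a * E.r 0 * a⁻¹) * E.r 0 = E.r 0 * (a * E.r 0 * a⁻¹)
  · exact H.comm_near G H.w_mem ha hn
  · exact H.comm_far G ha hn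

/-- **`[w s, w' s'] = 1` for all transvections `s`, `s'`.** -/
theorem comm_w {a b : X} (ha : a ∈ A) (hb : b ∈ A) :
    w (b * E.r 0 * b⁻¹) * wp w (a * E.r 0 * a⁻¹) = wp w (a * E.r 0 * a⁻¹) * w (b * E.r 0 * b⁻¹) := by
  have h1 := H.comm_all G (mul_mem (inv_mem hb) ha)
  have h2 := conj_comm' (b := b) h1
  have h3 := H.pts.w_conj 1 (one_mem _) b hb
  have e1 : (1 : X) * E.r 0 * 1⁻¹ = E.r 0 := by group
  rw [e1] at h3
  have e3 : b * ((b⁻¹ * a) * E.r 0 * (b⁻¹ * a)⁻¹) * b⁻¹ = a * E.r 0 * a⁻¹ := by group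
  rwa [wp_conj H.pts (mul_mem (inv_mem hb) ha) hb, e3, h3] at h2

end ZCtx

end Cfsg.Agent.UFiveTwo.Zero
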