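import Cfsg.Agent.UFiveTwo.ZeroFar
import Cfsg.Agent.UFiveTwo.ZeroSplit
import Cfsg.Agent.UFiveTwo.QHatZero
import Cfsg.Agent.UFiveTwo.QHatOut

/-!
# S1778, type `U₅(2)`, world `ε = 0` (IV): the groups `A₁ = ⟨w_p⟩`, `A₁ᵗ`
-/

set_option autoImplicit false

namespace Cfsg.Agent.UFiveTwo.Zero

open Subgroup Cfsg.Agent.UFiveTwo.Line Cfsg.Agent.UFiveTwo.Big
open scoped commutatorElement

universe u

variable {X : Type u} [Group X] {A : Subgroup X} {t : X} {E : Env A t} {w : X → X}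

/-- `A₁ = ⟨w s⟩`, `s` the transvections of `A`. -/
def A1 (E : Env A t) (w : X → X) : Subgroup X := closure {x | ∃ a ∈ A, x = w (a * E.r 0 * a⁻¹)}

theorem w_A1 {a : X} (ha : a ∈ A) : w (a * E.r 0 * a⁻¹) ∈ A1 E w := subset_closure ⟨a, ha, rfl⟩

/-- `t w_s t = w_s s` -/
theorem t_w_t (P : Pts E w) {a : X} (ha : a ∈ A) : t * w (a * E.r 0 * a⁻¹) * t = wp w (a * E.r 0 * a⁻¹) := by
  have h1 := P.w_t a ha
  have h2 := P.w_sq a ha
  have h3 : t * (a * E.r 0 * a⁻¹) = (a * E.r 0 * a⁻¹) * t :=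
    E.t_A _ (mul_mem (mul_mem ha (E.r_mem 0)) (inv_mem ha))
  unfold wp
  set W := w (a * E.r 0 * a⁻¹)
  set s := a * E.r 0 * a⁻¹
  calc t * W * t = (W * W) * (t * W) * t := by rw [h2, one_mul]
    _ = W * (W * t * W) * t := by group
    _ = W * (t * s * t) := by rw [h1]; group
    _ = W * s := by rw [h3, mul_assoc, E.t_sq, mul_one]

theorem t_inv (E : Env A t) : t⁻¹ = t := inv_eq_of_mul_eq_one_left E.t_sq

namespace ZCtx

variable {Qh Γ Qw : Subgroup X} (H : ZCtx E w Qh Γ Qw) (G : FlagGeo A E.toFlag)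

include H G

theorem comm_A1 {x y : X} (hx : x ∈ A1 E w) (hy : y ∈ A1 E w) : x * (t * y * t) = (t * y * t) * x := by
  have key : ∀ b ∈ A, A1 E w ≤ (centralizer {w (b * E.r 0 * b⁻¹)}).comap (MulAut.conj t).toMonoidHom := by
    intro b hb
    rw [A1, closure_le]
    rintro _ ⟨a, ha, rfl⟩
    change t * w (a * E.r 0 * a⁻¹) * t⁻¹ ∈ centralizer {w (b * E.r 0 * b⁻¹)}
    rw [t_inv E, t_w_t H.pts ha, mem_centralizer_singleton_iff]
    exact (H.comm_w G ha hb).symm
  have key2 : A1 E w ≤ centralizer {t * y * t} := by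
    rw [A1, closure_le]
    rintro _ ⟨b, hb, rfl⟩
    have h1 : t * y * t⁻¹ ∈ centralizer {w (b * E.r 0 * b⁻¹)} := key b hb hy
    rw [t_inv E, mem_centralizer_singleton_iff] at h1
    exact mem_centralizer_singleton_iff.2 h1.symm
  exact mem_centralizer_singleton_iff.1 (key2 hx)

theorem phi_mul {x y : X} (hx : x ∈ A1 E w) (hy : y ∈ A1 E w) :
    (x * y) * (t * (x * y) * t) = x * (t * x * t) * (y * (t * y * t)) := by
  have h := H.comm_A1 G hy hx
  have h2 : t * (x * y) * t = (t * x * t) * (t * y * t) := by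
    calc t * (x * y) * t = t * x * (1 * (y * t)) := by group
      _ = t * x * ((t * t) * (y * t)) := by rw [E.t_sq]
      _ = _ := by group
  rw [h2]
  calc (x * y) * ((t * x * t) * (t * y * t)) = x * (y * (t * x * t)) * (t * y * t) := by group
    _ = _ := by rw [h]; group

omit G in
theorem phi_w {a : X} (ha : a ∈ A) :
    w (a * E.r 0 * a⁻¹) * (t * w (a * E.r 0 * a⁻¹) * t) = a * E.r 0 * a⁻¹ := by
  rw [t_w_t H.pts ha]
  unfold wp
  rw [← mul_assoc, H.pts.w_sq a ha, one_mul]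

theorem diag {x : X} (hx : x ∈ A1 E w) : x * (t * x * t) ∈ A := by
  have h : x ∈ closure {x | ∃ a ∈ A, x = w (a * E.r 0 * a⁻¹)} := hx
  clear hx
  induction h using closure_induction with
  | mem x hx =>
    obtain ⟨a, ha, rfl⟩ := hx
    rw [H.phi_w ha]
    exact mul_mem (mul_mem ha (E.r_mem 0)) (inv_mem ha)
  | one => rw [one_mul, mul_one, E.t_sq]; exact one_mem _
  | mul x y hx hy h1 h2 =>
    rw [H.phi_mul G hx hy]
    exact mul_mem h1 h2
  | inv x hx h1 =>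
    have h2 := H.phi_mul G (inv_mem hx) hx
    rw [inv_mul_cancel, one_mul, mul_one, E.t_sq] at h2
    rw [eq_inv_of_mul_eq_one_left h2.symm]
    exact inv_mem h1

theorem onto (hgen : A ≤ closure {x | ∃ a ∈ A, x = a * E.r 0 * a⁻¹}) {a : X} (ha : a ∈ A) :
    ∃ x ∈ A1 E w, x * (t * x * t) = a := by
  have h := hgen ha
  induction h using closure_induction with
  | mem x hx =>
    obtain ⟨b, hb, rfl⟩ := hx
    exact ⟨_, w_A1 hb, H.phi_w hb⟩
  | one => exact ⟨1, one_mem _, by rw [one_mul, mul_one, E.t_sq]⟩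
  | mul x y hx hy h1 h2 =>
    have hsub : closure {x | ∃ a ∈ A, x = a * E.r 0 * a⁻¹} ≤ A := by
      rw [closure_le]
      rintro _ ⟨b, hb, rfl⟩
      exact mul_mem (mul_mem hb (E.r_mem 0)) (inv_mem hb)
    obtain ⟨x', hx', h3⟩ := h1 (hsub hx)
    obtain ⟨y', hy', h4⟩ := h2 (hsub hy)
    exact ⟨x' * y', mul_mem hx' hy', by rw [H.phi_mul G hx' hy', h3, h4]⟩
  | inv x hx h1 =>
    have hsub : closure {x | ∃ a ∈ A, x = a * E.r 0 * a⁻¹} ≤ A := by
      rw [closure_le]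
      rintro _ ⟨b, hb, rfl⟩
      exact mul_mem (mul_mem hb (E.r_mem 0)) (inv_mem hb)
    obtain ⟨x', hx', h3⟩ := h1 (hsub hx)
    refine ⟨x'⁻¹, inv_mem hx', ?_⟩
    have h2 := H.phi_mul G (inv_mem hx') hx'
    rw [inv_mul_cancel, one_mul, mul_one, E.t_sq, h3] at h2
    exact eq_inv_of_mul_eq_one_left h2.symm

/-- conjugation by `a = x xᵗ ∈ A` on `A₁` is conjugation by `x` -/
theorem conj_eq' {x y : X} (hx : x ∈ A1 E w) (hy : y ∈ A1 E w) :
    (x * (t * x * t)) * y * (x * (t * x * t))⁻¹ = x * y * x⁻¹ := by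
  have h := H.comm_A1 G hy hx
  calc (x * (t * x * t)) * y * (x * (t * x * t))⁻¹ = x * ((t * x * t) * y) * (t * x * t)⁻¹ * x⁻¹ := by group
    _ = _ := by rw [← h]; group

theorem perf (hgen : A ≤ closure {x | ∃ a ∈ A, x = a * E.r 0 * a⁻¹}) : A1 E w ≤ ⁅A1 E w, A1 E w⁆ := by
  -- `w (r 0)` is in the commutator subgroup
  have hw0 : w (E.r 0) ∈ A1 E w := by
    have := w_A1 (E := E) (w := w) (one_mem A)
    have e1 : (1 : X) * E.r 0 * 1⁻¹ = E.r 0 := by group
    rwa [e1] at this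
  have key : ∀ a ∈ A, w (a * E.r 0 * a⁻¹) * w (E.r 0) ∈ ⁅A1 E w, A1 E w⁆ := by
    intro a ha
    obtain ⟨x, hx, h1⟩ := H.onto G hgen ha
    have h2 := H.pts.w_conj 1 (one_mem _) a ha
    have e1 : (1 : X) * E.r 0 * 1⁻¹ = E.r 0 := by group
    rw [e1] at h2
    rw [← h2, ← h1, H.conj_eq' G hx hw0]
    have h3 : x * w (E.r 0) * x⁻¹ * w (E.r 0) = ⁅x, w (E.r 0)⁆ := by
      rw [commutatorElement_def, H.toC0.W_inv]
    rw [h3]
    exact commutator_mem_commutator hx hw0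
  have key' : ∀ i, w (E.r i) * w (E.r 0) ∈ ⁅A1 E w, A1 E w⁆ := by
    intro i
    obtain ⟨a, ha, h⟩ := H.form i
    rw [h]; exact key a ha
  have hN : w (E.r 0) ∈ ⁅A1 E w, A1 E w⁆ := by
    have h1 := mul_mem (mul_mem (key' 1) (key' 2)) (mul_mem (key' 3) (key' 4))
    have h2 := H.zero.prod
    have h3 := H.zero.comm
    have h4 := H.toC0.W_sq 0
    have e : w (E.r 1) * w (E.r 0) * (w (E.r 2) * w (E.r 0)) * (w (E.r 3) * w (E.r 0) * (w (E.r 4) * w (E.r 0))) =
        w (E.r 0) := by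
      have e1 : w (E.r 0) * (w (E.r 2) * w (E.r 0)) = w (E.r 2) := by
        rw [h3 2 0, ← mul_assoc, h4, one_mul]
      have e2 : w (E.r 0) * (w (E.r 4) * w (E.r 0)) = w (E.r 4) := by
        rw [h3 4 0, ← mul_assoc, h4, one_mul]
      calc w (E.r 1) * w (E.r 0) * (w (E.r 2) * w (E.r 0)) * (w (E.r 3) * w (E.r 0) * (w (E.r 4) * w (E.r 0)))
          = w (E.r 1) * (w (E.r 0) * (w (E.r 2) * w (E.r 0))) *
            (w (E.r 3) * (w (E.r 0) * (w (E.r 4) * w (E.r 0)))) := by group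
        _ = w (E.r 1) * w (E.r 2) * (w (E.r 3) * w (E.r 4)) := by rw [e1, e2]
        _ = (w (E.r 0))⁻¹ * (w (E.r 0) * w (E.r 1) * w (E.r 2) * w (E.r 3) * w (E.r 4)) := by group
        _ = w (E.r 0) := by rw [h2, mul_one, H.toC0.W_inv]
    rwa [e] at h1
  conv_lhs => rw [A1]
  rw [closure_le]
  rintro _ ⟨a, ha, rfl⟩
  have h1 := mul_mem (key a ha) hN
  have h4 := H.toC0.W_sq 0
  rwa [mul_assoc, h4, mul_one] at h1

/-- the kernel of `φ` contains no involution -/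
theorem ker_invol (hgen : A ≤ closure {x | ∃ a ∈ A, x = a * E.r 0 * a⁻¹})
    (hcent : ∀ z ∈ A, (∀ a ∈ A, z * a = a * z) → z = 1) {y : X} (hy : y ∈ A1 E w) (h : y * (t * y * t) = 1)
    (h2 : y * y = 1) : y = 1 := by
  have hyt : t * y * t = y := by
    have h3 := eq_inv_of_mul_eq_one_right h
    rw [h3]; exact inv_eq_of_mul_eq_one_left h2
  have hc1 : ∀ x ∈ A1 E w, x * y = y * x := by
    intro x hx
    have h3 := H.comm_A1 G hx hy
    rwa [hyt] at h3
  have hc2 : ∀ x ∈ A1 E w, y * (t * x * t) = (t * x * t) * y := fun x hx => H.comm_A1 G hy hx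
  have hcA : ∀ a ∈ A, y * a = a * y := by
    intro a ha
    obtain ⟨x, hx, rfl⟩ := H.onto G hgen ha
    have c1 : Commute y x := (hc1 x hx).symm
    have c2 : Commute y (t * x * t) := hc2 x hx
    exact (c1.mul_right c2).eq
  have hct : y * t = t * y := by
    calc y * t = (t * y * t) * t := by rw [hyt]
      _ = t * y * (t * t) := by group
      _ = t * y := by rw [E.t_sq, mul_one]
  have hw0 : w (E.r 0) ∈ A1 E w := by
    have := w_A1 (E := E) (w := w) (one_mem A)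
    have e1 : (1 : X) * E.r 0 * 1⁻¹ = E.r 0 := by group
    rwa [e1] at this
  have hyw := hc1 _ hw0
  obtain ⟨e, he, h3⟩ := E.cQ y hct fun q hq => hcA q (E.Q_le hq)
  rcases he with rfl | rfl
  · rcases h3 with h3 | h3
    · exact h3
    · exfalso
      rw [one_mul] at h3
      rw [h3] at hcA
      exact E.r_ne (hcent _ (E.r_mem 0) hcA)
  · exfalso
    rcases h3 with h3 | h3
    · rw [h3] at hyw
      exact H.toC0.wt_ne hyw
    · rw [h3] at hyw
      apply H.toC0.wt_ne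
      have h4 := H.toC0.r_W 0 0
      apply mul_right_cancel (b := E.r 0)
      calc w (E.r 0) * e * E.r 0 = w (E.r 0) * (e * E.r 0) := by group
        _ = e * (E.r 0 * w (E.r 0)) := by rw [hyw]; group
        _ = _ := by rw [h4]; group

theorem ker_odd [Finite X] (hgen : A ≤ closure {x | ∃ a ∈ A, x = a * E.r 0 * a⁻¹})
    (hcent : ∀ z ∈ A, (∀ a ∈ A, z * a = a * z) → z = 1) {x : X} (hx : x ∈ A1 E w) (h : x * (t * x * t) = 1) :
    Odd (orderOf x) := by
  by_contra hcon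
  rw [Nat.not_odd_iff_even] at hcon
  obtain ⟨k, hk⟩ := hcon
  have hpos := orderOf_pos x
  have htx : ∀ n : ℕ, t * x ^ n * t = (t * x * t) ^ n := by
    intro n
    have h2 := (MulAut.conj t).toMonoidHom.map_pow x n
    change t * x ^ n * t⁻¹ = (t * x * t⁻¹) ^ n at h2
    rwa [t_inv E] at h2
  have h1 : x ^ k = 1 := by
    apply H.ker_invol G hgen hcent (pow_mem hx k)
    · rw [htx, eq_inv_of_mul_eq_one_right h, inv_pow, mul_inv_cancel]
    · rw [← pow_add, ← hk, pow_orderOf_eq_one]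
  have h2 := Nat.le_of_dvd (by omega) (orderOf_dvd_of_pow_eq_one h1)
  omega

/-- **Main theorem of the world `ε = 0`.** -/
theorem split [Finite X] (hgen : A ≤ closure {x | ∃ a ∈ A, x = a * E.r 0 * a⁻¹})
    (hcent : ∀ z ∈ A, (∀ a ∈ A, z * a = a * z) → z = 1) : Split A t (A1 E w) where
  tt := E.t_sq
  comm _ hx _ hy := H.comm_A1 G hx hy
  perf := H.perf G hgen
  diag _ hx := H.diag G hx
  onto _ ha := H.onto G hgen ha
  ker _ hx h := H.ker_odd G hgen hcent hx h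
  cent := hcent

end ZCtx

end Cfsg.Agent.UFiveTwo.Zero

namespace Cfsg.Agent.UFiveTwo.Zero

open Subgroup Cfsg.Agent.UFiveTwo.Line Cfsg.Agent.UFiveTwo.Big Cfsg.Agent.UFiveTwo.Hat Cfsg.Agent.UFiveTwo.HatC

universe u

variable {X : Type u} [Group X] {A : Subgroup X} {t : X} {E : Env A t} {w : X → X}

/-- The context from section 6. -/
theorem zctx (P : Pts E w) (C : CaseZero E w)
    (hε : ∀ m ∈ (hatC P C).Q, ∀ n ∈ (hatC P C).Q, (hatC P C).B m n = 0) :
    ZCtx E w (hatC P C).Qh (hatC P C).Gm (hatC P C).Qw := by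
  have hfin : Finite (hatC P C).Q := finite_Q P C
  have hctx : Ctx E w (hatC P C).Qh (hatC P C).Gm := ⟨⟨P, C⟩, exists_QHat P C⟩
  have hQ : (hatC P C).Q = E.Q := rfl
  have hgood : ∀ y ∈ (hatC P C).Qw, ∀ m ∈ E.Q, Ov E w y m → ∃ n, (hatC P C).Good y n ∧
      (n = m ∨ n = m * E.r 0) := by
    intro y hy m hm hov
    obtain ⟨n, hn⟩ := exists_good ((hatC P C).Qw_le hy)
    refine ⟨n, hn, ?_⟩
    exact hctx.ov_unique hn.mQ hm (hctx.ov_of_mv hn.mv) hov
  refine ⟨hctx, (hatC P C).Qw_le_Gm, ?_, ?_, ?_, ?_, (hatC P C).w_Qw (hatC P C).exists_X, ?_⟩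
  · intro i j hi hj hij
    have h1 := gf_rr P C hi hj hij
    have h2 : (hatC P C).IsX (E.r i * E.r j) := by
      refine ⟨E.rr_Q i j hi hj, ?_, ?_, ?_⟩
      · exact E.V_sq (mul_mem (E.r_V i) (E.r_V j))
      · exact E.rr_ne_one hij
      · exact hctx.toC0.R5r.mul_ne hij
    have h3 := (hatC P C).g_Qw h2
    change gf E w (E.r i * E.r j) ∈ _ at h3
    rwa [h1] at h3
  · intro a ha ha0 y hy
    exact (hatC P C).C_Qw (mem_inf.2 ⟨ha, mem_centralizer_singleton_iff.2 ha0⟩) hy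
  · intro y hy y' hy'
    exact Qw_comm_Qz hε hy ((hatC P C).t_Qw hy')
  · intro m hm
    obtain ⟨y, hy, h⟩ := (hatC P C).exists_Qw_good hm
    exact ⟨y, hy, hctx.ov_of_mv h.mv⟩
  · intro y hy y' hy' m hm m' hm' h h' hne
    obtain ⟨n, hn, h1⟩ := hgood y hy m hm h
    obtain ⟨n', hn', h1'⟩ := hgood y' hy' m' hm' h'
    have h2 := Gm_comm hε ((hatC P C).Qw_le_Gm hy) ((hatC P C).Qw_le_Gm hy') hn hn'
    have h3 : (hatC P C).b n n' = 1 := by
      have e1 : (hatC P C).b n n' = (hatC P C).b m m' := by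
        have e2 : (hatC P C).b n n' = (hatC P C).b m n' := by
          rcases h1 with rfl | rfl
          · rfl
          · have := (hatC P C).b_mul_zp hm hn'.mQ 1
            rwa [zp_one] at this
        rw [e2]
        rcases h1' with rfl | rfl
        · rfl
        · have := (hatC P C).b_mul_zp' hm hm' 1
          rwa [zp_one] at this
      rw [e1]
      exact (hatC P C).b_eq_one.2 hne
    rw [h3, wp_one] at h2
    exact h2

end Cfsg.Agent.UFiveTwo.Zero
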