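import Cfsg.Agent.UFiveTwo.ZeroEnd
import Cfsg.Agent.UFiveTwo.SylInd

/-!
# S1778, type `U₅(2)`, world `ε = 0` (VI): the data of Theorem W
-/

set_option autoImplicit false

namespace Cfsg.Agent.UFiveTwo.Zero

open Subgroup Cfsg.Agent.UFiveTwo.Big Cfsg.Agent.UFiveTwo.Hat Cfsg.Agent.UFiveTwo.HatC
open Cfsg.Agent.WreathFusion

universe u

variable {X : Type u} [Group X] {A : Subgroup X} {t : X} {E : Env A t} {w : X → X}

theorem isPGroup_UQ (P : Pts E w) (C : CaseZero E w) : IsPGroup 2 ↥(E.U ⊔ E.Q) := by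
  have H : Ctx E w (hatC P C).Qh (hatC P C).Gm := ⟨⟨P, C⟩, exists_QHat P C⟩
  exact H.isPGroup_S0.to_le (sup_le H.U_le_S0 H.Q_le_S0)

theorem SplitS.pdata' [Finite X] {S1 : Subgroup X} (H : SplitS A t (A1 E w) (E.U ⊔ E.Q) S1)
    (hS : IsPGroup 2 ↥(E.U ⊔ E.Q)) :
    PData (S1 ⊔ SplitS.S2 t S1) S1 (SplitS.S2 t S1) (A1 E w) (SplitS.S2 t (A1 E w)) := by
  refine H.pdata ?_ (SylInd.centIndec E hS) (SylInd.cen E)
  intro h
  have h1 : E.r 0 ∈ E.U ⊔ E.Q := mem_sup_left (E.r_U 0)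
  rw [h, mem_bot] at h1
  exact E.r_ne h1

/-- **Output of the world `ε = 0`**, with the data of Theorem W. -/
theorem exists_pdata [Finite X] [IsSimpleGroup A] (P : Pts E w) (C : CaseZero E w)
    (hε : ∀ m ∈ (hatC P C).Q, ∀ n ∈ (hatC P C).Q, (hatC P C).B m n = 0) (G : FlagGeo A E.toFlag) :
    ∃ S1, SplitS A t (A1 E w) (E.U ⊔ E.Q) S1 ∧
      PData (S1 ⊔ SplitS.S2 t S1) S1 (SplitS.S2 t S1) (A1 E w) (SplitS.S2 t (A1 E w)) := by
  obtain ⟨S1, H⟩ := exists_splitS P C hε G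
  exact ⟨S1, H, H.pdata' (isPGroup_UQ P C)⟩

end Cfsg.Agent.UFiveTwo.Zero
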